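import Cfsg.Agent.LocalEven.Dagger

/-!
# Asymmetric `Y_M`: `O_p(M)` is weakly closed

If conjugates `O'` of `O = O_p(M)` are joined when they normalize each other, the subgroups `Y'` attached to
one component commute and lie in every `O'` of the component; their join is normalized by `M` and by every
element moving `O` to a neighbour.
-/

set_option autoImplicit false
set_option linter.style.haveILetI false

namespace Cfsg.Agent.LocalEven

variable {G : Type*} [Group G] [Finite G] {p : ℕ} [hp : Fact p.Prime] {M : Subgroup G}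

omit hp [Finite G] in
theorem op_le_centralizer_largest [Finite G] [Fact p.Prime] (M : Subgroup G) :
    op p M ≤ Subgroup.centralizer (Cfsg.largestPReducedOf p M : Set G) :=
  op_le_centralizer_reduced (largestOf_le M) (largestOf_reduced M)

/-- `O_p(M)` is a Sylow subgroup of `C(Y_M)`. -/
theorem op_isMaxP_centralizer (S : Sylow p G) (hSM : (S : Subgroup G) ≤ M) (hM : Cfsg.IsInFrakM p M) :
    IsMaxP p (op p M) (Subgroup.centralizer (Cfsg.largestPReducedOf p M : Set G)) := by
  set C := Subgroup.centralizer (Cfsg.largestPReducedOf p M : Set G)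
  set MC := M ⊓ C
  obtain ⟨-, -, -, -, hcl, -⟩ := hM
  have hn : M ≤ Subgroup.normalizer (MC : Set G) :=
    (le_inf Subgroup.le_normalizer ((le_normalizer_largestOf M).trans (normalizer_le_normalizer_cent _))).trans
      Subgroup.inf_normalizer_le_normalizer_inf
  have h := (isMaxP_of_sylow S (le_sup_left.trans' hSM : (S : Subgroup G) ≤ M ⊔ C)).inf_normal (N := C)
    le_sup_right (sup_le ((le_normalizer_largestOf M).trans (normalizer_le_normalizer_cent _)) Subgroup.le_normalizer)
  suffices hle : (S : Subgroup G) ⊓ C ≤ op p M by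
    have he : (S : Subgroup G) ⊓ C = op p M := le_antisymm hle
      (le_inf (isMaxP_of_sylow S hSM).pCore_le (op_le_centralizer_largest M))
    rwa [he] at h
  obtain ⟨P, hP⟩ := ((S.isPGroup'.to_le inf_le_left).of_equiv
    (Subgroup.subgroupOfEquivOfLe (inf_le_inf_right C hSM : (S : Subgroup G) ⊓ C ≤ MC)).symm).exists_le_sylow
  haveI := hcl P
  have hPle : (P : Subgroup MC) ≤ Cfsg.pCore p MC := Core.le_pCore inferInstance P.isPGroup'
  have hcore : op p MC ≤ op p M := le_op ((op_le MC).trans inf_le_left)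
    (hn.trans (normalizer_le_normalizer_op MC)) (isPGroup_op MC)
  intro x hx
  exact hcore ⟨⟨x, inf_le_inf_right C hSM hx⟩, hPle (hP hx), rfl⟩

/-- Adjacency of conjugates of `O`: they normalize each other. -/
def MutNorm (O : Subgroup G) (a b : G) : Prop :=
  cj a O ≤ Subgroup.normalizer (cj b O : Set G) ∧ cj b O ≤ Subgroup.normalizer (cj a O : Set G)

/-- Paths of conjugates of `O`. -/
def Chain (O : Subgroup G) : ℕ → G → G → Prop
  | 0, a, b => cj a O = cj b O
  | n + 1, a, b => ∃ c, MutNorm O a c ∧ Chain O n c b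

omit hp [Finite G] in
theorem MutNorm.mul_left {O : Subgroup G} {a b : G} (h : MutNorm O a b) (g : G) :
    MutNorm O (g * a) (g * b) := by
  refine ⟨?_, ?_⟩
  · rw [← cj_cj, ← cj_cj, ← cj_normalizer]; exact cj_mono h.1
  · rw [← cj_cj, ← cj_cj, ← cj_normalizer]; exact cj_mono h.2

omit hp [Finite G] in
theorem Chain.mul_left {O : Subgroup G} : ∀ {n : ℕ} {a b : G}, Chain O n a b → ∀ g : G, Chain O n (g * a) (g * b)
  | 0, _, _, h, g => by show cj _ O = cj _ O; rw [← cj_cj, ← cj_cj]; exact congrArg (cj g) h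
  | _ + 1, _, _, ⟨c, h1, h2⟩, g => ⟨g * c, h1.mul_left g, h2.mul_left g⟩

omit hp [Finite G] in
theorem Chain.congr_left {O : Subgroup G} : ∀ {n : ℕ} {a a' b : G}, cj a O = cj a' O → Chain O n a b → Chain O n a' b
  | 0, _, _, _, he, h => he.symm.trans h
  | _ + 1, _, _, _, he, ⟨c, h1, h2⟩ => ⟨c, ⟨he ▸ h1.1, he ▸ h1.2⟩, h2⟩

omit hp [Finite G] in
theorem Chain.last {O : Subgroup G} : ∀ {n : ℕ} {a b : G}, Chain O (n + 1) a b → ∃ c, Chain O n a c ∧ MutNorm O c b
  | 0, a, _, ⟨_, h1, h2⟩ => ⟨a, rfl, ⟨(h2 : cj _ O = cj _ O) ▸ h1.1, (h2 : cj _ O = cj _ O) ▸ h1.2⟩⟩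
  | n + 1, _, _, ⟨c, h1, h2⟩ => by
    obtain ⟨d, h3, h4⟩ := Chain.last h2
    exact ⟨d, ⟨c, h1, h3⟩, h4⟩

theorem comm_of_normalize {Y : Subgroup G} (hasym : ¬ Cfsg.IsSymmetricIn Y) {a b : G}
    (h1 : cj a Y ≤ Subgroup.normalizer (cj b Y : Set G)) (h2 : cj b Y ≤ Subgroup.normalizer (cj a Y : Set G)) :
    cj a Y ≤ Subgroup.centralizer (cj b Y : Set G) := by
  have e1 : cj a⁻¹ (cj a Y) = Y := by rw [cj_cj, inv_mul_cancel, cj_one]
  have h3 : ⁅Y, cj (a⁻¹ * b) Y⁆ ≤ Y ⊓ cj (a⁻¹ * b) Y := by
    refine le_inf (Subgroup.le_normalizer_iff_commutator_le_left.mp ?_) (Subgroup.le_normalizer_iff_commutator_le_right.mp ?_)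
    · have := cj_mono (g := a⁻¹) h2
      rwa [cj_normalizer, e1, cj_cj] at this
    · have := cj_mono (g := a⁻¹) h1
      rwa [cj_normalizer, e1, cj_cj] at this
  have h4 : ⁅Y, cj (a⁻¹ * b) Y⁆ = ⊥ := by
    by_contra hne
    exact hasym ⟨_, hne, h3⟩
  have h5 := cj_mono (g := a) (Subgroup.commutator_eq_bot_iff_le_centralizer.mp h4)
  rw [cj_centralizer] at h5
  have e2 : (fun x => a * x * a⁻¹) '' (cj (a⁻¹ * b) Y : Set G) = (cj b Y : Set G) := by
    change ((cj a (cj (a⁻¹ * b) Y) : Subgroup G) : Set G) = _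
    rw [cj_cj, mul_inv_cancel_left]
  rwa [e2] at h5

variable (hpar : Cfsg.IsOfParabolicCharacteristic p G) (S : Sylow p G) (hSM : (S : Subgroup G) ≤ M)
  (hM : Cfsg.IsInFrakM p M) (hasym : ¬ Cfsg.IsSymmetricIn (Cfsg.largestPReducedOf p M))

include hpar S hSM hM in
theorem normalizer_op_le_dagger :
    Subgroup.normalizer (op p M : Set G) ≤ M ⊔ Subgroup.centralizer (Cfsg.largestPReducedOf p M : Set G) :=
  normalizer_le_dagger hpar S hSM hM (isPGroup_op M) (op_ne_bot_of_pCore hM.1.1) (map_pCore_normalized M)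

include hpar S hSM hM in
theorem normalizer_cj_op_le (a : G) :
    Subgroup.normalizer (cj a (op p M) : Set G) ≤
      Subgroup.normalizer (cj a (Cfsg.largestPReducedOf p M) : Set G) := by
  rw [← cj_normalizer, ← cj_normalizer]
  exact cj_mono ((normalizer_op_le_dagger hpar S hSM hM).trans (dagger_normalizes M))

include hpar S hSM hM hasym in
theorem chain_good : ∀ (n : ℕ) (a b : G), Chain (op p M) n a b →
    cj a (Cfsg.largestPReducedOf p M) ≤ cj b (op p M) ∧ cj b (Cfsg.largestPReducedOf p M) ≤ cj a (op p M) := by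
  intro n
  induction n with
  | zero =>
    intro a b h
    have hY := reduced_le_op (largestOf_le M) (largestOf_reduced (p := p) M)
    exact ⟨(cj_mono hY).trans (h : cj a _ = cj b _).le, (cj_mono hY).trans (h : cj a _ = cj b _).ge⟩
  | succ n ih =>
    intro a b h
    obtain ⟨c₁, hac, hcb⟩ := id h
    obtain ⟨c, hca, hcb'⟩ := h.last
    have hbN : cj b (Cfsg.largestPReducedOf p M) ≤ Subgroup.normalizer (cj a (op p M) : Set G) :=
      (ih c₁ b hcb).2.trans hac.2
    have haN : cj a (Cfsg.largestPReducedOf p M) ≤ Subgroup.normalizer (cj b (op p M) : Set G) :=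
      (ih a c hca).1.trans hcb'.1
    have hcomm := comm_of_normalize hasym (haN.trans (normalizer_cj_op_le hpar S hSM hM b))
      (hbN.trans (normalizer_cj_op_le hpar S hSM hM a))
    have key : ∀ x y : G, cj x (Cfsg.largestPReducedOf p M) ≤ Subgroup.normalizer (cj y (op p M) : Set G) →
        cj x (Cfsg.largestPReducedOf p M) ≤ Subgroup.centralizer (cj y (Cfsg.largestPReducedOf p M) : Set G) →
        cj x (Cfsg.largestPReducedOf p M) ≤ cj y (op p M) := by
      intro x y hN hC
      have hmax := (op_isMaxP_centralizer S hSM hM).cj y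
      have hC' : cj y (Subgroup.centralizer (Cfsg.largestPReducedOf p M : Set G)) =
          Subgroup.centralizer (cj y (Cfsg.largestPReducedOf p M) : Set G) := cj_centralizer y _
      rw [hC'] at hmax
      rw [← hmax.2.2 _ ((isPGroup_cj (largestOf_isPGroup M)).to_sup_of_normal_right' (isPGroup_cj (isPGroup_op M)) hN)
        (sup_le hC hmax.1) le_sup_right]
      exact le_sup_left
    exact ⟨key a b haN hcomm, key b a hbN (Subgroup.le_centralizer_iff.mp hcomm)⟩

include hpar S hSM hM hasym in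
theorem mutNorm_mem_dagger {g : G} (h : MutNorm (op p M) 1 g) :
    g ∈ M ⊔ Subgroup.centralizer (Cfsg.largestPReducedOf p M : Set G) := by
  set Y := Cfsg.largestPReducedOf p M with hY
  set O := op p M with hO
  set 𝒜 : Set (Subgroup G) := {V | ∃ n a, Chain O n 1 a ∧ V = cj a Y}
  set A := sSup 𝒜 with hA
  have hAO : A ≤ O := sSup_le fun V hV => by
    obtain ⟨n, a, ha, rfl⟩ := hV
    have := (chain_good hpar S hSM hM hasym n 1 a ha).2
    rwa [cj_one] at this
  have hYA : Y ≤ A := le_sSup ⟨0, 1, rfl, (cj_one Y).symm⟩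
  have hA1 : A ≠ ⊥ := fun e => largestOf_ne_bot S hSM hM.1 (le_bot_iff.mp (hYA.trans e.le))
  have hinv : ∀ x : G, (∀ n a, Chain O n 1 a → ∃ m, Chain O m 1 (x * a)) →
      x ∈ Subgroup.normalizer (A : Set G) := by
    intro x hx
    rw [← cj_eq_self_iff]
    refine Subgroup.eq_of_le_of_card_ge ?_ (card_cj _ _).ge
    rw [cj, hA, Subgroup.map_le_iff_le_comap]
    refine sSup_le fun V hV => ?_
    rw [← Subgroup.map_le_iff_le_comap]
    obtain ⟨n, a, ha, rfl⟩ := hV
    obtain ⟨m, hm⟩ := hx n a ha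
    exact le_sSup ⟨m, x * a, hm, cj_cj x a Y⟩
  have hMA : M ≤ Subgroup.normalizer (A : Set G) := fun m hm => hinv m fun n a ha => ⟨n, by
    have h1 := ha.mul_left m
    rw [mul_one] at h1
    exact h1.congr_left (by rw [cj_one]; exact cj_eq_self_iff.mpr (map_pCore_normalized M hm))⟩
  refine normalizer_le_dagger hpar S hSM hM ((isPGroup_op M).to_le hAO) hA1 hMA (hinv g fun n a ha => ⟨n + 1, g, h, ?_⟩)
  have h1 := ha.mul_left g
  rwa [mul_one] at h1

include hpar S hSM hM hasym in
/-- `O_p(M)` is weakly closed in `G`. -/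
theorem op_weaklyClosed : Cfsg.IsWeaklyClosedSubgroup p (op p M) := by
  refine wc_of_comm (isPGroup_op M) fun g hg => ?_
  set O := op p M
  set C := Subgroup.centralizer (Cfsg.largestPReducedOf p M : Set G)
  have h1 : O ≤ Subgroup.normalizer (cj g O : Set G) :=
    Subgroup.le_normalizer_iff_commutator_le_right.mpr (hg.trans inf_le_right)
  have h2 : cj g O ≤ Subgroup.normalizer (O : Set G) :=
    Subgroup.le_normalizer_iff_commutator_le_left.mpr (hg.trans inf_le_left)
  have hgd := mutNorm_mem_dagger hpar S hSM hM hasym (g := g)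
    ⟨by rw [cj_one]; exact h1, by rw [cj_one]; exact h2⟩
  have hgC : cj g O ≤ C := by
    refine (cj_mono (op_le_centralizer_largest M)).trans (le_of_eq ?_)
    exact cj_eq_self_iff.mpr (normalizer_le_normalizer_cent _ (dagger_normalizes M hgd))
  have hmax := op_isMaxP_centralizer S hSM hM
  have h3 : O ⊔ cj g O = O :=
    hmax.2.2 _ ((isPGroup_op M).to_sup_of_normal_left' (isPGroup_cj (isPGroup_op M)) h2) (sup_le hmax.1 hgC) le_sup_left
  exact Subgroup.eq_of_le_of_card_ge (le_sup_right.trans h3.le) (card_cj _ _).ge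

end Cfsg.Agent.LocalEven
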