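import Cfsg.Agent.Core.Residual
import Cfsg.Agent.LocalEven.Conj
import Cfsg.Agent.Transfer.Basic
import Cfsg.Agent.Transfer.Gruen
import Cfsg.Agent.FGS3.PGroupFrattini
import Mathlib.GroupTheory.Transfer

/-! Transfer of a central involution of a Sylow `2`-subgroup outside the Frattini subgroup. -/

set_option autoImplicit false
set_option linter.style.haveILetI false

namespace Cfsg.Agent.LocalEven

variable {G : Type*} [Group G] [Finite G]

/-- The transfer of an element of order dividing `2` is the product over the cosets it fixes. -/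
theorem transfer_sq_eq_one {H : Subgroup G} {A : Type*} [CommGroup A] (φ : H →* A)
    (hA : ∀ a : A, a * a = 1) {z : G} (hz : z * z = 1) [Fintype (G ⧸ H)]
    (f : G ⧸ H → A)
    (hf1 : ∀ (c : G ⧸ H) (h : c.out⁻¹ * z * c.out ∈ H), f c = φ ⟨_, h⟩)
    (hf0 : ∀ c : G ⧸ H, c.out⁻¹ * z * c.out ∉ H → f c = 1) :
    MonoidHom.transfer φ z = ∏ c : G ⧸ H, f c := by
  classical
  haveI : Fintype (Quotient (MulAction.orbitRel (Subgroup.zpowers z) (G ⧸ H))) :=
    Fintype.ofFinite _
  rw [MonoidHom.transfer_eq_prod_quotient_orbitRel_zpowers_quot,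
    ← (Subgroup.quotientEquivSigmaZMod H z).symm.prod_comp f, Fintype.prod_sigma]
  refine Fintype.prod_congr _ _ fun q => ?_
  have hmem : ∀ c : G ⧸ H, c.out⁻¹ * z * c.out ∈ H ↔ z • c = c := by
    intro c
    constructor
    · intro h
      conv_rhs => rw [← Quotient.out_eq' c]
      conv_lhs => rw [← Quotient.out_eq' c]
      refine QuotientGroup.eq.mpr ?_
      have : (z * c.out)⁻¹ * c.out = (c.out⁻¹ * z * c.out)⁻¹ := by group
      show (z * c.out)⁻¹ * c.out ∈ H
      rw [this]; exact inv_mem h
    · intro h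
      rw [← Quotient.out_eq' c] at h
      have h' := QuotientGroup.eq.mp h
      have : (z * c.out)⁻¹ * c.out = (c.out⁻¹ * z * c.out)⁻¹ := by group
      have h'' : (z * c.out)⁻¹ * c.out ∈ H := h'
      rw [this] at h''
      exact inv_mem_iff.mp h''
  have hn2 : Function.minimalPeriod (z • ·) q.out ∣ 2 := by
    refine Function.IsPeriodicPt.minimalPeriod_dvd ?_
    show ((z • ·) : G ⧸ H → G ⧸ H)^[2] q.out = q.out
    simp [smul_smul, hz]
  rcases (Nat.dvd_prime Nat.prime_two).mp hn2 with h1 | h2
  · have hfix : z • q.out = q.out := Function.minimalPeriod_eq_one_iff_isFixedPt.mp h1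
    haveI : Subsingleton (ZMod (Function.minimalPeriod (z • ·) q.out)) := by
      rw [h1]; exact inferInstance
    rw [Fintype.prod_subsingleton _ 0, Subgroup.quotientEquivSigmaZMod_symm_apply]
    simp only [ZMod.cast_zero, zpow_zero, one_smul]
    rw [hf1 _ ((hmem _).mpr hfix)]
    congr 1
    refine Subtype.ext ?_
    simp only [h1, pow_one]
  · have hlhs : φ ⟨_, QuotientGroup.out_conj_pow_minimalPeriod_mem H z q.out⟩ = 1 := by
      rw [← map_one φ]
      congr 1
      refine Subtype.ext ?_
      simp [h2, sq, hz]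
    rw [hlhs]
    symm
    refine Finset.prod_eq_one fun k _ => hf0 _ fun hm => ?_
    rw [Subgroup.quotientEquivSigmaZMod_symm_apply] at hm
    have hfix := (hmem _).mp hm
    rw [smul_smul, ← zpow_one_add, add_comm, zpow_add_one, mul_smul, smul_left_cancel_iff] at hfix
    have := Function.minimalPeriod_eq_one_iff_isFixedPt.mpr hfix
    exact absurd (this.symm.trans h2) (by decide)

/-- A central involution of a Sylow `2`-subgroup outside its Frattini subgroup and centralized by
the normalizer yields a proper normal subgroup of `2`-power index. -/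
theorem pResidual_ne_top_of_central (S : Sylow 2 G) {z : G} (hzS : z ∈ (S : Subgroup G))
    (hzc : z ∈ Subgroup.centralizer ((S : Subgroup G) : Set G)) (hz2 : z * z = 1)
    (hzF : z ∉ (frattini ↥(S : Subgroup G)).map (S : Subgroup G).subtype)
    (hN : ∀ g ∈ Subgroup.normalizer ((S : Subgroup G) : Set G), g * z * g⁻¹ = z) :
    Cfsg.pResidual 2 G ≠ ⊤ := by
  classical
  set P := (S : Subgroup G)
  haveI : (frattini P).Normal := inferInstance
  let A := P ⧸ frattini P
  have hsq : ∀ a : A, a * a = 1 := by
    intro a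
    obtain ⟨x, rfl⟩ := QuotientGroup.mk_surjective a
    rw [← QuotientGroup.mk_mul, QuotientGroup.eq_one_iff, ← sq]
    exact FGS3.pow_mem_frattini S.isPGroup' x
  letI : CommGroup A :=
    { (inferInstance : Group A) with
      mul_comm := fun a b => by
        calc a * b = (a * b)⁻¹ := eq_inv_of_mul_eq_one_left (hsq _)
          _ = b⁻¹ * a⁻¹ := mul_inv_rev _ _
          _ = b * a := by rw [inv_eq_of_mul_eq_one_right (hsq b), inv_eq_of_mul_eq_one_right (hsq a)] }
  let φ : P →* A := QuotientGroup.mk' _
  let f : G ⧸ P → A := fun c =>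
    if h : c.out⁻¹ * z * c.out ∈ P then φ ⟨_, h⟩ else 1
  let := P.fintypeQuotientOfFiniteIndex
  have hτ : MonoidHom.transfer φ z = ∏ c : G ⧸ P, f c :=
    transfer_sq_eq_one φ hsq hz2 f (fun c h => dif_pos h) (fun c h => dif_neg h)
  have hfs : ∀ (s : P) (c : G ⧸ P), f (s • c) = f c := by
    intro s c
    set d := s • c
    have hd : ((s : G) * c.out)⁻¹ * d.out ∈ P := by
      refine QuotientGroup.eq.mp ?_
      calc (((s : G) * c.out : G) : G ⧸ P) = (s : G) • ((c.out : G) : G ⧸ P) := rfl
        _ = (s : G) • c := by rw [QuotientGroup.out_eq']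
        _ = _ := (QuotientGroup.out_eq' d).symm
    set t : P := ⟨_, hd⟩
    have hzs : (s : G)⁻¹ * z * s = z := by
      rw [mul_assoc, ← Subgroup.mem_centralizer_iff.mp hzc s s.2]; group
    have he : d.out⁻¹ * z * d.out = (t : G)⁻¹ * (c.out⁻¹ * z * c.out) * t := by
      calc d.out⁻¹ * z * d.out
          = (t : G)⁻¹ * (c.out⁻¹ * ((s : G)⁻¹ * z * s) * c.out) * t := by
            simp only [t]; group
        _ = _ := by rw [hzs]
    by_cases h : c.out⁻¹ * z * c.out ∈ P
    · have h' : d.out⁻¹ * z * d.out ∈ P := by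
        rw [he]; exact mul_mem (mul_mem (inv_mem t.2) h) t.2
      simp only [f, dif_pos h, dif_pos h']
      rw [show (⟨_, h'⟩ : P) = t⁻¹ * ⟨_, h⟩ * t from Subtype.ext he, map_mul, map_mul, map_inv,
        mul_comm, ← mul_assoc, mul_inv_cancel, one_mul]
    · have h' : d.out⁻¹ * z * d.out ∉ P := by
        intro h'
        refine h ?_
        have : c.out⁻¹ * z * c.out = (t : G) * (d.out⁻¹ * z * d.out) * (t : G)⁻¹ := by rw [he]; group
        rw [this]; exact mul_mem (mul_mem t.2 h') (inv_mem t.2)
      simp only [f, dif_neg h, dif_neg h']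
  set zbar : A := φ ⟨z, hzS⟩
  have hfix : ∀ c : G ⧸ P, (∀ s : P, s • c = c) → f c = zbar := by
    intro c hc
    have hg : c.out ∈ Subgroup.normalizer (P : Set G) := by
      have hle : cj c.out⁻¹ P ≤ P := by
        rintro _ ⟨s, hs, rfl⟩
        have h1 : ((s⁻¹ * c.out : G) : G ⧸ P) = (c.out : G ⧸ P) := by
          have := hc ⟨s⁻¹, inv_mem hs⟩
          rw [← Quotient.out_eq' c] at this
          exact this
        have h2 := QuotientGroup.eq.mp h1
        simpa [mul_assoc] using h2
      have := cj_eq_self_iff.mp (Subgroup.eq_of_le_of_card_ge hle (card_cj _ P).ge)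
      simpa using inv_mem this
    have h1 : c.out⁻¹ * z * c.out = z := by
      have := hN _ (inv_mem hg)
      simpa using this
    simp only [f, dif_pos (show c.out⁻¹ * z * c.out ∈ P by rw [h1]; exact hzS), zbar]
    exact congrArg φ (Subtype.ext h1)
  have hcount : ∀ a : A, (Nat.card {c : G ⧸ P // f c = a}) % 2 = if a = zbar then 1 else 0 := by
    intro a
    let sub : SubMulAction P (G ⧸ P) :=
      { carrier := {c | f c = a}
        smul_mem' := fun s c hc => (hfs s c).trans hc }
    have hmod := S.isPGroup'.card_modEq_card_fixedPoints (α := sub)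
    have hall := S.isPGroup'.card_modEq_card_fixedPoints (α := G ⧸ P)
    have hodd : Nat.card (G ⧸ P) % 2 = 1 := by
      rw [← Subgroup.index_eq_card]
      exact Nat.odd_iff.mp (Nat.not_even_iff_odd.mp fun h => S.not_dvd_index (even_iff_two_dvd.mp h))
    show Nat.card sub % 2 = _
    rw [hmod]
    split_ifs with ha
    · subst ha
      have e : Nat.card (MulAction.fixedPoints P sub) =
          Nat.card (MulAction.fixedPoints P (G ⧸ P)) := Nat.card_congr
        { toFun := fun c => ⟨c.1.1, fun s => congrArg Subtype.val (c.2 s)⟩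
          invFun := fun c => ⟨⟨c.1, hfix c.1 c.2⟩, fun s => Subtype.ext (c.2 s)⟩
          left_inv := fun c => rfl
          right_inv := fun c => rfl }
      rw [e]
      exact (show _ % 2 = _ % 2 from (Nat.ModEq.symm hall)).trans hodd
    · have : IsEmpty (MulAction.fixedPoints P sub) := ⟨fun c => ha
        (c.1.2.symm.trans (hfix c.1.1 fun s => congrArg Subtype.val (c.2 s)))⟩
      rw [Nat.card_of_isEmpty]
  intro htop
  have hker := Transfer.pResidual_le_ker (p := 2)
    (S.isPGroup'.to_quotient (frattini P)) (MonoidHom.transfer φ)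
  rw [htop] at hker
  have h0 : MonoidHom.transfer φ z = 1 := hker (Subgroup.mem_top z)
  haveI : Fintype A := Fintype.ofFinite _
  have hval : ∏ c : G ⧸ P, f c = zbar := by
    rw [← Finset.prod_fiberwise Finset.univ f f]
    have hterm : ∀ a : A, ∏ c ∈ Finset.univ.filter (fun c => f c = a), f c =
        if a = zbar then zbar else 1 := by
      intro a
      rw [Finset.prod_congr rfl (fun c hc => (Finset.mem_filter.mp hc).2), Finset.prod_const]
      have h1 := hcount a
      rw [Nat.card_eq_fintype_card, Fintype.card_subtype] at h1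
      rw [← Nat.div_add_mod (Finset.univ.filter (fun c => f c = a)).card 2, h1, pow_add, pow_mul, sq,
        hsq, one_pow, one_mul]
      split_ifs with ha <;> simp [ha]
    simp only [hterm]
    rw [Fintype.prod_eq_single zbar (fun a ha => if_neg ha), if_pos rfl]
  rw [hτ, hval] at h0
  refine hzF ⟨⟨z, hzS⟩, (QuotientGroup.eq_one_iff _).mp h0, rfl⟩

end Cfsg.Agent.LocalEven
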