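/-
If all involution centralizers (or all maximal 2-locals) are 2-constrained with trivial core, then so are
all 2-local subgroups; and under a normal elementary abelian subgroup of rank three, a Sylow 2-subgroup
normalizes no nontrivial subgroup of odd order.
-/
import Cfsg.Agent.LocalEven.CharP
import Cfsg.Agent.LocalEven.WeaklyClosed
import Cfsg.Agent.OddLocal.NilBasics
import Cfsg.Agent.PLocal.Constrained
import Cfsg.Agent.Components.Local
import Cfsg.Prelude.Def_CaseTheorems

set_option autoImplicit false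
set_option linter.style.haveILetI false

open Cfsg
open scoped commutatorElement

namespace Cfsg.Agent.LocalEven.CharTwoLocals

variable {G : Type*} [Group G] [Finite G]

theorem core_eq_bot_of_charP {p : ℕ} [Fact p.Prime]
    (h : Subgroup.centralizer (pCore p G : Set G) ≤ pCore p G) : pPrimeCore p G = ⊥ := by
  have hi : pPrimeCore p G ⊓ pCore p G = ⊥ := by
    obtain ⟨k, hk⟩ := Core.card_pCore_eq_pow p G
    exact Subgroup.inf_eq_bot_of_coprime (hk ▸ (Core.card_pPrimeCore_coprime p G).pow_right k)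
  rw [← le_bot_iff, ← hi]
  refine le_inf le_rfl ((Subgroup.commutator_eq_bot_iff_le_centralizer.mp ?_).trans h)
  exact le_bot_iff.mp ((Subgroup.commutator_le_inf _ _).trans hi.le)

theorem isPConstrained_of_charP {p : ℕ} [Fact p.Prime]
    (h : Subgroup.centralizer (pCore p G : Set G) ≤ pCore p G) : IsPConstrained p G :=
  (PLocal.isPConstrained_iff_of_pPrimeCore_eq_bot (core_eq_bot_of_charP h)).mpr h

/-- Local subgroups of a subgroup of characteristic `p` have characteristic `p`. -/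
theorem charP_inf_normalizer {p : ℕ} [Fact p.Prime] {M T : Subgroup G}
    (hM : Subgroup.centralizer (pCore p ↥M : Set ↥M) ≤ pCore p ↥M) (hT : IsPGroup p T) (hTM : T ≤ M) :
    Subgroup.centralizer (pCore p ↥(M ⊓ Subgroup.normalizer (T : Set G)) :
        Set ↥(M ⊓ Subgroup.normalizer (T : Set G))) ≤
      pCore p ↥(M ⊓ Subgroup.normalizer (T : Set G)) := by
  have hP : IsPGroup p (T.subgroupOf M) := hT.of_equiv (Subgroup.subgroupOfEquivOfLe hTM).symm
  have hcon := isPConstrained_of_charP hM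
  obtain ⟨hL, hO⟩ := Components.pLayer_normalizer_eq_bot
    ((Components.isPConstrained_iff_pLayer_eq_bot p).mp hcon) hP
  have hc' := (Components.isPConstrained_iff_pLayer_eq_bot p).mpr hL
  have hO' : pPrimeCore p ↥(Subgroup.normalizer (T.subgroupOf M : Set ↥M)) = ⊥ := by
    rw [core_eq_bot_of_charP hM] at hO
    exact (Subgroup.map_eq_bot_iff_of_injective _ (Subgroup.subtype_injective _)).mp (le_bot_iff.mp hO)
  have h1 := (PLocal.isPConstrained_iff_of_pPrimeCore_eq_bot hO').mp hc'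
  have e : Subgroup.normalizer (T.subgroupOf M : Set ↥M) =
      (M ⊓ Subgroup.normalizer (T : Set G)).subgroupOf M := by
    rw [← Subgroup.subgroupOf_normalizer_eq hTM]
    ext x
    simp [Subgroup.mem_subgroupOf]
  exact normal_map_equiv_pCore
    ((MulEquiv.subgroupCongr e).trans (Subgroup.subgroupOfEquivOfLe inf_le_left)) h1

/-- If the centralizers of involutions have characteristic 2, so do all 2-local subgroups. -/
theorem charTwo_normalizer
    (hinv : ∀ t : G, orderOf t = 2 →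
      Subgroup.centralizer (pCore 2 ↥(Subgroup.centralizer ({t} : Set G)) :
        Set ↥(Subgroup.centralizer ({t} : Set G))) ≤ pCore 2 ↥(Subgroup.centralizer ({t} : Set G)))
    {T : Subgroup G} (hT : IsPGroup 2 T) (hT1 : T ≠ ⊥) :
    Subgroup.centralizer (pCore 2 ↥(Subgroup.normalizer (T : Set G)) : Set ↥(Subgroup.normalizer (T : Set G)))
      ≤ pCore 2 ↥(Subgroup.normalizer (T : Set G)) := by
  haveI : Fact (Nat.Prime 2) := ⟨Nat.prime_two⟩
  obtain ⟨t, htT, htc, ht2⟩ : ∃ t ∈ T, (∀ a ∈ T, a * t = t * a) ∧ orderOf t = 2 := by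
    haveI : Nontrivial T := (Subgroup.nontrivial_iff_ne_bot T).mpr hT1
    haveI : Nontrivial (Subgroup.center T) := hT.center_nontrivial
    obtain ⟨k, hk⟩ := (hT.to_subgroup (Subgroup.center T)).exists_card_eq
    have h2 : 2 ∣ Nat.card (Subgroup.center T) := by
      rw [hk]
      refine dvd_pow_self 2 fun h0 => ?_
      rw [h0, pow_zero] at hk
      exact absurd hk (Finite.one_lt_card).ne'
    obtain ⟨c, hc⟩ := exists_prime_orderOf_dvd_card' 2 h2
    refine ⟨((c : T) : G), (c : T).2, fun a ha => ?_, by rw [Subgroup.orderOf_coe, Subgroup.orderOf_coe, hc]⟩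
    exact congrArg Subtype.val (Subgroup.mem_center_iff.mp c.2 ⟨a, ha⟩)
  set Ct := Subgroup.centralizer ({t} : Set G)
  set N := Subgroup.normalizer (T : Set G)
  set D := Subgroup.centralizer (T : Set G)
  set L := Ct ⊓ N
  have hTC : T ≤ Ct := fun a ha => Subgroup.mem_centralizer_singleton_iff.mpr (htc a ha)
  have hL := charP_inf_normalizer (hinv t ht2) hT hTC
  have hDC : D ≤ Ct := fun d hd => Subgroup.mem_centralizer_singleton_iff.mpr
    (Subgroup.mem_centralizer_iff.mp hd t htT).symm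
  have hDN : D ≤ N := Subgroup.centralizer_le_normalizer _
  have hDL : D ≤ L := le_inf hDC hDN
  have hND : N ≤ Subgroup.normalizer (D : Set G) := normalizer_le_normalizer_cent T
  haveI : (D.subgroupOf L).Normal :=
    Subgroup.normal_subgroupOf_of_le_normalizer (inf_le_right.trans hND)
  have hD := (charP_iff D).mp (normal_map_equiv_pCore (Subgroup.subgroupOfEquivOfLe hDL)
    (charP_of_isSubnormal hL (inferInstance : (D.subgroupOf L).Normal).isSubnormal))
  rw [charP_iff]
  intro x hx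
  obtain ⟨hxN, hxC⟩ := Subgroup.mem_inf.mp hx
  have hTop : T ≤ op 2 N := le_op Subgroup.le_normalizer le_rfl hT
  have hDop : op 2 D ≤ op 2 N :=
    le_op ((op_le D).trans hDN) (hND.trans (normalizer_le_normalizer_op D)) (isPGroup_op D)
  exact hDop (hD (Subgroup.mem_inf.mpr
    ⟨Subgroup.centralizer_le (SetLike.coe_subset_coe.mpr hTop) hxC,
      Subgroup.centralizer_le (SetLike.coe_subset_coe.mpr hDop) hxC⟩))

/-- Maximal 2-locals of characteristic 2 give involution centralizers of characteristic 2. -/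
theorem charTwo_centralizer_of_maximal
    (hmax : ∀ M : Subgroup G, IsMaximalTwoLocal M →
      Subgroup.centralizer (pCore 2 ↥M : Set ↥M) ≤ pCore 2 ↥M) {t : G} (ht : orderOf t = 2) :
    Subgroup.centralizer (pCore 2 ↥(Subgroup.centralizer ({t} : Set G)) :
      Set ↥(Subgroup.centralizer ({t} : Set G))) ≤ pCore 2 ↥(Subgroup.centralizer ({t} : Set G)) := by
  haveI : Fact (Nat.Prime 2) := ⟨Nat.prime_two⟩
  have ht1 : t ≠ 1 := fun h => by simp [h] at ht
  have hZ : IsPGroup 2 (Subgroup.zpowers t) := IsPGroup.of_card (n := 1) (by rw [Nat.card_zpowers, ht, pow_one])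
  have hN : IsTwoLocal (Subgroup.normalizer (Subgroup.zpowers t : Set G)) :=
    ⟨_, hZ, (Subgroup.zpowers_ne_bot).mpr ht1, rfl⟩
  obtain ⟨M, hle, hM⟩ := Finite.exists_le_maximal (p := fun M : Subgroup G => IsTwoLocal M) hN
  have hmem : Subgroup.centralizer ({t} : Set G) = Subgroup.normalizer (Subgroup.zpowers t : Set G) := by
    apply le_antisymm
    · rw [← Subgroup.centralizer_closure, ← Subgroup.zpowers_eq_closure]
      exact Subgroup.centralizer_le_normalizer _
    · intro g hg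
      have h1 := (Subgroup.mem_normalizer_iff.mp hg t).mp (Subgroup.mem_zpowers t)
      obtain ⟨k, hk⟩ := h1
      have hk' : g * t * g⁻¹ = 1 ∨ g * t * g⁻¹ = t := by
        rcases Int.even_or_odd' k with ⟨j, rfl | rfl⟩
        · left
          rw [← hk]
          change t ^ (2 * j) = 1
          rw [zpow_mul, zpow_ofNat, ← ht, pow_orderOf_eq_one, one_zpow]
        · right
          rw [← hk]
          change t ^ (2 * j + 1) = t
          rw [zpow_add, zpow_mul, zpow_ofNat, ← ht, pow_orderOf_eq_one, one_zpow, one_mul, zpow_one]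
      rcases hk' with h | h
      · exact absurd (conj_eq_one_iff.mp h) ht1
      · exact Subgroup.mem_centralizer_singleton_iff.mpr (mul_inv_eq_iff_eq_mul.mp h)
  have hgood := charP_inf_normalizer (hmax M ⟨hM.1, fun N hN' hMN => le_antisymm (hM.2 hN' hMN) hMN⟩) hZ
    (Subgroup.le_normalizer.trans hle)
  rw [hmem]
  exact normal_map_equiv_pCore (MulEquiv.subgroupCongr (inf_eq_right.mpr hle)) hgood

theorem inverts_of_fixed_eq_one {X : Subgroup G} {t : G} (htt : t * t = 1)
    (htX : ∀ x ∈ X, t * x * t ∈ X) (hfix : ∀ x ∈ X, t * x = x * t → x = 1) :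
    ∀ x ∈ X, t * x * t = x⁻¹ := by
  have hti : t⁻¹ = t := inv_eq_of_mul_eq_one_right htt
  let f : X → X := fun x => ⟨(x : G)⁻¹ * (t * (x : G) * t), mul_mem (inv_mem x.2) (htX _ x.2)⟩
  have hf : Function.Injective f := by
    intro a b hab
    have h1 : (a : G)⁻¹ * (t * (a : G) * t) = (b : G)⁻¹ * (t * (b : G) * t) := congrArg Subtype.val hab
    have h2 : (b : G) * (a : G)⁻¹ = 1 := by
      refine hfix _ (mul_mem b.2 (inv_mem a.2)) ?_
      calc t * ((b : G) * (a : G)⁻¹)
          = (t * (b : G) * t) * t⁻¹ * (a : G)⁻¹ := by group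
        _ = (b : G) * ((b : G)⁻¹ * (t * (b : G) * t)) * t⁻¹ * (a : G)⁻¹ := by group
        _ = (b : G) * ((a : G)⁻¹ * (t * (a : G) * t)) * t⁻¹ * (a : G)⁻¹ := by rw [h1]
        _ = (b : G) * (a : G)⁻¹ * t := by group
    exact (Subtype.ext (mul_inv_eq_one.mp h2)).symm
  intro y hy
  obtain ⟨x, hx⟩ := (Finite.injective_iff_surjective.mp hf) ⟨y, hy⟩
  have hx' : (x : G)⁻¹ * (t * (x : G) * t) = y := congrArg Subtype.val hx
  rw [← hx']
  simp only [mul_inv_rev, inv_inv, hti, mul_assoc, htt, mul_one]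

/-- A 2-group normalizing an odd order subgroup of a centralizer of characteristic 2 and missing at most
index two of a Sylow 2-subgroup centralizes nothing of odd order. -/
theorem eq_bot_of_normalized {C R W : Subgroup G} {n : ℕ}
    (hC : Subgroup.centralizer (pCore 2 ↥C : Set ↥C) ≤ pCore 2 ↥C)
    (hRC : R ≤ C) (hR2 : IsPGroup 2 R) (hn : ∀ P : Subgroup G, IsPGroup 2 P → Nat.card P ≤ n)
    (hRn : n ≤ 2 * Nat.card R)
    (hWC : W ≤ C) (hWo : Odd (Nat.card W)) (hRW : R ≤ Subgroup.normalizer (W : Set G)) : W = ⊥ := by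
  haveI : Fact (Nat.Prime 2) := ⟨Nat.prime_two⟩
  set Q := op 2 C
  have hQ2 : IsPGroup 2 Q := isPGroup_op C
  have hCQ : C ≤ Subgroup.normalizer (Q : Set G) := map_pCore_normalized C
  have hsup : IsPGroup 2 ↥(R ⊔ Q) := hR2.to_sup_of_normal_right' hQ2 (hRC.trans hCQ)
  have hidx : R.relIndex Q ≤ 2 := by
    have h1 : R.relIndex Q ≤ R.relIndex (R ⊔ Q) := Subgroup.relIndex_le_of_le_right le_sup_right Subgroup.index_ne_zero_of_finite
    refine h1.trans ?_
    have h2 := Subgroup.card_mul_index (R.subgroupOf (R ⊔ Q))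
    rw [Nat.card_congr (Subgroup.subgroupOfEquivOfLe (le_sup_left : R ≤ R ⊔ Q)).toEquiv,
      ← Subgroup.relIndex] at h2
    by_contra h3
    have h4 : 3 * Nat.card R ≤ Nat.card ↥(R ⊔ Q) := by
      rw [← h2, mul_comm 3]
      exact Nat.mul_le_mul_left _ (by omega)
    have h5 := (hn _ hsup).trans hRn
    have h6 : 0 < Nat.card R := Nat.card_pos
    omega
  set D := R ⊓ Q
  have hWQ : W ⊓ Q = ⊥ := by
    obtain ⟨k, hk⟩ := hQ2.exists_card_eq
    exact Subgroup.inf_eq_bot_of_coprime (hk ▸ (Nat.coprime_two_right.mpr hWo).pow_right k)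
  have hDW : ∀ d ∈ D, ∀ w ∈ W, w * d = d * w := by
    intro d hd w hw
    obtain ⟨hdR, hdQ⟩ := Subgroup.mem_inf.mp hd
    have h1 : w * d * w⁻¹ * d⁻¹ ∈ Q :=
      mul_mem ((Subgroup.mem_normalizer_iff.mp (hCQ (hWC hw)) d).mp hdQ) (inv_mem hdQ)
    have h2 : w * d * w⁻¹ * d⁻¹ ∈ W := by
      rw [mul_assoc, mul_assoc, ← mul_assoc d]
      exact mul_mem hw ((Subgroup.mem_normalizer_iff.mp (hRW hdR) w⁻¹).mp (inv_mem hw))
    have h3 : w * d * w⁻¹ * d⁻¹ = 1 := Subgroup.mem_bot.mp (hWQ ▸ Subgroup.mem_inf.mpr ⟨h2, h1⟩)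
    exact mul_inv_eq_iff_eq_mul.mp (mul_inv_eq_one.mp h3)
  have hD2 : D.relIndex Q ≤ 2 := by rw [Subgroup.inf_relIndex_right]; exact hidx
  have hWcent : ∀ w ∈ W, ∀ q ∈ Q, w * q * w⁻¹ * q⁻¹ ∈ D := by
    intro w hw q hq
    have hw' : w * q * w⁻¹ ∈ Q := (Subgroup.mem_normalizer_iff.mp (hCQ (hWC hw)) q).mp hq
    have hiff : w * q * w⁻¹ ∈ D ↔ q ∈ D := by
      constructor
      · intro h
        have h1 := hDW _ h w⁻¹ (inv_mem hw)
        have h2 : w⁻¹ * (w * q * w⁻¹) = w * q * w⁻¹ * w⁻¹ := h1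
        have h3 : q = w * q * w⁻¹ := by
          have h4 : q * w⁻¹ = w * q * w⁻¹ * w⁻¹ := by rw [← h2]; group
          exact mul_right_cancel h4
        rwa [h3]
      · intro h
        rwa [hDW q h w hw, mul_inv_cancel_right]
    have hne : (D.subgroupOf Q).index ≠ 0 := Subgroup.index_ne_zero_of_finite
    have hle : (D.subgroupOf Q).index ≤ 2 := hD2
    rcases (show (D.subgroupOf Q).index = 1 ∨ (D.subgroupOf Q).index = 2 by omega) with h1 | h2
    · have : Q ≤ D := Subgroup.relIndex_eq_one.mp h1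
      exact this (mul_mem hw' (inv_mem hq))
    · have := Subgroup.mul_mem_iff_of_index_two h2 (a := ⟨w * q * w⁻¹, hw'⟩) (b := (⟨q, hq⟩ : Q)⁻¹)
      simp only [Subgroup.mem_subgroupOf, Subgroup.coe_mul, Subgroup.coe_inv, inv_mem_iff] at this
      exact this.mpr hiff
  have hWZ : W ≤ Subgroup.centralizer (Q : Set G) := by
    intro w hw
    refine coprime_stab hQ2 (hCQ (hWC hw)) ?_ (iter_eq_bot_of_chain (M := D) ?_ ?_)
    · exact Nat.Coprime.coprime_dvd_left (Subgroup.orderOf_dvd_natCard _ hw)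
        (Nat.coprime_two_right.mpr hWo)
    · rw [Subgroup.commutator_le]
      intro q hq v hv
      have hvW : v ∈ W := (Subgroup.zpowers_le.mpr hw) hv
      have h := inv_mem (hWcent v hvW q hq)
      rw [commutatorElement_def]
      convert h using 1
      group
    · rw [Subgroup.commutator_eq_bot_iff_le_centralizer]
      intro d hd
      rw [Subgroup.mem_centralizer_iff]
      exact fun v hv => hDW d hd v ((Subgroup.zpowers_le.mpr hw) hv)
  have hle : W ≤ Q := (le_inf hWC hWZ).trans ((charP_iff C).mp hC)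
  exact le_bot_iff.mp (hWQ ▸ le_inf le_rfl hle)

/-- A Sylow 2-subgroup with a normal elementary abelian subgroup of rank three normalizes no
nontrivial subgroup of odd order. -/
theorem eq_bot_of_sylow_normalizes
    (hinv : ∀ t : G, orderOf t = 2 →
      Subgroup.centralizer (pCore 2 ↥(Subgroup.centralizer ({t} : Set G)) :
        Set ↥(Subgroup.centralizer ({t} : Set G))) ≤ pCore 2 ↥(Subgroup.centralizer ({t} : Set G)))
    (S : Sylow 2 G) {B : Subgroup G} (hBS : B ≤ (S : Subgroup G))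
    (hBn : (S : Subgroup G) ≤ Subgroup.normalizer (B : Set G)) (hB2 : ∀ b ∈ B, b * b = 1)
    (hB4 : 2 < Nat.card B)
    (X : Subgroup G) (hX : Odd (Nat.card X)) (hSX : (S : Subgroup G) ≤ Subgroup.normalizer (X : Set G)) :
    X = ⊥ := by
  haveI : Fact (Nat.Prime 2) := ⟨Nat.prime_two⟩
  have hS2 : IsPGroup 2 (S : Subgroup G) := S.isPGroup'
  set Bs := B.subgroupOf (S : Subgroup G)
  haveI hBsn : Bs.Normal := Subgroup.normal_subgroupOf_of_le_normalizer hBn
  have hBs1 : Bs ≠ ⊥ := by
    intro h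
    have h1 := Nat.card_congr (Subgroup.subgroupOfEquivOfLe hBS).toEquiv
    rw [show Nat.card (B.subgroupOf (S : Subgroup G)) = 1 by
      change Nat.card Bs = 1; rw [h, Subgroup.card_bot]] at h1
    omega
  obtain ⟨z0, hz0, hz0c, hz01⟩ : ∃ z0 ∈ Bs, z0 ∈ Subgroup.center (S : Subgroup G) ∧ z0 ≠ 1 := by
    haveI := hS2.isNilpotent
    obtain ⟨z, hz, hz1, hzc⟩ := OddLocal.exists_ne_one_mem_center_of_normal Bs hBs1
    exact ⟨z, hz, hzc, hz1⟩
  haveI hZn : (Subgroup.zpowers z0).Normal := by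
    refine ⟨fun a ha g => ?_⟩
    obtain ⟨k, rfl⟩ := ha
    have : g * z0 ^ k = z0 ^ k * g := Subgroup.mem_center_iff.mp (zpow_mem hz0c k) g
    rw [this, mul_inv_cancel_right]
    exact ⟨k, rfl⟩
  set π := QuotientGroup.mk' (Subgroup.zpowers z0)
  haveI : (Bs.map π).Normal := hBsn.map _ (QuotientGroup.mk'_surjective _)
  have hBb1 : Bs.map π ≠ ⊥ := by
    rw [Ne, Subgroup.map_eq_bot_iff, QuotientGroup.ker_mk']
    intro h
    have h1 := Subgroup.card_le_of_le h
    have h2 := Nat.card_congr (Subgroup.subgroupOfEquivOfLe hBS).toEquiv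
    have h3 : orderOf z0 ≤ 2 := by
      refine orderOf_le_of_pow_eq_one (by norm_num) (Subtype.ext ?_)
      rw [pow_two]; exact hB2 _ hz0
    rw [Nat.card_zpowers] at h1
    change Nat.card (B.subgroupOf (S : Subgroup G)) ≤ _ at h1
    omega
  obtain ⟨ub, hub, hub1⟩ : ∃ ub ∈ Bs.map π ⊓ Subgroup.center _, ub ≠ (1 : _ ⧸ Subgroup.zpowers z0) := by
    haveI := (hS2.to_quotient (Subgroup.zpowers z0)).isNilpotent
    obtain ⟨z, hz, hz1, hzc⟩ := OddLocal.exists_ne_one_mem_center_of_normal (Bs.map π) hBb1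
    exact ⟨z, Subgroup.mem_inf.mpr ⟨hz, hzc⟩, hz1⟩
  obtain ⟨⟨u0, hu0, rfl⟩, hubc⟩ := Subgroup.mem_inf.mp hub
  have hu0Z : u0 ∉ Subgroup.zpowers z0 := fun h => hub1 ((QuotientGroup.eq_one_iff u0).mpr h)
  set z : G := (z0 : G) with hzdef
  set u : G := (u0 : G) with hudef
  have hzB : z ∈ B := hz0
  have huB : u ∈ B := hu0
  have hzz := hB2 z hzB
  have huu := hB2 u huB
  have hzS : ∀ s ∈ (S : Subgroup G), s * z = z * s := fun s hs =>
    congrArg Subtype.val (Subgroup.mem_center_iff.mp hz0c ⟨s, hs⟩)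
  have hz1 : z ≠ 1 := fun h => hz01 (Subtype.ext h)
  have hu1 : u ≠ 1 := fun h => hu0Z (by rw [show u0 = 1 from Subtype.ext h]; exact one_mem _)
  have huz1 : u * z ≠ 1 := by
    intro h
    have : u = z := (mul_eq_one_iff_eq_inv.mp h).trans (inv_eq_of_mul_eq_one_right hzz)
    exact hu0Z (by rw [show u0 = z0 from Subtype.ext this]; exact Subgroup.mem_zpowers _)
  have horb : ∀ s ∈ (S : Subgroup G), s * u * s⁻¹ = u ∨ s * u * s⁻¹ = u * z := by
    intro s hs
    have h1 : π (u0⁻¹ * (⟨s, hs⟩ * u0 * ⟨s, hs⟩⁻¹)) = 1 := by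
      rw [map_mul, map_mul, map_mul, map_inv, map_inv, Subgroup.mem_center_iff.mp hubc (π ⟨s, hs⟩)]
      group
    obtain ⟨k, hk⟩ := (QuotientGroup.eq_one_iff _).mp h1
    have hk' : z ^ k = u⁻¹ * (s * u * s⁻¹) := by
      have := congrArg Subtype.val hk
      simpa using this
    rcases Int.even_or_odd' k with ⟨j, rfl | rfl⟩
    · left
      rw [zpow_mul, zpow_ofNat, pow_two, hzz, one_zpow] at hk'
      exact (inv_mul_eq_one.mp hk'.symm).symm
    · right
      rw [zpow_add, zpow_mul, zpow_ofNat, pow_two, hzz, one_zpow, one_mul, zpow_one] at hk'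
      rw [hk', mul_inv_cancel_left]
  have hnX : ∀ v ∈ B, ∀ x ∈ X, v * x * v ∈ X := by
    intro v hv x hx
    have := (Subgroup.mem_normalizer_iff.mp (hSX (hBS hv)) x).mp hx
    rwa [inv_eq_of_mul_eq_one_right (hB2 v hv)] at this
  have hfix : ∀ v ∈ B, v ≠ 1 → Nat.card (S : Subgroup G) ≤
      2 * Nat.card ↥((S : Subgroup G) ⊓ Subgroup.centralizer ({v} : Set G)) →
      ∀ x ∈ X, v * x = x * v → x = 1 := by
    intro v hv hv1 hcard x hx hxv
    have ht2 : orderOf v = 2 := orderOf_eq_prime (by rw [pow_two]; exact hB2 v hv) hv1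
    have hW := eq_bot_of_normalized (n := Nat.card (S : Subgroup G))
      (C := Subgroup.centralizer ({v} : Set G))
      (R := (S : Subgroup G) ⊓ Subgroup.centralizer ({v} : Set G))
      (W := X ⊓ Subgroup.centralizer ({v} : Set G)) (hinv v ht2) inf_le_right
      (hS2.to_le inf_le_left) ?_ hcard inf_le_right
      (Odd.of_dvd_nat hX (Subgroup.card_dvd_of_le inf_le_left)) ?_
    · exact Subgroup.mem_bot.mp (hW ▸ Subgroup.mem_inf.mpr
        ⟨hx, Subgroup.mem_centralizer_singleton_iff.mpr hxv.symm⟩)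
    · intro P hP
      obtain ⟨k, hk⟩ := hP.exists_card_eq
      obtain ⟨P', hP'⟩ := hP.exists_le_sylow
      calc Nat.card P ≤ Nat.card P' := Subgroup.card_le_of_le hP'
        _ = _ := Sylow.card_eq_multiplicity P' |>.trans (Sylow.card_eq_multiplicity S).symm
    · exact le_trans (inf_le_inf hSX Subgroup.le_normalizer) Subgroup.inf_normalizer_le_normalizer_inf
  have hindex : ∀ v : G, (∀ s ∈ (S : Subgroup G), s * v * s⁻¹ = v ∨ s * v * s⁻¹ = v * z) →
      Nat.card (S : Subgroup G) ≤
        2 * Nat.card ↥((S : Subgroup G) ⊓ Subgroup.centralizer ({v} : Set G)) := by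
    intro v hv
    set K := (Subgroup.centralizer ({v} : Set G)).subgroupOf (S : Subgroup G)
    have hK : K.index ≤ 2 := by
      rw [Subgroup.index_eq_card]
      let f : ↥(S : Subgroup G) ⧸ K → G := Quotient.lift
        (fun s : ↥(S : Subgroup G) => (s : G) * v * (s : G)⁻¹) fun a b hab => by
          have h := QuotientGroup.leftRel_apply.mp hab
          have hc : ((a : G)⁻¹ * (b : G)) * v = v * ((a : G)⁻¹ * (b : G)) :=
            Subgroup.mem_centralizer_singleton_iff.mp h
          calc (a : G) * v * (a : G)⁻¹ = (a : G) * (v * ((a : G)⁻¹ * (b : G))) * (b : G)⁻¹ := by group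
            _ = _ := by rw [← hc]; group
      have hfi : Function.Injective f := by
        rintro ⟨a⟩ ⟨b⟩ hab
        change (a : G) * v * (a : G)⁻¹ = (b : G) * v * (b : G)⁻¹ at hab
        refine QuotientGroup.eq.mpr ?_
        change ((a⁻¹ * b : ↥(S : Subgroup G)) : G) ∈ Subgroup.centralizer ({v} : Set G)
        rw [Subgroup.mem_centralizer_singleton_iff]
        calc ((a : G)⁻¹ * (b : G)) * v = (a : G)⁻¹ * ((b : G) * v * (b : G)⁻¹) * (b : G) := by group
          _ = v * ((a : G)⁻¹ * (b : G)) := by rw [← hab]; group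
      have hr : Set.range f ⊆ {v, v * z} := by
        rintro _ ⟨⟨a⟩, rfl⟩
        exact hv a a.2
      calc Nat.card (↥(S : Subgroup G) ⧸ K) = Nat.card (Set.range f) :=
            Nat.card_congr (Equiv.ofInjective f hfi)
        _ ≤ Nat.card ({v, v * z} : Set G) := Nat.card_mono (Set.toFinite _) hr
        _ ≤ 2 := by
          rw [Nat.card_coe_set_eq]
          exact (Set.ncard_insert_le _ _).trans (by rw [Set.ncard_singleton])
    have hmul := Subgroup.card_mul_index K
    have hKc : Nat.card K = Nat.card ↥((S : Subgroup G) ⊓ Subgroup.centralizer ({v} : Set G)) := by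
      rw [← Core.card_map_subtype, Subgroup.subgroupOf_map_subtype, inf_comm]
    rw [← hKc, ← hmul, mul_comm 2]
    exact Nat.mul_le_mul_left _ hK
  have hz_fix := hfix z hzB hz1 (hindex z fun s hs => Or.inl (by rw [hzS s hs, mul_inv_cancel_right]))
  have hu_fix := hfix u huB hu1 (hindex u horb)
  have hv_fix := hfix (u * z) (mul_mem huB hzB) huz1 (hindex (u * z) fun s hs => by
    have e : s * (u * z) * s⁻¹ = (s * u * s⁻¹) * z := by
      rw [mul_assoc s, mul_assoc u, ← hzS s⁻¹ (inv_mem hs)]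
      group
    rcases horb s hs with h | h <;> rw [e, h]
    · exact Or.inl rfl
    · exact Or.inr rfl)
  have iz := inverts_of_fixed_eq_one hzz (hnX z hzB) hz_fix
  have iu := inverts_of_fixed_eq_one huu (hnX u huB) hu_fix
  rw [Subgroup.eq_bot_iff_forall]
  intro x hx
  refine hv_fix x hx ?_
  have h1 : z * x * z = x⁻¹ := iz x hx
  have h2 : u * x⁻¹ * u = x := by rw [iu _ (inv_mem hx), inv_inv]
  calc u * z * x = u * (z * x * z) * z := by rw [mul_assoc, mul_assoc u _ z, mul_assoc (z * x), hzz, mul_one]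
    _ = (u * x⁻¹ * u) * (u * z) := by
        rw [h1, ← mul_assoc, mul_assoc (u * x⁻¹) u u, huu, mul_one]
    _ = x * (u * z) := by rw [h2]

end Cfsg.Agent.LocalEven.CharTwoLocals
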