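import Cfsg.Agent.FusionZJ.ClosedControl

/-!
The elementary abelian version of the ZJ step relative to a strongly closed subgroup.
-/

set_option autoImplicit false
set_option linter.style.haveILetI false
set_option linter.unusedSectionVars false

namespace Cfsg.Agent.LocalEven

open Cfsg.Agent.FusionZJ
open Subgroup Cfsg Cfsg.Agent Cfsg.Agent.PLocal
open scoped commutatorElement
universe u

variable {p : ℕ}

/-- Glauberman–Thompson relative to a strongly closed subgroup: the normalizer of
`Ω₁(Z(J_e(D)))` is not a `p`-group. -/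
theorem zjE_step (hp2 : p ≠ 2) [Fact p.Prime] : ∀ (n : ℕ) (L : Type u) [Group L] [Finite L],
    Nat.card L = n → ∀ P : Sylow p L,
    centralizer ((pCore p L : Subgroup L) : Set L) ≤ pCore p L → ¬ IsPGroup p L →
    ∀ D : Subgroup L, ClosedIn P D →
      ∃ g ∈ normalizer (wOf (zjE p) D : Set L), g ≠ 1 ∧ (orderOf g).Coprime p := by
  intro n
  induction n using Nat.strong_induction_on with
  | _ n IH =>
  intro L _ _ hcard P hC hL D hD
  refine exists_coprime_ne_one fun hN => hL ?_
  have hDp : IsPGroup p D := P.isPGroup'.to_le hD.le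
  have hZ : wOf (zjE p) D = zMax (IsElementaryAbelian p) D := (zMax_ea_eq hDp).symm
  have hPD : (P : Subgroup L) ≤ normalizer (D : Set L) := fun x hx =>
    mem_normalizer_fintype fun d hd => hD.closed x d hd ((P : Subgroup L).mul_mem
      ((P : Subgroup L).mul_mem hx (hD.le hd)) ((P : Subgroup L).inv_mem hx))
  have hDN : normalizer (D : Set L) ≤ normalizer (wOf (zjE p) D : Set L) := by
    rw [hZ]
    exact normalizer_le_normalizer_zMax (replClass_ea (p := p) (G := L) hp2).map D
  suffices htop : normalizer (wOf (zjE p) D : Set L) = ⊤ from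
    hN.of_equiv ((MulEquiv.subgroupCongr htop).trans Subgroup.topEquiv)
  -- the Sylow subgroup is maximal
  have hmaxP : ∀ H : Subgroup L, H ≠ ⊤ → (P : Subgroup L) ≤ H → H = (P : Subgroup L) := by
    intro H hH hPH
    refine P.3 (by_contra fun hHp => ?_) hPH
    have hlt : Nat.card H < n := hcard ▸ lt_of_le_of_ne (Subgroup.card_le_card_group H)
      fun e => hH (Subgroup.eq_top_of_card_eq H e)
    have hCH : centralizer ((pCore p H : Subgroup H) : Set H) ≤ pCore p H := by
      have hle : (pCore p L).subgroupOf H ≤ pCore p H := Core.le_pCore inferInstance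
        ((Core.isPGroup_pCore p L).comap_subtype)
      intro x hx
      refine hle (hC fun o ho => ?_)
      exact congrArg Subtype.val (hx ⟨o, hPH (Core.pCore_le_sylow P ho)⟩ (hle ho))
    have hD' : ClosedIn ((P.subtype hPH : Sylow p H) : Subgroup H) (D.subgroupOf H) := by
      rw [Sylow.coe_subtype]
      exact ⟨fun x hx => hD.le hx, fun g x hx h => hD.closed g x hx h⟩
    obtain ⟨g, hg, hg1, hgp⟩ := IH _ hlt ↥H rfl (P.subtype hPH) hCH hHp (D.subgroupOf H) hD'
    have hgN : (g : L) ∈ normalizer (wOf (zjE p) D : Set L) := by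
      have h := Subgroup.le_normalizer_map H.subtype ⟨g, hg, rfl⟩
      rwa [← wOf_map (zjE p) (fun Q R _ _ _ _ φ => PLocal.map_omegaCenterThompson φ) H.subtype
        H.subtype_injective (D.subgroupOf H) (hDp.comap_of_injective _ H.subtype_injective),
        Subgroup.map_subgroupOf_eq_of_le (hD.le.trans hPH)] at h
    exact hg1 (Subtype.ext (Core.ThompsonComplement.eq_one_of_mem hN hgN
      (by rwa [Subgroup.orderOf_coe])))
  by_cases hPn : (P : Subgroup L).Normal
  · refine top_le_iff.mp (le_trans (fun x _ => mem_normalizer_fintype fun d hd => ?_) hDN)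
    exact hD.closed x d hd (hPn.conj_mem d (hD.le hd) x)
  -- the quotient by the largest normal p-subgroup
  set R := pCore p L with hR
  set f := QuotientGroup.mk' R with hf
  have hfs : Function.Surjective f := QuotientGroup.mk'_surjective R
  have hcore : pCore p (L ⧸ R) = ⊥ := Core.pCore_quotient_pCore p L
  set P₁ : Sylow p (L ⧸ R) := P.mapSurjective hfs with hP₁
  have hP₁c : (P₁ : Subgroup (L ⧸ R)) = (P : Subgroup L).map f := Sylow.coe_mapSurjective _ _
  have hP₁n : ¬ (P₁ : Subgroup (L ⧸ R)).Normal := fun h => hPn (by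
    have h1 := h.comap f
    rwa [hP₁c, Subgroup.comap_map_eq, QuotientGroup.ker_mk',
      sup_eq_left.mpr (Core.pCore_le_sylow P)] at h1)
  have hP₁ne : (P₁ : Subgroup (L ⧸ R)) ≠ ⊥ := fun h => hP₁n (by rw [h]; infer_instance)
  have hmaxP₁ : ∀ H : Subgroup (L ⧸ R), H ≠ ⊤ → (P₁ : Subgroup (L ⧸ R)) ≤ H →
      H = (P₁ : Subgroup (L ⧸ R)) := by
    intro H hH hPH
    have h1 := hmaxP (H.comap f) (fun e => hH (by
        rw [← Subgroup.map_comap_eq_self_of_surjective hfs H, e, Subgroup.map_top_of_surjective _ hfs]))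
      (Subgroup.map_le_iff_le_comap.mp (hP₁c ▸ hPH))
    rw [← Subgroup.map_comap_eq_self_of_surjective hfs H, h1, hP₁c]
  set M := normalizer (centerThompsonAOf (P₁ : Subgroup (L ⧸ R)) : Set (L ⧸ R)) with hMd
  have hMtop : M ≠ ⊤ := fun e => centerThompsonAOf_ne_bot P₁.2 hP₁ne (by
    have := Core.le_pCore (Subgroup.normalizer_eq_top_iff.mp e)
      (P₁.2.to_le (centerThompsonAOf_le _))
    rwa [hcore, le_bot_iff] at this)
  have hM : M = (P₁ : Subgroup (L ⧸ R)) := hmaxP₁ M hMtop fun x hx =>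
    (isPFunctor_centerThompsonA hp2).normalizer_le _ P₁.2 (Subgroup.le_normalizer hx)
  have hQ : HasNormalPComplement p (L ⧸ R) := by
    refine S0659.result hp2 P₁ ?_
    obtain ⟨T⟩ : Nonempty (Sylow p M) := inferInstance
    have hTop : (T : Subgroup M) = ⊤ :=
      (T.3 ((P₁.2.to_le hM.le).of_equiv Subgroup.topEquiv.symm) le_top).symm
    exact ⟨T, ⊥, inferInstance, hTop ▸ Subgroup.isComplement'_bot_top⟩
  -- the complement is abelian
  set N := pResidual p (L ⧸ R) with hNd
  have hNc : (Nat.card N).Coprime p := Transfer.hasNormalPComplement_iff_coprime_pResidual.mp hQ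
  have hNP : (P₁ : Subgroup (L ⧸ R)) ⊓ N = ⊥ := (Transfer.inf_pResidual_eq_bot_iff P₁).mpr hQ
  have hsup : (P₁ : Subgroup (L ⧸ R)) ⊔ N = ⊤ := Transfer.sylow_sup_pResidual P₁
  haveI : N.Normal := Transfer.pResidual_normal
  have hNne : N ≠ ⊥ := by
    intro e
    rw [e, sup_bot_eq] at hsup
    exact hP₁n (by rw [hsup]; infer_instance)
  have inv_trivial : ∀ S : Subgroup (L ⧸ R), S ≤ N →
      (P₁ : Subgroup (L ⧸ R)) ≤ Subgroup.normalizer (S : Set (L ⧸ R)) → S = ⊥ ∨ S = N := by
    intro S hS hnorm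
    by_cases htop : (P₁ : Subgroup (L ⧸ R)) ⊔ S = ⊤
    · right
      refine le_antisymm hS fun x hx => ?_
      obtain ⟨s, hs, t, ht, rfl⟩ := Coprime.exists_mul_of_mem_sup hnorm
        (sup_comm (P₁ : Subgroup (L ⧸ R)) S ▸ htop.symm ▸ Subgroup.mem_top x)
      have ht1 : t ∈ (P₁ : Subgroup (L ⧸ R)) ⊓ N :=
        ⟨ht, by simpa using N.mul_mem (N.inv_mem (hS hs)) hx⟩
      rw [hNP, Subgroup.mem_bot] at ht1
      simpa [ht1] using hs
    · left
      have := hmaxP₁ _ htop le_sup_left
      rw [← le_bot_iff, ← hNP]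
      exact le_inf (le_sup_right.trans this.le) hS
  have hcopPN : (Nat.card (P₁ : Subgroup (L ⧸ R))).Coprime (Nat.card N) := by
    obtain ⟨k, hk⟩ := IsPGroup.iff_card.mp P₁.2
    rw [hk]; exact hNc.symm.pow_left k
  obtain ⟨q, hq, hqN⟩ := Nat.exists_prime_and_dvd ((Subgroup.one_lt_card_iff_ne_bot N).mpr hNne).ne'
  haveI : Fact q.Prime := ⟨hq⟩
  haveI := Coprime.isSolvable_of_isPGroup P₁.2
  obtain ⟨S, hSN, hSq, hSi, hSP⟩ := Coprime.exists_invariant_sylow
    (le_top.trans_eq (Subgroup.normalizer_eq_top N).symm) hcopPN q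
  have hSeq : S = N := (inv_trivial S hSN hSP).resolve_left (by
    rintro rfl
    rw [Subgroup.relIndex_bot_left] at hSi
    exact hSi hqN)
  haveI hNnil : Group.IsNilpotent N := by
    rw [← hSeq]; exact hSq.isNilpotent
  have hNab : ⁅N, N⁆ = ⊥ := by
    refine (inv_trivial ⁅N, N⁆ (Subgroup.commutator_le_right N N)
      (le_top.trans_eq (Subgroup.normalizer_eq_top _).symm)).resolve_right ?_
    intro e
    exact hNne (Transfer.eq_bot_of_le_commutator le_rfl e.ge)
  have hno2 : ¬ Dickson.HasSL2Section p (⊤ : Subgroup L) := by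
    refine Dickson.no_section_of_abelian_sylow_two hp2 fun T => ⟨⟨fun x y => ?_⟩⟩
    haveI := Fact.mk Nat.prime_two
    have hcop : ∀ {a : L}, (∃ k, a ^ 2 ^ k = 1) → (orderOf a).Coprime p := fun ⟨k, hk⟩ =>
      (((Nat.coprime_primes Nat.prime_two (Fact.out : p.Prime)).mpr hp2.symm).pow_left
        k).coprime_dvd_left (orderOf_dvd_of_pow_eq_one hk)
    have hT : ∀ z : T, (orderOf (z : L)).Coprime p := fun z => hcop (by
      obtain ⟨k, hk⟩ := T.isPGroup' z
      exact ⟨k, congrArg Subtype.val hk⟩)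
    have hTN : ∀ z : T, f z ∈ N := fun z =>
      Transfer.mem_pResidual_of_coprime ((hT z).coprime_dvd_left (orderOf_map_dvd f (z : L)))
    have h1 : ⁅(x : L), (y : L)⁆ ∈ R := by
      refine (QuotientGroup.eq_one_iff _).mp ?_
      show f ⁅(x : L), (y : L)⁆ = 1
      rw [map_commutatorElement, ← Subgroup.mem_bot, ← hNab]
      exact Subgroup.commutator_mem_commutator (hTN x) (hTN y)
    exact commutatorElement_eq_one_iff_mul_comm.mp (Subtype.ext
      (Core.ThompsonComplement.eq_one_of_mem (Core.isPGroup_pCore p L) h1 (hT ⁅x, y⁆)))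
  rw [hZ]
  exact Subgroup.normalizer_eq_top_iff.mpr (zMax_normal_closed (replClass_ea (p := p) (G := L) hp2) hp2 P
    hD hC (pStableOn_hst (fun Q _ hQ => Dickson.isPStableOn_of_no_section hp2 hno2 Q hQ) P))

end Cfsg.Agent.LocalEven
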