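/-
The models of the local systems of the fusion system of a finite group, and inherited freeness.
-/
import Cfsg.Agent.Fusion.GroupLift
import Cfsg.Agent.FusionZJ.SectionFree
import Cfsg.Agent.Core.Cores
import Mathlib.GroupTheory.Transfer

set_option autoImplicit false
set_option linter.style.haveILetI false

namespace Cfsg.Agent.LocalEven

open Cfsg Cfsg.FusionSystem Cfsg.Agent Cfsg.Agent.Fusion Cfsg.Agent.FusionZJ

universe u

variable {G : Type u} [Group G] [Finite G] {p : ℕ} [Fact p.Prime]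

/-- Two elements of a subgroup meeting a normal subgroup trivially that agree modulo it are equal. -/
theorem eq_of_mk_eq {N : Type*} [Group N] {K R : Subgroup N} [K.Normal] (h : R ⊓ K = ⊥) {a b : N}
    (ha : a ∈ R) (hb : b ∈ R) (hab : (a : N ⧸ K) = b) : a = b := by
  have := QuotientGroup.eq.mp hab
  have hm : a⁻¹ * b ∈ R ⊓ K := ⟨R.mul_mem (R.inv_mem ha) hb, this⟩
  rw [h, Subgroup.mem_bot] at hm
  exact inv_mul_eq_one.mp hm

theorem inf_pPrimeCore_bot {N : Type*} [Group N] [Finite N] {R : Subgroup N} (hR : IsPGroup p R) :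
    R ⊓ pPrimeCore p N = ⊥ := by
  obtain ⟨k, hk⟩ := IsPGroup.iff_card.mp hR
  refine Subgroup.inf_eq_bot_of_coprime (hk ▸ ?_)
  exact Nat.Coprime.pow_left k ((Nat.Prime.coprime_iff_not_dvd Fact.out).mpr
    (Core.not_dvd_card_pPrimeCore p N))

/-- In the normalizer of a centric fully normalized subgroup the centralizer is covered by that
subgroup and the core. -/
theorem centralizer_le_sup_core (S : Sylow p G) {Q : Subgroup G}
    (hn : (groupFusionSystem (S : Subgroup G)).IsFullyNormalized Q)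
    (hc : (groupFusionSystem (S : Subgroup G)).IsCentric Q)
    {x : ↥(Subgroup.normalizer (Q : Set G))} (hx : (x : G) ∈ Subgroup.centralizer (Q : Set G)) :
    x ∈ Q.subgroupOf (Subgroup.normalizer (Q : Set G)) ⊔
      pPrimeCore p ↥(Subgroup.normalizer (Q : Set G)) := by
  revert x
  set C := Subgroup.centralizer (Q : Set G) with hC
  set N := Subgroup.normalizer (Q : Set G) with hN
  have hI := groupFusion_inducedBy (S : Subgroup G)
  have hS : IsPGroup p (S : Subgroup G) := S.isPGroup'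
  intro x hx
  have hQS : Q ≤ S := hn.1
  have hi := centralizer_sylow_of_normalizer_sylow (p := p) (K := ⊤) le_top
    ((hI.fullyNormalized_iff le_top hS (by
      rw [Subgroup.relIndex_top_right]; exact S.not_dvd_index) hQS).mp hn)
  rw [centIn_top] at hi
  have hcQ : centralizerIn (S : Subgroup G) Q ≤ Q :=
    hc.2 Q (isConj_iff.mpr ⟨id, Mor.id' hQS, Set.bijOn_id _⟩)
  let P₀ : Sylow p C := ((hS.to_le centralizerIn_le).comap_subtype).toSylow
    (show ¬ p ∣ ((centralizerIn (S : Subgroup G) Q).subgroupOf C).index from hi)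
  have hP : Subgroup.normalizer ((P₀ : Subgroup C) : Set C) ≤
      Subgroup.centralizer ((P₀ : Subgroup C) : Set C) := fun c _ y hy =>
    Subtype.ext (c.2 _ (hcQ hy))
  set f := MonoidHom.transferSylow P₀ hP
  have hker := MonoidHom.ker_transferSylow_isComplement' P₀ hP
  have hmem : ∀ c : C, (orderOf c).Coprime p → c ∈ f.ker := by
    intro c hcp
    rw [MonoidHom.mem_ker]
    obtain ⟨k, hk⟩ := IsPGroup.iff_orderOf.mp P₀.isPGroup' (f c)
    rw [← orderOf_eq_one_iff]
    refine Nat.eq_one_of_dvd_coprimes (hcp.pow_right k) (orderOf_map_dvd f c) ?_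
    rw [hk]
  have hp' : (Nat.card f.ker).Coprime p := by
    rw [Nat.coprime_comm, Nat.Prime.coprime_iff_not_dvd Fact.out]
    exact MonoidHom.not_dvd_card_ker_transferSylow P₀ hP
  have hkp : ∀ c ∈ f.ker, (orderOf c).Coprime p := fun c hc' =>
    Nat.Coprime.coprime_dvd_left (Subgroup.orderOf_dvd_natCard _ hc') hp'
  have hCN : C ≤ N := Subgroup.centralizer_le_normalizer _
  set K₀ : Subgroup N := (f.ker.map C.subtype).subgroupOf N with hK₀
  have hKn : K₀.Normal := by
    refine ⟨fun y hy n => ?_⟩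
    obtain ⟨c, hcK, hcy⟩ := hy
    have hmemC : (n : G) * (c : G) * (n : G)⁻¹ ∈ C := by
      intro q hq
      have h1 : (n : G)⁻¹ * q * n ∈ Q := by
        have := (Subgroup.mem_normalizer_iff.mp (N.inv_mem n.2) q).mp hq
        rwa [inv_inv] at this
      have h2 := c.2 _ h1
      calc q * ((n : G) * c * (n : G)⁻¹) = n * (((n : G)⁻¹ * q * n) * c) * (n : G)⁻¹ := by group
        _ = n * (c * ((n : G)⁻¹ * q * n)) * (n : G)⁻¹ := by rw [h2]
        _ = n * c * (n : G)⁻¹ * q := by group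
    refine ⟨⟨_, hmemC⟩, hmem _ ?_, ?_⟩
    · rw [← orderOf_injective C.subtype C.subtype_injective]
      show (orderOf ((MulAut.conj (n : G)) (c : G))).Coprime p
      rw [MulEquiv.orderOf_eq, Subgroup.orderOf_coe]
      exact hkp c hcK
    · show (n : G) * (c : G) * (n : G)⁻¹ = (n : G) * (y : G) * (n : G)⁻¹
      rw [show (c : G) = (y : G) from hcy]
  have hK : K₀ ≤ pPrimeCore p ↥N := by
    refine Core.le_pPrimeCore hKn ?_
    rw [hK₀, Nat.card_congr (Subgroup.subgroupOfEquivOfLe ?_).toEquiv,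
      Subgroup.card_map_of_injective C.subtype_injective]
    · exact hp'
    · rintro _ ⟨c, -, rfl⟩
      exact hCN c.2
  obtain ⟨⟨k, z⟩, hkz, -⟩ := hker.existsUnique ⟨x, hx⟩
  have hkz' : ((k : C) : G) * ((z : C) : G) = x := congrArg Subtype.val hkz
  have hx' : x = ⟨(k : C), hCN (k : C).2⟩ * ⟨(z : C), hCN (z : C).2⟩ := Subtype.ext hkz'.symm
  rw [hx']
  exact Subgroup.mul_mem _ (Subgroup.mem_sup_right (hK ⟨k, k.2, rfl⟩))
    (Subgroup.mem_sup_left (hcQ z.2))

/-- The quotient of the normalizer by its core is a model of the local system. -/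
theorem exists_group_model (S : Sylow p G) {Q : Subgroup G}
    (hn : (groupFusionSystem (S : Subgroup G)).IsFullyNormalized Q)
    (hc : (groupFusionSystem (S : Subgroup G)).IsCentric Q) :
    ∃ (E : FusionSystem (normalizerIn (S : Subgroup G) Q))
      (ι : ↥(normalizerIn (S : Subgroup G) Q) →*
        ↥(Subgroup.normalizer (Q : Set G)) ⧸ pPrimeCore p ↥(Subgroup.normalizer (Q : Set G))),
      (groupFusionSystem (S : Subgroup G)).IsNormalizerSystem Q E ∧ E.IsModel p _ ι := by
  set N := Subgroup.normalizer (Q : Set G) with hN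
  set K := pPrimeCore p ↥N with hK
  set T := normalizerIn (S : Subgroup G) Q with hT
  obtain ⟨E, hE⟩ := exists_normalizerSystem (groupFusionSystem (S : Subgroup G)) Q hn.1
  have hI := groupFusion_inducedBy (S : Subgroup G)
  have hS : IsPGroup p (S : Subgroup G) := S.isPGroup'
  have hTN : T ≤ N := inf_le_right
  have hTi : ¬ p ∣ (T.subgroupOf N).index := by
    have := (hI.fullyNormalized_iff le_top hS (by
      rw [Subgroup.relIndex_top_right]; exact S.not_dvd_index) hn.1).mp hn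
    rwa [normIn_top] at this
  have hTp : IsPGroup p (T.subgroupOf N) := (hS.to_le normalizerIn_le).comap_subtype
  let π := QuotientGroup.mk' K
  let ι : ↥T →* ↥N ⧸ K := π.comp (Subgroup.inclusion hTN)
  have hTK : T.subgroupOf N ⊓ K = ⊥ := inf_pPrimeCore_bot hTp
  have hinj : Function.Injective ι := fun a b h =>
    Subtype.ext (congrArg (fun y : ↥N => (y : G))
      (eq_of_mk_eq hTK (a := Subgroup.inclusion hTN a) (b := Subgroup.inclusion hTN b) a.2 b.2 h))
  have hran : ι.range = (T.subgroupOf N).map π := by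
    ext y
    exact ⟨fun ⟨t, ht⟩ => ⟨_, t.2, ht⟩, fun ⟨n, hn', hny⟩ => ⟨⟨n, hn'⟩, hny⟩⟩
  refine ⟨E, ι, hE, inferInstance, ⟨hinj, fun P hP φ hφ => ⟨fun h => ?_, ?_⟩⟩, ?_, ?_⟩
  · rw [hE P] at h
    obtain ⟨-, -, -, hext⟩ := h
    obtain ⟨g, hg, ge, gm⟩ := stabExt_iff.mp hext
    obtain ⟨-, -, y, -, hy⟩ := (hI _ _).mp hg
    have hyN : y ∈ N := by
      refine Subgroup.mem_normalizer_fintype fun q hq => ?_
      rw [← cj_apply, ← hy q (Subgroup.mem_sup_right hq)]
      exact gm.le ⟨q, hq, rfl⟩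
    refine ⟨π ⟨y, hyN⟩, fun x => ?_⟩
    show π _ = π ⟨y, hyN⟩ * π _ * (π ⟨y, hyN⟩)⁻¹
    rw [← map_inv, ← map_mul, ← map_mul]
    refine congrArg π (Subtype.ext ?_)
    show φ x = y * (x : G) * y⁻¹
    rw [← cj_apply, ← hy _ (Subgroup.mem_sup_left x.2), ge]
  · rintro ⟨l, hl⟩
    obtain ⟨n, rfl⟩ := QuotientGroup.mk'_surjective K l
    let R : Subgroup ↥N := (φ.codRestrict N fun x => hTN (hφ x)).range
    have hRT : R ≤ T.subgroupOf N := by rintro _ ⟨x, rfl⟩; exact hφ x
    have hRp : IsPGroup p R := hTp.to_le hRT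
    let A : Subgroup ↥N := (P.subgroupOf N).map (MulAut.conj n).toMonoidHom
    have hAp : IsPGroup p A := (((hS.to_le normalizerIn_le).to_le hP).comap_subtype).map _
    have hmod : ∀ x : P, (((⟨φ x, hTN (hφ x)⟩ : ↥N)) : ↥N ⧸ K) =
        ((n * (⟨(x : G), hTN (hP x.2)⟩ : ↥N) * n⁻¹ : ↥N) : ↥N ⧸ K) := fun x => by
      refine (hl x).trans ?_
      show π n * π _ * (π n)⁻¹ = π _
      rw [map_mul, map_mul, map_inv]
      rfl
    have hAL : A ≤ R ⊔ K := by
      rintro _ ⟨a, ha, rfl⟩
      have h := QuotientGroup.eq.mp (hmod ⟨a, ha⟩)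
      have hr : (⟨φ ⟨a, ha⟩, hTN (hφ ⟨a, ha⟩)⟩ : ↥N) ∈ R := ⟨⟨a, ha⟩, rfl⟩
      have := Subgroup.mul_mem (R ⊔ K) (Subgroup.mem_sup_left hr) (Subgroup.mem_sup_right h)
      rwa [mul_inv_cancel_left] at this
    have hi : ¬ p ∣ R.relIndex (R ⊔ K) := by
      rw [relIndex_sup_normalized (L := R ⊔ K) le_sup_left le_sup_right
        (Subgroup.normalizer_eq_top (H := K) ▸ le_top), inf_pPrimeCore_bot hRp,
        Subgroup.relIndex_bot_left]
      exact Core.not_dvd_card_pPrimeCore p N
    obtain ⟨m, hm, hmA⟩ := exists_conj_le_of_sylow le_sup_left hRp hi hAL hAp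
    obtain ⟨r, hr, k, hk, rfl⟩ : ∃ r ∈ R, ∃ k ∈ K, r * k = m := by
      rw [← SetLike.mem_coe, Subgroup.mul_normal] at hm
      exact hm
    have key : ∀ x : P, (φ x : G) = (k * n : ↥N) * (x : G) * ((k * n : ↥N) : G)⁻¹ := by
      intro x
      have h1 : cj (r * k) (n * (⟨(x : G), hTN (hP x.2)⟩ : ↥N) * n⁻¹) ∈ R :=
        hmA _ ⟨⟨(x : G), hTN (hP x.2)⟩, x.2, rfl⟩
      have h2 : (k * n) * (⟨(x : G), hTN (hP x.2)⟩ : ↥N) * (k * n)⁻¹ ∈ R := by
        have := R.mul_mem (R.mul_mem (R.inv_mem hr) h1) hr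
        rwa [cj_apply, show r⁻¹ * (r * k * (n * (⟨(x : G), hTN (hP x.2)⟩ : ↥N) * n⁻¹) * (r * k)⁻¹) * r =
          (k * n) * ⟨(x : G), hTN (hP x.2)⟩ * (k * n)⁻¹ by group] at this
      have h3 := eq_of_mk_eq (inf_pPrimeCore_bot hRp) (show (⟨φ x, hTN (hφ x)⟩ : ↥N) ∈ R from ⟨x, rfl⟩)
        h2 ((hmod x).trans ?_)
      · exact congrArg Subtype.val h3
      · have hk1 : π k = 1 := (QuotientGroup.eq_one_iff k).mpr hk
        show π (n * (⟨(x : G), hTN (hP x.2)⟩ : ↥N) * n⁻¹) =
          π (k * n * (⟨(x : G), hTN (hP x.2)⟩ : ↥N) * (k * n)⁻¹)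
        simp only [map_mul, map_inv, hk1, one_mul]
    rw [hE P]
    set y : G := ((k * n : ↥N) : G) with hy
    have hyN : y ∈ N := (k * n).2
    have hval : ∀ x ∈ P ⊔ Q, cj y x ∈ (S : Subgroup G) := by
      intro x hx
      have : (P ⊔ Q).map (MulAut.conj y).toMonoidHom ≤ (S : Subgroup G) := by
        rw [Subgroup.map_sup]
        refine sup_le ?_ ?_
        · rintro _ ⟨a, ha, rfl⟩
          show y * a * y⁻¹ ∈ (S : Subgroup G)
          rw [← key ⟨a, ha⟩]
          exact normalizerIn_le (hφ ⟨a, ha⟩)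
        · rintro _ ⟨a, ha, rfl⟩
          exact hn.1 ((Subgroup.mem_normalizer_iff.mp hyN a).mp ha)
      exact this ⟨x, hx, rfl⟩
    have hM : Mor (groupFusionSystem (S : Subgroup G)) (P ⊔ Q) (cj y) := (hI _ _).mpr
      ⟨sup_le (hP.trans normalizerIn_le) hn.1, hval, y, trivial, fun _ _ => rfl⟩
    refine ⟨mem_of_mor (hM.restrict le_sup_left) fun x => key x, hP, hφ, stabExt_iff.mpr
      ⟨cj y, hM, fun x => (key x).symm, ?_⟩⟩
    ext q
    refine ⟨fun ⟨a, ha, e⟩ => e ▸ (cj_mem_iff hyN a).mpr ha, fun hq => ⟨cj y⁻¹ q, ?_, ?_⟩⟩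
    · exact (cj_mem_iff (inv_mem hyN) q).mpr hq
    · simp [cj, mul_assoc]
  · haveI : Fact p.Prime := inferInstance
    have hi : ¬ p ∣ ((T.subgroupOf N).map π).index := fun h =>
      hTi (h.trans (Subgroup.index_map_dvd _ (QuotientGroup.mk'_surjective K)))
    exact ⟨(hTp.map π).toSylow hi, hran.symm⟩
  · haveI : (Q.subgroupOf N).Normal := Subgroup.normal_in_normalizer
    have hQp : IsPGroup p (Q.subgroupOf N) := (hS.to_le hn.1).comap_subtype
    have hQle : (Q.subgroupOf N).map π ≤ pCore p (↥N ⧸ K) :=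
      le_sSup ⟨Subgroup.Normal.map inferInstance π (QuotientGroup.mk'_surjective K), hQp.map π⟩
    intro l hl
    obtain ⟨x, rfl⟩ := QuotientGroup.mk'_surjective K l
    have hx : (x : G) ∈ Subgroup.centralizer (Q : Set G) := by
      intro q hq
      let q' : ↥N := ⟨q, Subgroup.le_normalizer hq⟩
      have h1 := hl (π q') (hQle ⟨q', hq, rfl⟩)
      rw [← map_mul, ← map_mul] at h1
      have hqx : x⁻¹ * q' * x ∈ Q.subgroupOf N := by
        have := (inferInstance : (Q.subgroupOf N).Normal).conj_mem q' hq x⁻¹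
        rwa [inv_inv] at this
      have h2 : x⁻¹ * q' * x = q' := eq_of_mk_eq (inf_pPrimeCore_bot hQp) hqx hq (by
        show π (x⁻¹ * q' * x) = π q'
        rw [mul_assoc, map_mul, h1, ← map_mul, inv_mul_cancel_left])
      have h3 : q' * x = x * q' := by
        conv_rhs => rw [← h2]
        group
      exact congrArg Subtype.val h3
    have h := Subgroup.mem_map_of_mem π (centralizer_le_sup_core S hn hc hx)
    rw [Subgroup.map_sup, QuotientGroup.map_mk'_self, sup_bot_eq] at h
    exact hQle h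

omit [Finite G] in
theorem involves_quotient_subgroup {H : Type*} [Group H] {N : Subgroup G} (K : Subgroup ↥N)
    [K.Normal] (h : Involves H (↥N ⧸ K)) : Involves H G :=
  involves_of_injective N.subtype N.subtype_injective
    (involves_of_surjective (QuotientGroup.mk' K) (QuotientGroup.mk'_surjective K) h)

/-- The system of a group that does not involve `H` is `H`-free. -/
theorem sectionFree_of_not_involves {H : Type*} [Group H] (S : Sylow p G) (h : ¬ Involves H G) :
    (groupFusionSystem (S : Subgroup G)).IsSectionFree p H := by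
  intro Q hQn hQc E' hE' L' _ ι' hM'
  obtain ⟨E, ι, hE, hM⟩ := exists_group_model S hQn hQc
  exact not_involves_of_model S.isPGroup' (groupFusion_saturated S) hQn hQc hE hE' hM hM'
    fun hi => h (involves_quotient_subgroup _ hi)

end Cfsg.Agent.LocalEven
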