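/-
Glauberman's and Thompson's theorems, transported from fusion systems to finite groups.
-/
import Cfsg.Agent.LocalEven.GroupModel
import Cfsg.Agent.S5193
import Cfsg.Agent.S5194
import Cfsg.Agent.S0071

set_option autoImplicit false
set_option linter.style.haveILetI false

namespace Cfsg.Agent.LocalEven

open Cfsg Cfsg.FusionSystem Cfsg.Agent Cfsg.Agent.Fusion Cfsg.Agent.FusionZJ

universe u

variable {G : Type u} [Group G] [Finite G] {p : ℕ} [Fact p.Prime]

/-- A subgroup normalizes its Thompson subgroup. -/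
theorem le_normalizer_thompson (S : Subgroup G) (hS : IsPGroup p S) :
    S ≤ Subgroup.normalizer (thompsonSubgroupAOf S : Set G) :=
  normalizerIn_self.ge.trans (normalizerIn_le_wOf (W := jA) hS jA_equiv le_rfl)

/-- A central element of the local group lies in the centre of a normalizer system. -/
theorem mem_center_normalizerSystem (S : Subgroup G) {W : Subgroup G}
    (hSW : S ≤ Subgroup.normalizer (W : Set G)) (hW : W ≤ S) {E : FusionSystem (normalizerIn S W)}
    (hE : (groupFusionSystem S).IsNormalizerSystem W E) {x : G} (hxS : x ∈ S)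
    (hx : ∀ g ∈ Subgroup.normalizer (W : Set G), g * x * g⁻¹ = x) : x ∈ E.center := by
  have hI := groupFusion_inducedBy S
  have hST : S ≤ normalizerIn S W := le_inf le_rfl hSW
  suffices h : E.IsCentral (Subgroup.zpowers x) from
    (show Subgroup.zpowers x ≤ E.center from le_sSup h) (Subgroup.mem_zpowers x)
  refine ⟨Subgroup.zpowers_le.mpr (hST hxS), fun P φ hφ => ?_⟩
  rw [hE P] at hφ
  obtain ⟨-, hP, -, hext⟩ := hφ
  obtain ⟨g, hg, ge, gm⟩ := stabExt_iff.mp hext
  obtain ⟨-, hgS, y, -, hy⟩ := (hI _ _).mp hg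
  have hyW : y ∈ Subgroup.normalizer (W : Set G) := by
    refine Subgroup.mem_normalizer_fintype fun q hq => ?_
    rw [← cj_apply, ← hy q (Subgroup.mem_sup_right hq)]
    exact gm.le ⟨q, hq, rfl⟩
  have hfix : ∀ z ∈ Subgroup.zpowers x, cj y z = z := by
    intro z hz
    obtain ⟨n, rfl⟩ := Subgroup.mem_zpowers_iff.mp hz
    rw [cj_apply, ← conj_zpow, hx y hyW]
  have hle : P ⊔ Subgroup.zpowers x ⊔ W ≤ S :=
    sup_le (sup_le (hP.trans normalizerIn_le) (Subgroup.zpowers_le.mpr hxS)) hW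
  have hval : ∀ z ∈ P ⊔ Subgroup.zpowers x ⊔ W, cj y z ∈ S := by
    intro z hz
    have h : (P ⊔ Subgroup.zpowers x ⊔ W).map (MulAut.conj y).toMonoidHom ≤ S := by
      rw [Subgroup.map_sup, Subgroup.map_sup]
      refine sup_le (sup_le ?_ ?_) ?_
      · rintro _ ⟨a, ha, rfl⟩
        show cj y a ∈ S
        rw [← hy a (Subgroup.mem_sup_left ha)]
        exact hgS a (Subgroup.mem_sup_left ha)
      · rintro _ ⟨a, ha, rfl⟩
        show cj y a ∈ S
        rw [hfix a ha]
        exact Subgroup.zpowers_le.mpr hxS ha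
      · rintro _ ⟨a, ha, rfl⟩
        exact hW ((Subgroup.mem_normalizer_iff.mp hyW a).mp ha)
    exact h ⟨z, hz, rfl⟩
  have hM : Mor (groupFusionSystem S) (P ⊔ Subgroup.zpowers x ⊔ W) (cj y) :=
    (hI _ _).mpr ⟨hle, hval, y, trivial, fun _ _ => rfl⟩
  have hP' : P ⊔ Subgroup.zpowers x ≤ S := le_sup_left.trans hle
  have hmem : (hM.restrict le_sup_left).hom ∈ (groupFusionSystem S).normalizerHom W
      (P ⊔ Subgroup.zpowers x) := by
    refine ⟨(hM.restrict le_sup_left).hom_mem, hP'.trans hST,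
      fun z => hST (hval z (Subgroup.mem_sup_left z.2)),
      stabExt_iff.mpr ⟨cj y, hM, fun _ => rfl, ?_⟩⟩
    ext q
    refine ⟨fun ⟨a, ha, e⟩ => e ▸ (cj_mem_iff hyW a).mpr ha, fun hq => ⟨cj y⁻¹ q, ?_, ?_⟩⟩
    · exact (cj_mem_iff (inv_mem hyW) q).mpr hq
    · simp [cj, mul_assoc]
  rw [← hE] at hmem
  refine ⟨_, hmem, fun z => ?_, fun z => hfix z z.2⟩
  show cj y z = φ z
  rw [← hy z (Subgroup.mem_sup_left z.2), ge]

/-- A central element of the system of a group is weakly closed. -/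
theorem eq_of_mem_center (S : Sylow p G) {x : G}
    (hx : x ∈ (groupFusionSystem (S : Subgroup G)).center) {g : G}
    (hg : g * x * g⁻¹ ∈ (S : Subgroup G)) : g * x * g⁻¹ = x := by
  have hI := groupFusion_inducedBy (S : Subgroup G)
  have hc : (groupFusionSystem (S : Subgroup G)).IsCentral (groupFusionSystem (S : Subgroup G)).center :=
    center_isCentral
  have hm : Mor (groupFusionSystem (S : Subgroup G)) (Subgroup.zpowers x) (cj g) := (hI _ _).mpr
    ⟨Subgroup.zpowers_le.mpr (hc.1 hx), fun y hy => by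
      obtain ⟨n, rfl⟩ := Subgroup.mem_zpowers_iff.mp hy
      rw [cj_apply, ← conj_zpow]
      exact Subgroup.zpow_mem _ hg n, g, trivial, fun _ _ => rfl⟩
  obtain ⟨ψ, -, he, hf⟩ := hc.2 _ _ hm.hom_mem
  have h1 := he ⟨x, Subgroup.mem_zpowers x⟩
  rw [show Subgroup.inclusion le_sup_left (⟨x, Subgroup.mem_zpowers x⟩ : ↥(Subgroup.zpowers x)) =
    Subgroup.inclusion le_sup_right (⟨x, hx⟩ : ↥(groupFusionSystem (S : Subgroup G)).center) from
      Subtype.ext rfl, hf] at h1
  exact h1.symm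

/-- In a group with a normal complement the fusion in a Sylow subgroup is inner. -/
theorem exists_inner_of_complement {H T : Subgroup G} (hT : IsPGroup p T) (hTH : T ≤ H)
    (hTi : ¬ p ∣ T.relIndex H) (h : HasNormalPComplement p ↥H) {P : Subgroup G} (hP : P ≤ T) {g : G}
    (hg : g ∈ H) (hgP : ∀ x ∈ P, g * x * g⁻¹ ∈ T) :
    ∃ t ∈ T, ∀ x ∈ P, g * x * g⁻¹ = t * x * t⁻¹ := by
  obtain ⟨R, K, hK, hKR⟩ := h
  haveI := hK
  let T₀ : Sylow p ↥H := (hT.comap_subtype (K := H)).toSylow hTi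
  obtain ⟨a, ha⟩ := MulAction.exists_smul_eq ↥H R T₀
  have hcop : T.subgroupOf H ⊓ K = ⊥ := by
    obtain ⟨k, hk⟩ := IsPGroup.iff_card.mp (hT.comap_subtype (K := H))
    refine Subgroup.inf_eq_bot_of_coprime (hk ▸ ?_)
    refine Nat.Coprime.pow_left k ((Nat.Prime.coprime_iff_not_dvd Fact.out).mpr ?_)
    rw [← Subgroup.IsComplement'.index_eq_card hKR]
    exact R.not_dvd_index
  have htop : (T₀ : Subgroup ↥H) ⊔ K = ⊤ := by
    rw [← ha, Sylow.coe_subgroup_smul]
    apply le_antisymm le_top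
    have : ((R : Subgroup ↥H) ⊔ K).map (MulAut.conj a).toMonoidHom = ⊤ := by
      rw [sup_comm, hKR.sup_eq_top]
      exact Subgroup.map_top_of_surjective _ (MulAut.conj a).surjective
    have hKa : K.map (MulAut.conj a).toMonoidHom ≤ K := by
      rintro _ ⟨k, hk, rfl⟩
      exact hK.conj_mem k hk a
    rw [Subgroup.map_sup] at this
    exact this.ge.trans (sup_le_sup le_rfl hKa)
  have hm : (⟨g, hg⟩ : ↥H) ∈ (((K : Subgroup ↥H) ⊔ (T₀ : Subgroup ↥H) : Subgroup ↥H) : Set ↥H) := by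
    rw [sup_comm, htop]; trivial
  rw [Subgroup.normal_mul] at hm
  obtain ⟨k, hk, t, ht, hkt⟩ := hm
  refine ⟨t, ht, fun x hx => ?_⟩
  let x' : ↥H := ⟨x, hTH (hP hx)⟩
  have h1 : k * t * x' * (k * t)⁻¹ ∈ T.subgroupOf H := by
    rw [show k * t = ⟨g, hg⟩ from hkt]
    exact hgP x hx
  have h2 : t * x' * t⁻¹ ∈ T.subgroupOf H :=
    Subgroup.mul_mem _ (Subgroup.mul_mem _ ht (show x' ∈ T.subgroupOf H from hP hx))
      (Subgroup.inv_mem _ ht)
  have h3 := eq_of_mk_eq hcop h1 h2 (by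
    have hk1 : QuotientGroup.mk' K k = 1 := (QuotientGroup.eq_one_iff k).mpr hk
    show QuotientGroup.mk' K (k * t * x' * (k * t)⁻¹) = QuotientGroup.mk' K (t * x' * t⁻¹)
    simp only [map_mul, map_inv, hk1, one_mul])
  rw [show k * t = ⟨g, hg⟩ from hkt] at h3
  exact congrArg Subtype.val h3

/-- A group whose fusion is inner has a normal complement. -/
theorem hasNormalPComplement_of_inner (S : Sylow p G)
    (h : ∀ P, (groupFusionSystem (S : Subgroup G)).Hom P = (innerFusionSystem (S : Subgroup G)).Hom P) :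
    HasNormalPComplement p G := by
  refine Cfsg.Agent.Transfer.hasNormalPComplement_of_frobenius S fun Q hQ _ g hg hgp => ?_
  have hI := groupFusion_inducedBy (S : Subgroup G)
  have hm : Mor (groupFusionSystem (S : Subgroup G)) Q (cj g) := (hI _ _).mpr
    ⟨hQ, fun x hx => hQ ((cj_mem_iff hg x).mpr hx), g, trivial, fun _ _ => rfl⟩
  have hmem := hm.hom_mem
  rw [h Q] at hmem
  obtain ⟨-, s, hs, hse⟩ := hmem
  have hsQ : ∀ x ∈ Q, g * x * g⁻¹ = s * x * s⁻¹ := fun x hx => hse ⟨x, hx⟩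
  have key : ∀ n : ℕ, ∀ x ∈ Q, g ^ n * x * (g ^ n)⁻¹ = s ^ n * x * (s ^ n)⁻¹ := by
    intro n
    induction n with
    | zero => simp
    | succ n ih =>
      intro x hx
      have hm' : g * x * g⁻¹ ∈ Q := (cj_mem_iff hg x).mpr hx
      calc g ^ (n + 1) * x * (g ^ (n + 1))⁻¹ = g ^ n * (g * x * g⁻¹) * (g ^ n)⁻¹ := by group
        _ = s ^ n * (g * x * g⁻¹) * (s ^ n)⁻¹ := ih _ hm'
        _ = s ^ (n + 1) * x * (s ^ (n + 1))⁻¹ := by rw [hsQ x hx]; group
  obtain ⟨k, hk⟩ := S.isPGroup' ⟨s, hs⟩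
  obtain ⟨j, hj⟩ := exists_pow_eq_self_of_coprime (x := g) (n := p ^ k) (hgp.pow_right k).symm
  intro x hx
  have h1 := key (p ^ k * j) x hx
  rw [pow_mul, hj, pow_mul, show s ^ p ^ k = 1 from congrArg Subtype.val hk, one_pow] at h1
  simp only [one_mul, inv_one, mul_one] at h1
  rw [mul_inv_eq_iff_eq_mul] at h1
  exact h1.symm

end Cfsg.Agent.LocalEven
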