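/-
Normal complement criterion relative to a strongly closed subgroup, for a functor.
-/
import Cfsg.Agent.LocalEven.GroupFusionApps
import Cfsg.Agent.LocalEven.ClosedOmegaZJ
import Cfsg.Agent.FusionZJ.NilpotencyApps
import Cfsg.Agent.Fusion.TateMore

set_option autoImplicit false
set_option linter.style.haveILetI false

namespace Cfsg.Agent.LocalEven

open Cfsg Cfsg.FusionSystem Cfsg.Agent Cfsg.Agent.Fusion Cfsg.Agent.FusionZJ

universe u

variable {G : Type u} [Group G] [Finite G] {p : ℕ} [Fact p.Prime]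

theorem hasNormalPComplement_of_closed_functor (hp : p ≠ 2)
    (W : ∀ (Q : Type u) [Group Q], Subgroup Q)
    (hW2 : ∀ (Q R : Type u) [Group Q] [Group R] [Finite Q], IsPGroup p Q → ∀ φ : Q ≃* R,
      (W Q).map φ.toMonoidHom = W R)
    (hstep : ∀ (L : Type u) [Group L] [Finite L] (T : Sylow p L),
      Subgroup.centralizer ((pCore p L : Subgroup L) : Set L) ≤ pCore p L → ¬ IsPGroup p L →
      ∀ D : Subgroup L, ClosedIn (T : Subgroup L) D →
        ∃ g ∈ Subgroup.normalizer (wOf W D : Set L), g ≠ 1 ∧ (orderOf g).Coprime p)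
    (P : Sylow p G) {D : Subgroup G} (hD : IsStronglyClosed D (P : Subgroup G))
    (hN : HasNormalPComplement p ↥(Subgroup.normalizer (wOf W D : Set G))) :
    HasNormalPComplement p G := by
  classical
  refine hasNormalPComplement_of_inner P ?_
  have hS : IsPGroup p (P : Subgroup G) := P.isPGroup'
  have hI := groupFusion_inducedBy (P : Subgroup G)
  set F := groupFusionSystem (P : Subgroup G) with hFdef
  have hF : F.IsSaturated p := groupFusion_saturated P
  have hDS : D ≤ (P : Subgroup G) := hD.1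
  have hDF : F.StronglyClosed D := stronglyClosed_of_mor hD.1 fun Q f hf x hx hxD => by
    obtain ⟨-, hv, g, -, hg⟩ := (hI Q f).mp hf
    rw [hg x hx]
    exact hD.2 x hxD g (hg x hx ▸ hv x hx : cj g x ∈ (P : Subgroup G))
  have hSN : (P : Subgroup G) ≤ Subgroup.normalizer (wOf W D : Set G) := fun s hs =>
    normalizerIn_le_wOf hS hW2 hDS ⟨hs, stronglyClosed_normalizer hDF hs⟩
  by_contra hne
  obtain ⟨U, hNS, hUn, hUc, M, L, _, ι, hMn, hM, -, hL⟩ :=
    exists_witness_model hS hF (Or.inl hp) (fun e => hne fun P => e ▸ rfl)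
  haveI : Finite L := hM.1
  haveI : Finite ↥(normalizerIn (P : Subgroup G) U) := finite_of_le normalizerIn_le
  obtain ⟨T, hT⟩ := hM.2.2.1
  have hDU : D ≤ normalizerIn (P : Subgroup G) U := hNS.symm ▸ hDS
  set Di := (D.subgroupOf (normalizerIn (P : Subgroup G) U)).map ι with hDi
  have hcl : ClosedIn (T : Subgroup L) Di := by
    refine ⟨hT ▸ Subgroup.map_le_range _ _, ?_⟩
    rintro g _ ⟨x, hx, rfl⟩ hgx
    obtain ⟨y, hy⟩ : g * ι x * g⁻¹ ∈ ι.range := hT ▸ hgx
    obtain ⟨f, hfN, hf, ef⟩ := model_mor hMn hM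
      (show Subgroup.zpowers (x : G) ≤ normalizerIn (P : Subgroup G) U from
        Subgroup.zpowers_le.mpr x.2) g fun w => by
        obtain ⟨k, hk⟩ := Subgroup.mem_zpowers_iff.mp w.2
        refine ⟨y ^ k, ?_⟩
        rw [map_zpow, hy, conj_zpow, ← map_zpow]
        congr 3
        exact Subtype.ext (by rw [Subgroup.coe_zpow]; exact hk)
    have hxm : (x : G) ∈ Subgroup.zpowers (x : G) := Subgroup.mem_zpowers _
    exact ⟨⟨f x, hfN.map_mem hxm⟩, stronglyClosed_mem hDF hf hxm hx, ef x hxm (hfN.map_mem hxm)⟩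
  obtain ⟨g, hg, hg1, hgp⟩ := hstep L T hM.2.2.2 hL Di hcl
  have hVU : wOf W D ≤ normalizerIn (P : Subgroup G) U := (wOf_le W D).trans hDU
  have himg : ((wOf W D).subgroupOf (normalizerIn (P : Subgroup G) U)).map ι = wOf W Di := by
    have hDp : IsPGroup p ↥(D.subgroupOf (normalizerIn (P : Subgroup G) U)) :=
      (hS.to_le normalizerIn_le).to_subgroup _
    have h1 := wOf_map W hW2 (normalizerIn (P : Subgroup G) U).subtype (Subgroup.subtype_injective _)
      (D.subgroupOf (normalizerIn (P : Subgroup G) U)) hDp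
    rw [Subgroup.map_subgroupOf_eq_of_le hDU] at h1
    rw [hDi, wOf_map W hW2 ι hM.2.1.1 _ hDp, h1, Subgroup.subgroupOf,
      Subgroup.comap_map_eq_self_of_injective (Subgroup.subtype_injective _)]
  obtain ⟨f, hf, hfV, -, hkey⟩ := model_stab hS hF hUn hUc hMn hM hVU (g := g) (himg.symm ▸ hg)
  -- the map is a conjugation inside the normalizer, hence inner
  obtain ⟨hle, hfv, y, -, hy⟩ := (hI _ _).mp hf.mor
  have hyN : y ∈ Subgroup.normalizer (wOf W D : Set G) := Subgroup.mem_normalizer_fintype fun q hq => by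
    show cj y q ∈ wOf W D
    rw [← hy q (Subgroup.mem_sup_right hq)]
    exact hfV.le ⟨q, hq, rfl⟩
  obtain ⟨t, ht, hte⟩ := exists_inner_of_complement hS hSN (fun hd => P.not_dvd_index
    (hd.trans (Dvd.intro _ (Subgroup.relIndex_mul_index hSN)))) hN hle hyN
    (fun x hx => (hy x hx ▸ hfv x hx : cj y x ∈ (P : Subgroup G)))
  obtain ⟨k, hk⟩ := hS ⟨t, ht⟩
  refine hg1 (hkey hgp ⟨k, fun x hx => ?_⟩)
  have hft : ∀ z ∈ U ⊔ wOf W D, f z = t * z * t⁻¹ := fun z hz => (hy z hz).trans (hte z hz)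
  have hit : ∀ (n : ℕ), ∀ z ∈ U ⊔ wOf W D, f^[n] z = t ^ n * z * (t ^ n)⁻¹ := by
    intro n
    induction n with
    | zero => simp
    | succ n ih =>
      intro z hz
      rw [Function.iterate_succ_apply, ih _ (hf.mapsTo hz), hft z hz]
      group
  rw [hit _ x (Subgroup.mem_sup_left hx), show t ^ p ^ k = 1 from congrArg Subtype.val hk]
  group

end Cfsg.Agent.LocalEven
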