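import Cfsg.Agent.LocalEven.ClosedZJBasic
import Cfsg.Agent.LocalEven.MaxP
import Cfsg.Agent.PLocal.Functors
import Cfsg.Agent.Transfer.ZJFusion
import Cfsg.Agent.S3836
import Cfsg.Agent.S0065

/-! The normalizer of `Z(J(D))`, `D` strongly closed, controls strong fusion. -/

set_option autoImplicit false
set_option linter.style.haveILetI false

namespace Cfsg.Agent.LocalEven.CZJ

open Cfsg.Agent.PLocal Cfsg.Agent.OddLocal

universe u

/-- A class of abelian subgroups defined in every group. -/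
structure GoodClass (p : ℕ) (Pr : ∀ (H : Type u) [Group H], Subgroup H → Prop) : Prop where
  repl : ∀ (H : Type u) [Group H] [Finite H], ReplClass p H (Pr H)
  map : ∀ {H K : Type u} [Group H] [Group K] (f : H →* K) (A : Subgroup H), Pr H A → Pr K (A.map f)
  comap : ∀ {H K : Type u} [Group H] [Group K] (f : H →* K) (U : Subgroup H) (A : Subgroup K),
    Set.InjOn f (U : Set H) → Pr K A → Pr H (A.comap f ⊓ U)
  sup : ∀ {H : Type u} [Group H] (A : Subgroup H) (z : H), Pr H A → z ^ p = 1 →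
    Subgroup.zpowers z ≤ Subgroup.centralizer (A : Set H) → Pr H (Subgroup.zpowers z ⊔ A)

variable {p : ℕ} {Pr : ∀ (H : Type u) [Group H], Subgroup H → Prop}

theorem zMax_map (hP : GoodClass p Pr) {H K : Type u} [Group H] [Group K] [Finite H] [Finite K]
    (f : H →* K) {U : Subgroup H} (hf : Set.InjOn f (U : Set H)) :
    (zMax (Pr H) U).map f = zMax (Pr K) (U.map f) := by
  have hmapcomap : ∀ D : Subgroup K, D ≤ U.map f → (D.comap f ⊓ U).map f = D := fun D hD => by
    refine le_antisymm ?_ fun y hy => ?_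
    · rintro _ ⟨x, hx, rfl⟩
      exact hx.1
    · obtain ⟨x, hx, rfl⟩ := hD hy
      exact ⟨x, ⟨hy, hx⟩, rfl⟩
  have hcard : ∀ D : Subgroup H, D ≤ U → Nat.card (D.map f) = Nat.card D := fun D hD => by
    refine (Nat.card_congr (Equiv.ofBijective
      (fun x : D => (⟨f x, ⟨x, x.2, rfl⟩⟩ : D.map f)) ⟨fun a b h => ?_, ?_⟩)).symm
    · exact Subtype.ext (hf (hD a.2) (hD b.2) (congrArg Subtype.val h))
    · rintro ⟨_, x, hx, rfl⟩
      exact ⟨⟨x, hx⟩, rfl⟩
  have hfwd : ∀ A ∈ maxIn (Pr H) U, A.map f ∈ maxIn (Pr K) (U.map f) := fun A hA =>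
    ⟨Subgroup.map_mono hA.1, hP.map f A hA.2.1, fun C hC hC' => by
      rw [hcard A hA.1, ← hmapcomap C hC, hcard _ inf_le_right]
      exact hA.2.2 _ inf_le_right (hP.comap f U C hf hC')⟩
  refine le_antisymm ?_ fun y hy => ?_
  · rintro _ ⟨x, hx, rfl⟩
    refine Subgroup.mem_sInf.mpr fun A hA => ?_
    refine (zMax_le_mem (P := Pr H) (U := U) (A := A.comap f ⊓ U)
      ⟨inf_le_right, hP.comap f U A hf hA.2.1, fun C hC hC' => ?_⟩ hx).1
    rw [← hcard C hC, ← hcard (A.comap f ⊓ U) inf_le_right, hmapcomap A hA.1]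
    exact hA.2.2 _ (Subgroup.map_mono hC) (hP.map f C hC')
  · obtain ⟨x, hxU, rfl⟩ := zMax_le (hP.repl K).bot _ hy
    refine ⟨x, Subgroup.mem_sInf.mpr fun A hA => ?_, rfl⟩
    obtain ⟨a, ha, e⟩ := zMax_le_mem (hfwd A hA) hy
    rwa [← hf (hA.1 ha) hxU e]

theorem zMax_ne_bot [Fact p.Prime] (hP : GoodClass p Pr) {H : Type u} [Group H] [Finite H]
    {U : Subgroup H} (hU : IsPGroup p U) (hne : U ≠ ⊥) : zMax (Pr H) U ≠ ⊥ := by
  haveI : Nontrivial U := (Subgroup.nontrivial_iff_ne_bot _).mpr hne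
  haveI := hU.center_nontrivial
  obtain ⟨z, hz, hzo⟩ := exists_orderOf_eq (Q := (Subgroup.center U).map U.subtype)
    ((hU.to_subgroup _).map _) (by
      intro h
      rw [Subgroup.map_eq_bot_iff_of_injective _ U.subtype_injective] at h
      exact (Subgroup.nontrivial_iff_ne_bot _).mp inferInstance h)
  obtain ⟨⟨z, hzU⟩, hzc, rfl⟩ := hz
  intro h
  have hmem : z ∈ zMax (Pr H) U := Subgroup.mem_sInf.mpr fun A hA => by
    have hP' := hP.sup A z hA.2.1 ((congrArg (z ^ ·) hzo).symm.trans (pow_orderOf_eq_one z)) (by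
      rw [Subgroup.zpowers_le, Subgroup.mem_centralizer_iff]
      intro a ha
      exact congrArg Subtype.val (Subgroup.mem_center_iff.mp hzc ⟨a, hA.1 ha⟩))
    exact (Subgroup.eq_of_le_of_card_ge le_sup_right
      (hA.2.2 _ (sup_le (Subgroup.zpowers_le.mpr hzU) hA.1) hP')).ge
      (Subgroup.mem_sup_left (Subgroup.mem_zpowers z))
  rw [h, Subgroup.mem_bot] at hmem
  have h0 : orderOf z = p := hzo
  rw [hmem, orderOf_one] at h0
  exact (Fact.out : p.Prime).ne_one h0.symm

/-- Stability passes to the quotient by a normal `p'`-core. -/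
theorem quotient_hst {G : Type*} [Group G] [Finite G] [Fact p.Prime]
    (hst : Cfsg.IsNormalizerPStable p G) (S : Sylow p G) :
    ∀ (Q : Subgroup (G ⧸ Cfsg.pPrimeCore p G)) [Q.Normal], IsPGroup p Q →
      ∀ a ∈ S.mapSurjective (QuotientGroup.mk'_surjective (Cfsg.pPrimeCore p G)),
      ⁅⁅Q, Subgroup.zpowers a⁆, Subgroup.zpowers a⁆ = ⊥ →
      (QuotientGroup.mk a :
        (G ⧸ Cfsg.pPrimeCore p G) ⧸ Subgroup.centralizer (Q : Set (G ⧸ Cfsg.pPrimeCore p G))) ∈
        Cfsg.pCore p ((G ⧸ Cfsg.pPrimeCore p G) ⧸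
          Subgroup.centralizer (Q : Set (G ⧸ Cfsg.pPrimeCore p G))) := by
  intro Q _ hQ a ha hq
  set O := Cfsg.pPrimeCore p G
  set π := QuotientGroup.mk' O with hπ
  have hπs : Function.Surjective π := QuotientGroup.mk'_surjective O
  obtain ⟨s, hs, rfl⟩ := ha
  set L := Q.comap π with hL
  haveI : L.Normal := Subgroup.Normal.comap inferInstance _
  have hOL : O ≤ L := fun x hx => by
    rw [hL, Subgroup.mem_comap, hπ, QuotientGroup.mk'_apply, (QuotientGroup.eq_one_iff x).mpr hx]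
    exact one_mem Q
  set R : Subgroup G := (S : Subgroup G) ⊓ L
  have hinj : Set.InjOn π ((S : Subgroup G) : Set G) := injOn_mk'_pPrimeCore S
  have hk : ∃ k, O.relIndex L ∣ p ^ k := by
    obtain ⟨k, hk⟩ := IsPGroup.iff_card.mp hQ
    refine ⟨k, ?_⟩
    have hc := Subgroup.relIndex_comap (⊥ : Subgroup (G ⧸ O)) π L
    rw [MonoidHom.comap_bot, hπ, QuotientGroup.ker_mk', hL,
      Subgroup.map_comap_eq_self_of_surjective hπs, Subgroup.relIndex_bot_left, hk] at hc
    exact hc.dvd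
  have hFr := normalizer_inf_sup_eq_top S L O hOL hk
  have hRQ : R.map π = Q := by
    refine le_antisymm ((Subgroup.map_mono inf_le_right).trans (Subgroup.map_comap_le _ _)) ?_
    obtain ⟨T, hT⟩ := exists_sylow_inf S L
    have h1 : (T : Subgroup L) ⊔ O.subgroupOf L = ⊤ := by
      obtain ⟨k, hk⟩ := hk
      rw [← Subgroup.index_eq_one]
      refine Nat.eq_one_of_dvd_coprimes (a := (T : Subgroup L).index) ?_
        (Subgroup.index_dvd_of_le le_sup_left) ((Subgroup.index_dvd_of_le le_sup_right).trans hk)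
      exact (Nat.Coprime.pow_left k
        (((Fact.out : p.Prime).coprime_iff_not_dvd).mpr T.not_dvd_index)).symm
    intro y hy
    obtain ⟨x, rfl⟩ := hπs y
    have hx : (⟨x, hy⟩ : L) ∈ (((T : Subgroup L) ⊔ O.subgroupOf L : Subgroup L) : Set L) := by
      rw [h1]; exact Subgroup.mem_top _
    rw [Subgroup.mul_normal] at hx
    obtain ⟨t, ht, o, ho, e⟩ := hx
    refine ⟨t, ?_, ?_⟩
    · show (t : G) ∈ (S : Subgroup G) ⊓ L
      rw [← hT]; exact ⟨t, ht, rfl⟩
    · have e' : (t : G) * (o : G) = x := congrArg Subtype.val e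
      rw [← e', map_mul, hπ, QuotientGroup.mk'_apply, QuotientGroup.mk'_apply,
        (QuotientGroup.eq_one_iff (o : G)).mpr ho, mul_one]
  set N := Subgroup.normalizer (R : Set G)
  have hSN : (S : Subgroup G) ≤ N :=
    (le_inf Subgroup.le_normalizer (le_top.trans_eq (Subgroup.normalizer_eq_top L).symm)).trans
      Subgroup.inf_normalizer_le_normalizer_inf
  have hq' : ⁅⁅R, Subgroup.zpowers s⁆, Subgroup.zpowers s⁆ = ⊥ := by
    rw [eq_bot_iff]
    intro z hz
    have hle : ∀ X : Subgroup G, X ≤ (S : Subgroup G) → ⁅X, Subgroup.zpowers s⁆ ≤ (S : Subgroup G) :=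
      fun X hX => (Subgroup.commutator_mono hX (Subgroup.zpowers_le.mpr hs)).trans
        (Subgroup.commutator_le_self _)
    have h1 : z ∈ (S : Subgroup G) := hle _ (hle R inf_le_left) hz
    have hz' : π z ∈ (⁅⁅R, Subgroup.zpowers s⁆, Subgroup.zpowers s⁆).map π := ⟨z, hz, rfl⟩
    rw [Subgroup.map_commutator, Subgroup.map_commutator, hRQ, MonoidHom.map_zpowers, hq,
      Subgroup.mem_bot] at hz'
    rw [Subgroup.mem_bot]
    exact hinj h1 (S : Subgroup G).one_mem (by rw [hz', map_one])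
  have h := hst R (S.isPGroup'.to_le inf_le_left) s (hSN hs) hq'
  let g : N →* (G ⧸ O) ⧸ Subgroup.centralizer (Q : Set (G ⧸ O)) :=
    ((QuotientGroup.mk' (Subgroup.centralizer (Q : Set (G ⧸ O)))).comp π).comp N.subtype
  have hgs : Function.Surjective g := by
    intro y
    obtain ⟨y, rfl⟩ := QuotientGroup.mk'_surjective _ y
    obtain ⟨x, rfl⟩ := hπs y
    have hx : x ∈ ((O ⊔ N : Subgroup G) : Set G) := by rw [hFr]; exact Subgroup.mem_top x
    rw [Subgroup.normal_mul] at hx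
    obtain ⟨o, ho, n, hn, rfl⟩ := hx
    refine ⟨⟨n, hn⟩, ?_⟩
    show QuotientGroup.mk' _ (π n) = QuotientGroup.mk' _ (π (o * n))
    rw [map_mul π, hπ, QuotientGroup.mk'_apply (N := O) o, (QuotientGroup.eq_one_iff o).mpr ho, one_mul]
  have hker : (Subgroup.centralizer (R : Set G)).subgroupOf N ≤ g.ker := by
    intro n hn
    rw [MonoidHom.mem_ker]
    show (QuotientGroup.mk (π (n : G)) : (G ⧸ O) ⧸ Subgroup.centralizer (Q : Set (G ⧸ O))) = 1
    rw [QuotientGroup.eq_one_iff, Subgroup.mem_centralizer_iff]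
    intro y hy
    rw [← hRQ] at hy
    obtain ⟨x, hx, rfl⟩ := hy
    rw [← map_mul, ← map_mul, Subgroup.mem_centralizer_iff.mp (Subgroup.mem_subgroupOf.mp hn) x hx]
  exact Core.map_pCore_le (f := QuotientGroup.lift _ g hker) (p := p) (fun y => by
    obtain ⟨x, rfl⟩ := hgs y
    exact ⟨QuotientGroup.mk' _ x, rfl⟩) ⟨_, h, rfl⟩

/-- The relative factorization in a constrained group. -/
theorem closed_factorization [Fact p.Prime] (hp : p ≠ 2) (hP : GoodClass p Pr) {G : Type u} [Group G]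
    [Finite G] (hc : Cfsg.IsPConstrained p G) (hst : Cfsg.IsNormalizerPStable p G) (S : Sylow p G)
    {D : Subgroup G} (hD : FusionZJ.ClosedIn (S : Subgroup G) D) :
    Cfsg.pPrimeCore p G ⊔ Subgroup.normalizer (zMax (Pr G) D : Set G) = ⊤ := by
  set O := Cfsg.pPrimeCore p G
  set π := QuotientGroup.mk' O
  have hπs : Function.Surjective π := QuotientGroup.mk'_surjective O
  have hinj : Set.InjOn π (D : Set G) := fun x hx y hy =>
    injOn_mk'_pPrimeCore S (hD.le hx) (hD.le hy)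
  have hD' : FusionZJ.ClosedIn ((S.mapSurjective hπs : Sylow p (G ⧸ O)) : Subgroup (G ⧸ O))
      (D.map π) := by
    refine ⟨Subgroup.map_mono hD.le, ?_⟩
    rintro g _ ⟨d, hd, rfl⟩ hmem
    obtain ⟨g, rfl⟩ := hπs g
    rw [← map_inv, ← map_mul, ← map_mul] at hmem ⊢
    set y := g * d * g⁻¹
    have hy : y ∈ (S : Subgroup G) ⊔ O := by
      have h : π y ∈ ((S : Subgroup G).map π) := hmem
      have h' : y ∈ ((S : Subgroup G).map π).comap π := h
      rwa [Subgroup.comap_map_eq, QuotientGroup.ker_mk'] at h'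
    have hmax : IsMaxP p (S : Subgroup G) ((S : Subgroup G) ⊔ O) :=
      ⟨le_sup_left, S.isPGroup', fun R hR _ hle => S.is_maximal' hR hle⟩
    have hyp : ∃ k, orderOf y = p ^ k := by
      obtain ⟨k, hk⟩ := IsPGroup.iff_orderOf.mp S.isPGroup' ⟨d, hD.le hd⟩
      rw [Subgroup.orderOf_mk] at hk
      exact ⟨k, by simp only [y]; rw [← MulAut.conj_apply, MulEquiv.orderOf_eq, hk]⟩
    obtain ⟨c, hc', hle⟩ := hmax.conj_le (isPGroup_zpowers_of_orderOf hyp) (Subgroup.zpowers_le.mpr hy)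
    have hc'' : c ∈ (((S : Subgroup G) ⊔ O : Subgroup G) : Set G) := hc'
    rw [Subgroup.mul_normal] at hc''
    obtain ⟨s, hs, o, ho, rfl⟩ := hc''
    have h1 : s * o * y * (s * o)⁻¹ ∈ (S : Subgroup G) :=
      hle (conj_mem_cj (Subgroup.mem_zpowers y))
    have h2 : o * y * o⁻¹ ∈ (S : Subgroup G) := by
      have := mul_mem (mul_mem (inv_mem hs) h1) hs
      simpa [mul_assoc] using this
    have h3 : o * g * d * (o * g)⁻¹ ∈ D := hD.closed (o * g) d hd (by
      rw [show o * g * d * (o * g)⁻¹ = o * y * o⁻¹ by simp only [y]; group]; exact h2)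
    refine ⟨_, h3, ?_⟩
    have e1 : π o = 1 := (QuotientGroup.eq_one_iff o).mpr ho
    simp only [y, map_mul, map_inv, e1, one_mul]
  have h := FusionZJ.zMax_normal_closed (hP.repl (G ⧸ O)) hp (S.mapSurjective hπs) hD'
    (centralizer_pCore_quotient_le hc) (quotient_hst hst S)
  rw [← zMax_map hP π hinj] at h
  exact sup_normalizer_of_map_normal (S.isPGroup'.to_le ((zMax_le (hP.repl G).bot _).trans hD.le))
    (Core.card_pPrimeCore_coprime p G) h

theorem controls [Fact p.Prime] (hp : p ≠ 2) (hP : GoodClass p Pr) {G : Type u} [Group G] [Finite G]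
    (P : Sylow p G) {D : Subgroup G} (hD : Cfsg.IsStronglyClosed D (P : Subgroup G))
    (hst : Cfsg.IsNormalizerPStable p G)
    (hc : ∀ U : Subgroup G, U ≤ (P : Subgroup G) → U ≠ ⊥ →
      Cfsg.IsPConstrained p ↥(Subgroup.normalizer (U : Set G)))
    (A : Set G) (hA : A ⊆ ((P : Subgroup G) : Set G)) :
    Cfsg.ControlsStrongFusionOf (Subgroup.normalizer (zMax (Pr G) D : Set G)) (P : Subgroup G) A := by
  refine ⟨hA, fun g hg => ?_⟩
  set N := Subgroup.normalizer (zMax (Pr G) D : Set G)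
  set A' := Subgroup.closure A
  have hA' : A' ≤ (P : Subgroup G) := (Subgroup.closure_le _).mpr hA
  have hgA : A'.map (MulAut.conj g).toMonoidHom ≤ (P : Subgroup G) :=
    Subgroup.map_le_iff_le_comap.mpr ((Subgroup.closure_le _).mpr fun a ha => hg ⟨a, ha, rfl⟩)
  suffices h : AgreesIn N A' g by
    obtain ⟨n, hn, h⟩ := h
    exact ⟨n, hn, fun a ha => (h a (Subgroup.subset_closure ha)).symm⟩
  by_cases hD1 : D = ⊥
  · refine ⟨g, ?_, fun a _ => rfl⟩
    show g ∈ Subgroup.normalizer (zMax (Pr G) D : Set G)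
    rw [show zMax (Pr G) D = ⊥ from le_bot_iff.mp (hD1 ▸ zMax_le (hP.repl G).bot D),
      Subgroup.normalizer_eq_top]
    exact Subgroup.mem_top g
  have hPD : (P : Subgroup G) ≤ Subgroup.normalizer (D : Set G) := fun x hx =>
    Subgroup.mem_normalizer_fintype fun d hd =>
      hD.2 d hd x ((P : Subgroup G).mul_mem ((P : Subgroup G).mul_mem hx (hD.1 hd))
        ((P : Subgroup G).inv_mem hx))
  -- a central element of `P` inside `D`
  have hDZ : D ⊓ Subgroup.centralizer ((P : Subgroup G) : Set G) ≠ ⊥ := by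
    haveI : (D.subgroupOf (P : Subgroup G)).Normal :=
      (Subgroup.normal_subgroupOf_iff_le_normalizer hD.1).mpr hPD
    have hne : D.subgroupOf (P : Subgroup G) ≠ ⊥ := fun e => hD1 ((Subgroup.eq_bot_iff_forall D).mpr fun d hd =>
      congrArg (fun z : ↥(P : Subgroup G) => (z : G)) (Subgroup.mem_bot.mp (e ▸ (show (⟨d, hD.1 hd⟩ : (P : Subgroup G)) ∈
        D.subgroupOf (P : Subgroup G) from hd))))
    haveI := P.isPGroup'.isNilpotent
    intro h
    refine S0065.result (D.subgroupOf (P : Subgroup G)) hne ?_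
    refine (Subgroup.eq_bot_iff_forall _).mpr fun x hx => Subtype.ext ?_
    refine Subgroup.mem_bot.mp (h ▸ (⟨hx.1, Subgroup.mem_centralizer_iff.mpr fun y hy =>
      congrArg (fun z : ↥(P : Subgroup G) => (z : G)) (Subgroup.mem_center_iff.mp hx.2 ⟨y, hy⟩)⟩ : (x : G) ∈
        D ⊓ Subgroup.centralizer ((P : Subgroup G) : Set G)))
  have claim : ∀ d : ℕ, ∀ W : Subgroup G, W ≠ ⊥ → Transfer.FullyNormalizedIn p (P : Subgroup G) W →
      Nat.card (P : Subgroup G) -
        Nat.card ((P : Subgroup G) ⊓ Subgroup.normalizer (W : Set G) : Subgroup G) = d →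
      ∀ k ∈ Subgroup.normalizer (W : Set G), ∀ B : Subgroup G,
        B ≤ (P : Subgroup G) ⊓ Subgroup.normalizer (W : Set G) →
        B.map (MulAut.conj k).toMonoidHom ≤ (P : Subgroup G) → AgreesIn N B k := by
    intro d
    induction d using Nat.strong_induction_on with
    | _ d ihd =>
    intro W hW hfn hd k hk B hB hBk
    set M := Subgroup.normalizer (W : Set G)
    set T := (P : Subgroup G) ⊓ M
    have hTp : IsPGroup p T := P.2.to_le inf_le_left
    have hTM : T ≤ M := inf_le_right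
    set V := zMax (Pr G) (D ⊓ T)
    -- the local step
    obtain ⟨m, ⟨hmM, hmV⟩, hma⟩ : AgreesIn (M ⊓ Subgroup.normalizer (V : Set G)) B k := by
      let S : Sylow p M := (hTp.comap_subtype (K := M)).toSylow hfn.2
      have hS : (S : Subgroup M) = T.subgroupOf M := rfl
      have hcl : FusionZJ.ClosedIn (S : Subgroup M) ((D ⊓ T).subgroupOf M) := by
        refine ⟨fun x hx => hx.2, fun x y hy hxy => ?_⟩
        exact ⟨hD.2 (y : G) hy.1 (x : G) hxy.1, hxy⟩
      have htop := closed_factorization hp hP (hc W hfn.1 hW) (S3836.result hst M) S hcl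
      have hSle : (S : Subgroup M) ≤ Subgroup.normalizer
          ((zMax (Pr M) ((D ⊓ T).subgroupOf M) : Subgroup M) : Set M) :=
        le_trans (fun x hx => Subgroup.mem_normalizer_fintype fun y hy =>
          hcl.closed x y hy (mul_mem (mul_mem hx (hcl.le hy)) (inv_mem hx)))
          (normalizer_le_normalizer_zMax (hP.repl M).map _)
      obtain ⟨n, hn, hna⟩ := Transfer.ZJ.agreesIn_of_pprime_factor S (Cfsg.pPrimeCore p M) _
        (Core.card_pPrimeCore_coprime p M) hSle htop (A := B.subgroupOf M)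
        (fun x hx => show (x : G) ∈ T from hB hx) (g := ⟨k, hk⟩) (by
          rintro _ ⟨x, hx, rfl⟩
          exact ⟨hBk ⟨(x : G), hx, rfl⟩, M.mul_mem (M.mul_mem hk x.2) (M.inv_mem hk)⟩)
      refine ⟨(n : G), ⟨n.2, ?_⟩, fun a ha => congrArg Subtype.val (hna ⟨a, (hB ha).2⟩ ha)⟩
      have h1 := Subgroup.le_normalizer_map M.subtype ⟨n, hn, rfl⟩
      rwa [zMax_map hP M.subtype M.subtype_injective.injOn, Subgroup.subgroupOf_map_subtype,
        inf_of_le_left ((inf_le_right : D ⊓ T ≤ T).trans hTM)] at h1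
    rcases (inf_le_left : T ≤ (P : Subgroup G)).lt_or_eq with hlt | heq
    swap
    · refine ⟨m, ?_, hma⟩
      have e : zMax (Pr G) D = V := by
        show _ = zMax (Pr G) (D ⊓ T)
        rw [show T = (P : Subgroup G) from heq, inf_of_le_left hD.1]
      show m ∈ Subgroup.normalizer (zMax (Pr G) D : Set G)
      rw [e]; exact hmV
    have hWP := hfn.1
    have hDT : D ⊓ T ≠ ⊥ := by
      intro h
      refine hDZ (le_bot_iff.mp (h ▸ fun x hx => ⟨hx.1, hD.1 hx.1, ?_⟩))
      exact (Subgroup.centralizer_le_normalizer _) (Subgroup.centralizer_le hWP hx.2)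
    have hVT : V ≤ T := (zMax_le (hP.repl G).bot _).trans inf_le_right
    have hV1 : V ≠ ⊥ := zMax_ne_bot hP (hTp.to_le inf_le_right) hDT
    obtain ⟨h, hfn₂, hh⟩ := Transfer.exists_fullyNormalized_conj P (hVT.trans inf_le_left)
    set T₁ := (P : Subgroup G) ⊓ Subgroup.normalizer (V : Set G)
    have hlt₁ : T < T₁ := (Transfer.lt_inf_normalizer P.2 hlt).trans_le (by
      refine le_inf inf_le_left ?_
      refine le_trans ?_ (normalizer_le_normalizer_zMax (hP.repl G).map (D ⊓ T))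
      exact (le_inf (inf_le_left.trans hPD) inf_le_right).trans
        Subgroup.inf_normalizer_le_normalizer_inf)
    have hcT₁ : Nat.card T < Nat.card T₁ := by
      by_contra hc'
      exact hlt₁.ne (Subgroup.eq_of_le_of_card_ge hlt₁.le (not_lt.mp hc'))
    have hP₁ : Nat.card T₁ ≤ Nat.card (P : Subgroup G) := Subgroup.card_le_of_le inf_le_left
    obtain ⟨n₀, hn, hna⟩ : AgreesIn N T₁ h := by
      refine agreesIn_of_large P N (b := Nat.card T) (fun C hC hbC c hc' => ?_) inf_le_left hcT₁ hh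
      have hCfn := Transfer.FullyNormalizedIn.of_tame hC
      have hC1 : C ≠ ⊥ := fun e => by
        rw [e, Subgroup.card_bot] at hbC
        have := Nat.card_pos (α := T)
        omega
      have hCle : C ≤ (P : Subgroup G) ⊓ Subgroup.normalizer (C : Set G) :=
        le_inf hCfn.1 Subgroup.le_normalizer
      refine ihd _ ?_ C hC1 hCfn rfl c hc' C hCle ?_
      · have h1 := Subgroup.card_le_of_le hCle
        have h2 : Nat.card ((P : Subgroup G) ⊓ Subgroup.normalizer (C : Set G) : Subgroup G) ≤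
            Nat.card (P : Subgroup G) := Subgroup.card_le_of_le inf_le_left
        omega
      · rintro _ ⟨a, ha, rfl⟩
        exact hCfn.1 ((Subgroup.mem_normalizer_iff.mp hc' a).mp ha)
    set W₂ := V.map (MulAut.conj h).toMonoidHom
    have hnV : ∀ w ∈ V, n₀ * w * n₀⁻¹ = h * w * h⁻¹ := fun w hw =>
      hna w ⟨(hVT.trans inf_le_left) hw, Subgroup.le_normalizer hw⟩
    have hW₂ : W₂ ≠ ⊥ := fun e =>
      hV1 ((Subgroup.map_eq_bot_iff_of_injective V (MulAut.conj h).injective).mp e)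
    have hW₂eq : V.map (MulAut.conj n₀).toMonoidHom = W₂ :=
      SetLike.coe_injective (Set.image_congr fun w hw => hnV w hw)
    have hnmem : ∀ {u : G}, u ∈ Subgroup.normalizer (V : Set G) →
        n₀ * u * n₀⁻¹ ∈ Subgroup.normalizer (W₂ : Set G) := by
      intro u hu
      rw [← hW₂eq, Transfer.normalizer_map_conj]
      exact ⟨u, hu, rfl⟩
    have hT₁ : ∀ a ∈ T₁, n₀ * a * n₀⁻¹ ∈ (P : Subgroup G) ⊓ Subgroup.normalizer (W₂ : Set G) :=
      fun a ha => ⟨by rw [hna a ha]; exact hh ⟨a, ha, rfl⟩, hnmem ha.2⟩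
    have hmB : ∀ a ∈ B, m * a * m⁻¹ ∈ T₁ := fun a ha => hlt₁.le (by
      rw [hma a ha]
      exact ⟨hBk ⟨a, ha, rfl⟩, M.mul_mem (M.mul_mem hk (hB ha).2) (M.inv_mem hk)⟩)
    have hle₂ : Nat.card T₁ ≤
        Nat.card ((P : Subgroup G) ⊓ Subgroup.normalizer (W₂ : Set G) : Subgroup G) := by
      rw [← Coprime.card_map_conj T₁ n₀]
      refine Subgroup.card_le_of_le ?_
      rintro _ ⟨a, ha, rfl⟩
      exact hT₁ a ha
    have hP₂ : Nat.card ((P : Subgroup G) ⊓ Subgroup.normalizer (W₂ : Set G) : Subgroup G) ≤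
        Nat.card (P : Subgroup G) := Subgroup.card_le_of_le inf_le_left
    obtain ⟨n₂, hn₂, hna₂⟩ : AgreesIn N (B.map (MulAut.conj n₀).toMonoidHom) (n₀ * m * n₀⁻¹) := by
      refine ihd _ ?_ W₂ hW₂ hfn₂ rfl _ (hnmem hmV) _ ?_ ?_
      · omega
      · rintro _ ⟨a, ha, rfl⟩
        exact hT₁ a (hlt₁.le (hB ha))
      · rintro _ ⟨_, ⟨a, ha, rfl⟩, rfl⟩
        show n₀ * m * n₀⁻¹ * (n₀ * a * n₀⁻¹) * (n₀ * m * n₀⁻¹)⁻¹ ∈ (P : Subgroup G)
        rw [show n₀ * m * n₀⁻¹ * (n₀ * a * n₀⁻¹) * (n₀ * m * n₀⁻¹)⁻¹ =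
          n₀ * (m * a * m⁻¹) * n₀⁻¹ by group]
        exact (hT₁ _ (hmB a ha)).1
    refine ⟨n₀⁻¹ * n₂ * n₀, N.mul_mem (N.mul_mem (N.inv_mem hn) hn₂) hn, fun a ha => ?_⟩
    have e1 := hna₂ _ ⟨a, ha, rfl⟩
    simp only [MulEquiv.coe_toMonoidHom, MulAut.conj_apply] at e1
    calc n₀⁻¹ * n₂ * n₀ * a * (n₀⁻¹ * n₂ * n₀)⁻¹ = n₀⁻¹ * (n₂ * (n₀ * a * n₀⁻¹) * n₂⁻¹) * n₀ := by group
      _ = n₀⁻¹ * (n₀ * m * n₀⁻¹ * (n₀ * a * n₀⁻¹) * (n₀ * m * n₀⁻¹)⁻¹) * n₀ := by rw [e1]
      _ = m * a * m⁻¹ := by group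
      _ = k * a * k⁻¹ := hma a ha
  by_cases hA1 : A' = ⊥
  · exact ⟨1, N.one_mem, fun a ha => by simp [Subgroup.mem_bot.mp (hA1 ▸ ha)]⟩
  refine agreesIn_of_large P N (b := 1) (fun B hB hbB m hm => ?_) hA' ?_ hgA
  · have hBfn := Transfer.FullyNormalizedIn.of_tame hB
    refine claim _ B (fun e => by rw [e, Subgroup.card_bot] at hbB; omega) hBfn rfl m hm B
      (le_inf hBfn.1 Subgroup.le_normalizer) ?_
    rintro _ ⟨a, ha, rfl⟩
    exact hBfn.1 ((Subgroup.mem_normalizer_iff.mp hm a).mp ha)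
  · exact (Subgroup.one_lt_card_iff_ne_bot A').mpr hA1

theorem good_ab [Fact p.Prime] : GoodClass.{u} p (fun H _ => IsAb (G := H)) where
  repl _ _ _ := replClass_ab
  map f A h := by haveI : IsMulCommutative A := h; exact Subgroup.map_isMulCommutative _ _
  comap f U A hf h := by
    haveI : IsMulCommutative A := h
    refine ⟨⟨fun a b => Subtype.ext (hf (mul_mem a.2.2 b.2.2) (mul_mem b.2.2 a.2.2) ?_)⟩⟩
    simp only [Subgroup.coe_mul, map_mul]
    exact congrArg Subtype.val (mul_comm' (⟨f a, a.2.1⟩ : A) ⟨f b, b.2.1⟩)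
  sup A z h _ hz := isMulCommutative_sup inferInstance h hz

theorem good_ea [Fact p.Prime] (hp : p ≠ 2) :
    GoodClass.{u} p (fun H _ A => Cfsg.IsElementaryAbelian p A) where
  repl _ _ _ := replClass_ea hp
  map f A h := isEA_map h f
  comap f U A hf h := by
    haveI := h.1
    refine ⟨⟨⟨fun a b => Subtype.ext (hf (mul_mem a.2.2 b.2.2) (mul_mem b.2.2 a.2.2) ?_)⟩⟩,
      fun x hx => hf (pow_mem hx.2 p) U.one_mem (by rw [map_pow, map_one]; exact h.2 _ hx.1)⟩
    simp only [Subgroup.coe_mul, map_mul]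
    exact congrArg Subtype.val (mul_comm' (⟨f a, a.2.1⟩ : A) ⟨f b, b.2.1⟩)
  sup A z h hz hc := by
    refine ⟨isMulCommutative_sup inferInstance h.1 hc, fun x hx => ?_⟩
    have hx' : x ∈ ((Subgroup.zpowers z ⊔ A : Subgroup _) : Set _) := hx
    rw [Subgroup.coe_mul_of_left_le_normalizer_right _ _
      (hc.trans (Subgroup.centralizer_le_normalizer _))] at hx'
    obtain ⟨y, hy, a, ha, rfl⟩ := hx'
    show (y * a) ^ p = 1
    rw [(show Commute y a from (Subgroup.mem_centralizer_iff.mp (hc hy) a ha).symm).mul_pow, h.2 a ha,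
      mul_one]
    obtain ⟨i, rfl⟩ := Subgroup.mem_zpowers_iff.mp hy
    rw [← zpow_natCast, ← zpow_mul, mul_comm, zpow_mul, zpow_natCast, hz, one_zpow]

theorem closed_zj_control [Fact p.Prime] (hp : p ≠ 2) {G : Type u} [Group G] [Finite G] (P : Sylow p G)
    (D : Subgroup G) (hD : Cfsg.IsStronglyClosed D (P : Subgroup G)) (hst : Cfsg.IsNormalizerPStable p G)
    (hc : ∀ U : Subgroup G, U ≤ (P : Subgroup G) → U ≠ ⊥ →
      Cfsg.IsPConstrained p ↥(Subgroup.normalizer (U : Set G))) :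
    (∀ A : Set G, A ⊆ (P : Subgroup G) → Cfsg.ControlsStrongFusionOf
      (Subgroup.normalizer ((Cfsg.centerThompsonAOf D) : Set G)) (P : Subgroup G) A) ∧
    (∀ A : Set G, A ⊆ (P : Subgroup G) → Cfsg.ControlsStrongFusionOf
      (Subgroup.normalizer ((Cfsg.omegaOne p (Cfsg.centerThompsonOf p D)) : Set G))
      (P : Subgroup G) A) := by
  refine ⟨fun A hA => ?_, fun A hA => ?_⟩
  · rw [← zMax_ab_eq]
    exact controls hp good_ab P hD hst hc A hA
  · rw [omegaOne_centerThompsonOf, ← zMax_ea_eq (P.isPGroup'.to_le hD.1)]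
    exact controls hp (good_ea hp) P hD hst hc A hA

end Cfsg.Agent.LocalEven.CZJ
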