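import Cfsg.Agent.FGS3.Extraspecial
import Cfsg.Agent.Core.PiNumber

set_option autoImplicit false

open scoped commutatorElement

namespace Cfsg.Agent.LocalEven

variable {P : Type*} [Group P] {p : ℕ}

/-- In an extraspecial group `|C(B)| |B| = p |P|` for every `B` containing the centre. -/
theorem card_centralizer_mul_card [Finite P] [hp : Fact p.Prime] (h : Cfsg.IsExtraspecial p P)
    {B : Subgroup P} (hZ : Subgroup.center P ≤ B) :
    Nat.card (Subgroup.centralizer (B : Set P)) * Nat.card B = Nat.card P * p := by
  classical
  haveI : Fintype P := Fintype.ofFinite P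
  set C := Subgroup.centralizer (B : Set P) with hC
  set f : P → P → ℕ := fun e b => if e * b = b * e then 1 else 0 with hf
  -- rows
  have hrow : ∀ e : P, p * ∑ b : B, f e b = if e ∈ C then p * Nat.card B else Nat.card B := by
    intro e
    have h1 : ∑ b : B, f e b = Nat.card ((Subgroup.centralizer {e}).subgroupOf B) := by
      rw [Nat.card_eq_fintype_card, Fintype.card_subtype, Finset.sum_boole]
      simp [Subgroup.mem_subgroupOf, Subgroup.mem_centralizer_singleton_iff, eq_comm]
    rw [h1]
    by_cases he : e ∈ C
    · rw [if_pos he]
      have h2 : (Subgroup.centralizer {e}).subgroupOf B = ⊤ := by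
        rw [Subgroup.subgroupOf_eq_top]
        intro b hb
        rw [Subgroup.mem_centralizer_singleton_iff]
        exact Subgroup.mem_centralizer_iff.mp he b hb
      rw [h2, Subgroup.card_top]
    · rw [if_neg he]
      have hez : e ∉ Subgroup.center P := fun hz => he (Subgroup.center_le_centralizer _ hz)
      have hidx := FGS3.IsExtraspecial_index_centralizer h hez
      haveI hn : (Subgroup.centralizer {e}).Normal := by
        have hle : commutator P ≤ Subgroup.centralizer {e} := by
          rw [FGS3.IsExtraspecial_commutator h]
          exact Subgroup.center_le_centralizer _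
        exact Subgroup.Normal.of_commutator_le P hle
      have hd := Subgroup.relIndex_dvd_index_of_normal (H := Subgroup.centralizer {e}) (K := B)
      rw [hidx] at hd
      rcases hp.out.eq_one_or_self_of_dvd _ hd with h2 | h2
      · refine absurd ?_ he
        rw [Subgroup.relIndex_eq_one] at h2
        rw [Subgroup.mem_centralizer_iff]
        intro b hb
        exact Subgroup.mem_centralizer_singleton_iff.mp (h2 hb)
      · have := Subgroup.card_mul_index ((Subgroup.centralizer {e}).subgroupOf B)
        rw [← Subgroup.relIndex, h2] at this
        rw [mul_comm]; exact this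
  -- columns
  have hcol : ∀ b : B, p * ∑ e : P, f e b = if (b : P) ∈ Subgroup.center P then p * Nat.card P else Nat.card P := by
    intro b
    have h1 : ∑ e : P, f e b = Nat.card (Subgroup.centralizer {(b : P)}) := by
      rw [Nat.card_eq_fintype_card, Fintype.card_subtype, Finset.sum_boole]
      simp [Subgroup.mem_centralizer_singleton_iff]
    rw [h1]
    by_cases hb : (b : P) ∈ Subgroup.center P
    · rw [if_pos hb]
      have h2 : Subgroup.centralizer {(b : P)} = ⊤ :=
        eq_top_iff.mpr fun g _ => Subgroup.mem_centralizer_singleton_iff.mpr (Subgroup.mem_center_iff.mp hb g)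
      rw [h2, Subgroup.card_top]
    · rw [if_neg hb]
      have := Subgroup.card_mul_index (Subgroup.centralizer {(b : P)})
      rw [FGS3.IsExtraspecial_index_centralizer h hb] at this
      rw [mul_comm]; exact this
  have htot : (∑ e : P, if e ∈ C then p * Nat.card B else Nat.card B) =
      ∑ b : B, if (b : P) ∈ Subgroup.center P then p * Nat.card P else Nat.card P := by
    rw [← Finset.sum_congr rfl fun e _ => hrow e, ← Finset.sum_congr rfl fun b _ => hcol b,
      ← Finset.mul_sum, ← Finset.mul_sum, Finset.sum_comm]
  have e1 : (Finset.univ.filter fun e : P => e ∈ C).card = Nat.card C := by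
    rw [Nat.card_eq_fintype_card, Fintype.card_subtype]
  have e2 : (Finset.univ.filter fun b : B => (b : P) ∈ Subgroup.center P).card = p := by
    rw [← h.2, ← Fintype.card_subtype, ← Nat.card_eq_fintype_card]
    exact Nat.card_congr
      { toFun := fun b => ⟨b.1.1, b.2⟩
        invFun := fun z => ⟨⟨z.1, hZ z.2⟩, z.2⟩
        left_inv := fun b => rfl
        right_inv := fun z => rfl }
  have t1 : (Finset.univ.filter fun e : P => e ∈ C).card + (Finset.univ.filter fun e : P => ¬ e ∈ C).card = Nat.card P := by
    rw [Finset.card_filter_add_card_filter_not, Finset.card_univ, Nat.card_eq_fintype_card]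
  have t2 : (Finset.univ.filter fun b : B => (b : P) ∈ Subgroup.center P).card +
      (Finset.univ.filter fun b : B => ¬ (b : P) ∈ Subgroup.center P).card = Nat.card B := by
    rw [Finset.card_filter_add_card_filter_not, Finset.card_univ, Nat.card_eq_fintype_card]
  rw [Finset.sum_ite, Finset.sum_ite] at htot
  simp only [Finset.sum_const, smul_eq_mul] at htot
  rw [e1] at t1 htot
  rw [e2] at t2 htot
  have hp1 := hp.out.two_le
  generalize (Finset.univ.filter fun e : P => ¬ e ∈ C).card = u at t1 htot
  generalize (Finset.univ.filter fun b : B => ¬ (b : P) ∈ Subgroup.center P).card = v at t2 htot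
  generalize Nat.card C = c at *
  generalize Nat.card B = n at *
  generalize Nat.card P = N at *
  obtain ⟨q, rfl⟩ : ∃ q, p = q + 1 := ⟨p - 1, by omega⟩
  have : q * (c * n) = q * (N * (q + 1)) := by
    subst t1; subst t2
    ring_nf at htot ⊢
    linarith
  exact Nat.eq_of_mul_eq_mul_left (by omega) this

end Cfsg.Agent.LocalEven
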