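import Cfsg.Prelude.Def_Transfer
import Cfsg.Prelude.Def_TwoFusion
import Cfsg.Agent.FGS3.Extraspecial
import Cfsg.Agent.OddLocal.FixOrderP
import Cfsg.Agent.LocalEven.MaxP
import Cfsg.Agent.LocalEven.Dagger

/-! The centre of an extraspecial Sylow subgroup of order `p ^ 3` and exponent `p ^ 2` is strongly
closed, `p` odd. -/

set_option autoImplicit false
set_option linter.style.haveILetI false

open scoped commutatorElement

namespace Cfsg.Agent.LocalEven

variable {G : Type*} [Group G] [Finite G] {p : ℕ} [hp : Fact p.Prime]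

theorem mul_pow_of_extraspecial {P : Type*} [Group P] [Finite P] (h : Cfsg.IsExtraspecial p P)
    (hp2 : p ≠ 2) (x y : P) : (x * y) ^ p = x ^ p * y ^ p := by
  set c := ⁅y, x⁆ with hc
  have hcz : c ∈ Subgroup.center P := by
    rw [← FGS3.IsExtraspecial_commutator h]
    exact Subgroup.commutator_mem_commutator (Subgroup.mem_top y) (Subgroup.mem_top x)
  have e : y * x = c * x * y := by rw [hc, commutatorElement_def]; group
  rw [OddLocal.pow_mul_class_two e ((Subgroup.mem_center_iff.mp hcz x).symm)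
    ((Subgroup.mem_center_iff.mp hcz y).symm)]
  obtain ⟨k, hk⟩ : p ∣ p.choose 2 :=
    hp.out.dvd_choose_self two_ne_zero (lt_of_le_of_ne hp.out.two_le (Ne.symm hp2))
  rw [hk, pow_mul, FGS3.IsExtraspecial_commutatorElement_pow h, one_pow, mul_one]

/-- A generator of a group of prime order generates each of its elements. -/
theorem exists_pow_eq {a b : G} (ha : orderOf a = p) (hb : b ∈ Subgroup.zpowers a) (hb1 : b ≠ 1)
    {c : G} (hc : c ∈ Subgroup.zpowers a) : ∃ m : ℕ, b ^ m = c := by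
  have h1 : Subgroup.zpowers b = Subgroup.zpowers a := by
    refine Subgroup.eq_of_le_of_card_ge (Subgroup.zpowers_le.mpr hb) ?_
    rw [Nat.card_zpowers, Nat.card_zpowers, ha]
    have hd : orderOf b ∣ p := ha ▸ (by
      rw [← Nat.card_zpowers a]; exact Subgroup.orderOf_dvd_natCard _ hb)
    rcases (Nat.dvd_prime hp.out).mp hd with h | h
    · exact absurd (orderOf_eq_one_iff.mp h) hb1
    · exact h.ge
  rw [← h1] at hc
  exact mem_powers_iff_mem_zpowers.mpr hc

theorem center_stronglyClosed (hp2 : p ≠ 2) (P : Sylow p G) (hE : Cfsg.IsExtraspecial p ↥P)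
    (hcard : Nat.card P = p ^ 3) (hexp : Monoid.exponent ↥P = p ^ 2) :
    Cfsg.IsStronglyClosed ((Subgroup.center ↥P).map (P : Subgroup G).subtype) (P : Subgroup G) := by
  refine ⟨Subgroup.map_subtype_le _, ?_⟩
  set Z0 := (Subgroup.center ↥P).map (P : Subgroup G).subtype
  intro x hx g hgx
  by_contra hy0
  set y := g * x * g⁻¹ with hy
  -- the elements of order dividing `p`
  let f : ↥P →* ↥P :=
    { toFun := fun a => a ^ p
      map_one' := one_pow p
      map_mul' := mul_pow_of_extraspecial hE hp2 }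
  have hrange : Nat.card f.range = p := by
    have h1 : f.range ≤ Subgroup.center ↥P := by
      rintro _ ⟨a, rfl⟩; exact FGS3.IsExtraspecial_pow_mem hE a
    have h2 : Nat.card f.range ∣ p := by
      have := Subgroup.card_dvd_of_le h1
      rwa [hE.2] at this
    rcases (Nat.dvd_prime hp.out).mp h2 with h | h
    · exfalso
      have h3 : Monoid.exponent ↥P ∣ p := Monoid.exponent_dvd_of_forall_pow_eq_one fun a => by
        have : f a ∈ f.range := ⟨a, rfl⟩
        rw [Subgroup.card_eq_one.mp h] at this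
        exact this
      rw [hexp] at h3
      have := Nat.le_of_dvd hp.out.pos h3
      nlinarith [hp.out.two_le]
    · exact h
  set E := f.ker.map (P : Subgroup G).subtype with hEdef
  have hEle : E ≤ (P : Subgroup G) := Subgroup.map_subtype_le _
  have hEcard : Nat.card E = p ^ 2 := by
    rw [hEdef, Subgroup.card_map_of_injective (P : Subgroup G).subtype_injective]
    have := f.ker.card_mul_index
    rw [Subgroup.index_ker, hrange] at this
    replace this := this.trans hcard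
    rw [pow_succ p 2] at this
    exact Nat.eq_of_mul_eq_mul_right hp.out.pos this
  have hEmem : ∀ a : G, a ∈ E ↔ a ∈ (P : Subgroup G) ∧ a ^ p = 1 := by
    intro a
    constructor
    · rintro ⟨b, hb, rfl⟩; exact ⟨b.2, congrArg Subtype.val (MonoidHom.mem_ker.mp hb)⟩
    · rintro ⟨h1, h2⟩; exact ⟨⟨a, h1⟩, MonoidHom.mem_ker.mpr (Subtype.ext h2), rfl⟩
  have hEab : ∀ a ∈ E, ∀ b ∈ E, a * b = b * a := by
    haveI : IsMulCommutative E := IsPGroup.isMulCommutative_of_card_eq_prime_sq hEcard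
    exact fun a ha b hb => congrArg Subtype.val (mul_comm' (⟨a, ha⟩ : E) ⟨b, hb⟩)
  have hPc : ∀ a ∈ (P : Subgroup G), ∀ c ∈ Z0, a * c = c * a := by
    rintro a ha _ ⟨c, hc, rfl⟩
    exact congrArg Subtype.val (Subgroup.mem_center_iff.mp hc ⟨a, ha⟩)
  have hcomm : ∀ a ∈ (P : Subgroup G), ∀ b ∈ (P : Subgroup G), a * b * a⁻¹ * b⁻¹ ∈ Z0 := by
    intro a ha b hb
    refine ⟨⁅(⟨a, ha⟩ : ↥P), ⟨b, hb⟩⁆, ?_, rfl⟩
    rw [← FGS3.IsExtraspecial_commutator hE]
    exact Subgroup.commutator_mem_commutator (Subgroup.mem_top _) (Subgroup.mem_top _)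
  have hZp : Nat.card Z0 = p := by
    rw [Subgroup.card_map_of_injective (P : Subgroup G).subtype_injective]; exact hE.2
  have hx1 : x ≠ 1 := fun e => hy0 (by rw [hy, e, mul_one, mul_inv_cancel]; exact one_mem _)
  have hxo : orderOf x = p := by
    rcases (Nat.dvd_prime hp.out).mp (hZp ▸ Subgroup.orderOf_dvd_natCard _ hx) with h | h
    · exact absurd (orderOf_eq_one_iff.mp h) hx1
    · exact h
  have hyo : orderOf y = p := by rw [hy, ← MulAut.conj_apply, MulEquiv.orderOf_eq, hxo]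
  have hyE : y ∈ E := (hEmem y).mpr ⟨hgx, hyo ▸ pow_orderOf_eq_one y⟩
  have hZx : Subgroup.zpowers x = Z0 := Subgroup.eq_of_le_of_card_ge
    (Subgroup.zpowers_le.mpr hx) (by rw [Nat.card_zpowers, hxo, hZp])
  have hZ0E : Z0 ≤ E := fun a ha => (hEmem a).mpr ⟨Subgroup.map_subtype_le _ ha, by
    rw [← hZp]; exact congrArg Subtype.val (pow_card_eq_one' (x := (⟨a, ha⟩ : Z0)))⟩
  -- a conjugate of `g` normalizing `E`
  set C := Subgroup.centralizer ({y} : Set G)
  have hgP : cj g (P : Subgroup G) ≤ C := by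
    rintro _ ⟨a, ha, rfl⟩
    rw [Subgroup.mem_centralizer_singleton_iff]
    show g * a * g⁻¹ * y = y * (g * a * g⁻¹)
    calc g * a * g⁻¹ * y = g * (a * x) * g⁻¹ := by rw [hy]; group
      _ = g * (x * a) * g⁻¹ := by rw [hPc a ha x hx]
      _ = y * (g * a * g⁻¹) := by rw [hy]; group
  have hEC : E ≤ C := fun a ha =>
    Subgroup.mem_centralizer_singleton_iff.mpr (hEab a ha y hyE)
  have hmaxC : IsMaxP p (cj g (P : Subgroup G)) C :=
    isMaxP_of_sylow (g • P) hgP
  obtain ⟨c, hc, hcE⟩ := hmaxC.conj_le (P.isPGroup'.to_le hEle) hEC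
  have hcE' : cj c E = cj g E := by
    refine Subgroup.eq_of_le_of_card_ge (fun a ha => ?_) (by rw [card_cj, card_cj])
    rw [mem_cj]
    refine (hEmem _).mpr ⟨mem_cj.mp (hcE ha), ?_⟩
    obtain ⟨b, hb, rfl⟩ := ha
    show (g⁻¹ * (c * b * c⁻¹) * g) ^ p = 1
    rw [show g⁻¹ * (c * b * c⁻¹) * g = (g⁻¹ * c) * b * (g⁻¹ * c)⁻¹ by group, conj_pow,
      ((hEmem b).mp hb).2, mul_one, mul_inv_cancel]
  set N := Subgroup.normalizer (E : Set G)
  set g' := c⁻¹ * g with hg'
  have hg'N : g' ∈ N := by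
    rw [← cj_eq_self_iff, hg', ← cj_cj, ← hcE', cj_cj, inv_mul_cancel, cj_one]
  have hg'x : g' * x * g'⁻¹ = y := by
    calc g' * x * g'⁻¹ = c⁻¹ * y * c := by rw [hg', hy]; group
      _ = c⁻¹ * (c * y) := by
        rw [mul_assoc, (Subgroup.mem_centralizer_singleton_iff.mp hc).symm]
      _ = y := inv_mul_cancel_left c y
  have hPN : (P : Subgroup G) ≤ N := by
    intro a ha
    rw [← cj_eq_self_iff]
    refine Subgroup.eq_of_le_of_card_ge ?_ (card_cj a E).ge
    rintro _ ⟨b, hb, rfl⟩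
    obtain ⟨hbP, hbp⟩ := (hEmem b).mp hb
    refine (hEmem _).mpr ⟨mul_mem (mul_mem ha hbP) (inv_mem ha), ?_⟩
    show (a * b * a⁻¹) ^ p = 1
    rw [conj_pow, hbp, mul_one, mul_inv_cancel]
  -- the first transvection
  obtain ⟨u, hu, huy⟩ : ∃ u ∈ (P : Subgroup G), u * y * u⁻¹ * y⁻¹ ≠ 1 := by
    by_contra hcon
    push Not at hcon
    refine hy0 ⟨⟨y, hgx⟩, Subgroup.mem_center_iff.mpr fun a => Subtype.ext ?_, rfl⟩
    exact mul_inv_eq_iff_eq_mul.mp (mul_inv_eq_one.mp (hcon a a.2))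
  set z := u * y * u⁻¹ * y⁻¹ with hz
  have hzZ : z ∈ Z0 := hcomm u hu y hgx
  have hzE : z ∈ E := hZ0E hzZ
  have hu1 : u * y * u⁻¹ = z * y := by rw [hz]; group
  have hu2 : u * z * u⁻¹ = z := by rw [hPc u hu z hzZ, mul_inv_cancel_right]
  have hzy : z ∉ Subgroup.zpowers y := by
    intro hzy
    obtain ⟨m, hm⟩ := exists_pow_eq hyo hzy huy (Subgroup.mem_zpowers y)
    exact hy0 (hm ▸ pow_mem hzZ m)
  -- the second transvection
  set b := g'⁻¹ * z * g' with hb
  have hbE : b ∈ E := (Subgroup.mem_normalizer_iff''.mp hg'N z).mp hzE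
  have hbZ : b ∉ Z0 := by
    intro hbZ
    rw [← hZx, Subgroup.mem_zpowers_iff] at hbZ
    obtain ⟨i, hi⟩ := hbZ
    refine hzy (Subgroup.mem_zpowers_iff.mpr ⟨i, ?_⟩)
    rw [← hg'x, conj_zpow, hi, hb]
    group
  obtain ⟨u', hu', hub⟩ : ∃ u' ∈ (P : Subgroup G), u' * b * u'⁻¹ * b⁻¹ ≠ 1 := by
    by_contra hcon
    push Not at hcon
    refine hbZ ⟨⟨b, hEle hbE⟩, Subgroup.mem_center_iff.mpr fun a => Subtype.ext ?_, rfl⟩
    exact mul_inv_eq_iff_eq_mul.mp (mul_inv_eq_one.mp (hcon a a.2))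
  set v0 := g' * u' * g'⁻¹
  set d := v0 * z * v0⁻¹ * z⁻¹ with hd
  have hd' : d = g' * (u' * b * u'⁻¹ * b⁻¹) * g'⁻¹ := by simp only [hd, hb, v0]; group
  have hdy : d ∈ Subgroup.zpowers y := by
    have h1 := hcomm u' hu' b (hEle hbE)
    rw [← hZx, Subgroup.mem_zpowers_iff] at h1
    obtain ⟨i, hi⟩ := h1
    refine Subgroup.mem_zpowers_iff.mpr ⟨i, ?_⟩
    rw [← hg'x, conj_zpow, hi, hd']
  have hd1 : d ≠ 1 := fun e => hub (by rwa [hd', conj_eq_one_iff] at e)
  obtain ⟨m, hm⟩ := exists_pow_eq hyo hdy hd1 (inv_mem (Subgroup.mem_zpowers y))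
  have hv0y : v0 * y * v0⁻¹ = y := by
    calc v0 * y * v0⁻¹ = g' * (u' * x * u'⁻¹) * g'⁻¹ := by rw [← hg'x]; simp only [v0]; group
      _ = y := by rw [hPc u' hu' x hx, mul_inv_cancel_right, hg'x]
  have hv0N : v0 ∈ N := mul_mem (mul_mem hg'N (hPN hu')) (inv_mem hg'N)
  set v := v0 ^ m
  have hvN : v ∈ N := pow_mem hv0N m
  have hpow : ∀ j : ℕ, v0 ^ j * z * (v0 ^ j)⁻¹ = d ^ j * z ∧ v0 ^ j * y * (v0 ^ j)⁻¹ = y := by
    intro j
    induction j with
    | zero => simp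
    | succ j ih =>
      constructor
      · calc v0 ^ (j + 1) * z * (v0 ^ (j + 1))⁻¹ = v0 * (v0 ^ j * z * (v0 ^ j)⁻¹) * v0⁻¹ := by
              rw [pow_succ']; group
          _ = (v0 * d * v0⁻¹) ^ j * (v0 * z * v0⁻¹) := by rw [ih.1, conj_pow]; group
          _ = d ^ j * (d * z) := by
              congr 1
              · congr 1
                obtain ⟨i, hi⟩ := Subgroup.mem_zpowers_iff.mp hdy
                rw [← hi, ← conj_zpow, hv0y]
              · rw [hd]; group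
          _ = d ^ (j + 1) * z := by rw [pow_succ]; exact (mul_assoc _ _ _).symm
      · calc v0 ^ (j + 1) * y * (v0 ^ (j + 1))⁻¹ = v0 * (v0 ^ j * y * (v0 ^ j)⁻¹) * v0⁻¹ := by
              rw [pow_succ']; group
          _ = y := by rw [ih.2, hv0y]
  obtain ⟨hvz, hvy⟩ := hpow m
  rw [hm] at hvz
  -- the element `-1`
  set w := u * v * u
  have hwz : w * z * w⁻¹ = y⁻¹ := by
    calc w * z * w⁻¹ = u * (v * (u * z * u⁻¹) * v⁻¹) * u⁻¹ := by simp only [w]; group
      _ = u * (y⁻¹ * z) * u⁻¹ := by rw [hu2, hvz]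
      _ = (u * y * u⁻¹)⁻¹ * (u * z * u⁻¹) := by group
      _ = y⁻¹ := by rw [hu1, hu2]; group
  have hwy : w * y * w⁻¹ = z := by
    calc w * y * w⁻¹ = u * (v * (u * y * u⁻¹) * v⁻¹) * u⁻¹ := by simp only [w]; group
      _ = u * ((v * z * v⁻¹) * (v * y * v⁻¹)) * u⁻¹ := by rw [hu1]; group
      _ = u * (y⁻¹ * (z * y)) * u⁻¹ := by rw [hvz, hvy]; group
      _ = z := by rw [hEab z hzE y hyE, inv_mul_cancel_left, hu2]
  set t := w * w
  have htN : t ∈ N := by
    have := mul_mem (mul_mem (hPN hu) hvN) (hPN hu)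
    exact mul_mem this this
  have htz : t * z * t⁻¹ = z⁻¹ := by
    calc t * z * t⁻¹ = w * (w * z * w⁻¹) * w⁻¹ := by simp only [t]; group
      _ = (w * y * w⁻¹)⁻¹ := by rw [hwz]; group
      _ = z⁻¹ := by rw [hwy]
  have hty : t * y * t⁻¹ = y⁻¹ := by
    calc t * y * t⁻¹ = w * (w * y * w⁻¹) * w⁻¹ := by simp only [t]; group
      _ = y⁻¹ := by rw [hwy, hwz]
  have htE : ∀ e ∈ E, t * e * t⁻¹ = e⁻¹ := by
    let I : Subgroup G :=
      { carrier := {e | e ∈ E ∧ t * e * t⁻¹ = e⁻¹}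
        one_mem' := ⟨one_mem _, by simp⟩
        mul_mem' := fun {a b} ha hb => ⟨mul_mem ha.1 hb.1, by
          calc t * (a * b) * t⁻¹ = (t * a * t⁻¹) * (t * b * t⁻¹) := by group
            _ = a⁻¹ * b⁻¹ := by rw [ha.2, hb.2]
            _ = (a * b)⁻¹ := by rw [mul_inv_rev, hEab _ (inv_mem ha.1) _ (inv_mem hb.1)]⟩
        inv_mem' := fun {a} ha => ⟨inv_mem ha.1, by
          rw [show t * a⁻¹ * t⁻¹ = (t * a * t⁻¹)⁻¹ by group, ha.2]⟩ }
    have hIE : I ≤ E := fun e he => he.1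
    have hyI : y ∈ I := ⟨hyE, hty⟩
    have hzI : z ∈ I := ⟨hzE, htz⟩
    intro e he
    have hI : I = E := by
      refine Subgroup.eq_of_le_of_card_ge hIE (le_of_eq ?_)
      obtain ⟨k, hk, hkI⟩ := (Nat.dvd_prime_pow hp.out).mp (hEcard ▸ Subgroup.card_dvd_of_le hIE)
      rw [hEcard, hkI]
      have hlt : Subgroup.zpowers y < I := lt_of_le_not_ge (Subgroup.zpowers_le.mpr hyI)
        fun h => hzy (h hzI)
      have hk2 : p ^ 1 < p ^ k := by
        rw [pow_one, ← hkI, ← hyo, ← Nat.card_zpowers]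
        exact Set.ncard_lt_ncard hlt (Set.toFinite _) |>.trans_eq (Nat.card_coe_set_eq _).symm
          |> (Nat.card_coe_set_eq _).trans_lt
      have := (Nat.pow_lt_pow_iff_right hp.out.one_lt).mp hk2
      congr 1; omega
    exact (hI ▸ he : e ∈ I).2
  -- make it normalize `P`
  set CE := Subgroup.centralizer (E : Set G)
  have hCEN : N ≤ Subgroup.normalizer (CE : Set G) := normalizer_le_normalizer_cent E
  set K := (P : Subgroup G) ⊔ CE
  have htP : cj t (P : Subgroup G) ≤ K := by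
    rintro _ ⟨q, hq, rfl⟩
    have h1 : q⁻¹ * (t * q * t⁻¹) ∈ CE := Subgroup.mem_centralizer_iff.mpr fun e he => by
      have he1 : t⁻¹ * e * t = e⁻¹ := by
        have := htE _ (inv_mem he)
        rw [inv_inv] at this
        calc t⁻¹ * e * t = t⁻¹ * (t * e⁻¹ * t⁻¹) * t := by rw [this]
          _ = e⁻¹ := by group
      have he2 : q * e * q⁻¹ ∈ E := (Subgroup.mem_normalizer_iff.mp (hPN hq) e).mp he
      have h3 : t * q * t⁻¹ * e * (t * q * t⁻¹)⁻¹ = q * e * q⁻¹ := by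
        calc t * q * t⁻¹ * e * (t * q * t⁻¹)⁻¹ = t * (q * (t⁻¹ * e * t) * q⁻¹) * t⁻¹ := by group
          _ = t * (q * e * q⁻¹)⁻¹ * t⁻¹ := by rw [he1]; group
          _ = q * e * q⁻¹ := by rw [htE _ (inv_mem he2), inv_inv]
      symm
      rw [← mul_inv_eq_iff_eq_mul]
      calc q⁻¹ * (t * q * t⁻¹) * e * (q⁻¹ * (t * q * t⁻¹))⁻¹
          = q⁻¹ * (t * q * t⁻¹ * e * (t * q * t⁻¹)⁻¹) * q := by group
        _ = e := by rw [h3]; group
    have := mul_mem (Subgroup.mem_sup_left (T := CE) hq) (Subgroup.mem_sup_right (S := (P : Subgroup G)) h1)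
    rwa [mul_inv_cancel_left] at this
  obtain ⟨k, hk, hkP⟩ := (isMaxP_of_sylow P (le_sup_left : (P : Subgroup G) ≤ K)).conj_le
    (isPGroup_cj P.isPGroup') htP
  have hkP' : cj (k * t) (P : Subgroup G) = P := by
    rw [← cj_cj]
    exact Subgroup.eq_of_le_of_card_ge hkP (by rw [card_cj, card_cj])
  have hk' : k ∈ ((K : Subgroup G) : Set G) := hk
  rw [Subgroup.coe_mul_of_left_le_normalizer_right (P : Subgroup G) CE (hPN.trans hCEN)] at hk'
  obtain ⟨q, hq, c', hc', rfl⟩ := hk'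
  set t' := c' * t
  have ht'P : t' ∈ Subgroup.normalizer ((P : Subgroup G) : Set G) := by
    have h1 : q * c' * t ∈ Subgroup.normalizer ((P : Subgroup G) : Set G) :=
      cj_eq_self_iff.mp hkP'
    have := mul_mem (inv_mem (Subgroup.le_normalizer hq)) h1
    simpa [t', mul_assoc] using this
  have ht'E : ∀ e ∈ E, t' * e * t'⁻¹ = e⁻¹ := by
    intro e he
    calc t' * e * t'⁻¹ = c' * (t * e * t⁻¹) * c'⁻¹ := by simp only [t']; group
      _ = e⁻¹ := by
          rw [htE e he, ← Subgroup.mem_centralizer_iff.mp hc' _ (inv_mem he), mul_inv_cancel_right]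
  -- the contradiction
  obtain ⟨a, haP, hap⟩ : ∃ a ∈ (P : Subgroup G), a ^ p ≠ 1 := by
    by_contra hcon
    push Not at hcon
    have h3 : Monoid.exponent ↥P ∣ p :=
      Monoid.exponent_dvd_of_forall_pow_eq_one fun a => Subtype.ext (hcon a a.2)
    rw [hexp] at h3
    have := Nat.le_of_dvd hp.out.pos h3
    nlinarith [hp.out.two_le]
  have hker : ∀ q ∈ (P : Subgroup G), q * y * q⁻¹ = y → q ∈ E := by
    intro q hq hqy
    set Cy := (P : Subgroup G) ⊓ C with hCy
    have hECy : E ≤ Cy := le_inf hEle hEC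
    have hCyE : E = Cy := by
      refine Subgroup.eq_of_le_of_card_ge hECy ?_
      obtain ⟨k, hk, hkC⟩ := (Nat.dvd_prime_pow hp.out).mp
        (hcard ▸ Subgroup.card_dvd_of_le (inf_le_left : Cy ≤ (P : Subgroup G)))
      rw [hEcard, hkC]
      refine Nat.pow_le_pow_right hp.out.pos ?_
      by_contra hk3
      have : k = 3 := by omega
      subst this
      have e : Cy = (P : Subgroup G) :=
        Subgroup.eq_of_le_of_card_ge inf_le_left (by rw [hkC, hcard])
      refine huy ?_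
      have h1 : u ∈ Cy := e ▸ hu
      show u * y * u⁻¹ * y⁻¹ = 1
      rw [Subgroup.mem_centralizer_singleton_iff.mp h1.2, mul_inv_cancel_right, mul_inv_cancel]
    rw [hCyE]
    exact ⟨hq, Subgroup.mem_centralizer_singleton_iff.mpr (mul_inv_eq_iff_eq_mul.mp hqy)⟩
  set a' := t' * a * t'⁻¹ with ha'
  have ha'P : a' ∈ (P : Subgroup G) := (Subgroup.mem_normalizer_iff.mp ht'P a).mp haP
  set s := a * y * a⁻¹ * y⁻¹ with hs
  have hsZ : s ∈ Z0 := hcomm a haP y hgx
  have hsE := hZ0E hsZ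
  have hyinv : t'⁻¹ * y * t' = y⁻¹ := by
    have := ht'E _ (inv_mem hyE)
    rw [inv_inv] at this
    calc t'⁻¹ * y * t' = t'⁻¹ * (t' * y⁻¹ * t'⁻¹) * t' := by rw [this]
      _ = y⁻¹ := by group
  have h1 : a' * y * a'⁻¹ = a * y * a⁻¹ := by
    have hye : a * y * a⁻¹ = s * y := by rw [hs]; group
    calc a' * y * a'⁻¹ = t' * (a * (t'⁻¹ * y * t') * a⁻¹) * t'⁻¹ := by rw [ha']; group
      _ = t' * (a * y * a⁻¹)⁻¹ * t'⁻¹ := by rw [hyinv]; group
      _ = t' * (s * y)⁻¹ * t'⁻¹ := by rw [hye]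
      _ = s * y := by rw [ht'E _ (inv_mem (mul_mem hsE hyE)), inv_inv]
      _ = _ := hye.symm
  have h2 : a⁻¹ * a' ∈ E := by
    refine hker _ (mul_mem (inv_mem haP) ha'P) ?_
    calc a⁻¹ * a' * y * (a⁻¹ * a')⁻¹ = a⁻¹ * (a' * y * a'⁻¹) * a := by group
      _ = y := by rw [h1]; group
  have h3 : a' ^ p = a ^ p := by
    have := congrArg Subtype.val (mul_pow_of_extraspecial hE hp2 (⟨a, haP⟩ : ↥P)
      ⟨a⁻¹ * a', mul_mem (inv_mem haP) ha'P⟩)
    change (a * (a⁻¹ * a')) ^ p = a ^ p * (a⁻¹ * a') ^ p at this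
    rw [mul_inv_cancel_left, ((hEmem _).mp h2).2, mul_one] at this
    exact this
  have hapE : a ^ p ∈ E := hZ0E ⟨_, FGS3.IsExtraspecial_pow_mem hE (⟨a, haP⟩ : ↥P), rfl⟩
  rw [ha', conj_pow, ht'E _ hapE] at h3
  have h4 : orderOf (a ^ p) ∣ 2 := orderOf_dvd_of_pow_eq_one (by
    rw [sq]; nth_rewrite 1 [← h3]; exact inv_mul_cancel _)
  have h5 : orderOf (a ^ p) ∣ p := orderOf_dvd_of_pow_eq_one ((hEmem _).mp hapE).2
  refine hap (orderOf_eq_one_iff.mp (Nat.eq_one_of_dvd_coprimes ?_ h4 h5))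
  exact (Nat.coprime_primes Nat.prime_two hp.out).mpr (Ne.symm hp2)

end Cfsg.Agent.LocalEven
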