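import Cfsg.Agent.Components.Embedding
import Cfsg.Agent.Coprime.PxQ
import Cfsg.Agent.LocalEven.Average

/-!
# The generalized Fitting subgroup of a group with `O_p = 1` under the action of a `p`-group
-/

set_option autoImplicit false
set_option linter.style.haveILetI false

open scoped commutatorElement

namespace Cfsg.Agent.LocalEven

variable {G : Type*} [Group G] {p : ℕ} [hp : Fact p.Prime] [Finite G]

theorem fitting_coprime (hO : Cfsg.pCore p G = ⊥) :
    (Nat.card ↥(Cfsg.fittingSubgroup G)).Coprime p := by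
  set F := Cfsg.fittingSubgroup G
  haveI : Group.IsNilpotent F := Core.isNilpotent_fittingSubgroup G
  obtain ⟨P⟩ : Nonempty (Sylow p F) := inferInstance
  haveI : (P : Subgroup F).Normal :=
    Sylow.normal_of_normalizerCondition Group.normalizerCondition_of_isNilpotent P
  have h1 : (P : Subgroup F) ≤ Cfsg.pCore p F := Core.le_pCore inferInstance P.isPGroup'
  rw [Core.pCore_eq_bot_of_normal F hO, le_bot_iff] at h1
  have h2 := P.not_dvd_index
  rw [h1, Subgroup.index_bot] at h2
  exact (Nat.Coprime.symm ((Fact.out : p.Prime).coprime_iff_not_dvd.mpr h2))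

theorem normalizer_le_normalizer_map {H : Subgroup G} (C : Subgroup ↥H) [hC : C.Characteristic] :
    Subgroup.normalizer (H : Set G) ≤ Subgroup.normalizer ((C.map H.subtype : Subgroup G) : Set G) := by
  intro g hg
  rw [← cj_eq_self_iff]
  refine Subgroup.eq_of_le_of_card_ge ?_ (card_cj _ _).ge
  have hg' : cj g H = H := cj_eq_self_iff.mpr hg
  let e : H ≃* H := (H.equivMapOfInjective (MulAut.conj g).toMonoidHom (MulAut.conj g).injective).trans
    (MulEquiv.subgroupCongr hg')
  have he : C.map e.toMonoidHom = C := Subgroup.characteristic_iff_map_eq.mp hC e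
  intro x hx
  obtain ⟨_, ⟨y, hy, rfl⟩, rfl⟩ := hx
  exact ⟨e y, he.le ⟨y, hy, rfl⟩, rfl⟩

/-- A `p`-group acting on a subnormal subgroup of `F*(H)`, `O_p(H) = 1`. -/
theorem sup_centralizer_eq {H Y L : Subgroup G} (hO : Cfsg.pCore p ↥H = ⊥) (hY : IsPGroup p Y)
    (hYH : Y ≤ Subgroup.normalizer (H : Set G))
    (hLF : L ≤ (Cfsg.generalizedFittingSubgroup ↥H).map H.subtype)
    (hLsn : (L.subgroupOf H).IsSubnormal) (hYL : Y ≤ Subgroup.normalizer (L : Set G)) :
    ⁅L, Y⁆ ⊔ (L ⊓ Subgroup.centralizer (Y : Set G)) = L := by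
  have hLH : L ≤ H := hLF.trans (Subgroup.map_subtype_le _)
  set N := ⁅L, Y⁆ with hN
  have hNL : N ≤ L := Coprime.commutator_le_of_le_normalizer hYL
  refine le_antisymm (sup_le hNL inf_le_left) ?_
  have hL' : L.subgroupOf H ≤ Cfsg.generalizedFittingSubgroup ↥H := fun x hx => by
    obtain ⟨y, hy, e⟩ := hLF hx
    rwa [← Subtype.ext (a1 := y) (a2 := x) e]
  have hNsn : (N.subgroupOf H).IsSubnormal :=
    Subgroup.IsSubnormal.step _ (L.subgroupOf H) (fun x hx => hNL hx) hLsn
      (Subgroup.normal_subgroupOf_of_le_normalizer fun x hx => by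
        have h1 := Subgroup.normalizer_commutator_ge_left L Y (show (x : G) ∈ L from hx)
        refine Subgroup.mem_normalizer_iff.mpr fun y => ?_
        exact Subgroup.mem_normalizer_iff.mp h1 y)
  have hdec := Components.subnormal_le_generalizedFitting hLsn hL'
  conv_lhs => rw [← Components.map_subgroupOf_of_le hLH, hdec, Subgroup.map_sup]
  refine sup_le ?_ ?_
  · rw [Subgroup.map_le_iff_le_comap]
    refine sSup_le fun K' hK => ?_
    rw [← Subgroup.map_le_iff_le_comap]
    obtain ⟨hKc, hKL⟩ := hK
    set K := K'.map H.subtype with hKdef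
    have hKL' : K ≤ L := by
      rintro _ ⟨x, hx, rfl⟩
      exact hKL hx
    rcases Components.component_le_or_commutator_subnormal hKc hNsn with h | h
    · refine le_trans ?_ le_sup_left
      rintro _ ⟨x, hx, rfl⟩
      exact h hx
    · refine le_trans (le_inf hKL' ?_) le_sup_right
      have hKN : ⁅N, K⁆ = ⊥ := by
        have := congrArg (Subgroup.map H.subtype) h
        rw [Subgroup.map_commutator, Components.map_subgroupOf_of_le (hNL.trans hLH), Subgroup.map_bot,
          Subgroup.commutator_comm] at this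
        exact this
      have hperf : ⁅K, K⁆ = K := by
        rw [hKdef, ← Subgroup.map_commutator, Components.component_commutator_self hKc]
      rw [← Subgroup.commutator_eq_bot_iff_le_centralizer]
      refine Components.commutator_eq_bot_of_perfect hperf (le_bot_iff.mp ?_)
      rw [← hKN, Subgroup.commutator_comm Y K]
      exact Subgroup.commutator_mono (Subgroup.commutator_mono hKL' le_rfl) le_rfl
  · set W := (L.subgroupOf H ⊓ Cfsg.fittingSubgroup ↥H).map H.subtype with hW
    have hWL : W ≤ L := by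
      rintro _ ⟨x, hx, rfl⟩
      exact (Subgroup.mem_inf.mp hx).1
    have hWeq : W = L ⊓ (Cfsg.fittingSubgroup ↥H).map H.subtype := by
      rw [hW, Subgroup.map_inf _ _ _ H.subtype_injective, Components.map_subgroupOf_of_le hLH]
    have hYW : Y ≤ Subgroup.normalizer (W : Set G) := by
      rw [hWeq]
      exact (le_inf hYL (hYH.trans (normalizer_le_normalizer_map _))).trans
        Subgroup.inf_normalizer_le_normalizer_inf
    haveI := Coprime.isSolvable_of_isPGroup hY
    have hcop : (Nat.card Y).Coprime (Nat.card W) := by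
      refine (Coprime.coprime_card_of_isPGroup hY ?_).symm
      refine Nat.Coprime.coprime_dvd_left ?_ (fitting_coprime hO)
      rw [hW, Core.card_map_subtype]
      exact Subgroup.card_dvd_of_le inf_le_right
    rw [Coprime.eq_commutator_sup_centralizer hYW hcop]
    exact sup_le_sup (Subgroup.commutator_mono hWL le_rfl) (inf_le_inf_right _ hWL)

omit [Finite G] hp in
theorem commutator_commutator_of_sup {L Y : Subgroup G} (hYL : Y ≤ Subgroup.normalizer (L : Set G))
    (h : ⁅L, Y⁆ ⊔ (L ⊓ Subgroup.centralizer (Y : Set G)) = L) : ⁅L, Y⁆ = ⁅⁅L, Y⁆, Y⁆ := by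
  refine le_antisymm ?_ (Subgroup.commutator_mono (Coprime.commutator_le_of_le_normalizer hYL) le_rfl)
  rw [Subgroup.commutator_le]
  intro x hx a ha
  rw [← h, ← SetLike.mem_coe, Subgroup.coe_mul_of_right_le_normalizer_left _ _
    (inf_le_left.trans (Subgroup.normalizer_commutator_ge_left L Y))] at hx
  obtain ⟨y, hy, c, hc, rfl⟩ := hx
  have hca : c * a = a * c := (Subgroup.mem_centralizer_iff.mp (Subgroup.mem_inf.mp hc).2 a ha).symm
  show ⁅y * c, a⁆ ∈ _
  rw [show ⁅y * c, a⁆ = y * (c * a * c⁻¹ * a⁻¹) * y⁻¹ * ⁅y, a⁆ by simp only [commutatorElement_def]; group,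
    hca]
  simpa using Subgroup.commutator_mem_commutator hy ha

/-- If `O_p(G) = 1`, only the trivial `p`-subgroup centralizes `F*(G)`. -/
theorem eq_bot_of_centralize (hO : Cfsg.pCore p G = ⊥) {P : Subgroup G} (hP : IsPGroup p P)
    (h : P ≤ Subgroup.centralizer (Cfsg.generalizedFittingSubgroup G : Set G)) : P = ⊥ := by
  set C := Subgroup.centralizer (Cfsg.generalizedFittingSubgroup G : Set G)
  have hC : C.Normal := inferInstance
  have hab : ⁅C, C⁆ = ⊥ := by
    rw [Subgroup.commutator_eq_bot_iff_le_centralizer]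
    exact (le_refl C).trans (Subgroup.centralizer_le Components.centralizer_generalizedFitting_le)
  have hCF : C ≤ Cfsg.fittingSubgroup G := Components.le_fitting hC (Components.isNilpotent_of_commute hab)
  rw [Subgroup.eq_bot_iff_card]
  obtain ⟨k, hk⟩ := IsPGroup.iff_card.mp hP
  have h1 := (fitting_coprime hO).coprime_dvd_left (Subgroup.card_dvd_of_le (h.trans hCF))
  rw [hk] at h1 ⊢
  rcases k.eq_zero_or_pos with rfl | hk0
  · exact pow_zero p
  · rw [Nat.coprime_pow_left_iff hk0, Nat.coprime_self] at h1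
    exact absurd h1 (Fact.out : p.Prime).ne_one

/-- The global form of `sup_centralizer_eq`. -/
theorem sup_centralizer_eq_top {Y L : Subgroup G} (hO : Cfsg.pCore p G = ⊥) (hY : IsPGroup p Y)
    (hLF : L ≤ Cfsg.generalizedFittingSubgroup G) (hLsn : L.IsSubnormal)
    (hYL : Y ≤ Subgroup.normalizer (L : Set G)) :
    ⁅L, Y⁆ ⊔ (L ⊓ Subgroup.centralizer (Y : Set G)) = L := by
  refine sup_centralizer_eq (H := ⊤) ((Core.pCore_eq_bot_congr Subgroup.topEquiv).mpr hO) hY
    (Subgroup.le_normalizer.trans' le_top) ?_ hLsn.subgroupOf hYL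
  rw [← Components.generalizedFitting_inf_normal ⊤, inf_top_eq]
  exact hLF

/-- `[F*(G), Y] = [F*(K), Y]` for subnormal `K` containing the `p`-group `Y`. -/
theorem fstar_commutator_eq {Y K : Subgroup G} (hO : Cfsg.pCore p G = ⊥) (hY : IsPGroup p Y)
    (hK : K.IsSubnormal) (hYK : Y ≤ K) :
    ⁅Cfsg.generalizedFittingSubgroup G, Y⁆ = ⁅(Cfsg.generalizedFittingSubgroup ↥K).map K.subtype, Y⁆ := by
  set X := Cfsg.generalizedFittingSubgroup G with hX
  refine le_antisymm ?_ (Subgroup.commutator_mono (Components.generalizedFitting_map_subtype_le hK) le_rfl)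
  have hXn : Y ≤ Subgroup.normalizer (X : Set G) := by
    rw [Subgroup.normalizer_eq_top X]; exact le_top
  have hXX : ⁅X, Y⁆ = ⁅⁅X, Y⁆, Y⁆ :=
    commutator_commutator_of_sup hXn (sup_centralizer_eq_top hO hY le_rfl (inferInstance : X.Normal).isSubnormal hXn)
  have hNK : ⁅X, Y⁆ ≤ K := by
    clear hX
    induction hK with
    | top => exact le_top
    | step A B hAB hB hn ih =>
      rw [hXX]
      refine (Subgroup.commutator_mono (ih (hYK.trans hAB)) hYK).trans ?_
      exact Components.commutator_le_of_le le_rfl hn hAB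
  rw [hXX]
  refine Subgroup.commutator_mono ?_ le_rfl
  have hS : (X ⊓ K).IsSubnormal :=
    Subgroup.IsSubnormal.step _ K inf_le_right hK (Subgroup.normal_subgroupOf_of_le_normalizer
      ((le_inf (le_top.trans (Subgroup.normalizer_eq_top X).ge) Subgroup.le_normalizer).trans
        Subgroup.inf_normalizer_le_normalizer_inf))
  have hdec := Components.subnormal_le_generalizedFitting hS inf_le_left
  refine (le_inf (Subgroup.commutator_le_left X Y) hNK).trans ?_
  rw [hdec, Cfsg.generalizedFittingSubgroup, Subgroup.map_sup, Components.fitting_map_subtype hK]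
  refine sup_le ?_ ?_
  · refine le_trans (sSup_le fun L hL => ?_) le_sup_left
    exact Components.component_le_layer_map hL.1 (hL.2.trans inf_le_right)
  · refine le_trans ?_ le_sup_right
    exact le_inf inf_le_right (inf_le_left.trans inf_le_right)

end Cfsg.Agent.LocalEven
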