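import Cfsg.Agent.LocalEven.FStarP
import Cfsg.Agent.LocalEven.Commutator

set_option autoImplicit false
set_option linter.style.haveILetI false

open scoped commutatorElement

namespace Cfsg.Agent.LocalEven

variable {G : Type*} [Group G]

/-- If `[L, Q] = L`, the image in `L / L'` of a fixed point of `Q` has exponent dividing `|Q|`. -/
theorem pow_card_mem_commutator [Finite G] {L Q : Subgroup G} (hn : Q ≤ Subgroup.normalizer (L : Set G))
    (hgen : ⁅L, Q⁆ = L) {d : L} (hd : ∀ q ∈ Q, q * (d : G) = d * q) :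
    Abelianization.of d ^ Nat.card Q = 1 := by
  classical
  haveI : Fintype Q := Fintype.ofFinite Q
  let φ : L →* Abelianization L := ∏ q : Q, Abelianization.of.comp (conjV (q : G) (hn q.2))
  have hφ : ∀ x : L, φ x = ∏ q : Q, Abelianization.of (conjV (q : G) (hn q.2) x) := fun x => by
    simp only [φ, MonoidHom.finsetProd_apply, MonoidHom.comp_apply]
  have hinv : ∀ (r : Q) (x : L), φ (conjV (r : G) (hn r.2) x) = φ x := by
    intro r x
    rw [hφ, hφ]
    refine Fintype.prod_equiv (Equiv.mulRight r) _ _ fun q => ?_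
    congr 1
    ext
    simp [mul_assoc]
  have hker : L ≤ φ.ker.map L.subtype := by
    conv_lhs => rw [← hgen]
    rw [Subgroup.commutator_le]
    intro x hx q hq
    refine ⟨⟨x, hx⟩ * (conjV q (hn hq) ⟨x, hx⟩)⁻¹, ?_, ?_⟩
    · show φ _ = 1
      rw [map_mul, map_inv, hinv ⟨q, hq⟩, mul_inv_cancel]
    · simp [commutatorElement_def, mul_assoc]
  obtain ⟨y, hy, hyd⟩ := hker d.2
  have hy' : y = d := Subtype.ext hyd
  rw [hy'] at hy
  have h1 : φ d = 1 := hy
  rw [hφ, Finset.prod_congr rfl (g := fun _ => Abelianization.of d) fun q _ => ?_, Finset.prod_const,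
    Finset.card_univ, ← Nat.card_eq_fintype_card] at h1
  · exact h1
  · congr 1
    ext
    rw [coe_conjV, hd q q.2, mul_inv_cancel_right]

theorem le_map_frattini {L D : Subgroup G} (hD : D ≤ L) (hDC : D ≤ Subgroup.centralizer (L : Set G))
    (hDL : D ≤ ⁅L, L⁆) : D ≤ (frattini ↥L).map L.subtype := by
  intro d hd
  refine ⟨⟨d, hD hd⟩, ?_, rfl⟩
  simp only [SetLike.mem_coe, frattini, Order.radical, Subgroup.mem_iInf]
  intro M hM
  by_contra hdM
  set z : L := ⟨d, hD hd⟩
  have hsup : M ⊔ Subgroup.zpowers z = ⊤ := hM.2 _ (lt_of_le_of_ne le_sup_left fun e => hdM (by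
    rw [e]; exact Subgroup.mem_sup_right (Subgroup.mem_zpowers z)))
  haveI : M.Normal := by
    rw [← Subgroup.normalizer_eq_top_iff, eq_top_iff, ← hsup]
    refine sup_le Subgroup.le_normalizer (le_trans ?_ (Subgroup.centralizer_le_normalizer _))
    rw [Subgroup.zpowers_le, Subgroup.mem_centralizer_iff]
    exact fun m _ => Subtype.ext (Subgroup.mem_centralizer_iff.mp (hDC hd) m m.2)
  have h1 : commutator L ≤ M := Subgroup.Normal.commutator_le_of_self_sup_commutative_eq_top (N := M) hsup inferInstance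
  refine hdM ?_
  obtain ⟨y, hy, hyd⟩ := ((Subgroup.map_subtype_commutator L).symm ▸ hDL) hd
  rw [show z = y from Subtype.ext hyd.symm]
  exact h1 hy

end Cfsg.Agent.LocalEven
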