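/-
An anisotropic quadratic map from an elementary abelian 2-group to a four-group lives on at most
sixteen elements.
-/
import Mathlib

set_option autoImplicit false

namespace Cfsg.Agent.LocalEven.QuadraticCount

open Finset

/-- The sign of an element of `ZMod 2`. -/
def sgn (a : ZMod 2) : ℤ := if a = 0 then 1 else -1

theorem sgn_add : ∀ a b : ZMod 2, sgn (a + b) = sgn a * sgn b := by decide

theorem sgn_four : ∀ a b : ZMod 2, 1 + sgn a + sgn b + sgn (a + b) = if (a, b) = (0, 0) then 4 else 0 := by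
  decide

variable {V : Type*} [CommGroup V] [Fintype V]

theorem sum_sgn_linear (h : V → ZMod 2) (hadd : ∀ x y, h (x * y) = h x + h y) :
    (∑ x, sgn (h x)) = 0 ∨ (∑ x, sgn (h x)) = (Fintype.card V : ℤ) := by
  classical
  by_cases h0 : ∃ d, h d = 1
  · obtain ⟨d, hd⟩ := h0
    left
    have e : (∑ x, sgn (h x)) = ∑ x, -sgn (h x) := by
      refine Fintype.sum_equiv (Equiv.mulLeft d) _ _ fun x => ?_
      simp only [Equiv.coe_mulLeft, hadd, hd, sgn_add]
      rw [show sgn 1 = -1 from rfl, neg_one_mul, neg_neg]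
    rw [Finset.sum_neg_distrib] at e
    omega
  · right
    push Not at h0
    have h1 : ∀ x, h x = 0 := fun x => by
      have := h0 x
      revert this
      generalize h x = a
      revert a; decide
    simp [h1, sgn]

/-- The square of the exponential sum of a quadratic form is divisible by the order of the space. -/
theorem card_dvd_sq (f : V → ZMod 2) (β : V → V → ZMod 2)
    (hf : ∀ x y, f (x * y) = f x + f y + β x y) (hβ : ∀ x x' y, β (x * x') y = β x y + β x' y) :
    (Fintype.card V : ℤ) ∣ (∑ x, sgn (f x)) ^ 2 := by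
  have key : ∀ x d : V, sgn (f x) * sgn (f (x * d)) = sgn (f d) * sgn (β x d) := fun x d => by
    rw [hf, ← sgn_add, ← sgn_add]
    congr 1
    generalize f x = a; generalize f d = b; generalize β x d = c
    revert a b c; decide
  have e : (∑ x, sgn (f x)) ^ 2 = ∑ d, sgn (f d) * ∑ x, sgn (β x d) := by
    rw [pow_two, Finset.sum_mul_sum]
    simp only [Finset.mul_sum]
    rw [Finset.sum_comm (γ := V) (f := fun d x => sgn (f d) * sgn (β x d))]
    refine Finset.sum_congr rfl fun x _ => ?_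
    exact (Fintype.sum_equiv (Equiv.mulLeft x) _ _ fun d => (key x d).symm).symm
  rw [e]
  refine Finset.dvd_sum fun d _ => Dvd.dvd.mul_left ?_ _
  rcases sum_sgn_linear (fun x => β x d) (fun x y => hβ x y d) with h | h <;> rw [h]
  exact dvd_zero _

/-- An anisotropic quadratic map to a four-group lives on at most sixteen elements. -/
theorem card_le_sixteen (hV : IsPGroup 2 V) (q : V → ZMod 2 × ZMod 2)
    (β : V → V → ZMod 2 × ZMod 2) (hq : ∀ x y, q (x * y) = q x + q y + β x y)
    (hβ : ∀ x x' y, β (x * x') y = β x y + β x' y) (hani : ∀ x, q x = 0 → x = 1) :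
    Fintype.card V ≤ 16 := by
  classical
  by_contra hlt
  haveI : Fact (Nat.Prime 2) := ⟨Nat.prime_two⟩
  obtain ⟨n, hn⟩ := hV.exists_card_eq
  rw [Nat.card_eq_fintype_card] at hn
  have hn5 : 5 ≤ n := by
    by_contra h
    exact hlt (hn ▸ Nat.pow_le_pow_right (by norm_num) (show n ≤ 4 by omega))
  have h32 : (32 : ℤ) ∣ (Fintype.card V : ℤ) := by
    rw [hn]; push_cast
    exact (show (32 : ℤ) = 2 ^ 5 by norm_num) ▸ pow_dvd_pow 2 hn5
  have h8 : ∀ s : ℤ, (32 : ℤ) ∣ s ^ 2 → (8 : ℤ) ∣ s := by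
    intro s hs
    have h2 : ∀ r : ℤ, (2 : ℤ) ∣ r ^ 2 → (2 : ℤ) ∣ r := fun r h => Int.prime_two.dvd_of_dvd_pow h
    obtain ⟨a, rfl⟩ := h2 s (dvd_trans (by norm_num) hs)
    obtain ⟨b, rfl⟩ := h2 a (by obtain ⟨k, hk⟩ := hs; exact ⟨4 * k, by nlinarith⟩)
    obtain ⟨c, rfl⟩ := h2 b (by obtain ⟨k, hk⟩ := hs; exact ⟨k, by nlinarith⟩)
    exact ⟨c, by ring⟩
  have hS : ∀ π : ZMod 2 × ZMod 2 → ZMod 2, (∀ a b, π (a + b) = π a + π b) →
      (8 : ℤ) ∣ ∑ x, sgn (π (q x)) := fun π hπ =>
    h8 _ (h32.trans (card_dvd_sq (fun x => π (q x)) (fun x y => π (β x y))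
      (fun x y => by rw [hq, hπ, hπ]) (fun x x' y => by rw [hβ, hπ])))
  have e : (Fintype.card V : ℤ) + ∑ x, sgn (q x).1 + ∑ x, sgn (q x).2
      + ∑ x, sgn ((q x).1 + (q x).2) = ∑ x, if q x = (0, 0) then (4 : ℤ) else 0 := by
    rw [← Finset.sum_congr rfl (fun x _ => sgn_four (q x).1 (q x).2)]
    simp [Finset.sum_add_distrib]
  have h1 : q 1 = 0 := by
    have a := hq 1 1
    have b := hβ 1 1 1
    rw [mul_one] at a b
    have b' : β 1 1 = 0 := left_eq_add.mp b
    rw [b', add_zero] at a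
    exact left_eq_add.mp a
  have e4 : (∑ x : V, if q x = (0, 0) then (4 : ℤ) else 0) = 4 := by
    rw [Finset.sum_eq_single (1 : V) (fun x _ hx => if_neg (fun h : q x = ((0 : ZMod 2), (0 : ZMod 2)) => hx (hani x h))) (fun h => absurd (Finset.mem_univ _) h)]
    exact if_pos h1
  rw [e4] at e
  have hc : (8 : ℤ) ∣ (Fintype.card V : ℤ) := dvd_trans (by norm_num) h32
  have := hS Prod.fst (fun a b => rfl)
  have := hS Prod.snd (fun a b => rfl)
  have := hS (fun a => a.1 + a.2) (fun a b => by simp [add_add_add_comm])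
  omega

end Cfsg.Agent.LocalEven.QuadraticCount
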