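/-
Finite 2-groups with exactly three involutions, all central, and an automorphism permuting them
transitively: the automorphism may be taken of order three, every element lies in a normal
homocyclic subgroup of rank two, and the group is homocyclic or of order 64 with given relations.
-/
import Cfsg.Agent.LocalEven.QuadraticCount

set_option autoImplicit false
set_option linter.unusedSectionVars false

namespace Cfsg.Agent.LocalEven.RankTwoTransitive

open Subgroup
open scoped commutatorElement

/-- A central subgroup of order four consisting of the square roots of the identity. -/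
structure IsSocle {T : Type*} [Group T] (Ω : Subgroup T) : Prop where
  mem_iff : ∀ x : T, x ∈ Ω ↔ x * x = 1
  comm : ∀ x ∈ Ω, ∀ t : T, t * x = x * t
  card : Nat.card Ω = 4

variable {T : Type*} [Group T] [Finite T] {Ω : Subgroup T}

theorem self_mul_self (hO : IsSocle Ω) {x : T} (hx : x ∈ Ω) : x * x = 1 := (hO.mem_iff x).mp hx

theorem inv_eq_self (hO : IsSocle Ω) {x : T} (hx : x ∈ Ω) : x⁻¹ = x :=
  inv_eq_of_mul_eq_one_right (self_mul_self hO hx)

theorem exists_sq_root {x : T} (hT : IsPGroup 2 T) (hx : x ≠ 1) :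
    ∃ j : ℕ, x ^ 2 ^ j ≠ 1 ∧ x ^ 2 ^ j * x ^ 2 ^ j = 1 := by
  classical
  have hex : ∃ k, x ^ 2 ^ k = 1 := hT x
  have h0 : Nat.find hex ≠ 0 := fun e => hx (by
    have h := Nat.find_spec hex
    rwa [e, pow_zero, pow_one] at h)
  obtain ⟨j, hj⟩ := Nat.exists_eq_succ_of_ne_zero h0
  refine ⟨j, fun e => ?_, ?_⟩
  · exact Nat.find_min hex (by omega) e
  · rw [← pow_two, ← pow_mul, ← pow_succ]
    have h := Nat.find_spec hex
    rwa [hj] at h

theorem fpf (hO : IsSocle Ω) (hT : IsPGroup 2 T) {f : T ≃* T} (hf : ∀ x ∈ Ω, f x = x → x = 1)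
    {x : T} (hx : f x = x) : x = 1 := by
  by_contra h
  obtain ⟨j, h1, h2⟩ := exists_sq_root hT h
  exact h1 (hf _ ((hO.mem_iff _).mpr h2) (by rw [map_pow, hx]))

theorem div_surjective {f : T ≃* T} (hf : ∀ x, f x = x → x = 1) (g : T) : ∃ h, h⁻¹ * f h = g := by
  refine (Finite.injective_iff_surjective (f := fun h => h⁻¹ * f h)).mp ?_ g
  intro a b e
  have e' : f (b * a⁻¹) = b * a⁻¹ := by
    have e1 : f b = b * (a⁻¹ * f a) := by rw [show a⁻¹ * f a = b⁻¹ * f b from e, mul_inv_cancel_left]
    rw [map_mul, map_inv, e1]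
    group
  exact (mul_inv_eq_one.mp (hf _ e')).symm

/-- The product of an orbit of a fixed-point-free automorphism of order three is trivial. -/
theorem orbit_prod {f : T ≃* T} (hf : ∀ x, f x = x → x = 1) (h3 : ∀ x, f (f (f x)) = x) (x : T) :
    x * f x * f (f x) = 1 := by
  obtain ⟨h, rfl⟩ := div_surjective hf x
  simp only [map_mul, map_inv, h3]
  group

theorem commute_apply {f : T ≃* T} (hf : ∀ x, f x = x → x = 1) (h3 : ∀ x, f (f (f x)) = x) (x : T) :
    x * f x = f x * x := by
  have h1 := orbit_prod hf h3 x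
  have hg : ∀ y, (f.trans f) y = y → y = 1 := fun y hy => hf y (by
    have e : f (f y) = y := hy
    conv_lhs => rw [← e]
    rw [h3])
  have h5 := orbit_prod hg (fun y => by simp only [MulEquiv.trans_apply, h3]) x
  simp only [MulEquiv.trans_apply, h3] at h5
  -- `x * f (f x) * f x = 1`
  have e1 : f (f x) = (x * f x)⁻¹ := eq_inv_of_mul_eq_one_right h1
  rw [e1] at h5
  have e2 : f x = (x * (x * f x)⁻¹)⁻¹ := eq_inv_of_mul_eq_one_right h5
  have e3 : f x = x * f x * x⁻¹ := by
    conv_lhs => rw [e2]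
    group
  calc x * f x = x * f x * x⁻¹ * x := by group
    _ = f x * x := by rw [← e3]

/-- Each element commutes with every conjugate of its image. -/
theorem commute_conj {f : T ≃* T} (hf : ∀ x, f x = x → x = 1) (h3 : ∀ x, f (f (f x)) = x) (x g : T) :
    x * (g * f x * g⁻¹) = g * f x * g⁻¹ * x := by
  obtain ⟨h, rfl⟩ := div_surjective hf g
  have e := commute_apply hf h3 (h * x * h⁻¹)
  simp only [map_mul, map_inv] at e
  calc x * (h⁻¹ * f h * f x * (h⁻¹ * f h)⁻¹)
      = h⁻¹ * (h * x * h⁻¹ * (f h * f x * (f h)⁻¹)) * h := by group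
    _ = h⁻¹ * ((f h * f x * (f h)⁻¹) * (h * x * h⁻¹)) * h := by rw [e]
    _ = _ := by group

theorem commute_conj_self {f : T ≃* T} (hf : ∀ x, f x = x → x = 1) (h3 : ∀ x, f (f (f x)) = x) (x g : T) :
    x * (g * x * g⁻¹) = g * x * g⁻¹ * x := by
  have hg : ∀ y, (f.trans f) y = y → y = 1 := fun y hy => hf y (by
    have e : f (f y) = y := hy
    conv_lhs => rw [← e]
    rw [h3])
  have c1 := commute_conj hf h3 x g
  have c2 := commute_conj hg (fun y => by simp only [MulEquiv.trans_apply, h3]) x g
  simp only [MulEquiv.trans_apply] at c2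
  have ex : x = (f x * f (f x))⁻¹ := eq_inv_of_mul_eq_one_left (by rw [← mul_assoc, orbit_prod hf h3 x])
  have h : Commute x (g * f x * g⁻¹ * (g * f (f x) * g⁻¹))⁻¹ :=
    (Commute.mul_right c1 c2).inv_right
  rwa [show (g * f x * g⁻¹ * (g * f (f x) * g⁻¹))⁻¹ = g * x * g⁻¹ by
    conv_rhs => rw [ex]
    group] at h

/-- An abelian subgroup of exponent dividing `2 ^ n` has order at most `4 ^ n`. -/
theorem card_le_pow (hO : IsSocle Ω) : ∀ (n : ℕ) (M : Subgroup T),
    (∀ a ∈ M, ∀ b ∈ M, a * b = b * a) → (∀ a ∈ M, a ^ 2 ^ n = 1) → Nat.card M ≤ 4 ^ n := by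
  intro n
  induction n with
  | zero =>
    intro M _ h
    have e : M = ⊥ := (Subgroup.eq_bot_iff_forall M).mpr fun a ha => by
      have h' := h a ha
      rwa [pow_zero, pow_one] at h'
    rw [e, Subgroup.card_bot, pow_zero]
  | succ n ih =>
    intro M hc hp
    let s : M →* T :=
      { toFun := fun a => (a : T) * a
        map_one' := mul_one _
        map_mul' := fun a b => by
          have e := hc a a.2 b b.2
          show (a : T) * b * (a * b) = a * a * (b * b)
          calc (a : T) * b * (a * b) = a * (b * a) * b := by group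
            _ = a * (a * b) * b := by rw [← e]
            _ = _ := by group }
    have hr : Nat.card s.range ≤ 4 ^ n := by
      refine ih _ ?_ ?_
      · rintro _ ⟨a, rfl⟩ _ ⟨b, rfl⟩
        show s a * s b = s b * s a
        rw [← map_mul, ← map_mul, show a * b = b * a from Subtype.ext (hc a a.2 b b.2)]
      · rintro _ ⟨a, rfl⟩
        show ((a : T) * a) ^ 2 ^ n = 1
        rw [← pow_two, ← pow_mul, ← pow_succ']
        exact hp a a.2
    have hk : Nat.card s.ker ≤ 4 := by
      rw [← hO.card]
      refine Nat.card_le_card_of_injective (fun a => (⟨((a : M) : T), (hO.mem_iff _).mpr a.2⟩ : Ω)) ?_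
      intro a b e
      exact Subtype.ext (Subtype.ext (Subtype.mk.injEq .. ▸ e :))
    rw [Subgroup.card_eq_card_quotient_mul_card_subgroup s.ker,
      Nat.card_congr (QuotientGroup.quotientKerEquivRange s).toEquiv, pow_succ]
    exact Nat.mul_le_mul hr hk

theorem comm_central {a b c : T} (hc : c * a = a * c) : ⁅a, b * c⁆ = ⁅a, b⁆ := by
  rw [commutatorElement_def, commutatorElement_def]
  calc a * (b * c) * a⁻¹ * (b * c)⁻¹ = a * b * (c * a⁻¹ * c⁻¹) * b⁻¹ := by group
    _ = _ := by
      rw [show c * a⁻¹ * c⁻¹ = a⁻¹ by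
        rw [show c * a⁻¹ * c⁻¹ = (c * a * c⁻¹)⁻¹ by group, hc, mul_inv_cancel_right]]

theorem comm_mul_left {a b c : T} (h : a * ⁅b, c⁆ = ⁅b, c⁆ * a) : ⁅a * b, c⁆ = ⁅b, c⁆ * ⁅a, c⁆ := by
  rw [commutatorElement_mul_left_eq_conj_mul, h, mul_inv_cancel_right]

theorem comm_mul_right {a b c : T} (h : b * ⁅a, c⁆ = ⁅a, c⁆ * b) : ⁅a, b * c⁆ = ⁅a, b⁆ * ⁅a, c⁆ := by
  rw [commutatorElement_mul_right_eq_mul_conj]
  calc ⁅a, b⁆ * b * ⁅a, c⁆ * b⁻¹ = ⁅a, b⁆ * (b * ⁅a, c⁆) * b⁻¹ := by group
    _ = _ := by rw [h]; group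

theorem sq_mul {a b : T} (h : a * ⁅b, a⁆ = ⁅b, a⁆ * a) :
    a * b * (a * b) = ⁅b, a⁆ * (a * a) * (b * b) := by
  calc a * b * (a * b) = a * ⁅b, a⁆ * (a * b) * b := by rw [commutatorElement_def]; group
    _ = _ := by rw [h]; group

/-- A quotient by an abelian subgroup containing the socle, with squares and commutators inside,
has at most sixteen elements. -/
theorem index_le_sixteen (hO : IsSocle Ω) (hT : IsPGroup 2 T) (A W : Subgroup T) (hAW : A ≤ W)
    (hΩA : Ω ≤ A) (hcen : ∀ a ∈ A, ∀ w ∈ W, w * a = a * w) (hsq : ∀ w ∈ W, w * w ∈ A)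
    (hcomm : ∀ w ∈ W, ∀ w' ∈ W, ⁅w, w'⁆ ∈ A) : Nat.card A * 16 ≥ Nat.card W := by
  classical
  haveI : Fact (Nat.Prime 2) := ⟨Nat.prime_two⟩
  letI : CommGroup A :=
    { (inferInstance : Group A) with
      mul_comm := fun a b => Subtype.ext (hcen b b.2 a (hAW a.2)) }
  let s : A →* A := powMonoidHom 2
  have hker : Nat.card s.ker = 4 := by
    rw [← hO.card]
    refine Nat.card_congr
      { toFun := fun a => ⟨((a : A) : T), (hO.mem_iff _).mpr (by
          have h := a.2
          rw [MonoidHom.mem_ker] at h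
          have h' := congrArg Subtype.val h
          simpa [s, powMonoidHom_apply, pow_two] using h')⟩
        invFun := fun z => ⟨⟨z, hΩA z.2⟩, Subtype.ext (by
          simpa [s, powMonoidHom_apply, pow_two] using self_mul_self hO z.2)⟩
        left_inv := fun a => rfl
        right_inv := fun z => rfl }
  have hidx : Nat.card (A ⧸ s.range) = 4 := by
    have e1 := Subgroup.card_eq_card_quotient_mul_card_subgroup s.range
    have e2 := Subgroup.card_eq_card_quotient_mul_card_subgroup s.ker
    rw [Nat.card_congr (QuotientGroup.quotientKerEquivRange s).toEquiv, hker] at e2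
    have hpos : 0 < Nat.card s.range := Nat.card_pos
    refine Nat.eq_of_mul_eq_mul_right hpos ?_
    rw [← e1, e2, mul_comm]
  haveI : IsKleinFour (A ⧸ s.range) := by
    refine ⟨hidx, ?_⟩
    haveI : Nontrivial (A ⧸ s.range) := Finite.one_lt_card_iff_nontrivial.mp (by omega)
    refine (Monoid.exponent_eq_prime_iff Nat.prime_two).mpr fun g hg => orderOf_eq_prime ?_ hg
    induction g using QuotientGroup.induction_on with
    | H a => exact (QuotientGroup.eq_one_iff _).mpr ⟨a, rfl⟩
  obtain ⟨e⟩ := IsKleinFour.nonempty_mulEquiv (G₁ := A ⧸ s.range) (G₂ := Multiplicative (ZMod 2 × ZMod 2))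
  -- the class of an element of `A`
  let lam : T → ZMod 2 × ZMod 2 := fun x =>
    if hx : x ∈ A then Multiplicative.toAdd (e (QuotientGroup.mk ⟨x, hx⟩)) else 0
  have lmul : ∀ x ∈ A, ∀ y ∈ A, lam (x * y) = lam x + lam y := fun x hx y hy => by
    simp only [lam, dif_pos hx, dif_pos hy, dif_pos (mul_mem hx hy)]
    rw [← toAdd_mul, ← map_mul]; rfl
  have lsq : ∀ x ∈ A, lam (x * x) = 0 := fun x hx => by
    simp only [lam, dif_pos (mul_mem hx hx)]
    rw [show (QuotientGroup.mk (⟨x * x, mul_mem hx hx⟩ : A) : A ⧸ s.range) = 1 from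
      (QuotientGroup.eq_one_iff _).mpr ⟨⟨x, hx⟩, Subtype.ext (by simp [s, powMonoidHom_apply, pow_two])⟩,
      map_one]
    rfl
  have lzero : ∀ x ∈ A, lam x = 0 → ∃ a ∈ A, a * a = x := fun x hx h => by
    simp only [lam, dif_pos hx] at h
    have h1 : e (QuotientGroup.mk (⟨x, hx⟩ : A)) = 1 := Multiplicative.toAdd.injective h
    rw [← map_one e] at h1
    obtain ⟨a, ha⟩ := (QuotientGroup.eq_one_iff _).mp (e.injective h1)
    exact ⟨a, a.2, by simpa [s, powMonoidHom_apply, pow_two] using congrArg Subtype.val ha⟩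
  set A' := A.subgroupOf W with hA'
  haveI : A'.Normal := ⟨fun a ha g => by
    show (g : T) * a * (g : T)⁻¹ ∈ A
    rw [hcen (a : T) ha g g.2, mul_inv_cancel_right]; exact ha⟩
  letI : CommGroup (W ⧸ A') :=
    { (inferInstance : Group (W ⧸ A')) with
      mul_comm := fun u v => by
        induction u using QuotientGroup.induction_on with
        | H a => induction v using QuotientGroup.induction_on with
          | H b =>
            rw [← QuotientGroup.mk_mul, ← QuotientGroup.mk_mul, QuotientGroup.eq]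
            show ((a : T) * b)⁻¹ * (b * a) ∈ A
            rw [show ((a : T) * b)⁻¹ * (b * a) = ⁅(b : T)⁻¹, (a : T)⁻¹⁆ by rw [commutatorElement_def]; group]
            exact hcomm _ (W.inv_mem b.2) _ (W.inv_mem a.2) }
  haveI := Fintype.ofFinite (W ⧸ A')
  let q : W ⧸ A' → ZMod 2 × ZMod 2 := fun v =>
    lam (((Quotient.out v : W) : T) * ((Quotient.out v : W) : T))
  have qmk : ∀ w : W, q (QuotientGroup.mk w) = lam ((w : T) * w) := fun w => by
    obtain ⟨⟨a, ha⟩, e'⟩ := QuotientGroup.mk_out_eq_mul A' w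
    show lam (((Quotient.out (QuotientGroup.mk w : W ⧸ A') : W) : T) *
      ((Quotient.out (QuotientGroup.mk w : W ⧸ A') : W) : T)) = _
    rw [e']
    have haA : (a : T) ∈ A := ha
    show lam ((w : T) * a * (w * a)) = _
    rw [show (w : T) * a * (w * a) = w * w * ((a : T) * a) by
      calc (w : T) * a * (w * a) = w * (a * w) * a := by group
        _ = w * (w * a) * a := by rw [hcen _ haA w w.2]
        _ = _ := by group,
      lmul _ (hsq _ w.2) _ (mul_mem haA haA), lsq _ haA, add_zero]
  let β : W ⧸ A' → W ⧸ A' → ZMod 2 × ZMod 2 := fun u v =>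
    lam ⁅((Quotient.out v : W) : T), ((Quotient.out u : W) : T)⁆
  have bmk : ∀ w w' : W, β (QuotientGroup.mk w) (QuotientGroup.mk w') = lam ⁅(w' : T), (w : T)⁆ := fun w w' => by
    obtain ⟨⟨a, ha⟩, e1⟩ := QuotientGroup.mk_out_eq_mul A' w
    obtain ⟨⟨b, hb⟩, e2⟩ := QuotientGroup.mk_out_eq_mul A' w'
    show lam ⁅((Quotient.out (QuotientGroup.mk w' : W ⧸ A') : W) : T),
      ((Quotient.out (QuotientGroup.mk w : W ⧸ A') : W) : T)⁆ = _
    rw [e1, e2]
    show lam ⁅(w' : T) * b, (w : T) * a⁆ = _
    have haA : (a : T) ∈ A := ha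
    have hbA : (b : T) ∈ A := hb
    rw [comm_central (hcen _ haA _ (mul_mem w'.2 b.2)).symm, ← commutatorElement_inv,
      comm_central (hcen _ hbA _ w.2).symm, commutatorElement_inv]
  have hWA : Nat.card (W ⧸ A') * Nat.card A = Nat.card W := by
    rw [Subgroup.card_eq_card_quotient_mul_card_subgroup A', hA',
      Nat.card_congr (Subgroup.subgroupOfEquivOfLe hAW).toEquiv]
  have h16 := QuadraticCount.card_le_sixteen ((hT.to_subgroup W).to_quotient A') q β
    (fun u v => by
      induction u using QuotientGroup.induction_on with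
      | H a => induction v using QuotientGroup.induction_on with
        | H b =>
          rw [← QuotientGroup.mk_mul, qmk, qmk, qmk, bmk]
          show lam ((a : T) * b * (a * b)) = _
          have hc := hcomm _ b.2 _ a.2
          rw [sq_mul (hcen _ hc _ a.2), lmul _ (mul_mem hc (hsq _ a.2)) _ (hsq _ b.2),
            lmul _ hc _ (hsq _ a.2)]
          abel)
    (fun u u' v => by
      induction u using QuotientGroup.induction_on with
      | H a => induction u' using QuotientGroup.induction_on with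
        | H a' => induction v using QuotientGroup.induction_on with
          | H b =>
            rw [← QuotientGroup.mk_mul, bmk, bmk, bmk]
            show lam ⁅(b : T), (a : T) * a'⁆ = _
            rw [comm_mul_right (hcen _ (hcomm _ b.2 _ a'.2) _ a.2),
              lmul _ (hcomm _ b.2 _ a.2) _ (hcomm _ b.2 _ a'.2)])
    (fun u => by
      induction u using QuotientGroup.induction_on with
      | H w =>
        rw [qmk]
        intro h
        obtain ⟨a, ha, e'⟩ := lzero _ (hsq _ w.2) h
        refine (QuotientGroup.eq_one_iff w).mpr ?_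
        show (w : T) ∈ A
        have h1 : ((w : T) * a⁻¹) * ((w : T) * a⁻¹) = 1 := by
          calc ((w : T) * a⁻¹) * ((w : T) * a⁻¹) = w * (a⁻¹ * w) * a⁻¹ := by group
            _ = w * (w * a⁻¹) * a⁻¹ := by rw [hcen _ (inv_mem ha) w w.2]
            _ = w * w * (a * a)⁻¹ := by group
            _ = 1 := by rw [e', mul_inv_cancel]
        have h2 := hΩA ((hO.mem_iff _).mpr h1)
        simpa using mul_mem h2 ha)
  rw [← Nat.card_eq_fintype_card] at h16
  rw [ge_iff_le, ← hWA, mul_comm]
  exact Nat.mul_le_mul le_rfl h16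

end Cfsg.Agent.LocalEven.RankTwoTransitive
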