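/-
A 2-group with three central involutions permuted by a fixed-point-free automorphism of order three
is homocyclic or of order 64 with relations determined by the squares.
-/
import Cfsg.Agent.LocalEven.RankTwoTransitive

set_option autoImplicit false
set_option linter.unusedSectionVars false

namespace Cfsg.Agent.LocalEven.RankTwoTransitive

open Subgroup
open scoped commutatorElement Pointwise

variable {T : Type*} [Group T] [Finite T] {Ω : Subgroup T}

theorem mem_zpowers_sup {g : T} {K : Subgroup T} (hn : g ∈ normalizer (K : Set T)) (hg2 : g * g ∈ K)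
    {x : T} (hx : x ∈ zpowers g ⊔ K) : x ∈ K ∨ g⁻¹ * x ∈ K := by
  have hz : zpowers g ≤ normalizer (K : Set T) := zpowers_le.mpr hn
  obtain ⟨_, ⟨z, rfl⟩, k, hk, rfl⟩ : ∃ a ∈ zpowers g, ∃ b ∈ K, a * b = x := by
    have : (x : T) ∈ ((zpowers g : Set T) * (K : Set T)) := by
      rw [← Subgroup.coe_mul_of_left_le_normalizer_right _ _ hz]; exact hx
    obtain ⟨a, ha, b, hb, e⟩ := Set.mem_mul.mp this
    exact ⟨a, ha, b, hb, e⟩
  rcases Int.even_or_odd z with ⟨l, rfl⟩ | ⟨l, rfl⟩
  · left
    refine mul_mem ?_ hk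
    show g ^ (l + l) ∈ K
    rw [← two_mul, zpow_mul, zpow_two]
    exact zpow_mem hg2 l
  · right
    rw [← mul_assoc, show g⁻¹ * g ^ (2 * l + 1) = (g * g) ^ l by
      rw [add_comm, zpow_add, zpow_one, inv_mul_cancel_left, zpow_mul, zpow_two]]
    exact mul_mem (zpow_mem hg2 l) hk

theorem two_mul_card_le {K L : Subgroup T} (h : K < L) : 2 * Nat.card K ≤ Nat.card L := by
  have h1 : 1 < K.relIndex L := by
    refine Nat.one_lt_iff_ne_zero_and_ne_one.mpr ⟨Subgroup.index_ne_zero_of_finite, fun e => ?_⟩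
    exact h.not_ge (Subgroup.relIndex_eq_one.mp e)
  rw [← Subgroup.relIndex_bot_left, ← Subgroup.relIndex_bot_left,
    ← Subgroup.relIndex_mul_relIndex ⊥ K L bot_le h.le, mul_comm 2]
  exact Nat.mul_le_mul le_rfl h1

/-- An automorphism of order three without fixed points. -/
structure IsRot (f : MulAut T) : Prop where
  three : ∀ x, f (f (f x)) = x
  fpf : ∀ x, f x = x → x = 1

theorem IsRot.sq {f : MulAut T} (hf : IsRot f) : IsRot (f.trans f) := by
  refine ⟨fun x => by simp only [MulEquiv.trans_apply, hf.three], fun x hx => hf.fpf x ?_⟩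
  have e : f (f x) = x := hx
  conv_lhs => rw [← e]
  rw [hf.three]

/-- The subgroup generated by an element and its image. -/
def orbSub (f : MulAut T) (x : T) : Subgroup T := zpowers x ⊔ zpowers (f x)

variable {f : MulAut T}

theorem self_mem_orbSub (x : T) : x ∈ orbSub f x := mem_sup_left (mem_zpowers x)

theorem apply_mem_orbSub (x : T) : f x ∈ orbSub f x := mem_sup_right (mem_zpowers (f x))

theorem apply_apply_eq (hf : IsRot f) (x : T) : f (f x) = (x * f x)⁻¹ :=
  eq_inv_of_mul_eq_one_right (orbit_prod hf.fpf hf.three x)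

theorem apply_mem (hf : IsRot f) (x : T) {a : T} (ha : a ∈ orbSub f x) : f a ∈ orbSub f x := by
  have h : orbSub f x ≤ (orbSub f x).comap f.toMonoidHom := by
    refine sup_le (zpowers_le.mpr ?_) (zpowers_le.mpr ?_)
    · exact apply_mem_orbSub x
    · show f (f x) ∈ orbSub f x
      rw [apply_apply_eq hf x]
      exact inv_mem (mul_mem (self_mem_orbSub x) (apply_mem_orbSub x))
  exact h ha

theorem orbSub_comm (hf : IsRot f) (x : T) : ∀ a ∈ orbSub f x, ∀ b ∈ orbSub f x, a * b = b * a := by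
  have h0 : x * f x = f x * x := commute_apply hf.fpf hf.three x
  have h : orbSub f x ≤ centralizer (orbSub f x : Set T) := by
    rw [orbSub, Subgroup.sup_eq_closure, Subgroup.centralizer_closure, closure_le]
    intro a ha
    refine mem_centralizer_iff.mpr ?_
    rintro b (⟨i, rfl⟩ | ⟨i, rfl⟩) <;> rcases ha with ⟨j, rfl⟩ | ⟨j, rfl⟩
    · exact (Commute.zpow_zpow_self x i j).eq
    · exact (Commute.zpow_zpow h0 i j).eq
    · exact (Commute.zpow_zpow (Commute.symm h0) i j).eq
    · exact (Commute.zpow_zpow_self (f x) i j).eq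
  intro a ha b hb
  exact (mem_centralizer_iff.mp (h ha) b hb).symm

theorem orbSub_pow (hf : IsRot f) {x : T} {n : ℕ} (hx : x ^ n = 1) : ∀ a ∈ orbSub f x, a ^ n = 1 := by
  intro a ha
  let P : Subgroup T :=
    { carrier := {a | a ∈ orbSub f x ∧ a ^ n = 1}
      one_mem' := ⟨one_mem _, one_pow _⟩
      mul_mem' := by
        rintro a b ⟨ha, ha'⟩ ⟨hb, hb'⟩
        exact ⟨mul_mem ha hb, by rw [Commute.mul_pow (orbSub_comm hf x a ha b hb), ha', hb', one_mul]⟩
      inv_mem' := by
        rintro a ⟨ha, ha'⟩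
        exact ⟨inv_mem ha, by rw [inv_pow, ha', inv_one]⟩ }
  have h : orbSub f x ≤ P := by
    refine sup_le (zpowers_le.mpr ⟨self_mem_orbSub x, hx⟩) (zpowers_le.mpr ⟨apply_mem_orbSub x, ?_⟩)
    rw [← map_pow, hx, map_one]
  exact (h ha).2

theorem socle_eq (hO : IsSocle Ω) (hf : IsRot f) {z : T} (hz : z ∈ Ω) (hz1 : z ≠ 1) {v : T} (hv : v ∈ Ω) :
    v = 1 ∨ v = z ∨ v = f z ∨ v = f (f z) := by
  classical
  haveI := Fintype.ofFinite T
  have hmem : ∀ a ∈ Ω, f a ∈ Ω := fun a ha => (hO.mem_iff _).mpr (by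
    rw [← map_mul, self_mul_self hO ha, map_one])
  have h1 : f z ≠ z := fun e => hz1 (hf.fpf z e)
  have h2 : f (f z) ≠ f z := fun e => h1 (f.injective e)
  have h3 : f (f z) ≠ z := fun e => hz1 (hf.sq.fpf z e)
  have h4 : f z ≠ 1 := fun e => hz1 (f.injective (by rw [e, map_one]))
  have h5 : f (f z) ≠ 1 := fun e => h4 (f.injective (by rw [e, map_one]))
  by_contra h
  push Not at h
  obtain ⟨g1, g2, g3, g4⟩ := h
  have hs : ({1, z, f z, f (f z), v} : Finset T) ⊆ Finset.univ.filter (· ∈ Ω) := by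
    intro a ha
    simp only [Finset.mem_insert, Finset.mem_singleton] at ha
    rw [Finset.mem_filter]
    refine ⟨Finset.mem_univ _, ?_⟩
    rcases ha with rfl | rfl | rfl | rfl | rfl
    exacts [one_mem _, hz, hmem _ hz, hmem _ (hmem _ hz), hv]
  have hc := Finset.card_le_card hs
  rw [← Fintype.card_subtype, ← Nat.card_eq_fintype_card] at hc
  have e4 : Nat.card {a : T // a ∈ Ω} = 4 := hO.card
  rw [e4] at hc
  rw [Finset.card_insert_of_notMem (by simp [hz1.symm, h4.symm, h5.symm, g1.symm]),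
    Finset.card_insert_of_notMem (by simp [h1.symm, h3.symm, g2.symm]),
    Finset.card_insert_of_notMem (by simp [h2.symm, g3.symm]),
    Finset.card_insert_of_notMem (by simp [g4.symm]), Finset.card_singleton] at hc
  omega

theorem zpowers_inf (hO : IsSocle Ω) (hT : IsPGroup 2 T) (hf : IsRot f) (x : T) :
    zpowers x ⊓ zpowers (f x) = ⊥ := by
  by_contra hne
  obtain ⟨g, hg, hg1⟩ := (Subgroup.bot_or_exists_ne_one _).resolve_left hne
  obtain ⟨j, hj1, hj2⟩ := exists_sq_root hT hg1
  set z := g ^ 2 ^ j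
  have hzm : z ∈ zpowers x ⊓ zpowers (f x) := pow_mem hg _
  have hfz : f z ∈ zpowers (f x) := by
    obtain ⟨i, hi⟩ := hzm.1
    refine ⟨i, ?_⟩
    rw [← hi, map_zpow]
  have hfz' : f z ^ 2 = 1 := by rw [← map_pow, pow_two, hj2, map_one]
  have ho : ∀ a : T, a ≠ 1 → a ^ 2 = 1 → orderOf a = 2 := fun a h1 h2 => orderOf_eq_prime h2 h1
  have h4 : f z ≠ 1 := fun e => hj1 (f.injective (by rw [e, map_one]))
  have e : (⟨z, hzm.2⟩ : zpowers (f x)) = ⟨f z, hfz⟩ := by
    have hcyc : IsCyclic (zpowers (f x)) := inferInstance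
    classical
    haveI := Fintype.ofFinite (zpowers (f x))
    have hle := hcyc.card_pow_eq_one_le (α := zpowers (f x)) (n := 2) two_pos
    by_contra hne'
    have h3 : ({1, ⟨z, hzm.2⟩, ⟨f z, hfz⟩} : Finset (zpowers (f x))) ⊆
        Finset.univ.filter (fun a => a ^ 2 = 1) := by
      intro a ha
      simp only [Finset.mem_insert, Finset.mem_singleton] at ha
      rw [Finset.mem_filter]
      refine ⟨Finset.mem_univ _, Subtype.ext ?_⟩
      rcases ha with rfl | rfl | rfl
      · simp
      · show z ^ 2 = 1; rw [pow_two]; exact hj2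
      · exact hfz'
    have h3' := (Finset.card_le_card h3).trans hle
    rw [Finset.card_insert_of_notMem (by
        simp only [Finset.mem_insert, Finset.mem_singleton, not_or]
        exact ⟨fun e => hj1 (congrArg Subtype.val e).symm, fun e => h4 (congrArg Subtype.val e).symm⟩),
      Finset.card_insert_of_notMem (by simpa using hne'), Finset.card_singleton] at h3'
    omega
  exact hj1 (hf.fpf z (congrArg Subtype.val e).symm)

theorem exists_iso_orbSub (hO : IsSocle Ω) (hT : IsPGroup 2 T) (hf : IsRot f) (x : T) {n : ℕ}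
    (hn : orderOf x = 2 ^ n) :
    Nonempty (Multiplicative (ZMod (2 ^ n) × ZMod (2 ^ n)) ≃* orbSub f x) := by
  have hfx : orderOf (f x) = 2 ^ n := by
    rw [show f x = f.toMonoidHom x from rfl, orderOf_injective f.toMonoidHom f.injective, hn]
  let m : zpowers x × zpowers (f x) →* T :=
    MonoidHom.noncommCoprod (zpowers x).subtype (zpowers (f x)).subtype fun a b =>
      orbSub_comm hf x a ((zpowers_le.mpr (self_mem_orbSub x) : zpowers x ≤ orbSub f x) a.2) b
        ((zpowers_le.mpr (apply_mem_orbSub x) : zpowers (f x) ≤ orbSub f x) b.2)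
  have hinj : Function.Injective m := (MonoidHom.noncommCoprod_injective _ _ _).mpr
    ⟨(zpowers x).subtype_injective, (zpowers (f x)).subtype_injective, by
      rw [Subgroup.range_subtype, Subgroup.range_subtype]
      exact disjoint_iff.mpr (zpowers_inf hO hT hf x)⟩
  have hran : m.range = orbSub f x := by
    refine (MonoidHom.noncommCoprod_range _ _ _).trans ?_
    rw [Subgroup.range_subtype, Subgroup.range_subtype]; rfl
  have e1 : Multiplicative (ZMod (2 ^ n)) ≃* zpowers x := by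
    have h := zmodCyclicMulEquiv (inferInstance : IsCyclic (zpowers x))
    rwa [Nat.card_zpowers, hn] at h
  have e2 : Multiplicative (ZMod (2 ^ n)) ≃* zpowers (f x) := by
    have h := zmodCyclicMulEquiv (inferInstance : IsCyclic (zpowers (f x)))
    rwa [Nat.card_zpowers, hfx] at h
  exact ⟨(MulEquiv.prodMultiplicative _ _).trans
    ((MulEquiv.prodCongr e1 e2).trans ((MonoidHom.ofInjective hinj).trans (MulEquiv.subgroupCongr hran)))⟩

theorem card_orbSub (hO : IsSocle Ω) (hT : IsPGroup 2 T) (hf : IsRot f) (x : T) {n : ℕ}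
    (hn : orderOf x = 2 ^ n) : Nat.card (orbSub f x) = 4 ^ n := by
  obtain ⟨e⟩ := exists_iso_orbSub hO hT hf x hn
  rw [← Nat.card_congr e.toEquiv, Nat.card_congr Multiplicative.toAdd, Nat.card_prod, Nat.card_zmod,
    ← mul_pow]
  rfl

theorem conj_mem_orbSub (hO : IsSocle Ω) (hT : IsPGroup 2 T) (hf : IsRot f) (x g : T) :
    ∀ a ∈ orbSub f x, g * a * g⁻¹ ∈ orbSub f x := by
  haveI : Fact (Nat.Prime 2) := ⟨Nat.prime_two⟩
  obtain ⟨n, hn⟩ := (IsPGroup.iff_orderOf.mp hT) x
  set s : Set T := {x, f x, g * x * g⁻¹, g * f x * g⁻¹} with hs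
  -- two members of `s` commute
  have c0 : ∀ (y : T) (h : T), y * (h * y * h⁻¹) = h * y * h⁻¹ * y :=
    fun y h => commute_conj_self hf.fpf hf.three y h
  have c1 : ∀ (h : T), x * (h * f x * h⁻¹) = h * f x * h⁻¹ * x := fun h => commute_conj hf.fpf hf.three x h
  have hxf : x * f x = f x * x := commute_apply hf.fpf hf.three x
  have hgg : g * x * g⁻¹ * (g * f x * g⁻¹) = g * f x * g⁻¹ * (g * x * g⁻¹) := by
    calc g * x * g⁻¹ * (g * f x * g⁻¹) = g * (x * f x) * g⁻¹ := by group
      _ = g * (f x * x) * g⁻¹ := by rw [hxf]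
      _ = _ := by group
  have hgf : g * x * g⁻¹ * f x = f x * (g * x * g⁻¹) := by
    have h := c1 g⁻¹
    rw [inv_inv] at h
    calc g * x * g⁻¹ * f x = g * (x * (g⁻¹ * f x * g)) * g⁻¹ := by group
      _ = g * (g⁻¹ * f x * g * x) * g⁻¹ := by rw [h]
      _ = _ := by group
  have hcomm : ∀ a ∈ s, ∀ b ∈ s, a * b = b * a := by
    intro a ha b hb
    simp only [hs, Set.mem_insert_iff, Set.mem_singleton_iff] at ha hb
    rcases ha with rfl | rfl | rfl | rfl <;> rcases hb with rfl | rfl | rfl | rfl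
    exacts [rfl, hxf, c0 _ _, c1 g, hxf.symm, rfl, hgf.symm, c0 _ _, (c0 _ _).symm, hgf, rfl, hgg,
      (c1 g).symm, (c0 _ _).symm, hgg.symm, rfl]
  set M := closure s
  have hMc : ∀ a ∈ M, ∀ b ∈ M, a * b = b * a := by
    have h : M ≤ centralizer (M : Set T) := by
      rw [Subgroup.centralizer_closure, closure_le]
      exact fun a ha => mem_centralizer_iff.mpr fun b hb => hcomm b hb a ha
    exact fun a ha b hb => (mem_centralizer_iff.mp (h ha) b hb).symm
  let P : Subgroup T :=
    { carrier := {a | a ∈ M ∧ a ^ 2 ^ n = 1}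
      one_mem' := ⟨one_mem _, one_pow _⟩
      mul_mem' := by
        rintro a b ⟨ha, ha'⟩ ⟨hb, hb'⟩
        exact ⟨mul_mem ha hb, by rw [Commute.mul_pow (hMc a ha b hb), ha', hb', one_mul]⟩
      inv_mem' := by
        rintro a ⟨ha, ha'⟩
        exact ⟨inv_mem ha, by rw [inv_pow, ha', inv_one]⟩ }
  have hx1 : x ^ 2 ^ n = 1 := by rw [← hn, pow_orderOf_eq_one]
  have hsP : M ≤ P := by
    refine (closure_le P).mpr fun a ha => ⟨subset_closure ha, ?_⟩
    simp only [hs, Set.mem_insert_iff, Set.mem_singleton_iff] at ha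
    rcases ha with rfl | rfl | rfl | rfl
    · exact hx1
    · rw [← map_pow, hx1, map_one]
    · rw [conj_pow, hx1, mul_one, mul_inv_cancel]
    · rw [conj_pow, ← map_pow, hx1, map_one, mul_one, mul_inv_cancel]
  have hle : orbSub f x ≤ M := sup_le (zpowers_le.mpr (subset_closure (by simp [hs])))
    (zpowers_le.mpr (subset_closure (by simp [hs])))
  have heq : orbSub f x = M := Subgroup.eq_of_le_of_card_ge hle
    ((card_le_pow hO n M hMc fun a ha => (hsP ha).2).trans (card_orbSub hO hT hf x hn).ge)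
  have h : orbSub f x ≤ (orbSub f x).comap (MulAut.conj g).toMonoidHom := by
    refine sup_le (zpowers_le.mpr ?_) (zpowers_le.mpr ?_)
    · show g * x * g⁻¹ ∈ orbSub f x
      rw [heq]; exact subset_closure (by simp [hs])
    · show g * f x * g⁻¹ ∈ orbSub f x
      rw [heq]; exact subset_closure (by simp [hs])
  exact fun a ha => h ha

theorem exists_root (hO : IsSocle Ω) (hT : IsPGroup 2 T) (hf : IsRot f) (x : T) {m : ℕ}
    (hn : orderOf x = 2 ^ (m + 1)) {a : T} (ha : a ∈ orbSub f x) (ha2 : a ^ 2 ^ m = 1) :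
    ∃ b ∈ orbSub f x, b * b = a := by
  set A := orbSub f x with hA
  have hc := orbSub_comm hf x
  let s : A →* T :=
    { toFun := fun a => (a : T) * a
      map_one' := mul_one _
      map_mul' := fun a b => by
        show (a : T) * b * (a * b) = a * a * (b * b)
        calc (a : T) * b * (a * b) = a * (b * a) * b := by group
          _ = a * (a * b) * b := by rw [hc a a.2 b b.2]
          _ = _ := by group }
  let K : Subgroup T :=
    { carrier := {a | a ∈ A ∧ a ^ 2 ^ m = 1}
      one_mem' := ⟨one_mem _, one_pow _⟩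
      mul_mem' := by
        rintro a b ⟨ha, ha'⟩ ⟨hb, hb'⟩
        exact ⟨mul_mem ha hb, by rw [Commute.mul_pow (hc a ha b hb), ha', hb', one_mul]⟩
      inv_mem' := by
        rintro a ⟨ha, ha'⟩
        exact ⟨inv_mem ha, by rw [inv_pow, ha', inv_one]⟩ }
  have hK : Nat.card K ≤ 4 ^ m := card_le_pow hO m K (fun a ha b hb => hc a ha.1 b hb.1) fun a ha => ha.2
  have hker : Nat.card s.ker ≤ 4 := by
    rw [← hO.card]
    refine Nat.card_le_card_of_injective (fun a => (⟨((a : A) : T), (hO.mem_iff _).mpr a.2⟩ : Ω)) ?_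
    intro a b e
    exact Subtype.ext (Subtype.ext (Subtype.mk.injEq .. ▸ e :))
  have hle : s.range ≤ K := by
    rintro _ ⟨b, rfl⟩
    refine ⟨mul_mem b.2 b.2, ?_⟩
    show ((b : T) * b) ^ 2 ^ m = 1
    rw [← pow_two, ← pow_mul, ← pow_succ']
    exact orbSub_pow hf (by rw [← hn, pow_orderOf_eq_one]) b b.2
  have hcard : 4 ^ m ≤ Nat.card s.range := by
    have h := Subgroup.card_eq_card_quotient_mul_card_subgroup s.ker
    rw [Nat.card_congr (QuotientGroup.quotientKerEquivRange s).toEquiv,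
      show Nat.card A = 4 ^ (m + 1) from card_orbSub hO hT hf x hn, pow_succ] at h
    exact Nat.le_of_mul_le_mul_right (h.le.trans (Nat.mul_le_mul le_rfl hker)) (by norm_num)
  have e : s.range = K := Subgroup.eq_of_le_of_card_ge hle (hK.trans hcard)
  obtain ⟨b, hb⟩ : a ∈ s.range := by rw [e]; exact ⟨ha, ha2⟩
  exact ⟨b, b.2, hb⟩

/-- The relations of the group of order 64. -/
structure Data (f : MulAut T) (x y : T) : Prop where
  card : Nat.card T = 64
  socle : x * x ≠ 1 ∧ ∀ t : T, t * (x * x) = x * x * t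
  z_sq : x * x * (x * x) = 1
  y_sq : y * y = x * x
  comm : ⁅x, y⁆ = f (x * x)
  comm' : ⁅x, f y⁆ = x * x
  comm'' : ⁅f x, y⁆ = x * x
  gen : closure ({x, f x, y, f y} : Set T) = ⊤

/-- Either homocyclic, or generators with the relations of `Data`. -/
theorem dichotomy (hO : IsSocle Ω) (hT : IsPGroup 2 T) (hf : IsRot f) :
    (∃ n : ℕ, 1 ≤ n ∧ Nonempty (T ≃* Multiplicative (ZMod (2 ^ n) × ZMod (2 ^ n)))) ∨
      ∃ (g : MulAut T) (x y : T), IsRot g ∧ Data g x y := by
  classical
  haveI : Fact (Nat.Prime 2) := ⟨Nat.prime_two⟩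
  haveI := Fintype.ofFinite T
  obtain ⟨x, -, hmax⟩ := Finset.exists_max_image (Finset.univ : Finset T) orderOf ⟨1, Finset.mem_univ _⟩
  obtain ⟨n, hn⟩ := (IsPGroup.iff_orderOf.mp hT) x
  have hexp : ∀ t : T, t ^ 2 ^ n = 1 := fun t => by
    obtain ⟨m, hm⟩ := (IsPGroup.iff_orderOf.mp hT) t
    have h := hmax t (Finset.mem_univ _)
    rw [hn, hm] at h
    exact orderOf_dvd_iff_pow_eq_one.mp (hm ▸ pow_dvd_pow 2 ((Nat.pow_le_pow_iff_right (by norm_num)).mp h))
  have hn1 : 1 ≤ n := by
    by_contra h0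
    obtain rfl : n = 0 := by omega
    have h1 : ∀ t : T, t = 1 := fun t => by simpa using hexp t
    haveI : Subsingleton Ω := ⟨fun a b => Subtype.ext (by rw [h1 a, h1 b])⟩
    have := hO.card
    rw [Nat.card_of_subsingleton (1 : Ω)] at this
    omega
  obtain ⟨m, rfl⟩ : ∃ m, n = m + 1 := ⟨n - 1, by omega⟩
  set A := orbSub f x with hA
  have hAc := orbSub_comm hf x
  by_cases hAT : A = ⊤
  · left
    obtain ⟨e⟩ := exists_iso_orbSub hO hT hf x hn
    exact ⟨m + 1, hn1, ⟨((MulEquiv.subgroupCongr hAT).trans Subgroup.topEquiv).symm.trans e.symm⟩⟩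
  right
  haveI hAn : A.Normal := ⟨fun a ha g => conj_mem_orbSub hO hT hf x g a ha⟩
  have hΩA : Ω ≤ A := by
    obtain ⟨j, hj1, hj2⟩ := exists_sq_root hT (x := x) (fun e => by
      rw [e, orderOf_one] at hn
      exact absurd hn.symm (Nat.one_lt_two_pow (by omega)).ne')
    intro v hv
    have hz : x ^ 2 ^ j ∈ A := pow_mem (self_mem_orbSub x) _
    rcases socle_eq hO hf ((hO.mem_iff _).mpr hj2) hj1 hv with rfl | rfl | rfl | rfl
    exacts [one_mem _, hz, apply_mem hf x hz, apply_mem hf x (apply_mem hf x hz)]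
  obtain ⟨y₀, hy₀A, hy₀2⟩ : ∃ y, y ∉ A ∧ y * y ∈ A := by
    obtain ⟨t, ht⟩ : ∃ t, t ∉ A := by
      by_contra h
      push Not at h
      exact hAT (eq_top_iff.mpr fun t _ => h t)
    obtain ⟨j, hj1, hj2⟩ := exists_sq_root (hT.to_quotient A) (x := (QuotientGroup.mk t : T ⧸ A))
      (fun e => ht ((QuotientGroup.eq_one_iff t).mp e))
    rw [← QuotientGroup.mk_pow] at hj1 hj2
    rw [← QuotientGroup.mk_mul] at hj2
    exact ⟨t ^ 2 ^ j, fun h => hj1 ((QuotientGroup.eq_one_iff _).mpr h), (QuotientGroup.eq_one_iff _).mp hj2⟩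
  obtain ⟨a, haA, ha⟩ := exists_root hO hT hf x hn hy₀2 (by
    rw [← pow_two, ← pow_mul, ← pow_succ']; exact hexp y₀)
  -- adjust so that the square is an involution
  have key : ∀ u w : T, u ∈ A → u * u = w * w → ⁅u, w⁆ ∈ Ω := by
    intro u w hu huw
    set c := ⁅u, w⁆ with hc
    have hcA : c ∈ A := by
      rw [hc, commutatorElement_def, show u * w * u⁻¹ * w⁻¹ = u * (w * u⁻¹ * w⁻¹) by group]
      exact mul_mem hu (hAn.conj_mem _ (inv_mem hu) w)
    have hcW : c ∈ orbSub f w := by
      rw [hc, commutatorElement_def]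
      exact mul_mem (conj_mem_orbSub hO hT hf w u w (self_mem_orbSub w)) (inv_mem (self_mem_orbSub w))
    have h1 : ⁅u * u, w⁆ = c * c := comm_mul_left (hAc u hu c hcA)
    rw [huw, show ⁅w * w, w⁆ = (1 : T) by rw [commutatorElement_def]; group] at h1
    exact (hO.mem_iff c).mpr h1.symm
  set y := y₀ * a⁻¹ with hy
  have hyA : y ∉ A := fun h => hy₀A (by simpa [hy] using mul_mem h haA)
  have hy2 : y * y ∈ Ω := by
    have e2 : y * y = ⁅a⁻¹, y₀⁆ := by
      have hcy : ⁅a, y₀⁆ ∈ Ω := key a y₀ haA ha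
      rw [hy]
      calc y₀ * a⁻¹ * (y₀ * a⁻¹) = y₀ * (⁅a⁻¹, y₀⁆ * y₀ * a⁻¹) * a⁻¹ := by
            rw [commutatorElement_def]; group
        _ = (y₀ * ⁅a⁻¹, y₀⁆) * (y₀ * (a * a)⁻¹) := by group
        _ = ⁅a⁻¹, y₀⁆ * (y₀ * y₀) * (a * a)⁻¹ := by
            have h' : ⁅a⁻¹, y₀⁆ ∈ Ω := by
              rw [show ⁅a⁻¹, y₀⁆ = a⁻¹ * ⁅a, y₀⁆⁻¹ * a by simp only [commutatorElement_def]; group,
                hO.comm _ (inv_mem hcy) a⁻¹, inv_mul_cancel_right]
              exact inv_mem hcy
            rw [hO.comm _ h' y₀]; group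
        _ = _ := by rw [ha, mul_inv_cancel_right]
    rw [e2, show ⁅a⁻¹, y₀⁆ = a⁻¹ * ⁅a, y₀⁆⁻¹ * a by simp only [commutatorElement_def]; group,
      hO.comm _ (inv_mem (key a y₀ haA ha)) a⁻¹, inv_mul_cancel_right]
    exact inv_mem (key a y₀ haA ha)
  have hA4 : ∀ b ∈ A, (b * b) * y = y * (b * b) := by
    intro b hb
    set d := ⁅b, y⁆ with hd
    have hdA : d ∈ A := by
      rw [hd, commutatorElement_def, show b * y * b⁻¹ * y⁻¹ = b * (y * b⁻¹ * y⁻¹) by group]
      exact mul_mem hb (hAn.conj_mem _ (inv_mem hb) y)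
    have hdW : d ∈ orbSub f y := by
      rw [hd, commutatorElement_def]
      exact mul_mem (conj_mem_orbSub hO hT hf y b y (self_mem_orbSub y)) (inv_mem (self_mem_orbSub y))
    have h1 : ⁅b, y * y⁆ = d * d := comm_mul_right (orbSub_comm hf y y (self_mem_orbSub y) d hdW)
    rw [show ⁅b, y * y⁆ = (1 : T) from commutatorElement_eq_one_iff_mul_comm.mpr (hO.comm _ hy2 b)] at h1
    have h2 : ⁅b * b, y⁆ = d * d := comm_mul_left (hAc b hb d hdA)
    exact commutatorElement_eq_one_iff_mul_comm.mp (h2.trans h1.symm)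
  have hm : m ≤ 1 := by
    by_contra hlt
    obtain ⟨b, hbA, hb⟩ := exists_root hO hT hf x hn (hΩA hy2) (by
      rw [show m = (m - 1) + 1 by omega, pow_succ', pow_mul, pow_two, self_mul_self hO hy2, one_pow])
    have hb4 : b ^ 4 = 1 := by
      rw [show (4 : ℕ) = 2 * 2 from rfl, pow_mul, pow_two b, hb, pow_two, self_mul_self hO hy2]
    obtain ⟨c, hcA, hc⟩ := exists_root hO hT hf x hn hbA (by
      rw [show m = (m - 2) + 2 by omega, pow_add, mul_comm, pow_mul]
      norm_num [hb4])
    have hby : b * y = y * b := by rw [← hc]; exact hA4 c hcA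
    refine hyA ?_
    have h1 : b⁻¹ * y ∈ Ω := (hO.mem_iff _).mpr (by
      calc b⁻¹ * y * (b⁻¹ * y) = b⁻¹ * (y * b⁻¹) * y := by group
        _ = b⁻¹ * (b⁻¹ * y) * y := by
          rw [show y * b⁻¹ = b⁻¹ * y from (Commute.inv_left (show Commute b y from hby)).eq.symm]
        _ = (b * b)⁻¹ * (y * y) := by group
        _ = 1 := by rw [hb, inv_mul_cancel])
    simpa using mul_mem hbA (hΩA h1)
  have hm1 : m = 1 := by
    by_contra h
    obtain rfl : m = 0 := by omega
    refine hAT (eq_top_iff.mpr fun t _ => hΩA ((hO.mem_iff t).mpr ?_))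
    have := hexp t
    rwa [show 2 ^ (0 + 1) = 2 from rfl, pow_two] at this
  subst hm1
  have hsq : ∀ t : T, t * t ∈ Ω := fun t => (hO.mem_iff _).mpr (by
    rw [← pow_two, ← pow_two, ← pow_mul]
    exact hexp t)
  have hcomm : ∀ u w : T, ⁅u, w⁆ ∈ Ω := by
    intro u w
    have e : ⁅u, w⁆ = u * w * (u * w) * (w * w)⁻¹ * (u * u)⁻¹ := by
      have hc := hO.comm _ (inv_mem (hsq u)) w⁻¹
      calc ⁅u, w⁆ = u * w * u * ((u * u)⁻¹ * w⁻¹) := by rw [commutatorElement_def]; group
        _ = u * w * u * (w⁻¹ * (u * u)⁻¹) := by rw [hc]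
        _ = _ := by group
    rw [e]
    exact mul_mem (mul_mem (hsq _) (inv_mem (hsq _))) (inv_mem (hsq _))
  have hz1 : x * x ≠ 1 := fun e => by
    have h := orderOf_dvd_of_pow_eq_one (show x ^ 2 = 1 by rw [pow_two, e])
    rw [hn] at h
    exact absurd (Nat.le_of_dvd two_pos h) (by norm_num)
  have hyy : y * y ≠ 1 := fun e => hyA (hΩA ((hO.mem_iff y).mpr e))
  -- rotate
  obtain ⟨w, hwA, hw⟩ : ∃ w, w ∉ A ∧ w * w = x * x := by
    have h1 : f y ∉ A := fun h => hyA (by
      have := apply_mem hf x (apply_mem hf x h)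
      rwa [hf.three] at this)
    have h2 : f (f y) ∉ A := fun h => hyA (by
      have := apply_mem hf x h
      rwa [hf.three] at this)
    rcases socle_eq hO hf hy2 hyy (hsq x) with h | h | h | h
    exacts [absurd h hz1, ⟨y, hyA, h.symm⟩, ⟨f y, h1, (map_mul f y y).symm.trans h.symm⟩,
      ⟨f (f y), h2, ((map_mul f (f y) (f y)).symm.trans (congrArg f (map_mul f y y)).symm).trans h.symm⟩]
  set c := ⁅x, w⁆ with hc
  set z := x * x with hz
  have hzΩ : z ∈ Ω := hsq x
  have hsqm : ∀ u v : T, u * v * (u * v) = ⁅v, u⁆ * (u * u) * (v * v) := fun u v =>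
    sq_mul (hO.comm _ (hcomm v u) u)
  have hcc : ∀ u v : T, ⁅v, u⁆ = ⁅u, v⁆ := fun u v => by
    rw [← commutatorElement_inv u v, inv_eq_self hO (hcomm u v)]
  have hc1 : c ≠ 1 := by
    intro e
    refine hwA ?_
    have h : x * w ∈ Ω := (hO.mem_iff _).mpr (by
      rw [hsqm, hcc, ← hc, e, one_mul, hw, ← hz, self_mul_self hO hzΩ])
    simpa using mul_mem (inv_mem (self_mem_orbSub (f := f) x)) (hΩA h)
  -- `⁅x, f w⁆ = f (f c)`
  obtain ⟨hrel, hrel2⟩ : ⁅x, f w⁆ = c * f c ∧ ⁅x, f (f w)⁆ = f c := by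
    have e1 : ⁅x, f (f w)⁆ = c * ⁅x, f w⁆ := by
      rw [apply_apply_eq hf w, show ⁅x, (w * f w)⁻¹⁆ = (w * f w)⁻¹ * ⁅x, w * f w⁆⁻¹ * (w * f w) by
        simp only [commutatorElement_def]; group, hO.comm _ (inv_mem (hcomm _ _)), inv_mul_cancel_right,
        inv_eq_self hO (hcomm _ _), comm_mul_right (hO.comm _ (hcomm _ _) w)]
    have e2 : ⁅x, f (f w)⁆ = ⁅f x, f w⁆ := by
      have h := commute_apply hf.fpf hf.three (x * f w)
      have h' : ⁅x * f w, f x * f (f w)⁆ = 1 := by
        rw [← map_mul]; exact commutatorElement_eq_one_iff_mul_comm.mpr h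
      have hx0 : ⁅x, f x⁆ = 1 := commutatorElement_eq_one_iff_mul_comm.mpr (commute_apply hf.fpf hf.three x)
      have hw0 : ⁅f w, f (f w)⁆ = 1 :=
        commutatorElement_eq_one_iff_mul_comm.mpr (commute_apply hf.fpf hf.three (f w))
      rw [comm_mul_left (hO.comm _ (hcomm _ _) x), comm_mul_right (hO.comm _ (hcomm _ _) (f x)),
        comm_mul_right (hO.comm _ (hcomm _ _) (f x)), hx0, hw0, one_mul, mul_one] at h'
      rw [← inv_eq_of_mul_eq_one_right h', inv_eq_self hO (hcomm _ _), hcc]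
    rw [← map_commutatorElement, ← hc] at e2
    rw [e2] at e1
    exact ⟨by rw [e1, ← mul_assoc, self_mul_self hO (hcomm x w), one_mul], e2⟩
  have hfc : c * f c = f (f c) := by
    rw [apply_apply_eq hf c, inv_eq_self hO]
    exact mul_mem (hcomm x w) ((hO.mem_iff _).mpr (by rw [← map_mul, self_mul_self hO (hcomm x w), map_one]))
  have hcz : c ≠ z := by
    intro e
    refine hwA ?_
    have h : x * f w ∈ Ω := (hO.mem_iff _).mpr (by
      rw [hsqm, hcc, hrel, hfc, e, ← map_mul, hw, ← hz]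
      calc f (f z) * z * f z = z * f (f z) * f z := by rw [← hO.comm z hzΩ]
        _ = 1 := orbit_prod hf.sq.fpf hf.sq.three z ▸ by simp [MulEquiv.trans_apply, hf.three])
    have h1 : f w ∈ A := by simpa using mul_mem (inv_mem (self_mem_orbSub (f := f) x)) (hΩA h)
    have := apply_mem hf x (apply_mem hf x h1)
    rwa [hf.three] at this
  -- generation
  have hcard : Nat.card T ≤ 64 := by
    have h := index_le_sixteen hO hT Ω ⊤ le_top le_rfl (fun z hz t _ => hO.comm z hz t) (fun t _ => hsq t)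
      (fun u _ v _ => hcomm u v)
    rw [Subgroup.card_top, hO.card] at h
    exact h
  have hfw : f w ∉ zpowers w ⊔ A := by
    intro h
    have hn' : w ∈ normalizer (A : Set T) := by rw [normalizer_eq_top]; exact mem_top w
    rcases mem_zpowers_sup hn' (hΩA (hsq w)) h with h | h
    · have := apply_mem hf x (apply_mem hf x h)
      rw [hf.three] at this
      exact hwA this
    · set a' := w⁻¹ * f w with ha'
      have e1 : f w = w * a' := by rw [ha']; group
      have e2 := orbit_prod hf.fpf hf.three w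
      rw [e1, map_mul, e1] at e2
      refine hwA ?_
      have e3 : w * (w * a') * (w * a' * f a') = w * w * a' * w * a' * f a' := by group
      rw [e3] at e2
      have : w * w * a' * w ∈ A := by
        rw [eq_inv_of_mul_eq_one_left (show (w * w * a' * w) * (a' * f a') = 1 by
          rw [← mul_assoc]; exact e2)]
        exact inv_mem (mul_mem h (apply_mem hf x h))
      have h9 := mul_mem (inv_mem (mul_mem (hΩA (hsq w)) h)) this
      rwa [show (w * w * a')⁻¹ * (w * w * a' * w) = w by group] at h9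
  have hA16 : Nat.card A = 16 := by rw [hA, card_orbSub hO hT hf x hn]; rfl
  have hgen : zpowers (f w) ⊔ (zpowers w ⊔ A) = ⊤ := by
    have l1 : A < zpowers w ⊔ A := lt_of_le_of_ne le_sup_right fun e => hwA (by
      rw [e]; exact mem_sup_left (mem_zpowers w))
    have l2 : zpowers w ⊔ A < zpowers (f w) ⊔ (zpowers w ⊔ A) := lt_of_le_of_ne le_sup_right fun e => hfw (by
      rw [e]; exact mem_sup_left (mem_zpowers (f w)))
    refine Subgroup.eq_top_of_le_card _ ?_
    have := two_mul_card_le l1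
    have := two_mul_card_le l2
    omega
  have h64 : Nat.card T = 64 := by
    have l1 : A < zpowers w ⊔ A := lt_of_le_of_ne le_sup_right fun e => hwA (by
      rw [e]; exact mem_sup_left (mem_zpowers w))
    have l2 : zpowers w ⊔ A < ⊤ := lt_top_iff_ne_top.mpr fun e => hfw (e ▸ mem_top (f w))
    have := two_mul_card_le l1
    have := two_mul_card_le l2
    rw [Subgroup.card_top] at this
    omega
  have final : ∀ g : MulAut T, IsRot g → orbSub g x = A → g w ∈ closure ({x, g x, w, g w} : Set T) →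
      ((g w = f w) ∨ g w = f (f w)) → c = g z → ⁅x, g w⁆ = z → ⁅g x, w⁆ = z →
      ∃ (g : MulAut T) (x y : T), IsRot g ∧ Data g x y := by
    intro g hg hgA _ hgw hcg hcg' hcg''
    refine ⟨g, x, w, hg, h64, ⟨hz1, hO.comm z hzΩ⟩, self_mul_self hO hzΩ, hw, hcg, hcg', hcg'', ?_⟩
    have hA' : A ≤ closure ({x, g x, w, g w} : Set T) := by
      rw [← hgA]
      exact sup_le (zpowers_le.mpr (subset_closure (by simp))) (zpowers_le.mpr (subset_closure (by simp)))
    have hwc : w ∈ closure ({x, g x, w, g w} : Set T) := subset_closure (by simp)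
    have hgwc : g w ∈ closure ({x, g x, w, g w} : Set T) := subset_closure (by simp)
    have hfwc : f w ∈ closure ({x, g x, w, g w} : Set T) := by
      rcases hgw with e | e
      · rwa [← e]
      · rw [show f w = w⁻¹ * (f (f w))⁻¹ by rw [apply_apply_eq hf w]; group, ← e]
        exact mul_mem (inv_mem hwc) (inv_mem hgwc)
    exact eq_top_iff.mpr (hgen ▸ sup_le (zpowers_le.mpr hfwc) (sup_le (zpowers_le.mpr hwc) hA'))
  rcases socle_eq hO hf hzΩ hz1 (hcomm x w) with h | h | h | h
  · exact absurd h hc1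
  · exact absurd h hcz
  · have hh : c = f z := h
    refine final f hf rfl (subset_closure (by simp)) (Or.inl rfl) h ?_ ?_
    · rw [hrel, hfc, hh, hf.three]
    · conv_lhs => rw [show w = f (f (f w)) from (hf.three w).symm]
      rw [← map_commutatorElement, hrel2, hh, hf.three]
  · have hh : c = f (f z) := h
    refine final (f.trans f) hf.sq ?_ (subset_closure (by simp)) (Or.inr rfl) h ?_ ?_
    · refine le_antisymm (sup_le (zpowers_le.mpr (self_mem_orbSub x))
        (zpowers_le.mpr (apply_mem hf x (apply_mem_orbSub x)))) ?_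
      refine sup_le (zpowers_le.mpr (self_mem_orbSub x)) (zpowers_le.mpr ?_)
      rw [show f x = x⁻¹ * (f (f x))⁻¹ by rw [apply_apply_eq hf x]; group]
      exact mul_mem (inv_mem (self_mem_orbSub x)) (inv_mem (apply_mem_orbSub (f := f.trans f) x))
    · show ⁅x, f (f w)⁆ = z
      rw [hrel2, hh, hf.three]
    · show ⁅f (f x), w⁆ = z
      conv_lhs => rw [show w = f (f (f w)) from (hf.three w).symm]
      rw [← map_commutatorElement, ← map_commutatorElement, hrel, hfc, hh, hf.three, hf.three]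

end Cfsg.Agent.LocalEven.RankTwoTransitive
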