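/-
The automorphism permuting the three involutions transitively may be chosen of order three.
-/
import Cfsg.Agent.LocalEven.RankTwoTransitive

set_option autoImplicit false
set_option linter.unusedSectionVars false

namespace Cfsg.Agent.LocalEven.RankTwoTransitive

open Subgroup
open scoped commutatorElement

variable {T : Type*} [Group T] [Finite T] {Ω : Subgroup T}

theorem eq_one_of_cube (hT : IsPGroup 2 T) {x : T} (h : x ^ 3 = 1) : x = 1 := by
  obtain ⟨k, hk⟩ := hT x
  exact orderOf_eq_one_iff.mp (Nat.eq_one_of_dvd_coprimes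
    (Nat.Coprime.pow_right k (by decide : Nat.Coprime 3 2)) (orderOf_dvd_of_pow_eq_one h)
    (orderOf_dvd_of_pow_eq_one hk))

/-- An automorphism of order dividing nine whose cube fixes the socle has trivial cube. -/
theorem cube_eq_one (hO : IsSocle Ω) (hT : IsPGroup 2 T) (η : MulAut T) (h9 : ∀ x, (η ^ 9) x = x)
    (hΩ : ∀ x ∈ Ω, (η ^ 3) x = x) : η ^ 3 = 1 := by
  classical
  haveI : Fact (Nat.Prime 2) := ⟨Nat.prime_two⟩
  by_contra hne
  have h33 : ∀ x, (η ^ 3) ((η ^ 3) ((η ^ 3) x)) = x := fun x => by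
    rw [← MulAut.mul_apply, ← MulAut.mul_apply, ← pow_add, ← pow_add]; exact h9 x
  have hη : ∀ x, (η ^ 3) (η x) = η ((η ^ 3) x) := fun x => by
    rw [← MulAut.mul_apply, ← MulAut.mul_apply, ← pow_succ, ← pow_succ']
  set C : Subgroup T := (η ^ 3).toMonoidHom.eqLocus (MonoidHom.id T) with hC
  have memC : ∀ x, x ∈ C ↔ (η ^ 3) x = x := fun x => Iff.rfl
  have hCtop : C < ⊤ := lt_top_iff_ne_top.mpr fun e => hne (MulEquiv.ext fun x =>
    (memC x).mp (e ▸ Subgroup.mem_top x))
  haveI : Group.IsNilpotent T := hT.isNilpotent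
  obtain ⟨n, hnN, hnC⟩ := SetLike.exists_of_lt (Group.normalizerCondition_of_isNilpotent C hCtop)
  set D : Subgroup T := centralizer (C : Set T) with hD
  obtain ⟨d, hdD, hdC⟩ : ∃ d ∈ D, d ∉ C := by
    refine ⟨(η ^ 3) n * n⁻¹, mem_centralizer_iff.mpr fun c hc => ?_, fun h => ?_⟩
    · have h1 : n⁻¹ * c * n ∈ C := by
        have := (Subgroup.mem_normalizer_iff.mp ((normalizer (C : Set T)).inv_mem hnN) c).mp hc
        rwa [inv_inv] at this
      have h2 := (memC _).mp h1
      rw [map_mul, map_mul, map_inv, (memC c).mp hc] at h2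
      have e : c * ((η ^ 3) n * n⁻¹) = (η ^ 3) n * n⁻¹ * c := by
        calc c * ((η ^ 3) n * n⁻¹) = (η ^ 3) n * (((η ^ 3) n)⁻¹ * c * (η ^ 3) n) * n⁻¹ := by group
          _ = (η ^ 3) n * (n⁻¹ * c * n) * n⁻¹ := by rw [h2]
          _ = _ := by group
      exact e
    · obtain ⟨w, hw⟩ : ∃ w, w = (η ^ 3) n * n⁻¹ := ⟨_, rfl⟩
      rw [← hw] at h
      have e1 : (η ^ 3) n = w * n := by rw [hw]; group
      have h3 := h33 n
      rw [e1, map_mul, e1, map_mul, map_mul, (memC w).mp h, (memC w).mp h, e1] at h3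
      have hw3 : w ^ 3 = 1 := by
        calc w ^ 3 = w * (w * (w * n)) * n⁻¹ := by rw [pow_three]; group
          _ = 1 := by rw [h3, mul_inv_cancel]
      exact hnC ((memC n).mpr (by rw [e1, eq_one_of_cube hT hw3, one_mul]))
  set A : Subgroup T := C ⊓ D with hA
  have hcen : ∀ a ∈ A, ∀ w ∈ D, w * a = a * w := fun a ha w hw =>
    (mem_centralizer_iff.mp hw a ha.1).symm
  have hΩA : Ω ≤ A := fun z hz =>
    ⟨(memC z).mpr (hΩ z hz), mem_centralizer_iff.mpr fun c _ => hO.comm z hz c⟩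
  -- the preimage of the involutions of the centre of `D / A`
  let W : Subgroup T :=
    { carrier := {w | w ∈ D ∧ w * w ∈ A ∧ ∀ e ∈ D, ⁅w, e⁆ ∈ A}
      one_mem' := ⟨one_mem _, by rw [one_mul]; exact one_mem _, fun e _ => by
        rw [commutatorElement_one_left]; exact one_mem _⟩
      mul_mem' := by
        rintro v w ⟨hv, hv2, hv3⟩ ⟨hw, hw2, hw3⟩
        refine ⟨mul_mem hv hw, ?_, fun e he => ?_⟩
        · have hc := hw3 v hv
          rw [sq_mul (hcen _ hc _ hv)]
          exact mul_mem (mul_mem hc hv2) hw2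
        · rw [comm_mul_left (hcen _ (hw3 e he) _ hv)]
          exact mul_mem (hw3 e he) (hv3 e he)
      inv_mem' := by
        rintro v ⟨hv, hv2, hv3⟩
        refine ⟨inv_mem hv, ?_, fun e he => ?_⟩
        · rw [← mul_inv_rev]; exact inv_mem hv2
        · have hc := inv_mem (hv3 e he)
          rw [show ⁅v⁻¹, e⁆ = v⁻¹ * ⁅v, e⁆⁻¹ * v by simp only [commutatorElement_def]; group,
            hcen _ hc _ (inv_mem hv), inv_mul_cancel_right]
          exact hc }
  have hAW : A ≤ W := fun a ha => ⟨ha.2, mul_mem ha ha, fun e he => by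
    rw [show ⁅a, e⁆ = 1 from commutatorElement_eq_one_iff_mul_comm.mpr (hcen a ha e he).symm]
    exact one_mem _⟩
  haveI hAn : (A.subgroupOf D).Normal := ⟨fun a ha g => by
    show (g : T) * a * (g : T)⁻¹ ∈ A
    rw [hcen (a : T) ha g g.2, mul_inv_cancel_right]; exact ha⟩
  -- `W` is larger than `A`
  obtain ⟨w₀, hw₀W, hw₀A⟩ : ∃ w ∈ W, w ∉ A := by
    set π := QuotientGroup.mk' (A.subgroupOf D)
    haveI : Nontrivial (D ⧸ A.subgroupOf D) := ⟨⟨π ⟨d, hdD⟩, 1, fun e =>
      hdC ((QuotientGroup.eq_one_iff (N := A.subgroupOf D) (⟨d, hdD⟩ : D)).mp e).1⟩⟩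
    have hP := (hT.to_subgroup D).to_quotient (A.subgroupOf D)
    haveI := hP.center_nontrivial
    obtain ⟨v, hv⟩ := exists_ne (1 : Subgroup.center (D ⧸ A.subgroupOf D))
    obtain ⟨j, hj1, hj2⟩ := exists_sq_root hP (x := (v : D ⧸ A.subgroupOf D))
      (fun e => hv (Subtype.ext e))
    obtain ⟨u, hu⟩ := QuotientGroup.mk'_surjective (A.subgroupOf D) ((v : D ⧸ A.subgroupOf D) ^ 2 ^ j)
    refine ⟨u, ⟨u.2, ?_, fun e he => ?_⟩, fun h => hj1 ?_⟩
    · rw [← hu, ← map_mul] at hj2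
      exact (QuotientGroup.eq_one_iff (N := A.subgroupOf D) (u * u)).mp hj2
    · have hc := Subgroup.mem_center_iff.mp (pow_mem v.2 (2 ^ j)) (π ⟨e, he⟩)
      rw [← hu, ← map_mul, ← map_mul] at hc
      have h1 : π ⁅u, (⟨e, he⟩ : D)⁆ = 1 := by
        rw [commutatorElement_def, map_mul, map_mul, ← hc, ← map_mul, ← map_mul]
        simp
      exact (QuotientGroup.eq_one_iff (N := A.subgroupOf D) _).mp h1
    · rw [← hu]
      exact (QuotientGroup.eq_one_iff (N := A.subgroupOf D) u).mpr h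
  have h16 : Nat.card A * 16 ≥ Nat.card W :=
    index_le_sixteen hO hT A W hAW hΩA (fun a ha w hw => hcen a ha w hw.1) (fun w hw => hw.2.1)
      (fun w hw w' hw' => hw.2.2 w' hw'.1)
  -- `η` preserves `A` and `W`
  have hCη : ∀ x ∈ C, η x ∈ C := fun x hx => (memC _).mpr (by rw [hη, (memC x).mp hx])
  have hCη' : ∀ x, η x ∈ C → x ∈ C := fun x hx => (memC _).mpr (η.injective (by
    rw [← hη]; exact (memC _).mp hx))
  have hDη : ∀ x ∈ D, η x ∈ D := fun x hx => mem_centralizer_iff.mpr fun c hc => by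
    obtain ⟨c', rfl⟩ := η.surjective c
    rw [← map_mul, ← map_mul, mem_centralizer_iff.mp hx c' (hCη' c' hc)]
  have hAη : ∀ x ∈ A, η x ∈ A := fun x hx => ⟨hCη x hx.1, hDη x hx.2⟩
  have hDpow : ∀ (k : ℕ), ∀ x ∈ D, (η ^ k) x ∈ D := by
    intro k
    induction k with
    | zero => intro x hx; simpa using hx
    | succ k ih => intro x hx; rw [pow_succ', MulAut.mul_apply]; exact hDη _ (ih x hx)
  have hApow : ∀ (k : ℕ), ∀ x ∈ A, (η ^ k) x ∈ A := by
    intro k
    induction k with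
    | zero => intro x hx; simpa using hx
    | succ k ih => intro x hx; rw [pow_succ', MulAut.mul_apply]; exact hAη _ (ih x hx)
  have hWη : ∀ w ∈ W, η w ∈ W := fun w hw => ⟨hDη w hw.1, by rw [← map_mul]; exact hAη _ hw.2.1,
    fun e he => by
      have e8 : η ((η ^ 8) e) = e := by rw [← MulAut.mul_apply, ← pow_succ']; exact h9 e
      rw [← e8, ← map_commutatorElement]
      exact hAη _ (hw.2.2 _ (hDpow 8 e he))⟩
  have hWpow : ∀ (k : ℕ), ∀ x ∈ W, (η ^ k) x ∈ W := by
    intro k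
    induction k with
    | zero => intro x hx; simpa using hx
    | succ k ih => intro x hx; rw [pow_succ', MulAut.mul_apply]; exact hWη _ (ih x hx)
  set A' := A.subgroupOf W with hA'
  have hinj : ∀ (v : W), (v : T) ∉ A → ∀ i j : ℕ, i < 9 → j < 9 →
      ((η ^ i) (v : T))⁻¹ * (η ^ j) (v : T) ∈ A → i = j := by
    intro v hv
    -- no power prime to nine fixes the class
    have key : ∀ m : ℕ, 0 < m → m < 9 → ¬ (v : T)⁻¹ * (η ^ m) (v : T) ∈ A := by
      intro m hm1 hm9 hmem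
      set S : Set ℕ := {k | (v : T)⁻¹ * (η ^ k) (v : T) ∈ A}
      have hadd : ∀ a b, a ∈ S → b ∈ S → a + b ∈ S := fun a b ha hb => by
        show (v : T)⁻¹ * (η ^ (a + b)) (v : T) ∈ A
        rw [pow_add, MulAut.mul_apply]
        have h1 := hApow a _ hb
        rw [map_mul, map_inv] at h1
        simpa [mul_assoc] using mul_mem (show (v : T)⁻¹ * (η ^ a) (v : T) ∈ A from ha) h1
      have hmul : ∀ c, c * m ∈ S := by
        intro c
        induction c with
        | zero => show _ * _ ∈ A; simp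
        | succ c ih => rw [Nat.succ_mul]; exact hadd _ _ ih hmem
      have hmod : ∀ k, k ∈ S → k % 9 ∈ S := fun k hk => by
        have e : η ^ k = η ^ (k % 9) := by
          have h1 : η ^ 9 = 1 := MulEquiv.ext h9
          conv_lhs => rw [← Nat.mod_add_div k 9, pow_add, pow_mul, h1, one_pow, mul_one]
        show (v : T)⁻¹ * (η ^ (k % 9)) (v : T) ∈ A
        rw [← e]; exact hk
      have h3 : (3 : ℕ) ∈ S := by
        have : ∃ c, c * m % 9 = 3 := by
          interval_cases m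
          exacts [⟨3, rfl⟩, ⟨6, rfl⟩, ⟨1, rfl⟩, ⟨3, rfl⟩, ⟨6, rfl⟩, ⟨2, rfl⟩, ⟨3, rfl⟩, ⟨6, rfl⟩]
        obtain ⟨c, hc⟩ := this
        have := hmod _ (hmul c)
        rwa [hc] at this
      have h3' : (v : T)⁻¹ * (η ^ 3) (v : T) ∈ A := h3
      obtain ⟨a, ha⟩ : ∃ a, a = (v : T)⁻¹ * (η ^ 3) (v : T) := ⟨_, rfl⟩
      rw [← ha] at h3'
      have e1 : (η ^ 3) (v : T) = (v : T) * a := by rw [ha]; group
      have h := h33 (v : T)
      rw [e1, map_mul, e1, (memC a).mp h3'.1, map_mul, map_mul, e1, (memC a).mp h3'.1] at h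
      have ha3 : a ^ 3 = 1 := by
        calc a ^ 3 = (v : T)⁻¹ * ((v : T) * a * a * a) := by rw [pow_three]; group
          _ = 1 := by rw [h, inv_mul_cancel]
      exact hv ⟨(memC _).mpr (by rw [e1, eq_one_of_cube hT ha3, mul_one]), v.2.1⟩
    intro i j hi hj hmem
    by_contra hij
    rcases Nat.lt_or_gt_of_ne hij with h | h
    · obtain ⟨m, rfl⟩ := Nat.exists_eq_add_of_lt h
      refine key (m + 1) (by omega) (by omega) ?_
      have := hApow (9 - i) _ hmem
      rwa [map_mul, map_inv, ← MulAut.mul_apply, ← MulAut.mul_apply, ← pow_add, ← pow_add,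
        show 9 - i + i = 9 by omega, h9, show 9 - i + (i + m + 1) = 9 + (m + 1) by omega, pow_add,
        MulAut.mul_apply, h9] at this
    · obtain ⟨m, rfl⟩ := Nat.exists_eq_add_of_lt h
      refine key (m + 1) (by omega) (by omega) ?_
      have := inv_mem (hApow (9 - j) _ hmem)
      rwa [map_mul, map_inv, ← MulAut.mul_apply, ← MulAut.mul_apply, ← pow_add, ← pow_add,
        show 9 - j + j = 9 by omega, h9, show 9 - j + (j + m + 1) = 9 + (m + 1) by omega, pow_add,
        MulAut.mul_apply, h9, mul_inv_rev, inv_inv] at this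
  haveI : A'.Normal := ⟨fun a ha g => by
    show (g : T) * a * (g : T)⁻¹ ∈ A
    rw [hcen (a : T) ha g g.2.1, mul_inv_cancel_right]; exact ha⟩
  let orb : W → Fin 9 → W ⧸ A' := fun v i =>
    QuotientGroup.mk (⟨(η ^ (i : ℕ)) (v : T), hWpow _ _ v.2⟩ : W)
  have orbinj : ∀ v : W, (v : T) ∉ A → Function.Injective (orb v) := fun v hv i j e =>
    Fin.ext (hinj v hv i j i.2 j.2 ((QuotientGroup.eq (s := A')
      (a := (⟨(η ^ (i : ℕ)) (v : T), hWpow _ _ v.2⟩ : W))
      (b := (⟨(η ^ (j : ℕ)) (v : T), hWpow _ _ v.2⟩ : W))).mp e))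
  have orbne : ∀ v : W, (v : T) ∉ A → ∀ i, orb v i ≠ 1 := fun v hv i e => hv (by
    have h1 := hApow (9 - i) _ ((QuotientGroup.eq_one_iff (N := A') _).mp e)
    change (η ^ (9 - (i : ℕ))) ((η ^ (i : ℕ)) (v : T)) ∈ A at h1
    rwa [← MulAut.mul_apply, ← pow_add,
      show 9 - (i : ℕ) + i = 9 by omega, h9] at h1)
  haveI := Fintype.ofFinite (W ⧸ A')
  have hWA : Nat.card (W ⧸ A') * Nat.card A = Nat.card W := by
    rw [Subgroup.card_eq_card_quotient_mul_card_subgroup A', hA',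
      Nat.card_congr (Subgroup.subgroupOfEquivOfLe hAW).toEquiv]
  have hq16 : Fintype.card (W ⧸ A') ≤ 16 := by
    rw [← Nat.card_eq_fintype_card]
    refine Nat.le_of_mul_le_mul_right ?_ (Nat.card_pos (α := A))
    rw [hWA, mul_comm]; exact h16
  set O₁ := Finset.univ.image (orb ⟨w₀, hw₀W⟩)
  have hO₁ : O₁.card = 9 := by
    rw [Finset.card_image_of_injective _ (orbinj _ hw₀A), Finset.card_univ, Fintype.card_fin]
  have h1O : (1 : W ⧸ A') ∉ O₁ := by
    intro h
    obtain ⟨i, -, hi⟩ := Finset.mem_image.mp h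
    exact orbne _ hw₀A i hi
  -- the classes cannot be exhausted by one orbit, by parity
  obtain ⟨u, hu⟩ : ∃ u, u ∉ insert (1 : W ⧸ A') O₁ := by
    by_contra h
    push Not at h
    have he : insert (1 : W ⧸ A') O₁ = Finset.univ := Finset.eq_univ_of_forall h
    have hc : Fintype.card (W ⧸ A') = 10 := by
      rw [← Finset.card_univ, ← he, Finset.card_insert_of_notMem h1O, hO₁]
    obtain ⟨k, hk⟩ := ((hT.to_subgroup W).to_quotient A').exists_card_eq
    rw [Nat.card_eq_fintype_card, hc] at hk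
    have : k < 4 := by
      by_contra h4
      have := Nat.pow_le_pow_right (show 1 ≤ 2 by norm_num) (show 4 ≤ k by omega)
      omega
    interval_cases k <;> norm_num at hk
  obtain ⟨v, rfl⟩ := QuotientGroup.mk_surjective u
  have hvA : (v : T) ∉ A := fun h => hu (Finset.mem_insert.mpr (Or.inl ((QuotientGroup.eq_one_iff _).mpr h)))
  set O₂ := Finset.univ.image (orb v)
  have hO₂ : O₂.card = 9 := by
    rw [Finset.card_image_of_injective _ (orbinj _ hvA), Finset.card_univ, Fintype.card_fin]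
  have hdisj : Disjoint O₁ O₂ := by
    refine Finset.disjoint_left.mpr fun x hx hx' => hu (Finset.mem_insert.mpr (Or.inr ?_))
    obtain ⟨i, -, rfl⟩ := Finset.mem_image.mp hx
    obtain ⟨j, -, hj⟩ := Finset.mem_image.mp hx'
    refine Finset.mem_image.mpr ⟨⟨((9 - (j : ℕ)) + i) % 9, Nat.mod_lt _ (by norm_num)⟩, Finset.mem_univ _, ?_⟩
    refine QuotientGroup.eq.mpr ?_
    show ((η ^ (((9 - (j : ℕ)) + i) % 9)) w₀)⁻¹ * (v : T) ∈ A
    have h1 := hApow (9 - (j : ℕ)) _ (inv_mem (QuotientGroup.eq.mp hj : _ ∈ A'))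
    have e : ((η ^ (((9 - (j : ℕ)) + i) % 9))) = η ^ (9 - (j : ℕ) + i) := by
      have h1 : η ^ 9 = 1 := MulEquiv.ext h9
      conv_rhs => rw [← Nat.mod_add_div (9 - (j : ℕ) + i) 9, pow_add, pow_mul, h1, one_pow, mul_one]
    rw [e]
    change (η ^ (9 - (j : ℕ))) (((η ^ (j : ℕ)) (v : T))⁻¹ * (η ^ (i : ℕ)) w₀)⁻¹ ∈ A at h1
    rwa [mul_inv_rev, inv_inv, map_mul, map_inv, ← MulAut.mul_apply, ← MulAut.mul_apply, ← pow_add,
      ← pow_add, show 9 - (j : ℕ) + j = 9 by omega, h9] at h1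
  have := (Finset.card_le_univ (O₁ ∪ O₂)).trans hq16
  rw [Finset.card_union_of_disjoint hdisj, hO₁, hO₂] at this
  omega

/-- An automorphism of 3-power order without fixed points on the socle has order three. -/
theorem order_three (hO : IsSocle Ω) (hT : IsPGroup 2 T) : ∀ (k : ℕ) (ψ : MulAut T), ψ ^ 3 ^ k = 1 →
    (∀ x ∈ Ω, (ψ ^ 3) x = x) → ψ ^ 3 = 1 := by
  intro k
  induction k with
  | zero => intro ψ h _; rw [pow_zero, pow_one] at h; rw [h, one_pow]
  | succ k ih =>
    intro ψ h hΩ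
    rcases Nat.eq_zero_or_pos k with rfl | hk
    · simpa using h
    refine ih ψ ?_ hΩ
    have hfix : ∀ (m : ℕ), ∀ x ∈ Ω, (ψ ^ (3 * m)) x = x := by
      intro m
      induction m with
      | zero => intro x _; simp
      | succ m ihm => intro x hx; rw [Nat.mul_succ, pow_add, MulAut.mul_apply, hΩ x hx, ihm x hx]
    have := cube_eq_one hO hT (ψ ^ 3 ^ (k - 1)) (fun x => by
        rw [← pow_mul, show 3 ^ (k - 1) * 9 = 3 ^ (k + 1) by
          rw [show k + 1 = k - 1 + 2 by omega, pow_add]; norm_num, h]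
        rfl)
      (fun x hx => by
        rw [← pow_mul, mul_comm]; exact hfix _ x hx)
    rw [← pow_mul, ← pow_succ, show k - 1 + 1 = k by omega] at this
    exact this

end Cfsg.Agent.LocalEven.RankTwoTransitive
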