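/-
The relations of the group of order 64 determine it; a 2-group of rank two with an automorphism
transitive on involutions is homocyclic or satisfies them.
-/
import Cfsg.Agent.LocalEven.RankTwoDichotomy
import Cfsg.Agent.LocalEven.RankTwoOrderThree
import Cfsg.Prelude.Def_CaseTheorems

set_option autoImplicit false
set_option linter.unusedSectionVars false

namespace Cfsg.Agent.LocalEven.RankTwoTransitive

open Subgroup
open scoped commutatorElement

variable {T : Type*} [Group T] [Finite T] {U : Type*} [Group U] [Finite U]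

/-- Everything needed about the four generators. -/
structure Rels (v : Fin 4 → T) : Prop where
  card : Nat.card T = 64
  cen : ∀ i, i < 2 → ∀ t : T, t * (v i * v i) = v i * v i * t
  sq : ∀ i, i < 2 → v i * v i * (v i * v i) = 1
  sq2 : v 2 * v 2 = v 0 * v 0
  sq3 : v 3 * v 3 = v 1 * v 1
  c01 : ⁅v 0, v 1⁆ = 1
  c23 : ⁅v 2, v 3⁆ = 1
  c02 : ⁅v 0, v 2⁆ = v 1 * v 1
  c03 : ⁅v 0, v 3⁆ = v 0 * v 0
  c12 : ⁅v 1, v 2⁆ = v 0 * v 0
  c13 : ⁅v 1, v 3⁆ = v 0 * v 0 * (v 1 * v 1)
  gen : closure (Set.range v) = ⊤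

theorem Data.rels {f : MulAut T} {x y : T} (hf : IsRot f) (h : Data f x y) :
    Rels ![x, f x, y, f y] := by
  set z := x * x with hz
  have hfzc : ∀ t, t * f z = f z * t := fun t => by
    obtain ⟨s, rfl⟩ := f.surjective t
    rw [← map_mul, h.socle.2 s, map_mul]
  have hfx : f x * f x = f z := (map_mul f x x).symm
  have e0 : ∀ u : T, ⁅u, f u⁆ = 1 := fun u =>
    commutatorElement_eq_one_iff_mul_comm.mpr (commute_apply hf.fpf hf.three u)
  refine ⟨h.card, ?_, ?_, h.y_sq, ?_, e0 x, e0 y, ?_, h.comm', h.comm'', ?_, ?_⟩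
  · intro i hi
    fin_cases i <;> first | (exact absurd hi (by decide)) | skip
    · exact h.socle.2
    · show ∀ t, t * (f x * f x) = f x * f x * t
      rw [hfx]; exact hfzc
  · intro i hi
    fin_cases i <;> first | (exact absurd hi (by decide)) | skip
    · exact h.z_sq
    · show f x * f x * (f x * f x) = 1
      rw [hfx, ← map_mul, h.z_sq, map_one]
  · show f y * f y = f x * f x
    rw [← map_mul, h.y_sq, map_mul]
  · show ⁅x, y⁆ = f x * f x
    rw [h.comm, map_mul]
  · show ⁅f x, f y⁆ = z * (f x * f x)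
    rw [← map_commutatorElement, h.comm, hfx, apply_apply_eq hf z, mul_inv_rev,
      inv_eq_of_mul_eq_one_right h.z_sq,
      inv_eq_of_mul_eq_one_right (show f z * f z = 1 by rw [← map_mul, h.z_sq, map_one]), hfzc z]
  · rw [← h.gen]
    congr 1
    ext t
    simp [Fin.exists_fin_succ, eq_comm]
    tauto

theorem card_zpowers_sup_le {g : T} {K : Subgroup T} (hn : g ∈ normalizer (K : Set T)) (hg2 : g * g ∈ K) :
    Nat.card ↥(zpowers g ⊔ K) ≤ 2 * Nat.card K := by
  classical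
  have h : Nat.card ↥(zpowers g ⊔ K) ≤ Nat.card (K ⊕ K) := by
    refine Nat.card_le_card_of_injective (fun t => if hK : (t : T) ∈ K then Sum.inl ⟨t, hK⟩
      else Sum.inr ⟨g⁻¹ * t, (mem_zpowers_sup hn hg2 t.2).resolve_left hK⟩) ?_
    intro a b e
    dsimp only at e
    split at e <;> split at e
    · simp only [Sum.inl.injEq, Subtype.mk.injEq] at e
      exact Subtype.ext e
    · simp at e
    · simp at e
    · simp only [Sum.inr.injEq, Subtype.mk.injEq, mul_right_inj] at e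
      exact Subtype.ext e
  rw [Nat.card_sum] at h
  omega

/-- The graph subgroup of two families with the same relations has at most 64 elements. -/
theorem card_graph_le {v : Fin 4 → T} {w : Fin 4 → U} (hv : Rels v) (hw : Rels w) :
    Nat.card (closure (Set.range fun i => (v i, w i))) ≤ 64 := by
  set g : Fin 4 → T × U := fun i => (v i, w i) with hg
  set z₀ := g 0 * g 0 with hz₀
  set z₁ := g 1 * g 1 with hz₁
  have c₀ : ∀ t : T × U, t * z₀ = z₀ * t := fun t =>
    Prod.ext (hv.cen 0 (by decide) t.1) (hw.cen 0 (by decide) t.2)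
  have c₁ : ∀ t : T × U, t * z₁ = z₁ * t := fun t =>
    Prod.ext (hv.cen 1 (by decide) t.1) (hw.cen 1 (by decide) t.2)
  have s₀ : z₀ * z₀ = 1 := Prod.ext (hv.sq 0 (by decide)) (hw.sq 0 (by decide))
  have s₁ : z₁ * z₁ = 1 := Prod.ext (hv.sq 1 (by decide)) (hw.sq 1 (by decide))
  set Z : Subgroup (T × U) := zpowers z₁ ⊔ zpowers z₀ with hZ
  have hz0Z : z₀ ∈ Z := mem_sup_right (mem_zpowers _)
  have hz1Z : z₁ ∈ Z := mem_sup_left (mem_zpowers _)
  have hZc : ∀ a ∈ Z, ∀ t : T × U, t * a = a * t := by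
    have h : Z ≤ center (T × U) := sup_le (zpowers_le.mpr (mem_center_iff.mpr c₁))
      (zpowers_le.mpr (mem_center_iff.mpr c₀))
    exact fun a ha t => mem_center_iff.mp (h ha) t
  have hcm : ∀ i j, ⁅g i, g j⁆ ∈ Z := by
    have base : ⁅g 0, g 1⁆ ∈ Z ∧ ⁅g 2, g 3⁆ ∈ Z ∧ ⁅g 0, g 2⁆ ∈ Z ∧ ⁅g 0, g 3⁆ ∈ Z ∧ ⁅g 1, g 2⁆ ∈ Z ∧
        ⁅g 1, g 3⁆ ∈ Z := by
      refine ⟨?_, ?_, ?_, ?_, ?_, ?_⟩
      · rw [show ⁅g 0, g 1⁆ = 1 from Prod.ext hv.c01 hw.c01]; exact one_mem _
      · rw [show ⁅g 2, g 3⁆ = 1 from Prod.ext hv.c23 hw.c23]; exact one_mem _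
      · rw [show ⁅g 0, g 2⁆ = z₁ from Prod.ext hv.c02 hw.c02]; exact hz1Z
      · rw [show ⁅g 0, g 3⁆ = z₀ from Prod.ext hv.c03 hw.c03]; exact hz0Z
      · rw [show ⁅g 1, g 2⁆ = z₀ from Prod.ext hv.c12 hw.c12]; exact hz0Z
      · rw [show ⁅g 1, g 3⁆ = z₀ * z₁ from Prod.ext hv.c13 hw.c13]; exact mul_mem hz0Z hz1Z
    obtain ⟨b01, b23, b02, b03, b12, b13⟩ := base
    have hs : ∀ i, ⁅g i, g i⁆ ∈ Z := fun i => by
      rw [show ⁅g i, g i⁆ = 1 from commutatorElement_eq_one_iff_mul_comm.mpr rfl]; exact one_mem _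
    have hr : ∀ i j, ⁅g i, g j⁆ ∈ Z → ⁅g j, g i⁆ ∈ Z := fun i j h => by
      rw [← commutatorElement_inv]; exact inv_mem h
    intro i j
    fin_cases i <;> fin_cases j
    exacts [hs 0, b01, b02, b03, hr _ _ b01, hs 1, b12, b13, hr _ _ b02, hr _ _ b12, hs 2, b23,
      hr _ _ b03, hr _ _ b13, hr _ _ b23, hs 3]
  have hsq : ∀ i, g i * g i ∈ Z := by
    intro i
    fin_cases i
    · exact hz0Z
    · exact hz1Z
    · show g 2 * g 2 ∈ Z
      rw [show g 2 * g 2 = z₀ from Prod.ext hv.sq2 hw.sq2]; exact hz0Z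
    · show g 3 * g 3 ∈ Z
      rw [show g 3 * g 3 = z₁ from Prod.ext hv.sq3 hw.sq3]; exact hz1Z
  -- a generator normalizes every subgroup between `Z` and the generated subgroup
  have hnorm : ∀ (i : Fin 4) (K : Subgroup (T × U)), Z ≤ K → K ≤ closure (Set.range g) →
      g i ∈ normalizer (K : Set (T × U)) := by
    intro i K hZK hK
    let N : Subgroup (T × U) :=
      { carrier := {k | ⁅g i, k⁆ ∈ Z}
        one_mem' := by show ⁅g i, 1⁆ ∈ Z; rw [commutatorElement_one_right]; exact one_mem _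
        mul_mem' := fun {a b} ha hb => by
          show ⁅g i, a * b⁆ ∈ Z
          rw [comm_mul_right (hZc _ hb a)]; exact mul_mem ha hb
        inv_mem' := fun {a} ha => by
          show ⁅g i, a⁻¹⁆ ∈ Z
          rw [show ⁅g i, a⁻¹⁆ = a⁻¹ * ⁅g i, a⁆⁻¹ * a by simp only [commutatorElement_def]; group,
            hZc _ (inv_mem ha) a⁻¹, inv_mul_cancel_right]
          exact inv_mem ha }
    have hN : closure (Set.range g) ≤ N := (closure_le N).mpr (by rintro _ ⟨j, rfl⟩; exact hcm i j)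
    have hfwd : ∀ k ∈ K, g i * k * (g i)⁻¹ ∈ K := fun k hk => by
      rw [show g i * k * (g i)⁻¹ = ⁅g i, k⁆ * k by rw [commutatorElement_def]; group]
      exact mul_mem (hZK (hN (hK hk))) hk
    refine Subgroup.mem_normalizer_iff.mpr fun k => ⟨hfwd k, fun hk => ?_⟩
    obtain ⟨u, hu⟩ : ∃ u, u = g i * k * (g i)⁻¹ := ⟨_, rfl⟩
    rw [← hu] at hk
    have h2 : g i * g i ∈ K := hZK (hsq i)
    have hk2 := hfwd u hk
    rw [hu] at hk2
    have := mul_mem (mul_mem (inv_mem h2) hk2) h2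
    rwa [show (g i * g i)⁻¹ * (g i * (g i * k * (g i)⁻¹) * (g i)⁻¹) * (g i * g i) = k by group] at this
  have hgc : ∀ i, g i ∈ closure (Set.range g) := fun i => subset_closure ⟨i, rfl⟩
  have hZcl : Z ≤ closure (Set.range g) := sup_le (zpowers_le.mpr (mul_mem (hgc 1) (hgc 1)))
    (zpowers_le.mpr (mul_mem (hgc 0) (hgc 0)))
  have hle : ∀ (i : Fin 4) (K : Subgroup (T × U)), Z ≤ K → K ≤ closure (Set.range g) →
      Nat.card ↥(zpowers (g i) ⊔ K) ≤ 2 * Nat.card K := fun i K h h' =>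
    card_zpowers_sup_le (hnorm i K h h') (h (hsq i))
  set K₀ := zpowers (g 0) ⊔ Z
  set K₁ := zpowers (g 1) ⊔ K₀
  set K₂ := zpowers (g 2) ⊔ K₁
  set K₃ := zpowers (g 3) ⊔ K₂
  have l₀ : Z ≤ K₀ := le_sup_right
  have l₁ : Z ≤ K₁ := l₀.trans le_sup_right
  have l₂ : Z ≤ K₂ := l₁.trans le_sup_right
  have u₀ : K₀ ≤ closure (Set.range g) := sup_le (zpowers_le.mpr (hgc 0)) hZcl
  have u₁ : K₁ ≤ closure (Set.range g) := sup_le (zpowers_le.mpr (hgc 1)) u₀
  have u₂ : K₂ ≤ closure (Set.range g) := sup_le (zpowers_le.mpr (hgc 2)) u₁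
  have b₀ : Nat.card K₀ ≤ 2 * Nat.card Z := hle 0 Z le_rfl hZcl
  have b₁ : Nat.card K₁ ≤ 2 * Nat.card K₀ := hle 1 K₀ l₀ u₀
  have b₂ : Nat.card K₂ ≤ 2 * Nat.card K₁ := hle 2 K₁ l₁ u₁
  have b₃ : Nat.card K₃ ≤ 2 * Nat.card K₂ := hle 3 K₂ l₂ u₂
  have hZ4 : Nat.card Z ≤ 4 := by
    have h : Nat.card Z ≤ 2 * Nat.card (zpowers z₀) := card_zpowers_sup_le
      (Subgroup.mem_normalizer_iff.mpr fun k => by
        rw [show z₁ * k * z₁⁻¹ = k by rw [← c₁ k, mul_inv_cancel_right]])
      (by rw [s₁]; exact one_mem _)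
    have h0 : Nat.card (zpowers z₀) ≤ 2 := by
      rw [Nat.card_zpowers]
      exact Nat.le_of_dvd two_pos (orderOf_dvd_of_pow_eq_one (by rw [pow_two]; exact s₀))
    omega
  have hall : closure (Set.range g) ≤ K₃ := by
    rw [closure_le]
    rintro _ ⟨i, rfl⟩
    fin_cases i
    exacts [mem_sup_right (mem_sup_right (mem_sup_right (mem_sup_left (mem_zpowers _)))),
      mem_sup_right (mem_sup_right (mem_sup_left (mem_zpowers _))),
      mem_sup_right (mem_sup_left (mem_zpowers _)), mem_sup_left (mem_zpowers _)]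
  have := Subgroup.card_le_of_le hall
  omega

theorem bijective_proj {V : Type*} [Group V] [Finite V] {v : Fin 4 → T} {w : Fin 4 → U}
    (hv : Rels v) (hw : Rels w) (p : T × U →* V) (u : Fin 4 → V) (hp : ∀ i, p (v i, w i) = u i)
    (hu : closure (Set.range u) = ⊤) (hV : Nat.card V = 64) :
    Function.Bijective (p.comp (closure (Set.range fun i => (v i, w i))).subtype) := by
  set Γ := closure (Set.range fun i => (v i, w i))
  have hs : Function.Surjective (p.comp Γ.subtype) := by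
    rw [← MonoidHom.range_eq_top, eq_top_iff, ← hu, closure_le]
    rintro _ ⟨i, rfl⟩
    exact ⟨⟨(v i, w i), subset_closure ⟨i, rfl⟩⟩, hp i⟩
  exact (Nat.bijective_iff_surjective_and_card _).mpr
    ⟨hs, le_antisymm (hV ▸ card_graph_le hv hw) (Nat.card_le_card_of_surjective _ hs)⟩

/-- Groups with the same relations are isomorphic. -/
theorem iso_of_rels {v : Fin 4 → T} {w : Fin 4 → U} (hv : Rels v) (hw : Rels w) : Nonempty (T ≃* U) :=
  ⟨(MulEquiv.ofBijective _ (bijective_proj hv hw (MonoidHom.fst T U) v (fun _ => rfl) hv.gen hv.card)).symm.trans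
    (MulEquiv.ofBijective _ (bijective_proj hv hw (MonoidHom.snd T U) w (fun _ => rfl) hw.gen hw.card))⟩

/-- The socle and a rotation from an automorphism transitive on the involutions. -/
theorem exists_rot (hT : IsPGroup 2 T) (h2 : Cfsg.PRankLE 2 2 T) (h1 : ¬ Cfsg.PRankLE 2 1 T) (φ : MulAut T)
    (htrans : ∀ s t : T, orderOf s = 2 → orderOf t = 2 → ∃ k : ℕ, (φ ^ k) s = t) :
    ∃ (Ω : Subgroup T) (f : MulAut T), IsSocle Ω ∧ IsRot f := by
  classical
  haveI : Fact (Nat.Prime 2) := ⟨Nat.prime_two⟩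
  haveI : Fact (Nat.Prime 3) := ⟨Nat.prime_three⟩
  obtain ⟨A₀, hA₀c, hA₀2, hA₀⟩ : ∃ A : Subgroup T, IsMulCommutative A ∧ (∀ a ∈ A, a ^ 2 = 1) ∧
      2 < Nat.card A := by
    simp only [Cfsg.PRankLE, not_forall] at h1
    obtain ⟨A, a, b, c⟩ := h1
    exact ⟨A, a, b, by omega⟩
  haveI : Nontrivial T := by
    by_contra h
    rw [not_nontrivial_iff_subsingleton] at h
    have := Nat.card_of_subsingleton (1 : A₀)
    omega
  haveI := hT.center_nontrivial
  obtain ⟨c, hc⟩ := exists_ne (1 : Subgroup.center T)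
  obtain ⟨j, hj1, hj2⟩ := exists_sq_root hT (x := (c : T)) (fun e => hc (Subtype.ext e))
  set s := (c : T) ^ 2 ^ j
  have ho : ∀ t : T, t ≠ 1 → t * t = 1 → orderOf t = 2 := fun t a b =>
    orderOf_eq_prime (by rw [pow_two]; exact b) a
  have hsc : ∀ t, t * s = s * t := Subgroup.mem_center_iff.mp (pow_mem c.2 _)
  have hcen : ∀ t : T, t * t = 1 → ∀ u, u * t = t * u := by
    intro t ht u
    by_cases ht1 : t = 1
    · rw [ht1, mul_one, one_mul]
    · obtain ⟨k, hk⟩ := htrans s t (ho s hj1 hj2) (ho t ht1 ht)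
      obtain ⟨u', rfl⟩ := (φ ^ k).surjective u
      rw [← hk, ← map_mul, hsc, map_mul]
  let Ω : Subgroup T :=
    { carrier := {t | t * t = 1}
      one_mem' := one_mul 1
      mul_mem' := fun {a b} ha hb => by
        show a * b * (a * b) = 1
        calc a * b * (a * b) = a * (b * a) * b := by group
          _ = a * (a * b) * b := by rw [hcen b hb a]
          _ = (a * a) * (b * b) := by group
          _ = 1 := by rw [show a * a = 1 from ha, show b * b = 1 from hb, one_mul]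
      inv_mem' := fun {a} ha => by
        show a⁻¹ * a⁻¹ = 1
        rw [← mul_inv_rev, show a * a = 1 from ha, inv_one] }
  have hle : Nat.card Ω ≤ 4 := h2 Ω ⟨⟨fun a b => Subtype.ext (hcen b b.2 a)⟩⟩ fun a ha => by
    rw [pow_two]; exact ha
  have hA₀le : A₀ ≤ Ω := fun a ha => by
    show a * a = 1
    rw [← pow_two]; exact hA₀2 a ha
  have h4 : Nat.card Ω = 4 := by
    obtain ⟨k, hk⟩ := (hT.to_subgroup Ω).exists_card_eq
    have := Subgroup.card_le_of_le hA₀le
    have : k ≤ 2 := (Nat.pow_le_pow_iff_right (show 1 < 2 by norm_num)).mp (by omega : 2 ^ k ≤ 2 ^ 2)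
    interval_cases k <;> simp only [pow_zero, pow_one, Nat.reducePow] at hk <;> omega
  have hO : IsSocle Ω := ⟨fun t => Iff.rfl, fun t ht => hcen t ht, h4⟩
  -- `φ` moves each involution in a cycle of length three
  have hmemΩ : ∀ (k : ℕ), ∀ z ∈ Ω, (φ ^ k) z ∈ Ω := fun k z hz => by
    show (φ ^ k) z * (φ ^ k) z = 1
    rw [← map_mul, show z * z = 1 from hz, map_one]
  have hcyc : ∀ z ∈ Ω, z ≠ 1 → φ z ≠ z ∧ φ (φ z) ≠ z ∧ φ (φ (φ z)) = z := by
    intro z hz hz1
    have hne : ∀ k : ℕ, (φ ^ k) z ≠ 1 := fun k e => hz1 ((φ ^ k).injective (by rw [e, map_one]))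
    have hex : ∀ t, t ≠ 1 → t ∈ Ω → ∃ k : ℕ, (φ ^ k) z = t := fun t a b => htrans z t (ho z hz1 hz) (ho t a b)
    -- an orbit of length at most two would miss an element
    have horb : ∀ S : Finset T, S.card ≤ 2 → (∀ k : ℕ, (φ ^ k) z ∈ S) → False := by
      intro S hS hk
      haveI := Fintype.ofFinite T
      have hsub : Finset.univ.filter (fun t => t ∈ Ω) ⊆ insert 1 S := by
        intro t ht
        rw [Finset.mem_filter] at ht
        by_cases t1 : t = 1
        · exact Finset.mem_insert.mpr (Or.inl t1)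
        · obtain ⟨k, rfl⟩ := hex t t1 ht.2
          exact Finset.mem_insert_of_mem (hk k)
      have h := (Finset.card_le_card hsub).trans (Finset.card_insert_le _ _)
      rw [← Fintype.card_subtype, ← Nat.card_eq_fintype_card] at h
      have e4 : Nat.card {t : T // t ∈ Ω} = 4 := h4
      omega
    have a1 : φ z ≠ z := fun e => horb {z} (by simp) fun k => by
      induction k with
      | zero => simp
      | succ k ih =>
        rw [Finset.mem_singleton] at ih ⊢
        rw [pow_succ', MulAut.mul_apply, ih, e]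
    have a2 : φ (φ z) ≠ z := fun e => horb {z, φ z} (Finset.card_le_two) fun k => by
      induction k with
      | zero => simp
      | succ k ih =>
        simp only [Finset.mem_insert, Finset.mem_singleton] at ih ⊢
        rw [pow_succ', MulAut.mul_apply]
        rcases ih with ih | ih
        · exact Or.inr (by rw [ih])
        · exact Or.inl (by rw [ih, e])
    refine ⟨a1, a2, ?_⟩
    haveI := Fintype.ofFinite T
    by_contra a3
    have hs : ({1, z, φ z, φ (φ z), φ (φ (φ z))} : Finset T) ⊆ Finset.univ.filter (fun t => t ∈ Ω) := by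
      intro t ht
      simp only [Finset.mem_insert, Finset.mem_singleton] at ht
      rw [Finset.mem_filter]
      refine ⟨Finset.mem_univ _, ?_⟩
      rcases ht with rfl | rfl | rfl | rfl | rfl
      exacts [one_mem _, hz, hmemΩ 1 _ hz, hmemΩ 2 _ hz, hmemΩ 3 _ hz]
    have h := Finset.card_le_card hs
    rw [← Fintype.card_subtype, ← Nat.card_eq_fintype_card] at h
    have e4 : Nat.card {t : T // t ∈ Ω} = 4 := h4
    have b1 : φ z ≠ 1 := hne 1
    have b2 : φ (φ z) ≠ 1 := hne 2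
    have b3 : φ (φ (φ z)) ≠ 1 := hne 3
    have d1 : φ (φ z) ≠ φ z := fun e => a1 (φ.injective e)
    have d2 : φ (φ (φ z)) ≠ φ (φ z) := fun e => d1 (φ.injective e)
    have d3 : φ (φ (φ z)) ≠ φ z := fun e => a2 (φ.injective e)
    rw [Finset.card_insert_of_notMem (by simp [hz1.symm, b1.symm, b2.symm, b3.symm]),
      Finset.card_insert_of_notMem (by simp [a1.symm, a2.symm, Ne.symm a3]),
      Finset.card_insert_of_notMem (by simp [d1.symm, d3.symm]),
      Finset.card_insert_of_notMem (by simp [d2.symm]), Finset.card_singleton] at h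
    omega
  obtain ⟨k, m, hm, hkm⟩ := Nat.exists_eq_pow_mul_and_not_dvd (orderOf_pos φ).ne' 3 (by norm_num)
  set ψ := φ ^ m with hψ
  have hpow3 : ∀ (q : ℕ) (z : T), z ∈ Ω → (φ ^ (3 * q)) z = z := by
    intro q
    induction q with
    | zero => intro z _; simp
    | succ q ih =>
      intro z hz
      rw [Nat.mul_succ, pow_add, MulAut.mul_apply]
      rw [show (φ ^ 3) z = z by
        by_cases hz1 : z = 1
        · rw [hz1, map_one]
        · exact (hcyc z hz hz1).2.2]
      exact ih z hz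
  have hfix : ∀ z ∈ Ω, ψ z = z → z = 1 := by
    intro z hz hψz
    by_contra hz1
    obtain ⟨a1, a2, -⟩ := hcyc z hz hz1
    rw [hψ, ← Nat.div_add_mod m 3, add_comm, pow_add, MulAut.mul_apply, hpow3 _ z hz] at hψz
    have : m % 3 = 1 ∨ m % 3 = 2 := by
      have : ¬ m % 3 = 0 := fun e => hm (Nat.dvd_of_mod_eq_zero e)
      omega
    rcases this with e | e <;> rw [e] at hψz
    · exact a1 (by simpa using hψz)
    · exact a2 (by simpa [pow_two] using hψz)
  have hψ3 : ψ ^ 3 = 1 := order_three hO hT k ψ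
    (by rw [hψ, ← pow_mul, mul_comm, ← hkm, pow_orderOf_eq_one])
    (fun z hz => by rw [hψ, ← pow_mul, mul_comm]; exact hpow3 m z hz)
  refine ⟨Ω, ψ, hO, ⟨fun x => ?_, fun x hx => fpf hO hT hfix hx⟩⟩
  calc ψ (ψ (ψ x)) = (ψ ^ 3) x := by rw [pow_three]; rfl
    _ = x := by rw [hψ3]; rfl

/-- The classification up to relations. -/
theorem homocyclic_or_rels (hT : IsPGroup 2 T) (h2 : Cfsg.PRankLE 2 2 T) (h1 : ¬ Cfsg.PRankLE 2 1 T)
    (φ : MulAut T) (htrans : ∀ s t : T, orderOf s = 2 → orderOf t = 2 → ∃ k : ℕ, (φ ^ k) s = t) :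
    (∃ n : ℕ, 1 ≤ n ∧ Nonempty (T ≃* Multiplicative (ZMod (2 ^ n) × ZMod (2 ^ n)))) ∨
      ∃ v : Fin 4 → T, Rels v := by
  obtain ⟨Ω, f, hO, hf⟩ := exists_rot hT h2 h1 φ htrans
  rcases dichotomy hO hT hf with h | ⟨g, x, y, hg, hd⟩
  · exact Or.inl h
  · exact Or.inr ⟨_, hd.rels hg⟩

end Cfsg.Agent.LocalEven.RankTwoTransitive
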