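/-
The Sylow 2-subgroup of the three-dimensional unitary group over the field of sixteen elements,
by parameters: three involutions permuted by an automorphism, and not abelian.
-/
import Cfsg.Agent.LocalEven.RankTwoIso
import Cfsg.Agent.KnownA.U34.PrimeGraph

set_option autoImplicit false
set_option linter.unusedSectionVars false

namespace Cfsg.Agent.LocalEven.RankTwoModel

open Subgroup

variable (F : Type*) [Field F] [Fintype F] [hF : Fact (Fintype.card F = 16)]

/-- The parameters `(a, b)` with `b + b ^ 4 = a ^ 5`. -/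
@[ext] structure M where
  a : F
  b : F
  rel : b + b ^ 4 = a ^ 5

variable {F}

theorem two_zero : (2 : F) = 0 := by
  haveI := KnownA.U34.charP_two (F := F) hF.out
  exact CharTwo.two_eq_zero

theorem add_four (x y : F) : (x + y) ^ 4 = x ^ 4 + y ^ 4 := by
  haveI := KnownA.U34.charP_two (F := F) hF.out
  exact KnownA.U34.add_pow_four x y

theorem pow_sixteen (x : F) : x ^ 16 = x := by
  conv_lhs => rw [← hF.out]
  exact FiniteField.pow_card x

instance : Mul (M F) where
  mul p q := ⟨p.a + q.a, p.b + q.b + p.a ^ 4 * q.a, by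
    have hp := p.rel
    have hq := q.rel
    have h5 : (p.a + q.a) ^ 5 = (p.a ^ 4 + q.a ^ 4) * (p.a + q.a) := by rw [← add_four]; ring
    rw [h5, add_four, add_four, mul_pow, ← pow_mul, pow_sixteen]
    linear_combination hp + hq⟩

instance : One (M F) where one := ⟨0, 0, by simp⟩

instance : Inv (M F) where
  inv p := ⟨p.a, p.b + p.a ^ 5, by
    rw [add_four, ← pow_mul, show 5 * 4 = 16 + 4 from rfl, pow_add, pow_sixteen]
    linear_combination p.rel + (p.a ^ 5) * two_zero (F := F)⟩

theorem mul_a (p q : M F) : (p * q).a = p.a + q.a := rfl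
theorem mul_b (p q : M F) : (p * q).b = p.b + q.b + p.a ^ 4 * q.a := rfl
theorem one_a : (1 : M F).a = 0 := rfl
theorem one_b : (1 : M F).b = 0 := rfl
theorem inv_a (p : M F) : p⁻¹.a = p.a := rfl
theorem inv_b (p : M F) : p⁻¹.b = p.b + p.a ^ 5 := rfl

instance : Group (M F) where
  mul_assoc p q r := by
    ext
    · simp only [mul_a]; ring
    · simp only [mul_b, mul_a, add_four]; ring
  one_mul p := by
    ext
    · simp [mul_a, one_a]
    · simp [mul_b, one_b, one_a]
  mul_one p := by
    ext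
    · simp [mul_a, one_a]
    · simp [mul_b, one_b, one_a]
  inv_mul_cancel p := by
    ext
    · simp only [mul_a, inv_a, one_a]; linear_combination p.a * two_zero (F := F)
    · simp only [mul_b, inv_b, inv_a, one_b]; linear_combination (p.b + p.a ^ 5) * two_zero (F := F)

instance : Finite (M F) := Finite.of_injective (fun p : M F => (p.a, p.b)) fun p q e => by
  ext
  · exact congrArg Prod.fst e
  · exact congrArg Prod.snd e

/-- The additive map `b ↦ b + b ^ 4`. -/
def L : F →+ F where
  toFun b := b + b ^ 4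
  map_zero' := by simp
  map_add' x y := by rw [add_four]; ring

/-- The fixed points of `x ↦ x ^ 4`. -/
def Fix : AddSubgroup F where
  carrier := {c | c ^ 4 = c}
  zero_mem' := by simp
  add_mem' {x y} hx hy := by
    show (x + y) ^ 4 = x + y
    rw [add_four, show x ^ 4 = x from hx, show y ^ 4 = y from hy]
  neg_mem' {x} hx := by
    show (-x) ^ 4 = -x
    rw [neg_pow, show x ^ 4 = x from hx]
    linear_combination x * two_zero (F := F)

open Polynomial in
theorem card_fix_le : Nat.card (Fix (F := F)) ≤ 4 := by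
  classical
  have hd : (X ^ 4 - X : F[X]).natDegree = 4 := FiniteField.X_pow_card_sub_X_natDegree_eq F (by norm_num)
  have h0 : (X ^ 4 - X : F[X]) ≠ 0 := fun e => by rw [e, natDegree_zero] at hd; norm_num at hd
  have hsub : (Finset.univ.filter fun c : F => c ^ 4 = c) ⊆ (X ^ 4 - X : F[X]).roots.toFinset := by
    intro c hc
    rw [Multiset.mem_toFinset, mem_roots h0]
    simp [IsRoot, (Finset.mem_filter.mp hc).2]
  have := (Finset.card_le_card hsub).trans ((Multiset.toFinset_card_le _).trans (card_roots' _))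
  rw [hd, ← Fintype.card_subtype, ← Nat.card_eq_fintype_card] at this
  exact this

theorem ker_L : (L (F := F)).ker = Fix := by
  ext c
  show c + c ^ 4 = 0 ↔ c ^ 4 = c
  constructor <;> intro h
  · linear_combination h - c * two_zero (F := F)
  · linear_combination h + c * two_zero (F := F)

theorem L_facts : Nat.card (Fix (F := F)) = 4 ∧ (L (F := F)).range = Fix := by
  have hle : (L (F := F)).range ≤ Fix := by
    rintro _ ⟨b, rfl⟩
    show (b + b ^ 4) ^ 4 = b + b ^ 4
    rw [add_four, ← pow_mul, pow_sixteen]; ring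
  have h := AddSubgroup.card_eq_card_quotient_mul_card_addSubgroup (L (F := F)).ker
  rw [Nat.card_congr (QuotientAddGroup.quotientKerEquivRange (L (F := F))).toEquiv, ker_L,
    Nat.card_eq_fintype_card (α := F), hF.out] at h
  have h1 := card_fix_le (F := F)
  have h2 : Nat.card (L (F := F)).range ≤ Nat.card (Fix (F := F)) := AddSubgroup.card_le_of_le hle
  have h4 : Nat.card (Fix (F := F)) = 4 := by nlinarith
  exact ⟨h4, AddSubgroup.eq_of_le_of_card_ge hle (by rw [h4] at h ⊢; omega)⟩

/-- The first parameter. -/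
def fstHom : M F →* Multiplicative F where
  toFun p := Multiplicative.ofAdd p.a
  map_one' := rfl
  map_mul' _ _ := rfl

theorem card_M : Nat.card (M F) = 64 := by
  have h := Subgroup.card_eq_card_quotient_mul_card_subgroup (fstHom (F := F)).ker
  rw [h, Nat.card_congr (QuotientGroup.quotientKerEquivRange (fstHom (F := F))).toEquiv]
  have hr : (fstHom (F := F)).range = ⊤ := by
    rw [MonoidHom.range_eq_top]
    intro a
    have ha : (Multiplicative.toAdd a) ^ 5 ∈ (L (F := F)).range := by
      rw [L_facts.2]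
      show ((Multiplicative.toAdd a) ^ 5) ^ 4 = _
      rw [← pow_mul, show 5 * 4 = 16 + 4 from rfl, pow_add, pow_sixteen]; ring
    obtain ⟨b, hb⟩ := ha
    exact ⟨⟨Multiplicative.toAdd a, b, hb⟩, rfl⟩
  rw [hr, Subgroup.card_top, Nat.card_congr Multiplicative.toAdd, Nat.card_eq_fintype_card, hF.out]
  have hk : Nat.card (fstHom (F := F)).ker = 4 := by
    rw [← (L_facts (F := F)).1]
    refine Nat.card_congr
      { toFun := fun p => ⟨(p : M F).b, ?_⟩
        invFun := fun c => ⟨⟨0, c, ?_⟩, rfl⟩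
        left_inv := fun p => ?_
        right_inv := fun c => rfl }
    · have hp : (p : M F).a = 0 := p.2
      have h := (p : M F).rel
      show (p : M F).b ^ 4 = (p : M F).b
      rw [hp] at h
      linear_combination h - (p : M F).b * two_zero (F := F)
    · have hc : (c : F) ^ 4 = c := c.2
      linear_combination hc + (c : F) * two_zero (F := F)
    · have hp : (p : M F).a = 0 := p.2
      refine Subtype.ext ?_
      ext
      · exact hp.symm
      · rfl
  rw [hk]

theorem isPGroup : IsPGroup 2 (M F) := IsPGroup.of_card (n := 6) (card_M.trans (by norm_num))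

theorem sq_eq_one {p : M F} (h : p * p = 1) : p.a = 0 := by
  have h2 := congrArg M.b h
  rw [mul_b, one_b] at h2
  have h5 : p.a ^ 5 = 0 := by linear_combination h2 - p.b * two_zero (F := F)
  exact eq_zero_of_pow_eq_zero h5

theorem rankLE : Cfsg.PRankLE 2 2 (M F) := by
  intro A _ hA
  rw [show 2 ^ 2 = Nat.card (Fix (F := F)) from (L_facts (F := F)).1.symm]
  have ha : ∀ p : A, (p : M F).a = 0 := fun p => sq_eq_one (by rw [← pow_two]; exact hA p p.2)
  refine Nat.card_le_card_of_injective (fun p => ⟨(p : M F).b, ?_⟩) fun p q e => ?_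
  · show (p : M F).b ^ 4 = (p : M F).b
    have h := (p : M F).rel
    rw [ha p] at h
    linear_combination h - (p : M F).b * two_zero (F := F)
  · refine Subtype.ext ?_
    ext
    · rw [ha p, ha q]
    · exact congrArg Subtype.val e

theorem not_rankLE : ¬ Cfsg.PRankLE 2 1 (M F) := by
  intro h
  let Z : Subgroup (M F) :=
    { carrier := {p | p.a = 0}
      one_mem' := rfl
      mul_mem' := fun {p q} hp hq => by show p.a + q.a = 0; rw [show p.a = 0 from hp, show q.a = 0 from hq, add_zero]
      inv_mem' := fun {p} hp => hp }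
  have hc : IsMulCommutative Z := ⟨⟨fun p q => Subtype.ext (by
    have hp : (p : M F).a = 0 := p.2
    have hq : (q : M F).a = 0 := q.2
    ext
    · show (p : M F).a + (q : M F).a = (q : M F).a + (p : M F).a; ring
    · show (p : M F).b + (q : M F).b + (p : M F).a ^ 4 * (q : M F).a =
        (q : M F).b + (p : M F).b + (q : M F).a ^ 4 * (p : M F).a
      rw [hp, hq]; ring)⟩⟩
  have h2 := h Z hc fun p hp => by
    have hp' : p.a = 0 := hp
    rw [pow_two]
    ext
    · rw [mul_a, one_a, hp']; ring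
    · rw [mul_b, one_b, hp']; linear_combination p.b * two_zero (F := F)
  have h3 : Nat.card (Fix (F := F)) ≤ Nat.card Z := by
    refine Nat.card_le_card_of_injective (fun c => (⟨⟨0, c, ?_⟩, rfl⟩ : Z)) fun c c' e => ?_
    · have hc : (c : F) ^ 4 = c := c.2
      linear_combination hc + (c : F) * two_zero (F := F)
    · exact Subtype.ext (congrArg (fun p : Z => (p : M F).b) e)
  rw [(L_facts (F := F)).1] at h3
  omega

/-- Scaling by a nonzero element. -/
def scale (z : Fˣ) : M F ≃* M F where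
  toFun p := ⟨(z : F) * p.a, (z : F) ^ 5 * p.b, by
    rw [mul_pow, mul_pow, ← pow_mul, show 5 * 4 = 16 + 4 from rfl, pow_add, pow_sixteen]
    linear_combination (z : F) ^ 5 * p.rel⟩
  invFun p := ⟨((z⁻¹ : Fˣ) : F) * p.a, ((z⁻¹ : Fˣ) : F) ^ 5 * p.b, by
    rw [mul_pow, mul_pow, ← pow_mul, show 5 * 4 = 16 + 4 from rfl, pow_add, pow_sixteen]
    linear_combination ((z⁻¹ : Fˣ) : F) ^ 5 * p.rel⟩
  left_inv p := by
    ext
    · show ((z⁻¹ : Fˣ) : F) * ((z : F) * p.a) = p.a
      rw [← mul_assoc, Units.inv_mul, one_mul]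
    · show ((z⁻¹ : Fˣ) : F) ^ 5 * ((z : F) ^ 5 * p.b) = p.b
      rw [← mul_assoc, ← mul_pow, Units.inv_mul, one_pow, one_mul]
  right_inv p := by
    ext
    · show (z : F) * (((z⁻¹ : Fˣ) : F) * p.a) = p.a
      rw [← mul_assoc, Units.mul_inv, one_mul]
    · show (z : F) ^ 5 * (((z⁻¹ : Fˣ) : F) ^ 5 * p.b) = p.b
      rw [← mul_assoc, ← mul_pow, Units.mul_inv, one_pow, one_mul]
  map_mul' p q := by
    ext
    · show (z : F) * (p.a + q.a) = (z : F) * p.a + (z : F) * q.a; ring
    · show (z : F) ^ 5 * (p.b + q.b + p.a ^ 4 * q.a) =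
        (z : F) ^ 5 * p.b + (z : F) ^ 5 * q.b + ((z : F) * p.a) ^ 4 * ((z : F) * q.a)
      ring

theorem scale_pow (z : Fˣ) (k : ℕ) (p : M F) : ((scale z : MulAut (M F)) ^ k) p = scale (z ^ k) p := by
  induction k with
  | zero => simp; ext <;> simp [scale]
  | succ k ih =>
    rw [pow_succ', MulAut.mul_apply, ih]
    ext
    · show (z : F) * (((z ^ k : Fˣ) : F) * p.a) = ((z ^ (k + 1) : Fˣ) : F) * p.a
      rw [show ((z ^ (k + 1) : Fˣ) : F) = (z : F) * ((z ^ k : Fˣ) : F) by rw [pow_succ', Units.val_mul]]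
      ring
    · show (z : F) ^ 5 * (((z ^ k : Fˣ) : F) ^ 5 * p.b) = ((z ^ (k + 1) : Fˣ) : F) ^ 5 * p.b
      rw [show ((z ^ (k + 1) : Fˣ) : F) = (z : F) * ((z ^ k : Fˣ) : F) by rw [pow_succ', Units.val_mul]]
      ring

theorem units_gen : ∃ z : Fˣ, orderOf z = 15 ∧ ∀ u : Fˣ, ∃ k : ℕ, z ^ k = u := by
  classical
  obtain ⟨z, hz⟩ := IsCyclic.exists_generator (α := Fˣ)
  refine ⟨z, ?_, fun u => ?_⟩
  · rw [orderOf_eq_card_of_forall_mem_zpowers hz, Nat.card_eq_fintype_card, Fintype.card_units, hF.out]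
  · obtain ⟨k, hk⟩ := (Submonoid.mem_powers_iff _ _).mp
      ((isOfFinOrder_of_finite z).mem_powers_iff_mem_zpowers.mpr (hz u))
    exact ⟨k, hk⟩

theorem exists_transitive : ∃ φ : MulAut (M F), ∀ s t : M F, orderOf s = 2 → orderOf t = 2 →
    ∃ k : ℕ, (φ ^ k) s = t := by
  obtain ⟨z, hz, hgen⟩ := units_gen (F := F)
  refine ⟨scale z, fun s t hs ht => ?_⟩
  have key : ∀ p : M F, orderOf p = 2 → p.a = 0 ∧ p.b ≠ 0 ∧ p.b ^ 3 = 1 := by
    intro p hp
    have h2 : p * p = 1 := by rw [← pow_two, ← hp]; exact pow_orderOf_eq_one p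
    have ha := sq_eq_one h2
    have hb : p.b ≠ 0 := fun e => by
      have e1 : p = 1 := by ext <;> [exact ha; exact e]
      rw [e1, orderOf_one] at hp
      omega
    refine ⟨ha, hb, ?_⟩
    have h := p.rel
    rw [ha] at h
    exact mul_left_cancel₀ hb (by linear_combination h - p.b * two_zero (F := F))
  obtain ⟨sa, sb, sb3⟩ := key s hs
  obtain ⟨ta, tb, tb3⟩ := key t ht
  obtain ⟨j, hj⟩ := hgen (Units.mk0 (t.b / s.b) (div_ne_zero tb sb))
  have hj3 : z ^ (3 * j) = 1 := by
    rw [mul_comm, pow_mul, hj]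
    refine Units.ext ?_
    show (t.b / s.b) ^ 3 = 1
    rw [div_pow, tb3, sb3, div_one]
  obtain ⟨k, hk⟩ : 5 ∣ j := by
    have := orderOf_dvd_of_pow_eq_one hj3
    rw [hz] at this
    omega
  refine ⟨k, ?_⟩
  rw [scale_pow]
  ext
  · show ((z ^ k : Fˣ) : F) * s.a = t.a
    rw [sa, ta, mul_zero]
  · show ((z ^ k : Fˣ) : F) ^ 5 * s.b = t.b
    rw [← Units.val_pow_eq_pow_val, ← pow_mul, mul_comm k 5, ← hk, hj]
    exact div_mul_cancel₀ _ sb

theorem not_comm : ¬ ∀ p q : M F, p * q = q * p := by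
  intro h
  obtain ⟨z, hz, -⟩ := units_gen (F := F)
  have hs : Function.Surjective (fstHom (F := F)) := by
    intro a
    obtain ⟨b, hb⟩ : (Multiplicative.toAdd a) ^ 5 ∈ (L (F := F)).range := by
      rw [L_facts.2]
      show ((Multiplicative.toAdd a) ^ 5) ^ 4 = _
      rw [← pow_mul, show 5 * 4 = 16 + 4 from rfl, pow_add, pow_sixteen]; ring
    exact ⟨⟨Multiplicative.toAdd a, b, hb⟩, rfl⟩
  obtain ⟨p, hp⟩ := hs (Multiplicative.ofAdd 1)
  obtain ⟨q, hq⟩ := hs (Multiplicative.ofAdd (z : F))
  have hp' : p.a = 1 := Multiplicative.ofAdd.injective hp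
  have hq' : q.a = z := Multiplicative.ofAdd.injective hq
  have e := congrArg M.b (h p q)
  rw [mul_b, mul_b, hp', hq'] at e
  have e4 : (z : F) ^ 4 = (z : F) := by linear_combination -e
  have : z ^ 3 = 1 := Units.ext (mul_left_cancel₀ z.ne_zero (by
    rw [Units.val_pow_eq_pow_val, Units.val_one, mul_one, ← pow_succ']; exact e4))
  have := orderOf_dvd_of_pow_eq_one this
  rw [hz] at this
  omega

/-- The parameter group is the exceptional group of the classification. -/
theorem rels : ∃ v : Fin 4 → M F, RankTwoTransitive.Rels v := by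
  obtain ⟨φ, hφ⟩ := exists_transitive (F := F)
  rcases RankTwoTransitive.homocyclic_or_rels isPGroup rankLE not_rankLE φ hφ with ⟨n, -, ⟨e⟩⟩ | h
  · exact absurd (fun p q => e.injective (by rw [map_mul, map_mul, mul_comm])) not_comm
  · exact h

/-- The matrix of a parameter. -/
def mat (p : M F) : Matrix (Fin 3) (Fin 3) F :=
  !![1 + p.b, p.b, p.a ^ 4; p.b, 1 + p.b, p.a ^ 4; p.a, p.a, 1]

theorem mat_det (p : M F) : (mat p).det = 1 := by
  rw [Matrix.det_fin_three]
  simp [mat]
  linear_combination (p.b - p.a ^ 5 + p.a ^ 5 * p.b * 0) * two_zero (F := F)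

theorem mat_mul (p q : M F) : mat (p * q) = mat p * mat q := by
  ext i j
  fin_cases i <;> fin_cases j <;> simp [mat, Matrix.mul_apply, Fin.sum_univ_three, mul_a, mul_b, add_four] <;>
    ring_nf <;> simp [two_zero]

theorem mat_mem (p : M F) (u v : Fin 3 → F) :
    Cfsg.hermForm 3 F 4 (Matrix.mulVec (mat p) u) (Matrix.mulVec (mat p) v) = Cfsg.hermForm 3 F 4 u v := by
  have hb : p.b ^ 4 = p.a ^ 5 + p.b := by linear_combination p.rel - p.b * two_zero (F := F)
  simp [Cfsg.hermForm, mat, Matrix.mulVec, dotProduct, Fin.sum_univ_three, add_four, mul_pow, hb,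
    ← pow_mul, pow_sixteen]
  linear_combination
    ((p.a ^ 5 + p.b) * (u 0 + u 1) * (v 0 ^ 4 + v 1 ^ 4) + (u 0 + u 1) * p.a * v 2 ^ 4 +
      p.a ^ 4 * u 2 * (v 0 ^ 4 + v 1 ^ 4) +
      (p.b * (u 0 + u 1) + p.a ^ 4 * u 2) *
        ((p.a ^ 5 + p.b) * (v 0 ^ 4 + v 1 ^ 4) + p.a * v 2 ^ 4)) * two_zero (F := F)

/-- The parameters as unitary matrices. -/
def toSU : M F →* Cfsg.SU 3 F 4 where
  toFun p := ⟨⟨mat p, mat_det p⟩, fun u v => mat_mem p u v⟩
  map_one' := by
    refine Subtype.ext (Subtype.ext ?_)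
    show mat 1 = 1
    ext i j
    fin_cases i <;> fin_cases j <;> simp [mat, one_a, one_b]
  map_mul' p q := Subtype.ext (Subtype.ext (mat_mul p q))

theorem toSU_injective : Function.Injective (toSU (F := F)) := by
  intro p q e
  have e' : mat p = mat q := congrArg (fun g : Cfsg.SU 3 F 4 => (g.1 : Matrix (Fin 3) (Fin 3) F)) e
  ext
  · simpa [mat] using congrFun (congrFun e' 2) 0
  · simpa [mat] using congrFun (congrFun e' 1) 0

/-- Every Sylow 2-subgroup of the group is isomorphic to the parameter group. -/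
theorem iso_sylow (P : Sylow 2 (Cfsg.PSU 3 F 4)) :
    Nonempty (M F ≃* (P : Subgroup (Cfsg.PSU 3 F 4))) := by
  haveI : Fact (Nat.Prime 2) := ⟨Nat.prime_two⟩
  obtain ⟨hcard, hc⟩ := KnownA.U34.card_psu34 (F := F) hF.out
  set m : M F →* Cfsg.PSU 3 F 4 := (QuotientGroup.mk' _).comp toSU
  have hm : Function.Injective m := by
    refine (injective_iff_map_eq_one m).mpr fun p hp => toSU_injective ?_
    have h := (QuotientGroup.eq_one_iff (N := Subgroup.center (Cfsg.SU 3 F 4)) (toSU p)).mp hp
    rw [Subgroup.card_eq_one] at hc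
    rw [hc, Subgroup.mem_bot] at h
    rw [h, map_one]
  have hrcard : Nat.card m.range = 64 := by
    rw [← Nat.card_congr (MonoidHom.ofInjective hm).toEquiv, card_M]
  haveI : Finite (Cfsg.PSU 3 F 4) := Nat.finite_of_card_ne_zero (by omega)
  obtain ⟨Q, hQ⟩ := (((isPGroup (F := F)).to_subgroup ⊤).map m : IsPGroup 2 ((⊤ : Subgroup (M F)).map m)).exists_le_sylow
  have hP : Nat.card P = 64 := by
    rw [P.card_eq_multiplicity, hcard, show (62400 : ℕ) = 2 ^ 6 * 975 by norm_num,
      Nat.factorization_mul (by norm_num) (by norm_num), Nat.factorization_pow, Finsupp.add_apply,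
      Finsupp.smul_apply, Nat.prime_two.factorization_self,
      Nat.factorization_eq_zero_of_not_dvd (show ¬ 2 ∣ 975 by norm_num)]
    norm_num
  have hQc : Nat.card Q = 64 := by rw [Q.card_eq_multiplicity, ← P.card_eq_multiplicity, hP]
  rw [← MonoidHom.range_eq_map] at hQ
  have e : m.range = Q := Subgroup.eq_of_le_of_card_ge hQ (by rw [hrcard, hQc])
  exact ⟨(MonoidHom.ofInjective hm).trans ((MulEquiv.subgroupCongr e).trans (Q.equiv P))⟩

end Cfsg.Agent.LocalEven.RankTwoModel
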