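/-
A group of order 64 with a fixed-point-free automorphism of order three and two non-commuting
involutions is the Sylow subgroup of `PSL₃(4)`; adapted from the symmetric-group version.
-/
import Cfsg.Agent.TwoGroups.SixtyFourMain

set_option autoImplicit false
set_option linter.style.haveILetI false
set_option linter.unusedSectionVars false
open scoped commutatorElement Classical

namespace Cfsg.Agent.LocalEven.SixtyFourCore

open Cfsg.Agent.TwoGroups.SixtyFour
open Cfsg.Agent.Fusion.Heis Cfsg.Agent.Fusion.PSLn Cfsg.Agent.KnownB Cfsg.Agent.KnownB.AutPSL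

variable {T : Type*} [Group T] [Finite T]

/-- Order 64, non-abelian, with a fixed-point-free automorphism of order three. -/
structure Core (ρ : MulAut T) : Prop where
  card : Nat.card T = 64
  nab : ¬ IsMulCommutative T
  h3 : ∀ y, ρ (ρ (ρ y)) = y
  fpf : ∀ y, ρ y = y → y = 1

namespace Core

variable {ρ : MulAut T} (s : Core ρ)

include s

theorem pgroup : IsPGroup 2 T := IsPGroup.of_card (n := 6) (by rw [s.card]; norm_num)

theorem map_center {v : T} (hv : v ∈ Subgroup.center T) : ρ v ∈ Subgroup.center T :=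
  map_mem_center ρ hv


theorem card_center : Nat.card (Subgroup.center T) = 4 := by
  have hmod := center_card_mod ρ s.h3 s.fpf
  have hd := Subgroup.card_subgroup_dvd_card (Subgroup.center T)
  rw [s.card, show 64 = 2 ^ 6 by norm_num, Nat.dvd_prime_pow Nat.prime_two] at hd
  obtain ⟨k, hk, hc⟩ := hd
  have hidx := Subgroup.card_mul_index (Subgroup.center T)
  rw [s.card, hc] at hidx
  rw [hc] at hmod
  interval_cases k
  · haveI : Nontrivial T := Finite.one_lt_card_iff_nontrivial.mp (by rw [s.card]; norm_num)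
    haveI := (s.pgroup).center_nontrivial
    have := Finite.one_lt_card (α := Subgroup.center T)
    omega
  · norm_num at hmod
  · exact hc
  · norm_num at hmod
  · exact (comm_of_index_four ρ s.h3 s.fpf s.pgroup (by omega)).elim
  · norm_num at hmod
  · have hi1 : (Subgroup.center T).index = 1 := by omega
    exact absurd ⟨⟨fun a b => (Subgroup.mem_center_iff.mp
      ((Subgroup.index_eq_one.mp hi1).symm ▸ Subgroup.mem_top b : b ∈ Subgroup.center T) a)⟩⟩ s.nab

theorem comm_mem (a b : T) : ⁅a, b⁆ ∈ Subgroup.center T := by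
  set Z := Subgroup.center T
  have hρZ : Z.map (ρ : T ≃* T).toMonoidHom = Z := by
    ext v
    constructor
    · rintro ⟨w, hw, rfl⟩; exact s.map_center hw
    · intro hv
      exact ⟨ρ (ρ v), s.map_center (s.map_center hv), s.h3 v⟩
  let ρ' : T ⧸ Z ≃* T ⧸ Z := QuotientGroup.congr Z Z ρ hρZ
  have hmk : ∀ t : T, ρ' (t : T ⧸ Z) = ((ρ t : T) : T ⧸ Z) := fun t => rfl
  have h3' : ∀ y, ρ' (ρ' (ρ' y)) = y := fun y => by
    induction y using QuotientGroup.induction_on with
    | H t => rw [hmk, hmk, hmk, s.h3]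
  have hfp' : ∀ y, ρ' y = y → y = 1 := fun y => by
    induction y using QuotientGroup.induction_on with
    | H t =>
      intro h
      rw [hmk] at h
      have h1 := congrArg (fun v : T ⧸ Z => v * v * v) (rfl : (t : T ⧸ Z) = t)
      have h2 : ((t * ρ t * ρ (ρ t) : T) : T ⧸ Z) = 1 := by rw [orbit_prod ρ s.h3 s.fpf]; rfl
      simp only [QuotientGroup.mk_mul] at h2
      rw [h, ← hmk (ρ t), h, hmk, h] at h2
      obtain ⟨k, hk⟩ := (s.pgroup.to_quotient Z) (t : T ⧸ Z)
      have hcop : Nat.Coprime 3 (orderOf (t : T ⧸ Z)) :=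
        Nat.Coprime.coprime_dvd_right (orderOf_dvd_of_pow_eq_one hk)
          (Nat.Coprime.pow_right _ (by norm_num))
      obtain ⟨m, hm⟩ := exists_pow_eq_self_of_coprime hcop
      rw [← hm, pow_succ, pow_two, h2, one_pow]
  have hidx : Nat.card (T ⧸ Z) = 16 := by
    have := Subgroup.card_mul_index Z
    rw [s.card, s.card_center, Subgroup.index_eq_card] at this
    omega
  have hq : IsPGroup 2 (T ⧸ Z) := s.pgroup.to_quotient Z
  have htop : Subgroup.center (T ⧸ Z) = ⊤ := by
    have hmod := center_card_mod ρ' h3' hfp'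
    have hd := Subgroup.card_subgroup_dvd_card (Subgroup.center (T ⧸ Z))
    rw [hidx, show 16 = 2 ^ 4 by norm_num, Nat.dvd_prime_pow Nat.prime_two] at hd
    obtain ⟨k, hk, hc⟩ := hd
    have hmul := Subgroup.card_mul_index (Subgroup.center (T ⧸ Z))
    rw [hidx, hc] at hmul
    rw [hc] at hmod
    interval_cases k
    · haveI : Nontrivial (T ⧸ Z) := Finite.one_lt_card_iff_nontrivial.mp (by rw [hidx]; norm_num)
      haveI := hq.center_nontrivial
      have := Finite.one_lt_card (α := Subgroup.center (T ⧸ Z))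
      omega
    · norm_num at hmod
    · exact (comm_of_index_four ρ' h3' hfp' hq (by omega)).elim
    · norm_num at hmod
    · exact Subgroup.index_eq_one.mp (by omega)
  rw [← QuotientGroup.eq_one_iff (N := Z), show ((⁅a, b⁆ : T) : T ⧸ Z) = ⁅(a : T ⧸ Z), (b : T ⧸ Z)⁆ from
    map_commutatorElement (QuotientGroup.mk' Z) a b, commutatorElement_eq_one_iff_mul_comm]
  exact (Subgroup.mem_center_iff.mp (htop ▸ Subgroup.mem_top (b : T ⧸ Z)) _)

theorem mem_list {z : T} (hz : z ∈ Subgroup.center T) (hz1 : z ≠ 1) {v : T}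
    (hv : v ∈ Subgroup.center T) : v = 1 ∨ v = z ∨ v = ρ z ∨ v = ρ (ρ z) := by
  classical
  by_contra hn
  push Not at hn
  obtain ⟨n1, n2, n3, n4⟩ := hn
  have hρ1 : ρ z ≠ 1 := fun e => hz1 (ρ.injective (by rw [e, map_one]))
  have hρρ1 : ρ (ρ z) ≠ 1 := fun e => hρ1 (ρ.injective (by rw [e, map_one]))
  have hd1 : ρ z ≠ z := fun e => hz1 (s.fpf z e)
  have hd2 : ρ (ρ z) ≠ ρ z := fun e => hd1 (ρ.injective e)
  have hd3 : ρ (ρ z) ≠ z := fun e => hd1 (by
    have := congrArg ρ e
    rw [s.h3] at this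
    exact this.symm)
  let f : Fin 5 → Subgroup.center T :=
    ![1, ⟨z, hz⟩, ⟨ρ z, s.map_center hz⟩, ⟨ρ (ρ z), s.map_center (s.map_center hz)⟩, ⟨v, hv⟩]
  have hf : Function.Injective f := by
    intro i j hij
    fin_cases i <;> fin_cases j <;> first
      | rfl
      | (exfalso; simp [f, Subtype.ext_iff] at hij; first
          | exact n1 hij | exact n1 hij.symm | exact n2 hij | exact n2 hij.symm | exact n3 hij
          | exact n3 hij.symm | exact n4 hij | exact n4 hij.symm | exact hz1 hij | exact hz1 hij.symm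
          | exact hρ1 hij | exact hρ1 hij.symm | exact hρρ1 hij | exact hρρ1 hij.symm
          | exact hd1 hij | exact hd1 hij.symm | exact hd2 hij | exact hd2 hij.symm
          | exact hd3 hij | exact hd3 hij.symm)
  have := Nat.card_le_card_of_injective f hf
  rw [s.card_center] at this
  simp at this

theorem sq_eq_one {v : T} (hv : v ∈ Subgroup.center T) : v * v = 1 := by
  by_cases hv1 : v = 1
  · simp [hv1]
  have h7 : v ^ 7 = 1 → False := fun h => by
    obtain ⟨k, hk⟩ := s.pgroup v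
    have : orderOf v ∣ 1 := by
      have hcop : Nat.Coprime 7 (2 ^ k) := Nat.Coprime.pow_right _ (by norm_num)
      rw [← hcop]
      exact Nat.dvd_gcd (orderOf_dvd_of_pow_eq_one h) (orderOf_dvd_of_pow_eq_one hk)
    exact hv1 (orderOf_eq_one_iff.mp (Nat.dvd_one.mp this))
  have ho := orbit_prod ρ s.h3 s.fpf v
  rcases s.mem_list hv hv1 (mul_mem hv hv) with h | h | h | h
  · exact h
  · exact absurd (mul_eq_left.mp h) hv1
  · rw [← h, map_mul, ← h] at ho
    exact (h7 (by rw [← ho]; simp only [pow_succ, pow_zero, one_mul, mul_assoc])).elim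
  · have h' : ρ v = v * v * (v * v) := by
      have := congrArg (fun w => ρ (ρ w)) h
      simp only [s.h3] at this
      rw [map_mul, map_mul, ← h] at this
      exact this.symm
    rw [← h, h'] at ho
    exact (h7 (by rw [← ho]; simp only [pow_succ, pow_zero, one_mul, mul_assoc])).elim

theorem inv_self {v : T} (hv : v ∈ Subgroup.center T) : v⁻¹ = v :=
  inv_eq_of_mul_eq_one_right (s.sq_eq_one hv)

theorem comm_mul_left (a b c : T) : ⁅a * b, c⁆ = ⁅a, c⁆ * ⁅b, c⁆ := by
  calc ⁅a * b, c⁆ = a * ⁅b, c⁆ * a⁻¹ * ⁅a, c⁆ := by simp only [commutatorElement_def]; group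
    _ = ⁅b, c⁆ * ⁅a, c⁆ := by
      rw [Subgroup.mem_center_iff.mp (s.comm_mem b c) a, mul_inv_cancel_right]
    _ = _ := Subgroup.mem_center_iff.mp (s.comm_mem a c) _

theorem comm_symm (a b : T) : ⁅b, a⁆ = ⁅a, b⁆ := by
  rw [← commutatorElement_inv, s.inv_self (s.comm_mem a b)]

theorem comm_mul_right (a b c : T) : ⁅a, b * c⁆ = ⁅a, b⁆ * ⁅a, c⁆ := by
  rw [s.comm_symm (b * c) a, s.comm_mul_left, s.comm_symm a b, s.comm_symm a c]

omit [Finite T] s in
theorem comm_center {d : T} (hd : d ∈ Subgroup.center T) (a : T) : ⁅a, d⁆ = 1 :=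
  commutatorElement_eq_one_iff_mul_comm.mpr (Subgroup.mem_center_iff.mp hd a)

theorem comm_inv_right (a b : T) : ⁅a, b⁻¹⁆ = ⁅a, b⁆ := by
  have h := s.comm_mul_right a b b⁻¹
  rw [mul_inv_cancel, commutatorElement_one_right] at h
  exact (eq_inv_of_mul_eq_one_right h.symm).trans (s.inv_self (s.comm_mem a b))

theorem shift_right (a b : T) : ⁅a, ρ b⁆ = ρ (ρ ⁅a, b⁆) := by
  set c := ⁅a, b⁆ with hc
  have hcm := s.comm_mem a b
  have hu := s.comm_mem a (ρ b)
  set u := ⁅a, ρ b⁆ with hudef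
  set w := ⁅ρ a, b⁆ with hwdef
  have e2 : ρ (ρ b) = (b * ρ b)⁻¹ :=
    eq_inv_of_mul_eq_one_right (orbit_prod ρ s.h3 s.fpf b)
  have e2a : ρ (ρ a) = (a * ρ a)⁻¹ :=
    eq_inv_of_mul_eq_one_right (orbit_prod ρ s.h3 s.fpf a)
  have hρc : ρ c = ⁅ρ a, ρ b⁆ := map_commutatorElement ρ a b
  have h1 : ρ u = w * ρ c := by
    rw [hudef, map_commutatorElement, e2, s.comm_inv_right, s.comm_mul_right, hρc]
  have h2 : ρ w = u * ρ c := by
    rw [hwdef, map_commutatorElement, e2a, ← s.comm_symm, s.comm_inv_right, s.comm_mul_right,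
      s.comm_symm a, s.comm_symm (ρ a), hρc]
  have h3 : ρ (ρ u) = u * c := by
    rw [h1, map_mul, h2, mul_assoc]
    congr 1
    have := orbit_prod ρ s.h3 s.fpf c
    rw [mul_assoc] at this
    rw [← eq_inv_of_mul_eq_one_right this |>.symm.trans rfl, s.inv_self hcm]
  have ho := orbit_prod ρ s.h3 s.fpf u
  rw [h3, mul_assoc, ← mul_assoc (ρ u), Subgroup.mem_center_iff.mp hu (ρ u), mul_assoc, ← mul_assoc,
    s.sq_eq_one hu, one_mul] at ho
  have hρu : ρ u = c := by rw [eq_inv_of_mul_eq_one_left ho, s.inv_self hcm]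
  rw [← hρu, s.h3]

theorem shift_left (a b : T) : ⁅ρ a, b⁆ = ρ (ρ ⁅a, b⁆) := by
  rw [s.comm_symm b (ρ a), s.shift_right, s.comm_symm a b]

theorem sq_mem (a : T) : a * a ∈ Subgroup.center T :=
  Subgroup.mem_center_iff.mpr fun b => commutatorElement_eq_one_iff_mul_comm.mp (by
    rw [s.comm_mul_right, s.sq_eq_one (s.comm_mem b a)])

theorem sq_mul (a b : T) : a * b * (a * b) = a * a * (b * b) * ⁅a, b⁆ := by
  have h : b * a = ⁅a, b⁆ * (a * b) := by
    rw [← s.comm_symm a b]; simp only [commutatorElement_def]; group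
  calc a * b * (a * b) = a * (b * a) * b := by group
    _ = a * (⁅a, b⁆ * (a * b)) * b := by rw [h]
    _ = ⁅a, b⁆ * (a * a * (b * b)) := by
      rw [← mul_assoc a ⁅a, b⁆, Subgroup.mem_center_iff.mp (s.comm_mem a b) a]; group
    _ = _ := (Subgroup.mem_center_iff.mp (s.comm_mem a b) _).symm


variable {F : Type*} [Field F] [Fintype F] {ω : F} (h : Four ω)


include h

theorem orb_smul (v : T) (a : F) : Setup.orb ρ ω v (ω * a) = ρ (Setup.orb ρ ω v a) := by
  obtain ⟨v0, v1, v2, v3⟩ := Setup.orb_values (ρ := ρ) h v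
  rcases h.all a with ha | ha | ha | ha <;> rw [ha]
  · rw [mul_zero, v0, map_one]
  · rw [mul_one, v1, v2]
  · rw [h.sq, v2, v3]
  · rw [show ω * (ω + 1) = 1 by linear_combination h.sq + ω * h.two, v1, v3, s.h3]

theorem orb_add {v : T} (hv : v * v = 1) (a b : F) :
    Setup.orb ρ ω v (a + b) = Setup.orb ρ ω v a * Setup.orb ρ ω v b := by
  obtain ⟨v0, v1, v2, v3⟩ := Setup.orb_values (ρ := ρ) h v
  have q1 : ρ v * ρ v = 1 := by rw [← map_mul, hv, map_one]
  have q2 : ρ (ρ v) * ρ (ρ v) = 1 := by rw [← map_mul, q1, map_one]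
  have ho := orbit_prod ρ s.h3 s.fpf v
  have hc := commute_image ρ s.h3 s.fpf v
  have e1 : v * ρ v = ρ (ρ v) := by
    rw [eq_inv_of_mul_eq_one_left ho, inv_eq_of_mul_eq_one_right q2]
  have e1' : ρ v * v = ρ (ρ v) := hc.eq.symm.trans e1
  have e2 : ρ v * ρ (ρ v) = v := by rw [← e1', ← mul_assoc, q1, one_mul]
  have e2' : ρ (ρ v) * ρ v = v := by rw [← e1, mul_assoc, q1, mul_one]
  have e3 : v * ρ (ρ v) = ρ v := by rw [← e1, ← mul_assoc, hv, one_mul]
  have e3' : ρ (ρ v) * v = ρ v := by rw [← e1', mul_assoc, hv, mul_one]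
  have t : (1 : F) + 1 = 0 := by linear_combination h.two
  rcases h.all a with ha | ha | ha | ha <;> rcases h.all b with hb | hb | hb | hb <;>
    rw [ha, hb] <;>
    simp only [zero_add, add_zero, v0, v1, v2, v3, one_mul, mul_one, t, hv, q1, q2, e1, e1', e2, e2', e3, e3']
  all_goals first
    | (rw [show (1 : F) + ω = ω + 1 by ring, v3])
    | (rw [show (1 : F) + (ω + 1) = ω by linear_combination h.two, v2])
    | (rw [show ω + 1 + 1 = ω by linear_combination h.two, v2])
    | (rw [show ω + ω = 0 by linear_combination ω * h.two, v0])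
    | (rw [show ω + (ω + 1) = 1 by linear_combination ω * h.two, v1])
    | (rw [show ω + 1 + ω = 1 by linear_combination ω * h.two, v1])
    | (rw [show ω + 1 + (ω + 1) = 0 by linear_combination (ω + 1) * h.two, v0])

theorem pairing {e f c : T} (hef : ⁅e, f⁆ = c) (a b : F) :
    ⁅Setup.orb ρ ω e a, Setup.orb ρ ω f b⁆ = Setup.orb ρ ω c ((a * b) * (a * b)) := by
  have key : ∀ a b : F, ⁅Setup.orb ρ ω e a, Setup.orb ρ ω f b⁆ = Setup.orb ρ ω c ((a * b) * (a * b)) →
      ⁅Setup.orb ρ ω e (ω * a), Setup.orb ρ ω f b⁆ = Setup.orb ρ ω c ((ω * a * b) * (ω * a * b)) := fun a b hab => by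
    rw [orb_smul s h, s.shift_left, hab, ← orb_smul s h, ← orb_smul s h]
    congr 1; ring
  have key' : ∀ a b : F, ⁅Setup.orb ρ ω e a, Setup.orb ρ ω f b⁆ = Setup.orb ρ ω c ((a * b) * (a * b)) →
      ⁅Setup.orb ρ ω e a, Setup.orb ρ ω f (ω * b)⁆ = Setup.orb ρ ω c ((a * (ω * b)) * (a * (ω * b))) := fun a b hab => by
    rw [orb_smul s h, s.shift_right, hab, ← orb_smul s h, ← orb_smul s h]
    congr 1; ring
  have base : ⁅Setup.orb ρ ω e (1 : F), Setup.orb ρ ω f (1 : F)⁆ = Setup.orb ρ ω c (((1 : F) * 1) * (1 * 1)) := by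
    rw [(Setup.orb_values h e).2.1, (Setup.orb_values h f).2.1, one_mul, one_mul, (Setup.orb_values h c).2.1, hef]
  have hω1 : ω + 1 = ω * ω := h.sq.symm
  have all_a : ∀ a : F, ⁅Setup.orb ρ ω e a, Setup.orb ρ ω f (1 : F)⁆ = Setup.orb ρ ω c ((a * 1) * (a * 1)) := fun a => by
    rcases h.all a with rfl | rfl | ha | ha
    · simp [(Setup.orb_values (ρ := ρ) h e).1, (Setup.orb_values (ρ := ρ) h c).1]
    · exact base
    · have := key 1 1 base
      rw [mul_one ω] at this
      rw [ha]; simpa using this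
    · have := key _ 1 (key 1 1 base)
      rw [mul_one ω, ← hω1] at this
      rw [ha]; exact this
  rcases h.all b with rfl | rfl | hb | hb
  · simp [(Setup.orb_values (ρ := ρ) h f).1, (Setup.orb_values (ρ := ρ) h c).1]
  · exact all_a a
  · have := key' a 1 (all_a a)
    rw [mul_one ω] at this
    rw [hb]; exact this
  · have := key' a _ (key' a 1 (all_a a))
    rw [mul_one ω, ← hω1] at this
    rw [hb]; exact this

omit [Fintype F] in
theorem orb_mem {v : T} (hv : v ∈ Subgroup.center T) (a : F) : Setup.orb ρ ω v a ∈ Subgroup.center T := by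
  unfold Setup.orb
  split_ifs
  · exact one_mem _
  · exact hv
  · exact s.map_center hv
  · exact s.map_center (s.map_center hv)

theorem exists_equiv {e f z : T} (he : e * e = 1) (hf : f * f = 1) (hef : ⁅e, f⁆ = z)
    (hz : z ∈ Subgroup.center T) (hz1 : z ≠ 1) :
    ∃ Ψ : upperUni 3 F ≃* T, ∀ u, ∃ a b c : F, Ψ u = Setup.orb ρ ω f b * Setup.orb ρ ω e a * Setup.orb ρ ω z c := by
  set E := Setup.orb ρ ω e
  set P := Setup.orb ρ ω f
  set Q : F → T := fun c => Setup.orb ρ ω z (c * c) with hQ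
  have hQm : ∀ c, Q c ∈ Subgroup.center T := fun c => orb_mem s h hz _
  have hQadd : ∀ c d, Q (c + d) = Q c * Q d := fun c d => by
    simp only [hQ]
    rw [← orb_add s h (s.sq_eq_one hz)]
    congr 1
    linear_combination c * d * h.two
  have hE : ∀ a b, E (a + b) = E a * E b := orb_add s h he
  have hP : ∀ a b, P (a + b) = P a * P b := orb_add s h hf
  have hp : ∀ a b, ⁅E a, P b⁆ = Q (a * b) := fun a b => pairing s h hef a b
  let g : upperUni 3 F → T := fun u =>
    P (u.val.val 1 2) * E (u.val.val 0 1) * Q (u.val.val 0 2)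
  let φ : upperUni 3 F →* T := MonoidHom.mk' g (by
    rintro ⟨u, hu⟩ ⟨v, hv⟩
    obtain ⟨a, b, c, rfl⟩ : ∃ a b c : F, u = hMat a b c := ⟨_, _, _, eq_hMat hu⟩
    obtain ⟨a', b', c', rfl⟩ : ∃ a b c : F, v = hMat a b c := ⟨_, _, _, eq_hMat hv⟩
    have hcz : ∀ c t, Q c * t = t * Q c := fun c t => (Subgroup.mem_center_iff.mp (hQm c) t).symm
    have hsw : E a * P b' = P b' * E a * Q (a * b') := by
      rw [← hp, Subgroup.mem_center_iff.mp (s.comm_mem _ _) (P b' * E a)]
      simp only [commutatorElement_def]; group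
    show g ⟨hMat a b c * hMat a' b' c', _⟩ = _
    simp only [g, hMat_mul]
    simp [hMat, hP, hE, hQadd]
    calc P b * P b' * (E a * E a') * (Q c * Q c' * Q (a * b'))
        = P b * (P b' * E a) * E a' * (Q (a * b') * (Q c * Q c')) := by
          rw [hcz (a * b') (Q c * Q c')]; simp only [mul_assoc]
      _ = P b * (P b' * E a * Q (a * b')) * E a' * (Q c * Q c') := by
          simp only [mul_assoc]
          rw [← mul_assoc (E a') (Q (a * b')), ← hcz (a * b') (E a')]
          simp only [mul_assoc]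
      _ = P b * (E a * P b') * E a' * (Q c * Q c') := by rw [hsw]
      _ = P b * E a * Q c * (P b' * E a' * Q c') := by
          simp only [mul_assoc]
          rw [← mul_assoc (Q c) (P b'), hcz c (P b'), mul_assoc (P b') (Q c), ← mul_assoc (Q c) (E a'),
            hcz c (E a'), mul_assoc (E a') (Q c)])
  have hQ0 : ∀ d, Q d = 1 → d = 0 := fun d hd => by
    obtain ⟨v0, v1, v2, v3⟩ := Setup.orb_values (ρ := ρ) h z
    rcases h.all (d * d) with e0 | e0 | e0 | e0
    · exact mul_self_eq_zero.mp e0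
    all_goals
      exfalso
      simp only [hQ, e0] at hd
    · exact hz1 (v1 ▸ hd)
    · exact hz1 (ρ.injective (by rw [← v2, hd, map_one]))
    · exact hz1 (ρ.injective (ρ.injective (by rw [← v3, hd, map_one, map_one])))
  have hinj : Function.Injective φ := by
    rw [injective_iff_map_eq_one]
    rintro ⟨u, hu⟩ h1
    obtain ⟨a, b, c, rfl⟩ : ∃ a b c : F, u = hMat a b c := ⟨_, _, _, eq_hMat hu⟩
    have h1' : P b * E a * Q c = 1 := by simpa [φ, g, hMat] using h1
    have hm : P b * E a ∈ Subgroup.center T := by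
      rw [eq_inv_of_mul_eq_one_left h1']; exact inv_mem (hQm c)
    have hb0 : b = 0 := by
      have hh := comm_center hm (E 1)
      rw [s.comm_mul_right, hp, show ⁅E 1, E a⁆ = 1 by
        rw [commutatorElement_eq_one_iff_mul_comm, ← hE, ← hE, add_comm], mul_one, one_mul] at hh
      exact hQ0 _ hh
    have ha0 : a = 0 := by
      have hh := comm_center hm (P 1)
      rw [s.comm_mul_right, s.comm_symm (E a) (P 1), hp, show ⁅P 1, P b⁆ = 1 by
        rw [commutatorElement_eq_one_iff_mul_comm, ← hP, ← hP, add_comm], one_mul, mul_one] at hh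
      exact hQ0 _ hh
    subst ha0; subst hb0
    have hc : c = 0 := hQ0 _ (by simpa [P, E, (Setup.orb_values (ρ := ρ) h e).1, (Setup.orb_values (ρ := ρ) h f).1] using h1')
    subst hc
    exact Subtype.ext hMat_one
  have hcard : Nat.card (upperUni 3 F) = 64 := by
    let eqv : F × F × F → upperUni 3 F := fun t => ⟨hMat t.1 t.2.1 t.2.2, hMat_mem _ _ _⟩
    have hb : Function.Bijective eqv := by
      refine ⟨fun t t' ht => ?_, fun u => ⟨(u.val.val 0 1, u.val.val 1 2, u.val.val 0 2),
        Subtype.ext (eq_hMat u.2).symm⟩⟩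
      obtain ⟨a1, a2, a3⟩ := hMat_inj (congrArg Subtype.val ht)
      exact Prod.ext a1 (Prod.ext a2 a3)
    rw [← Nat.card_congr (Equiv.ofBijective eqv hb), Nat.card_eq_fintype_card]
    have hF4 : Fintype.card F = 4 := by
      obtain ⟨a0, b0, c0, d0, e0⟩ := Setup.ne_facts h
      have : (Finset.univ : Finset F) = {0, 1, ω, ω + 1} := by
        ext t
        simpa using h.all t
      rw [← Finset.card_univ, this]
      simp [a0.symm, b0.symm, c0.symm, d0.symm, e0.symm, zero_ne_one]
    simp [hF4]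
  have hbij : Function.Bijective φ :=
    (Nat.bijective_iff_injective_and_card φ).mpr ⟨hinj, by rw [hcard, s.card]⟩
  exact ⟨MulEquiv.ofBijective φ hbij, fun u => ⟨u.val.val 0 1, u.val.val 1 2,
    u.val.val 0 2 * u.val.val 0 2, rfl⟩⟩


end Core

theorem sylow_psl34 {ρ : MulAut T} (s : Core ρ) {e' f' z : T} (he' : e' * e' = 1)
    (hf' : f' * f' = 1) (hef' : ⁅e', f'⁆ = z) (hz : z ∈ Subgroup.center T) (hz1 : z ≠ 1) :
    ∀ (F : Type) [Field F] [Fintype F], Fintype.card F = 4 →
      ∃ S : Sylow 2 (Matrix.ProjectiveSpecialLinearGroup (Fin 3) F),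
        Nonempty (T ≃* ↥(S : Subgroup (Matrix.ProjectiveSpecialLinearGroup (Fin 3) F))) := by
  classical
  intro F _ _ hF
  obtain ⟨ω, hω⟩ := Cfsg.Agent.TwoGroups.SixtyFour.exists_four hF
  obtain ⟨Ψ, -⟩ := s.exists_equiv hω he' hf' hef' hz hz1
  haveI : Fact (Nat.Prime 2) := ⟨Nat.prime_two⟩
  haveI : CharP F 2 := CharTwo.of_one_ne_zero_of_two_eq_zero one_ne_zero hω.two
  obtain ⟨S⟩ : Nonempty (Sylow 2 (Matrix.ProjectiveSpecialLinearGroup (Fin 3) F)) := inferInstance
  obtain ⟨g, hg⟩ := exists_proj_sylow (le_refl 3) S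
  have hinj : Function.Injective ((proj g).comp (upperUni 3 F).subtype) := by
    rintro ⟨u, hu⟩ ⟨v, hv⟩ h
    obtain ⟨c, hc⟩ := (proj_eq_iff g u v).mp h
    exact Subtype.ext (uni_smul_eq (by norm_num) hu hv hc)
  exact ⟨S, ⟨(Ψ.symm.trans (MonoidHom.ofInjective hinj)).trans (MulEquiv.subgroupCongr (by
    rw [hg, MonoidHom.range_comp, Subgroup.range_subtype]))⟩⟩

end Cfsg.Agent.LocalEven.SixtyFourCore
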