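/-
A 2-group with an involutory automorphism whose fixed points form a central four-group, and a
commuting automorphism of order three without fixed points on that four-group.
-/
import Cfsg.Agent.LocalEven.RankTwoModel
import Cfsg.Agent.LocalEven.SixtyFourCore

set_option autoImplicit false
set_option linter.unusedSectionVars false

namespace Cfsg.Agent.LocalEven.FixedFour

open Subgroup
open RankTwoTransitive (IsSocle IsRot)
open scoped commutatorElement Pointwise

variable {T : Type*} [Group T] [Finite T]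

/-- The hypotheses. -/
structure Hyp (V : Subgroup T) (t f : MulAut T) : Prop where
  pgroup : IsPGroup 2 T
  cen : ∀ v ∈ V, ∀ x : T, x * v = v * x
  card : Nat.card V = 4
  sq : ∀ v ∈ V, v * v = 1
  fix : ∀ x : T, t x = x ↔ x ∈ V
  tt : ∀ x, t (t x) = x
  three : ∀ x, f (f (f x)) = x
  fpfV : ∀ v ∈ V, f v = v → v = 1
  comm : ∀ x, t (f x) = f (t x)

/-- The displacement. -/
def disp (t : MulAut T) (x : T) : T := x⁻¹ * t x

variable {V : Subgroup T} {t f : MulAut T}

theorem map_disp (h : Hyp V t f) (x : T) : t (disp t x) = (disp t x)⁻¹ := by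
  simp only [disp, map_mul, map_inv, h.tt, mul_inv_rev, inv_inv]

theorem map_mem_V (h : Hyp V t f) {v : T} (hv : v ∈ V) : f v ∈ V :=
  (h.fix _).mp (by rw [h.comm, (h.fix v).mpr hv])

theorem disp_of_inverted {x : T} (hx : t x = x⁻¹) : disp t x = (x * x)⁻¹ := by
  rw [disp, hx, mul_inv_rev]

theorem mem_V_of_inverted (h : Hyp V t f) {x : T} (hx : t x = x⁻¹) (h2 : x * x = 1) : x ∈ V :=
  (h.fix x).mp (by rw [hx, inv_eq_of_mul_eq_one_right h2])

/-- A subgroup containing every element whose displacement it contains is everything. -/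
theorem eq_top_of_disp (h : Hyp V t f) (L : Subgroup T) (hL : ∀ y, disp t y ∈ L → y ∈ L) : L = ⊤ := by
  classical
  by_contra hne
  obtain ⟨y, hy⟩ : ∃ y, y ∉ L := by
    by_contra hc
    push Not at hc
    exact hne ((Subgroup.eq_top_iff' L).mpr hc)
  have hd : disp t y ∉ L := fun hh => hy (hL y hh)
  set d := disp t y with hdd
  have hex : ∃ k, d ^ 2 ^ k ∈ L := by
    obtain ⟨k, hk⟩ := h.pgroup d
    exact ⟨k, by rw [hk]; exact one_mem L⟩
  have h0 : Nat.find hex ≠ 0 := fun e => hd (by
    have h' := Nat.find_spec hex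
    rwa [e, pow_zero, pow_one] at h')
  obtain ⟨j, hj⟩ := Nat.exists_eq_succ_of_ne_zero h0
  have hz : d ^ 2 ^ j ∉ L := Nat.find_min hex (by omega)
  refine hz (hL _ ?_)
  rw [disp_of_inverted (by rw [map_pow, map_disp h, inv_pow]), ← pow_two, ← pow_mul, ← pow_succ]
  have h' := Nat.find_spec hex
  rw [hj] at h'
  exact inv_mem h'

theorem fpf (h : Hyp V t f) {x : T} (hx : f x = x) : x = 1 := by
  by_contra hx1
  by_cases hd : disp t x = 1
  · exact hx1 (h.fpfV x ((h.fix x).mp (inv_mul_eq_one.mp hd).symm) hx)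
  · obtain ⟨j, h1, h2⟩ := RankTwoTransitive.exists_sq_root h.pgroup hd
    have hfd : f (disp t x) = disp t x := by
      rw [disp, map_mul, map_inv, ← h.comm, hx]
    refine h1 (h.fpfV _ (mem_V_of_inverted h ?_ h2) (by rw [map_pow, hfd]))
    rw [map_pow, map_disp h, inv_pow]

theorem isRot (h : Hyp V t f) : IsRot f := ⟨h.three, fun _ hx => fpf h hx⟩

/-- Every subgroup of elements displaced into `V` has at most sixteen elements. -/
theorem card_le_sixteen (h : Hyp V t f) (K : Subgroup T) (hK : ∀ x ∈ K, disp t x ∈ V) :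
    Nat.card K ≤ 16 := by
  let m : K →* V := MonoidHom.mk' (fun x => ⟨disp t x, hK x x.2⟩) (fun a b => Subtype.ext (by
    show disp t ((a : T) * b) = disp t a * disp t b
    have hc := h.cen _ (hK a a.2) ((b : T)⁻¹)
    calc disp t ((a : T) * b) = (b : T)⁻¹ * disp t a * t b := by
          simp only [disp, mul_inv_rev, map_mul, mul_assoc]
      _ = disp t a * disp t b := by rw [hc]; simp only [disp, mul_assoc]))
  have hk : Nat.card m.ker ≤ 4 := by
    rw [← h.card]
    refine Nat.card_le_card_of_injective (fun a => (⟨((a : K) : T), ?_⟩ : V)) ?_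
    · have e : disp t ((a : K) : T) = 1 := congrArg Subtype.val (MonoidHom.mem_ker.mp a.2)
      exact (h.fix _).mp (inv_mul_eq_one.mp e).symm
    · intro a b e
      exact Subtype.ext (Subtype.ext (congrArg (fun v : V => (v : T)) e))
  have hr : Nat.card m.range ≤ 4 := by
    rw [← h.card]; exact Subgroup.card_le_card_group _
  rw [Subgroup.card_eq_card_quotient_mul_card_subgroup m.ker,
    Nat.card_congr (QuotientGroup.quotientKerEquivRange m).toEquiv]
  calc _ ≤ 4 * 4 := Nat.mul_le_mul hr hk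
    _ = 16 := by norm_num

/-- The elements displaced into `V`. -/
def inner (h : Hyp V t f) : Subgroup T where
  carrier := {x | disp t x ∈ V}
  one_mem' := by simp [disp, one_mem]
  mul_mem' := by
    intro a b ha hb
    show (a * b)⁻¹ * t (a * b) ∈ V
    have hc := h.cen _ ha b⁻¹
    rw [show (a * b)⁻¹ * t (a * b) = b⁻¹ * disp t a * t b by
      simp only [disp, mul_inv_rev, map_mul, mul_assoc], hc, mul_assoc]
    exact mul_mem ha hb
  inv_mem' := by
    intro a ha
    show a⁻¹⁻¹ * t a⁻¹ ∈ V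
    rw [show a⁻¹⁻¹ * t a⁻¹ = a * (disp t a)⁻¹ * a⁻¹ by
      simp only [disp, map_inv, mul_inv_rev, inv_inv]; group, h.cen _ (inv_mem ha) a,
      mul_inv_cancel_right]
    exact inv_mem ha

theorem card_inner_le (h : Hyp V t f) : Nat.card (inner h) ≤ 16 := card_le_sixteen h _ fun _ hx => hx

/-- A subgroup stable under `f` that strictly contains `V` has at least sixteen elements. -/
theorem sixteen_le (h : Hyp V t f) {F : Subgroup T} (hV : V < F) (hF : ∀ x ∈ F, f x ∈ F) :
    16 ≤ Nat.card F := by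
  haveI : Fact (Nat.Prime 2) := ⟨Nat.prime_two⟩
  let g : F →* F := MonoidHom.mk' (fun x => ⟨f x, hF x x.2⟩) fun a b => Subtype.ext (map_mul f _ _)
  have hg3 : ∀ x : F, g (g (g x)) = x := fun x => Subtype.ext (h.three x)
  let ρ : F ≃* F := MulEquiv.ofBijective g ⟨fun a b e => by rw [← hg3 a, e, hg3],
    fun b => ⟨g (g b), hg3 b⟩⟩
  have h1 := TwoGroups.SixtyFour.card_mod ρ hg3 (fun x hx => Subtype.ext (fpf h (congrArg Subtype.val hx)))
  obtain ⟨k, hk⟩ := (h.pgroup.to_subgroup F).exists_card_eq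
  have h2 := RankTwoTransitive.two_mul_card_le hV
  rw [h.card, hk] at h2
  rw [hk] at h1 ⊢
  have : 4 ≤ k := by
    by_contra hc
    interval_cases k <;> simp at h1 h2
  calc 16 = 2 ^ 4 := by norm_num
    _ ≤ 2 ^ k := Nat.pow_le_pow_right two_pos this

section Outside

variable (h : Hyp V t f) {u : T} (hu : u * u = 1) (huV : u ∉ V)

/-- The generators of the elementary abelian normal subgroup. -/
def gens (V : Subgroup T) (f : MulAut T) (u : T) : Set T :=
  {x | x ∈ V ∨ ∃ g, x = g * u * g⁻¹ ∨ x = g * f u * g⁻¹}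

/-- The elementary abelian normal subgroup through `u`. -/
def hull (V : Subgroup T) (f : MulAut T) (u : T) : Subgroup T := closure (gens V f u)

theorem V_le_hull : V ≤ hull V f u := fun _ hx => subset_closure (Or.inl hx)

theorem self_mem_hull : u ∈ hull V f u := subset_closure (Or.inr ⟨1, Or.inl (by group)⟩)

include h in
theorem map_f_hull : ∀ x ∈ hull V f u, f x ∈ hull V f u := by
  suffices hull V f u ≤ (hull V f u).comap f.toMonoidHom from fun x hx => this hx
  refine (closure_le _).mpr ?_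
  rintro x (hx | ⟨g, rfl | rfl⟩)
  · exact subset_closure (Or.inl (map_mem_V h hx))
  · refine subset_closure (Or.inr ⟨f g, Or.inr ?_⟩)
    show f (g * u * g⁻¹) = _
    simp only [map_mul, map_inv]
  · show f (g * f u * g⁻¹) ∈ hull V f u
    simp only [map_mul, map_inv]
    rw [RankTwoTransitive.apply_apply_eq (isRot h) u, show f g * (u * f u)⁻¹ * (f g)⁻¹ =
      (f g * f u * (f g)⁻¹)⁻¹ * (f g * u * (f g)⁻¹)⁻¹ by group]
    exact mul_mem (inv_mem (subset_closure (Or.inr ⟨f g, Or.inr rfl⟩)))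
      (inv_mem (subset_closure (Or.inr ⟨f g, Or.inl rfl⟩)))

include h in
theorem hull_normal : (hull V f u).Normal := by
  refine ⟨fun n hn g => ?_⟩
  suffices hull V f u ≤ (hull V f u).comap (MulAut.conj g).toMonoidHom from this hn
  refine (closure_le _).mpr ?_
  rintro x (hx | ⟨a, rfl | rfl⟩) <;> show g * _ * g⁻¹ ∈ hull V f u
  · rw [h.cen x hx g, mul_inv_cancel_right]; exact subset_closure (Or.inl hx)
  · exact subset_closure (Or.inr ⟨g * a, Or.inl (by group)⟩)
  · exact subset_closure (Or.inr ⟨g * a, Or.inr (by group)⟩)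

include h in
theorem gens_comm : ∀ a ∈ gens V f u, ∀ b ∈ gens V f u, a * b = b * a := by
  have hf : ∀ x, f x = x → x = 1 := fun x hx => fpf h hx
  have base : ∀ (x y : T), (∀ g, x * (g * y * g⁻¹) = g * y * g⁻¹ * x) → ∀ a b : T,
      a * x * a⁻¹ * (b * y * b⁻¹) = b * y * b⁻¹ * (a * x * a⁻¹) := fun x y hxy a b => by
    calc a * x * a⁻¹ * (b * y * b⁻¹)
        = a * (x * (a⁻¹ * b * y * (a⁻¹ * b)⁻¹)) * a⁻¹ := by group
      _ = a * (a⁻¹ * b * y * (a⁻¹ * b)⁻¹ * x) * a⁻¹ := by rw [hxy]
      _ = _ := by group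
  have c1 := base u u fun g => RankTwoTransitive.commute_conj_self hf h.three u g
  have c2 := base (f u) (f u) fun g => RankTwoTransitive.commute_conj_self hf h.three (f u) g
  have c3 := base u (f u) fun g => RankTwoTransitive.commute_conj hf h.three u g
  rintro a (ha | ⟨g, rfl | rfl⟩) b (hb | ⟨k, rfl | rfl⟩) <;>
    first
    | exact h.cen _ hb _
    | exact (h.cen _ ha _).symm
    | exact c1 _ _
    | exact c2 _ _
    | exact c3 _ _
    | exact (c3 _ _).symm

include h hu in
theorem hull_elem : ∀ x ∈ hull V f u, x * x = 1 ∧ ∀ y ∈ hull V f u, x * y = y * x := by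
  have hle : hull V f u ≤ centralizer (hull V f u : Set T) := by
    rw [hull, Subgroup.centralizer_closure, closure_le]
    exact fun a ha => mem_centralizer_iff.mpr fun b hb => (gens_comm h a ha b hb).symm
  have hc : ∀ x ∈ hull V f u, ∀ y ∈ hull V f u, x * y = y * x := fun x hx y hy =>
    (mem_centralizer_iff.mp (hle hx) y hy).symm
  intro x hx
  refine ⟨?_, hc x hx⟩
  let P : Subgroup T :=
    { carrier := {a | a ∈ hull V f u ∧ a * a = 1}
      one_mem' := ⟨one_mem _, mul_one 1⟩
      mul_mem' := by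
        rintro a b ⟨ha, ha'⟩ ⟨hb, hb'⟩
        refine ⟨mul_mem ha hb, ?_⟩
        calc a * b * (a * b) = a * (b * a) * b := by group
          _ = a * (a * b) * b := by rw [hc b hb a ha]
          _ = (a * a) * (b * b) := by group
          _ = 1 := by rw [ha', hb', one_mul]
      inv_mem' := by
        rintro a ⟨ha, ha'⟩
        exact ⟨inv_mem ha, by rw [← mul_inv_rev, ha', inv_one]⟩ }
  have hP : hull V f u ≤ P := by
    refine (closure_le _).mpr fun a ha => ⟨subset_closure ha, ?_⟩
    rcases ha with ha | ⟨g, rfl | rfl⟩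
    · exact h.sq a ha
    · rw [show g * u * g⁻¹ * (g * u * g⁻¹) = g * (u * u) * g⁻¹ by group, hu, mul_one, mul_inv_cancel]
    · rw [show g * f u * g⁻¹ * (g * f u * g⁻¹) = g * (f u * f u) * g⁻¹ by group, ← map_mul, hu,
        map_one, mul_one, mul_inv_cancel]
  exact (hP hx).2

/-- The image of the hull. -/
def twin (V : Subgroup T) (t f : MulAut T) (u : T) : Subgroup T := (hull V f u).map t.toMonoidHom

include h in
theorem mem_twin {x : T} : x ∈ twin V t f u ↔ t x ∈ hull V f u := by
  constructor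
  · rintro ⟨a, ha, rfl⟩
    show t (t a) ∈ _
    rw [h.tt]; exact ha
  · exact fun hx => ⟨t x, hx, h.tt x⟩

include h in
theorem apply_mem_twin {a : T} (ha : a ∈ hull V f u) : t a ∈ twin V t f u :=
  (mem_twin h).mpr (by rw [h.tt]; exact ha)

include h in
theorem twin_normal : (twin V t f u).Normal :=
  (hull_normal h (u := u)).map _ t.surjective

include h in
theorem V_le_inf : V ≤ hull V f u ⊓ twin V t f u := fun v hv =>
  ⟨V_le_hull hv, (mem_twin h).mpr (by rw [(h.fix v).mpr hv]; exact V_le_hull hv)⟩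

include h hu in
/-- If the hull and its image meet outside `V`, the group is elementary abelian of order 16. -/
theorem elementary_case (hne : hull V f u ⊓ twin V t f u ≠ V) :
    Nat.card T = 16 ∧ ∀ x : T, x * x = 1 := by
  set R := hull V f u ⊓ twin V t f u with hR
  have hRf : ∀ x ∈ R, f x ∈ R := fun x hx => ⟨map_f_hull h x hx.1,
    (mem_twin h).mpr (by rw [h.comm]; exact map_f_hull h _ ((mem_twin h).mp hx.2))⟩
  have hRt : ∀ x ∈ R, t x ∈ R := fun x hx => ⟨(mem_twin h).mp hx.2,
    (mem_twin h).mpr (by rw [h.tt]; exact hx.1)⟩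
  have hsq : ∀ x ∈ R, x * x = 1 := fun x hx => (hull_elem h hu x hx.1).1
  have hRI : R ≤ inner h := fun x hx => by
    show disp t x ∈ V
    exact mem_V_of_inverted h (map_disp h x) (hsq _ (mul_mem (inv_mem hx) (hRt x hx)))
  have h16 : 16 ≤ Nat.card R := sixteen_le h (lt_of_le_of_ne (V_le_inf h) (Ne.symm hne)) hRf
  have hle := card_inner_le h
  have heq : R = inner h := Subgroup.eq_of_le_of_card_ge hRI (by omega)
  have htop : R = ⊤ := by
    refine eq_top_of_disp h R fun y hy => ?_
    rw [heq]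
    exact mem_V_of_inverted h (map_disp h y) (hsq _ hy)
  refine ⟨?_, fun x => hsq x (htop ▸ Subgroup.mem_top x)⟩
  have e : Nat.card R = 16 := le_antisymm (by rw [heq]; exact hle) h16
  rwa [htop, Subgroup.card_top] at e

variable (hinf : hull V f u ⊓ twin V t f u = V)

include h hinf in
theorem comm_mem_V {a b : T} (ha : a ∈ hull V f u) (hb : b ∈ twin V t f u) : ⁅a, b⁆ ∈ V := by
  rw [← hinf]
  refine Subgroup.mem_inf.mpr ⟨?_, ?_⟩
  · rw [show ⁅a, b⁆ = a * (b * a⁻¹ * b⁻¹) by rw [commutatorElement_def]; group]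
    exact mul_mem ha ((hull_normal h).conj_mem _ (inv_mem ha) b)
  · rw [commutatorElement_def]
    exact mul_mem ((twin_normal h).conj_mem _ hb a) (inv_mem hb)

include h hinf in
theorem mul_image_mem_inner {a : T} (ha : a ∈ hull V f u) : a * t a ∈ inner h := by
  show disp t (a * t a) ∈ V
  rw [disp, map_mul, h.tt, show (a * t a)⁻¹ * (t a * a) = ⁅(t a)⁻¹, a⁻¹⁆ by
    rw [commutatorElement_def]; group, ← commutatorElement_inv]
  exact inv_mem (comm_mem_V h hinf (inv_mem ha) (inv_mem (apply_mem_twin h ha)))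

include h hu huV hinf in
/-- Otherwise the group has order 64, is generated by the hull and its image, and `u` and `t u`
do not commute. -/
theorem order_sixty_four : Nat.card T = 64 ∧ ⁅u, t u⁆ ∈ V ∧ ⁅u, t u⁆ ≠ 1 := by
  classical
  haveI : (V : Subgroup T).Normal := ⟨fun v hv g => by rw [h.cen v hv g, mul_inv_cancel_right]; exact hv⟩
  set E := hull V f u with hE
  set E' := twin V t f u with hE'
  have hlow : 16 ≤ Nat.card E := sixteen_le h
    (lt_of_le_of_ne V_le_hull (fun e => huV (by rw [e]; exact self_mem_hull))) (map_f_hull h)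
  -- sections of `E` give an injection into the inner subgroup
  let r : T → T := fun a => (QuotientGroup.mk a : T ⧸ V).out
  have hr : ∀ a : T, a⁻¹ * r a ∈ V := fun a =>
    QuotientGroup.eq.mp (QuotientGroup.out_eq' (QuotientGroup.mk a : T ⧸ V)).symm
  have hrE : ∀ a ∈ E, r a ∈ E := fun a ha => by
    rw [show r a = a * (a⁻¹ * r a) by group]; exact mul_mem ha (V_le_hull (hr a))
  let ψ : E → T := fun a => r a * t (r a) * ((r a)⁻¹ * (a : T))
  have hψ : ∀ a : E, ψ a ∈ inner h ∧ ψ a ∈ E ⊔ E' := by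
    intro a
    have hv : (r a)⁻¹ * (a : T) ∈ V := by
      rw [show (r a)⁻¹ * (a : T) = ((a : T)⁻¹ * r a)⁻¹ by group]; exact inv_mem (hr a)
    refine ⟨mul_mem (mul_image_mem_inner h hinf (hrE a a.2)) ?_, mul_mem (mul_mem
      (mem_sup_left (hrE a a.2)) (mem_sup_right (apply_mem_twin h (hrE a a.2)))) (mem_sup_left (V_le_hull hv))⟩
    show disp t _ ∈ V
    rw [disp, (h.fix _).mpr hv, inv_mul_cancel]; exact one_mem V
  have hψi : Function.Injective ψ := by
    intro a b e
    set x := r a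
    set y := r b
    have hx := hrE a a.2
    have hy := hrE b b.2
    have hva : x⁻¹ * (a : T) ∈ V := by
      rw [show x⁻¹ * (a : T) = ((a : T)⁻¹ * x)⁻¹ by group]; exact inv_mem (hr a)
    have hvb : y⁻¹ * (b : T) ∈ V := by
      rw [show y⁻¹ * (b : T) = ((b : T)⁻¹ * y)⁻¹ by group]; exact inv_mem (hr b)
    have e' : y⁻¹ * x = t y * ((y⁻¹ * (b : T)) * (x⁻¹ * (a : T))⁻¹) * (t x)⁻¹ := by
      have e0 : x * t x * (x⁻¹ * (a : T)) = y * t y * (y⁻¹ * (b : T)) := e
      calc y⁻¹ * x = y⁻¹ * (x * t x * (x⁻¹ * (a : T))) * (x⁻¹ * (a : T))⁻¹ * (t x)⁻¹ := by group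
        _ = _ := by rw [e0]; group
    have hm : y⁻¹ * x ∈ V := by
      rw [← hinf]
      refine Subgroup.mem_inf.mpr ⟨mul_mem (inv_mem hy) hx, ?_⟩
      rw [e']
      exact mul_mem (mul_mem ⟨y, hy, rfl⟩ ((V_le_inf h) (mul_mem hvb (inv_mem hva))).2)
        (inv_mem (apply_mem_twin h hx))
    have hxy : x = y := by
      have hab : (QuotientGroup.mk (a : T) : T ⧸ V) = QuotientGroup.mk (b : T) := by
        rw [QuotientGroup.eq, show (a : T)⁻¹ * b = (a : T)⁻¹ * x * (y⁻¹ * x)⁻¹ * (y⁻¹ * (b : T)) by group]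
        exact mul_mem (mul_mem (hr a) (inv_mem hm)) hvb
      show (QuotientGroup.mk (a : T) : T ⧸ V).out = (QuotientGroup.mk (b : T) : T ⧸ V).out
      rw [hab]
    have e0 : x * t x * (x⁻¹ * (a : T)) = y * t y * (y⁻¹ * (b : T)) := e
    rw [hxy] at e0
    exact Subtype.ext (mul_left_cancel (mul_left_cancel e0))
  have hup : Nat.card E ≤ Nat.card ↥(inner h ⊓ (E ⊔ E')) :=
    Nat.card_le_card_of_injective (fun a => (⟨ψ a, hψ a⟩ : ↥(inner h ⊓ (E ⊔ E'))))
      fun a b e => hψi (congrArg Subtype.val e)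
  have hin := card_inner_le h
  have hinfle : Nat.card ↥(inner h ⊓ (E ⊔ E')) ≤ Nat.card (inner h) :=
    Subgroup.card_le_of_le inf_le_left
  have hE16 : Nat.card E = 16 := by omega
  have hW : inner h ≤ E ⊔ E' := by
    have e := Subgroup.eq_of_le_of_card_ge (inf_le_left : inner h ⊓ (E ⊔ E') ≤ inner h) (by omega)
    rw [← e]; exact inf_le_right
  haveI := twin_normal h (u := u)
  have hE'16 : Nat.card E' = 16 := by
    rw [← hE16]; exact Subgroup.card_map_of_injective t.injective
  -- everything lies in the product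
  have htop : E ⊔ E' = ⊤ := by
    haveI := hull_normal h (u := u)
    refine eq_top_of_disp h _ fun y hy => ?_
    obtain ⟨a, ha, b, hb, hab⟩ : ∃ a ∈ E, ∃ b ∈ E', a * b = disp t y := by
      have : (disp t y) ∈ ((E : Set T) * (E' : Set T)) := by
        rw [← Subgroup.normal_mul]; exact hy
      exact Set.mem_mul.mp this
    set d := disp t y with hd
    have hta : t a ∈ E' := apply_mem_twin h ha
    have htb : t b ∈ E := (mem_twin h).mp hb
    have hc := comm_mem_V h hinf ha hb
    have hai : a⁻¹ = a := inv_eq_of_mul_eq_one_right (hull_elem h hu a ha).1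
    have hbi : b⁻¹ = b := by
      refine inv_eq_of_mul_eq_one_right (t.injective ?_)
      rw [map_mul, (hull_elem h hu _ htb).1, map_one]
    have hkey : t a * t b = b * a := by
      rw [← map_mul, hab, show t d = d⁻¹ from map_disp h y, ← hab, mul_inv_rev, hai, hbi]
    have hv : b⁻¹ * t a ∈ V := by
      rw [← hinf]
      refine Subgroup.mem_inf.mpr ⟨?_, mul_mem (inv_mem hb) hta⟩
      rw [show b⁻¹ * t a = a * (t b)⁻¹ by
        rw [eq_mul_inv_iff_mul_eq, mul_assoc, hkey, inv_mul_cancel_left]]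
      exact mul_mem ha (inv_mem htb)
    have hmem : y * a ∈ inner h := by
      show disp t (y * a) ∈ V
      rw [show disp t (y * a) = a⁻¹ * d * t a by
        simp only [hd, disp, mul_inv_rev, map_mul, mul_assoc], ← hab,
        show a⁻¹ * (a * b) * t a = b * t a by group]
      rwa [hbi] at hv
    have h2 : y * a ∈ E ⊔ E' := hW hmem
    exact (Subgroup.mul_mem_cancel_right _ (mem_sup_left ha)).mp h2
  have hcard : Nat.card T = 64 := by
    have h1 : E'.relIndex E * Nat.card ↥(E' ⊓ E) = Nat.card E := by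
      rw [← Subgroup.relIndex_bot_left, ← Subgroup.relIndex_bot_left,
        ← Subgroup.inf_relIndex_right E' E, mul_comm]
      exact Subgroup.relIndex_mul_relIndex ⊥ (E' ⊓ E) E bot_le inf_le_right
    rw [inf_comm, hinf, h.card, hE16] at h1
    have h2 : E'.relIndex (E ⊔ E') = E'.relIndex E := Subgroup.relIndex_sup_right E E'
    rw [htop, Subgroup.relIndex_top_right] at h2
    have h3 := Subgroup.card_mul_index E'
    rw [h2, hE'16] at h3
    omega
  refine ⟨hcard, comm_mem_V h hinf self_mem_hull (apply_mem_twin h self_mem_hull), fun hc => huV ?_⟩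
  have hw : u * t u ∈ V := (h.fix _).mp (by
    rw [map_mul, h.tt]; exact (commutatorElement_eq_one_iff_mul_comm.mp hc).symm)
  rw [← hinf]
  refine Subgroup.mem_inf.mpr ⟨self_mem_hull, (mem_twin h).mpr ?_⟩
  rw [show t u = u⁻¹ * (u * t u) by group]
  exact mul_mem (inv_mem self_mem_hull) (V_le_hull hw)

end Outside

/-- The classification. -/
theorem classify (h : Hyp V t f) (F₄ : Type) [Field F₄] [Fintype F₄] (h₄ : Fintype.card F₄ = 4)
    (F₁₆ : Type) [Field F₁₆] [Fintype F₁₆] (h₁₆ : Fintype.card F₁₆ = 16) :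
    (Nat.card T = 16 ∧ ∀ x : T, x * x = 1) ∨
    (∃ n : ℕ, 1 ≤ n ∧ Nonempty (T ≃* Multiplicative (ZMod (2 ^ n) × ZMod (2 ^ n)))) ∨
    (∀ P : Sylow 2 (Matrix.ProjectiveSpecialLinearGroup (Fin 3) F₄),
      Nonempty (T ≃* ↥(P : Subgroup (Matrix.ProjectiveSpecialLinearGroup (Fin 3) F₄)))) ∨
    (∀ P : Sylow 2 (Cfsg.PSU 3 F₁₆ 4), Nonempty (T ≃* ↥(P : Subgroup (Cfsg.PSU 3 F₁₆ 4)))) := by
  by_cases hout : ∀ u : T, u * u = 1 → u ∈ V
  · -- all involutions lie in `V`
    haveI : Fact (Fintype.card F₁₆ = 16) := ⟨h₁₆⟩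
    have hO : IsSocle V := ⟨fun x => ⟨h.sq x, hout x⟩, h.cen, h.card⟩
    rcases RankTwoTransitive.dichotomy hO h.pgroup (isRot h) with h1 | ⟨g, x, y, hg, hd⟩
    · exact Or.inr (Or.inl h1)
    · refine Or.inr (Or.inr (Or.inr fun P => ?_))
      obtain ⟨w, hw⟩ := RankTwoModel.rels (F := F₁₆)
      obtain ⟨e⟩ := RankTwoTransitive.iso_of_rels (hd.rels hg) hw
      obtain ⟨e'⟩ := RankTwoModel.iso_sylow P
      exact ⟨e.trans e'⟩
  · push Not at hout
    obtain ⟨u, hu, huV⟩ := hout
    by_cases hinf : hull V f u ⊓ twin V t f u = V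
    · obtain ⟨hc, hz, hz1⟩ := order_sixty_four h hu huV hinf
      refine Or.inr (Or.inr (Or.inl fun P => ?_))
      haveI : Fact (Nat.Prime 2) := ⟨Nat.prime_two⟩
      have s : SixtyFourCore.Core f :=
        ⟨hc, fun hcomm => hz1 (commutatorElement_eq_one_iff_mul_comm.mpr (hcomm.is_comm.comm _ _)),
          h.three, fun x hx => fpf h hx⟩
      obtain ⟨S, ⟨e⟩⟩ := SixtyFourCore.sylow_psl34 s hu
        (show t u * t u = 1 by rw [← map_mul, hu, map_one]) rfl
        (Subgroup.mem_center_iff.mpr (h.cen _ hz)) hz1 F₄ h₄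
      exact ⟨e.trans (S.equiv P)⟩
    · exact Or.inl (elementary_case h hu hinf)

end Cfsg.Agent.LocalEven.FixedFour
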