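/-
Coordinates on a Sylow 2-subgroup of the three dimensional unitary group in characteristic two, following
the parametrisation in the proof of its basic properties.
-/
import Cfsg.Agent.S1141

set_option autoImplicit false

namespace Cfsg.Agent.LocalEven.FixedSinger

open Cfsg.Agent.KnownA
open Cfsg.Agent.Forms (frobQ frobQ_apply)
open Cfsg.Agent.S1141 (facts)

theorem unitary_coords {F : Type*} [Field F] [Fintype F] {n q : ℕ} (hn : 2 ≤ n) (hq : q = 2 ^ n)
    (hF : Fintype.card F = q ^ 2) (S : Sylow 2 (Cfsg.PSU 3 F q)) :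
    ∃ (a c : ↥(S : Subgroup (Cfsg.PSU 3 F q)) → F), (∀ x y, a x = a y → c x = c y → x = y) ∧
      (∀ x y, a (x * y) = a x + a y) ∧ (∀ x y, c (x * y) = c x + c y + a x ^ q * a y) ∧
      (∀ x, c x + c x ^ q = a x ^ (q + 1)) ∧
      (∀ u v, v + v ^ q = u ^ (q + 1) → ∃ x, a x = u ∧ c x = v) := by
  classical
  haveI : Fact (Nat.Prime 2) := ⟨Nat.prime_two⟩
  haveI : CharP F 2 := by
    have h : ((Fintype.card F : ℕ) : F) = 0 := Nat.cast_card_eq_zero F
    rw [hF, hq, ← pow_mul, Nat.cast_pow] at h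
    exact CharTwo.of_one_ne_zero_of_two_eq_zero one_ne_zero (pow_eq_zero_iff (by omega) |>.1 h)
  have h2 : (2 : F) = 0 := CharTwo.two_eq_zero
  have hq4 : 4 ≤ q := le_trans (by norm_num) ((Nat.pow_le_pow_right (by omega) hn : 2 ^ 2 ≤ 2 ^ n).trans_eq hq.symm)
  have hq0 : q ≠ 0 := by omega
  have hqq : ∀ a : F, (a ^ q) ^ q = a := fun a => by
    rw [← pow_mul, ← pow_two, ← hF]; exact FiniteField.pow_card a
  have hfq : ∀ a b : F, (a + b) ^ q = a ^ q + b ^ q := fun a b => hq ▸ add_pow_char_pow a b 2 n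
  have hub : ∀ u v : Fin 3 → F, ub hF u v = v 0 * u 0 ^ q + v 1 * u 1 ^ q + v 2 * u 2 ^ q := fun u v => by
    rw [ub, Forms.hermB_apply, Cfsg.hermForm, Fin.sum_univ_three]
  set e : Fin 3 → F := ![1, 1, 0] with he
  set d : Fin 3 → F := ![0, 0, 1] with hd
  have hee : ub hF e e = 0 := by rw [hub]; simp [he, hq0]; linear_combination h2
  have hed : ∀ a : F, ub hF e (a • d) = 0 := fun a => by rw [hub]; simp [he, hd, hq0]
  have hdd : ∀ a b : F, ub hF (a • d) (b • d) = a ^ q * b := fun a b => by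
    rw [hub]; simp [hd, hq0]; ring
  have hiff : ∀ a c : F, c + c ^ q = a ^ (q + 1) ↔ c + frobQ hF c = -ub hF (a • d) (a • d) := fun a c => by
    rw [hdd, frobQ_apply, CharTwo.neg_eq, pow_succ]
  let x0 : Fin 3 → F := ![1, 0, 0]
  let α : Cfsg.SU 3 F q → F := fun r => act r x0 2
  let γ : Cfsg.SU 3 F q → F := fun r => act r x0 1
  have hval : ∀ a c : F, c + c ^ q = a ^ (q + 1) →
      α (root hF e (a • d) c) = a ∧ γ (root hF e (a • d) c) = c := by
    intro a c h
    have h' : ub hF e x0 = 1 := by rw [hub]; simp [he, x0, hq0]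
    have h'' : ub hF (a • d) x0 = 0 := by rw [hub]; simp [hd, x0, hq0]
    constructor <;>
      · simp only [α, γ, act_root hF hee (hed a) ((hiff a c).1 h), h', h'']
        simp [he, hd, x0]
  have hmul : ∀ a c b c' : F, c + c ^ q = a ^ (q + 1) → c' + c' ^ q = b ^ (q + 1) →
      root hF e (a • d) c * root hF e (b • d) c' = root hF e ((a + b) • d) (c + c' + a ^ q * b) := by
    intro a c b c' h h'
    rw [root_mul hF hee (hed a) (hed b) ((hiff a c).1 h) ((hiff b c').1 h'), add_smul, hdd, CharTwo.sub_eq_add]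
  have hclosed : ∀ a c b c' : F, c + c ^ q = a ^ (q + 1) → c' + c' ^ q = b ^ (q + 1) →
      (c + c' + a ^ q * b) + (c + c' + a ^ q * b) ^ q = (a + b) ^ (q + 1) := by
    intro a c b c' h h'
    rw [pow_succ] at h h' ⊢
    rw [hfq, hfq, mul_pow, hqq, hfq]
    linear_combination h + h'
  have hone : root hF e ((0 : F) • d) 0 = 1 := by
    have h0 : (0 : F) + 0 ^ q = 0 ^ (q + 1) := by simp [hq0]
    refine su_ext fun x => ?_
    rw [act_root hF hee (hed 0) ((hiff 0 0).1 h0), zero_smul, ub_zero_left hF]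
    simp [act_one]
  let R : Subgroup (Cfsg.SU 3 F q) :=
    { carrier := {r | ∃ a c, c + c ^ q = a ^ (q + 1) ∧ r = root hF e (a • d) c}
      mul_mem' := by
        rintro _ _ ⟨a, c, h, rfl⟩ ⟨b, c', h', rfl⟩
        exact ⟨_, _, hclosed a c b c' h h', hmul a c b c' h h'⟩
      one_mem' := ⟨0, 0, by simp [hq0], hone.symm⟩
      inv_mem' := by
        rintro _ ⟨a, c, h, rfl⟩
        have h' : (c + a ^ (q + 1)) + (c + a ^ (q + 1)) ^ q = a ^ (q + 1) := by
          rw [hfq, show (a ^ (q + 1)) ^ q = a ^ (q + 1) by rw [pow_succ, mul_pow, hqq, mul_comm]]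
          linear_combination h + a ^ (q + 1) * h2
        refine ⟨a, c + a ^ (q + 1), h', inv_eq_of_mul_eq_one_right ?_⟩
        rw [hmul a c a _ h h', ← hone]
        congr 1
        · rw [CharTwo.add_self_eq_zero]
        · rw [pow_succ]
          linear_combination (c + a ^ q * a) * h2 }
  have hR : ∀ r : R, ∃ a c, c + c ^ q = a ^ (q + 1) ∧ (r : Cfsg.SU 3 F q) = root hF e (a • d) c := fun r => r.2
  have l1 : ∀ x y : R, α x = α y → γ x = γ y → x = y := by
    intro x y h1 h3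
    obtain ⟨a, c, h, ex⟩ := hR x
    obtain ⟨b, c', h', ey⟩ := hR y
    refine Subtype.ext ?_
    rw [ex, ey] at h1 h3
    rw [(hval a c h).1, (hval b c' h').1] at h1
    rw [(hval a c h).2, (hval b c' h').2] at h3
    rw [ex, ey, h1, h3]
  have l2 : ∀ x y : R, α (x * y : R) = α x + α y := by
    intro x y
    obtain ⟨a, c, h, ex⟩ := hR x
    obtain ⟨b, c', h', ey⟩ := hR y
    rw [Subgroup.coe_mul, ex, ey, hmul a c b c' h h', (hval _ _ (hclosed a c b c' h h')).1, (hval a c h).1,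
      (hval b c' h').1]
  have l3 : ∀ x y : R, γ (x * y : R) = γ x + γ y + (α x) ^ q * α y := by
    intro x y
    obtain ⟨a, c, h, ex⟩ := hR x
    obtain ⟨b, c', h', ey⟩ := hR y
    rw [Subgroup.coe_mul, ex, ey, hmul a c b c' h h', (hval _ _ (hclosed a c b c' h h')).2, (hval a c h).2,
      (hval b c' h').2, (hval a c h).1, (hval b c' h').1]
  have l4 : ∀ x : R, γ x + γ x ^ q = α x ^ (q + 1) := by
    intro x
    obtain ⟨a, c, h, ex⟩ := hR x
    rw [ex, (hval a c h).1, (hval a c h).2, h]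
  have l5 : ∀ a c, c + c ^ q = a ^ (q + 1) → ∃ x : R, α x = a ∧ γ x = c :=
    fun a c h => ⟨⟨_, a, c, h, rfl⟩, hval a c h⟩
  have hRc : Nat.card R = q ^ 3 := by
    subst hq
    exact (facts hn hF (fun x : R => α x) (fun x : R => γ x) l1 l2 l3 l4 l5).1
  -- pass to the quotient
  let π : Cfsg.SU 3 F q →* Cfsg.PSU 3 F q := QuotientGroup.mk' _
  have hπ : Function.Injective (π.comp R.subtype) := by
    rw [injective_iff_map_eq_one]
    intro r hr
    have hz : (r : Cfsg.SU 3 F q) ∈ Subgroup.center (Cfsg.SU 3 F q) := by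
      rw [← QuotientGroup.eq_one_iff]; exact hr
    have h1 : orderOf r ∣ q ^ 3 := hRc ▸ orderOf_dvd_natCard r
    have h3 : orderOf r ∣ 3 := by
      rw [← Subgroup.orderOf_coe, ← Subgroup.orderOf_mk (r : Cfsg.SU 3 F q) hz]
      refine (orderOf_dvd_natCard _).trans ?_
      rw [Forms.card_center_SU hF (by norm_num)]
      exact Nat.gcd_dvd_left _ _
    have hcop : Nat.Coprime (q ^ 3) 3 := by
      rw [hq, ← pow_mul]; exact Nat.Coprime.pow_left _ (by norm_num)
    exact orderOf_eq_one_iff.1 (Nat.eq_one_of_dvd_coprimes hcop h1 h3)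
  have hmapc : Nat.card (R.map π) = q ^ 3 := by
    rw [← R.range_subtype, MonoidHom.map_range, ← Nat.card_congr (MonoidHom.ofInjective hπ).toEquiv, hRc]
  have hG := Forms.card_PSU hF (n := 3) (by norm_num)
  simp only [Finset.prod_range_succ, Finset.prod_range_zero, one_mul] at hG
  norm_num [Nat.even_iff] at hG
  try rw [← Nat.card_eq_fintype_card] at hG
  have hindex : ¬ 2 ∣ (R.map π).index := by
    intro hdvd
    have h := (R.map π).card_mul_index
    rw [hmapc] at h
    change q ^ 3 * _ = Nat.card (Cfsg.SU 3 F q ⧸ Subgroup.center (Cfsg.SU 3 F q)) at h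
    rw [← h] at hG
    obtain ⟨k, hk⟩ := hdvd
    rw [hk] at hG
    have h4 : 2 ∣ (q + 1) * ((q ^ 2 - 1) * (q ^ 3 + 1)) := by
      refine ⟨Nat.gcd 3 (q + 1) * ((q + 1) * k), ?_⟩
      refine Nat.eq_of_mul_eq_mul_left (pow_pos (by omega : 0 < q) 3) ?_
      linarith
    have hev : Even q := by rw [hq]; exact (Nat.even_pow).2 ⟨even_two, by omega⟩
    have ho1 : Odd (q + 1) := hev.add_one
    have ho2 : Odd (q ^ 2 - 1) :=
      Nat.Even.sub_odd (Nat.one_le_iff_ne_zero.2 (pow_ne_zero _ hq0)) ((Nat.even_pow).2 ⟨hev, by omega⟩) odd_one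
    have ho3 : Odd (q ^ 3 + 1) := ((Nat.even_pow).2 ⟨hev, by omega⟩).add_one
    exact (Nat.not_even_iff_odd.2 (ho1.mul (ho2.mul ho3))) (even_iff_two_dvd.2 h4)
  let P : Sylow 2 (Cfsg.PSU 3 F q) :=
    (IsPGroup.of_card (n := n * 3) (by rw [hmapc, hq, pow_mul])).toSylow hindex
  have eR : R ≃* (R.map π : Subgroup (Cfsg.PSU 3 F q)) :=
    (MonoidHom.ofInjective hπ).trans (MulEquiv.subgroupCongr (by rw [← MonoidHom.map_range, R.range_subtype]))
  have eP : R ≃* (S : Subgroup (Cfsg.PSU 3 F q)) :=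
    eR.trans ((MulEquiv.subgroupCongr (IsPGroup.toSylow_coe _ _).symm).trans (Sylow.equiv P S))
  refine ⟨fun s => α (eP.symm s : R), fun s => γ (eP.symm s : R), ?_, ?_, ?_, ?_, ?_⟩
  · exact fun x y h h' => eP.symm.injective (l1 _ _ h h')
  · intro x y; simp only [map_mul]; exact l2 _ _
  · intro x y; simp only [map_mul]; exact l3 _ _
  · exact fun x => l4 _
  · intro a c h
    obtain ⟨x, hx⟩ := l5 a c h
    exact ⟨eP x, by simpa using hx⟩

end Cfsg.Agent.LocalEven.FixedSinger
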