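import Cfsg.Agent.LocalEven.Asymmetric
import Cfsg.Agent.Core.Residual

/-!
# Members of `ℌ_G(O_p(M))`

Only weak closure of `O = O_p(M)` and `N(O) ≤ N(Y)` are used.
-/

set_option autoImplicit false
set_option linter.style.haveILetI false

open scoped commutatorElement

namespace Cfsg.Agent.LocalEven

variable {G : Type*} [Group G] {p : ℕ}

theorem normal_map_normalized {H : Subgroup G} (Z : Subgroup ↥H) [Z.Normal] :
    H ≤ Subgroup.normalizer (Z.map H.subtype : Set G) := by
  refine le_trans ?_ (Subgroup.le_normalizer_map H.subtype)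
  rw [Subgroup.normalizer_eq_top Z, ← MonoidHom.range_eq_map, Subgroup.range_subtype]

theorem op_le_op_of_normalized [Finite G] [Fact p.Prime] {Z H : Subgroup G} (hZ : Z ≤ H)
    (hn : H ≤ Subgroup.normalizer (Z : Set G)) : op p Z ≤ op p H :=
  le_op ((op_le Z).trans hZ) (hn.trans (normalizer_le_normalizer_op Z)) (isPGroup_op Z)

/-- If `H = D O` with `D` normal and `O` a `p`-group then `O^p(H) ≤ D`. -/
theorem residual_le_of_sup [Fact p.Prime] {D O H : Subgroup G} (hn : H ≤ Subgroup.normalizer (D : Set G))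
    (hO : IsPGroup p O) (hsup : D ⊔ O = H) :
    (Cfsg.pResidual p ↥H).map H.subtype ≤ D := by
  have hOH : O ≤ H := hsup ▸ le_sup_right
  rw [Subgroup.map_le_iff_le_comap]
  show _ ≤ D.subgroupOf H
  haveI : (D.subgroupOf H).Normal := Subgroup.normal_subgroupOf_of_le_normalizer hn
  refine Core.pResidual_le_of_isPGroup fun q => ?_
  obtain ⟨x, rfl⟩ := QuotientGroup.mk'_surjective _ q
  have hx : (x : G) ∈ D ⊔ O := hsup.symm ▸ x.2
  rw [← SetLike.mem_coe, Subgroup.coe_mul_of_right_le_normalizer_left _ _ (hOH.trans hn)] at hx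
  obtain ⟨d, hd, o, ho, e⟩ := hx
  obtain ⟨k, hk⟩ := hO ⟨o, ho⟩
  refine ⟨k, ?_⟩
  have h3 : QuotientGroup.mk' (D.subgroupOf H) x = QuotientGroup.mk' (D.subgroupOf H) ⟨o, hOH ho⟩ := by
    refine QuotientGroup.eq.mpr (show ((x⁻¹ * ⟨o, hOH ho⟩ : ↥H) : G) ∈ D from ?_)
    rw [Subgroup.coe_mul, Subgroup.coe_inv, ← e]
    have := (Subgroup.mem_normalizer_iff''.mp (hn (hOH ho)) _).mp (D.inv_mem hd)
    simpa [mul_assoc] using this
  rw [h3, ← map_pow, show (⟨o, hOH ho⟩ : ↥H) ^ p ^ k = 1 from Subtype.ext (congrArg Subtype.val hk :), map_one]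

theorem residual_map_mono [Finite G] [Fact p.Prime] {H J : Subgroup G} (h : H ≤ J) :
    (Cfsg.pResidual p ↥H).map H.subtype ≤ (Cfsg.pResidual p ↥J).map J.subtype := by
  rw [Subgroup.map_le_iff_le_comap, Cfsg.pResidual, Subgroup.closure_le]
  intro x hx
  exact ⟨⟨x, h x.2⟩, Core.mem_pResidual (by simpa [← Subgroup.orderOf_coe] using hx), rfl⟩

theorem exists_residual_mul [Finite G] [Fact p.Prime] {T H : Subgroup G} (hT : IsMaxP p T H) {x : G}
    (hx : x ∈ H) : ∃ r ∈ (Cfsg.pResidual p ↥H).map H.subtype, ∃ t ∈ T, x = r * t := by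
  obtain ⟨P, hP⟩ := hT.exists_sylow
  have h1 : (⟨x, hx⟩ : ↥H) ∈ Cfsg.pResidual p ↥H ⊔ (P : Subgroup ↥H) := by
    rw [sup_comm, Core.sylow_sup_pResidual]; exact Subgroup.mem_top _
  rw [← SetLike.mem_coe, Subgroup.normal_mul] at h1
  obtain ⟨r, hr, t, ht, e⟩ := h1
  exact ⟨r, ⟨r, hr, rfl⟩, t, hP ▸ Subgroup.mem_map_of_mem H.subtype ht, (congrArg Subtype.val e).symm⟩

variable [Finite G] [Fact p.Prime] {M H : Subgroup G}

/-- `H` is the normal closure of `O_p(M)`. -/
theorem frakH_normalClosure (hH : Cfsg.IsInFrakH p M H) :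
    (Subgroup.normalClosure (((op p M).subgroupOf H : Subgroup ↥H) : Set ↥H)).map H.subtype = H := by
  obtain ⟨-, hOH, hYH, hprop⟩ := hH
  set X := (Subgroup.normalClosure (((op p M).subgroupOf H : Subgroup ↥H) : Set ↥H)).map H.subtype
  by_contra hne
  have hXH : X ≤ H := Subgroup.map_subtype_le _
  have hOX : op p M ≤ X := fun y hy => ⟨⟨y, hOH hy⟩, Subgroup.subset_normalClosure hy, rfl⟩
  haveI := Subgroup.normalClosure_normal (s := (((op p M).subgroupOf H : Subgroup ↥H) : Set ↥H))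
  exact hYH ((hprop X hOX (lt_of_le_of_ne hXH hne)).trans
    (op_le_op_of_normalized hXH (normal_map_normalized _)))

/-- `O^p(H) = [O^p(H), Y_M]` and `H = O^p(H) O_p(M)`. -/
theorem frakH_residual (hwc : Cfsg.IsWeaklyClosedSubgroup p (op p M))
    (hNY : Subgroup.normalizer (op p M : Set G) ≤ Subgroup.normalizer (Cfsg.largestPReducedOf p M : Set G))
    (hH : Cfsg.IsInFrakH p M H) :
    ⁅(Cfsg.pResidual p ↥H).map H.subtype, Cfsg.largestPReducedOf p M⁆ = (Cfsg.pResidual p ↥H).map H.subtype ∧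
      (Cfsg.pResidual p ↥H).map H.subtype ⊔ op p M = H := by
  obtain ⟨-, hOH, hYH, hprop⟩ := hH
  change op p M ≤ H at hOH
  set Y := Cfsg.largestPReducedOf p M
  set O := op p M
  set R := (Cfsg.pResidual p ↥H).map H.subtype with hRdef
  have hYO : Y ≤ O := reduced_le_op (largestOf_le M) (largestOf_reduced M)
  obtain ⟨T, hT, hOT⟩ := exists_isMaxP_le (isPGroup_op M) hOH
  have hTY : T ≤ Subgroup.normalizer (Y : Set G) := (wc_le_normalizer hwc hT.2.1 hOT).trans hNY
  have hRH : R ≤ H := Subgroup.map_subtype_le _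
  have hHR : H ≤ Subgroup.normalizer (R : Set G) := normal_map_normalized _
  set D := ⁅R, Y⁆ with hD
  have hYH' : Y ≤ H := hYO.trans hOH
  have hDn : H ≤ Subgroup.normalizer (D : Set G) := by
    intro x hx
    obtain ⟨r, hr, t, ht, rfl⟩ := exists_residual_mul hT hx
    exact mul_mem (Subgroup.normalizer_commutator_ge_left R Y hr)
      (le_normalizer_comm (hT.1.trans hHR) hTY ht)
  set K := (Subgroup.normalClosure ((Y.subgroupOf H : Subgroup ↥H) : Set ↥H)).map H.subtype with hKdef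
  have hKn : H ≤ Subgroup.normalizer (K : Set G) :=
    haveI := Subgroup.normalClosure_normal (s := ((Y.subgroupOf H : Subgroup ↥H) : Set ↥H))
    normal_map_normalized _
  have hYK : Y ≤ K := fun y hy => ⟨⟨y, hYH' hy⟩, Subgroup.subset_normalClosure hy, rfl⟩
  have hKH : K ≤ H := Subgroup.map_subtype_le _
  have hDR : D ≤ R := Subgroup.le_normalizer_iff_commutator_le_left.mp (hYH'.trans hHR)
  have hKDO : K ≤ D ⊔ O := by
    rw [hKdef, Subgroup.map_le_iff_le_comap, Subgroup.normalClosure, Subgroup.closure_le]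
    intro x hx
    obtain ⟨y, hy, hxy⟩ := Group.mem_conjugatesOfSet_iff.mp hx
    obtain ⟨c, rfl⟩ := isConj_iff.mp hxy
    obtain ⟨r, hr, t, ht, hc⟩ := exists_residual_mul hT c.2
    show (c : G) * (y : G) * (c : G)⁻¹ ∈ D ⊔ O
    have hy' : t * (y : G) * t⁻¹ ∈ Y := (Subgroup.mem_normalizer_iff.mp (hTY ht) _).mp hy
    rw [hc, show r * t * (y : G) * (r * t)⁻¹ = ⁅r, t * (y : G) * t⁻¹⁆ * (t * (y : G) * t⁻¹) by
      simp only [commutatorElement_def]; group]
    exact mul_mem (Subgroup.mem_sup_left (Subgroup.commutator_mem_commutator hr hy'))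
      (Subgroup.mem_sup_right (hYO hy'))
  have hDOH : D ⊔ O = H := by
    by_contra hne
    have hlt : D ⊔ O < H := lt_of_le_of_ne (sup_le (hDR.trans hRH) hOH) hne
    have h1 : Y ≤ op p (D ⊔ O) := hprop _ le_sup_right hlt
    have h2 : op p (D ⊔ O) ⊓ K ≤ op p K := le_op inf_le_right
      ((le_inf ((hKDO.trans (map_pCore_normalized _))) Subgroup.le_normalizer).trans
        Subgroup.inf_normalizer_le_normalizer_inf) ((isPGroup_op _).to_le inf_le_left)
    exact hYH (((le_inf h1 hYK).trans h2).trans (op_le_op_of_normalized hKH hKn))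
  exact ⟨le_antisymm hDR (residual_le_of_sup hDn (isPGroup_op M) hDOH),
    le_antisymm (sup_le hRH hOH) (hDOH.ge.trans (sup_le_sup_right hDR O))⟩

end Cfsg.Agent.LocalEven
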