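import Cfsg.Agent.LocalEven.FrakLFix
import Cfsg.Agent.Linear.Card
import Cfsg.Agent.Suzuki.SzToriCount
import Cfsg.Agent.Suzuki.SzLie
import Cfsg.Agent.Suzuki.SzSylow

/-!
# The groups `L / O_p(L)` for `L` in `𝔏`

In each case the elements of order `p` of a `p`-subgroup over the image `Z` of `Y` lie in `Z`, and elements of other
prime orders are, up to a central factor, products of two elements of order `p`.
-/

set_option autoImplicit false
set_option linter.style.haveILetI false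

namespace Cfsg.Agent.LocalEven

/-- Elements of order `p` of a `p`-subgroup over `Z` lie in `Z`. -/
def OmegaIn {X : Type*} [Group X] (p : ℕ) (Z : Subgroup X) : Prop :=
  ∀ T : Subgroup X, IsPGroup p T → Z ≤ T → ∀ s ∈ T, s ^ p = 1 → s ∈ Z

variable {X X' : Type*} [Group X] [Group X'] {p : ℕ}

theorem omegaIn_of_equiv (e : X ≃* X') {Z : Subgroup X} (h : OmegaIn p (Z.map e.toMonoidHom)) : OmegaIn p Z := by
  intro T hT hZT s hs hsp
  obtain ⟨z, hz, he⟩ := h (T.map e.toMonoidHom) (hT.map _) (Subgroup.map_mono hZT) (e s) ⟨s, hs, rfl⟩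
    (by rw [← map_pow, hsp, map_one])
  rwa [← e.injective he]

theorem twoProd_of_equiv (e : X ≃* X') (h : TwoProd p X') : TwoProd p X := by
  intro x hx hxp
  have ho : orderOf (e x) = orderOf x := e.orderOf_eq x
  have hpw : ∀ y : X', y ^ p = 1 → (e.symm y) ^ p = 1 := fun y hy => by rw [← map_pow, hy, map_one]
  rcases h (e x) (ho.symm ▸ hx) (ho.symm ▸ hxp) with ⟨s, t, hs, ht, hst⟩ | ⟨hc, u, s, t, hu1, hu, hs, ht, hst⟩
  · exact Or.inl ⟨_, _, hpw s hs, hpw t ht, by rw [← map_mul, ← hst, e.symm_apply_apply]⟩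
  · refine Or.inr ⟨?_, _, _, _, fun e1 => hu1 ?_, hpw u hu, hpw s hs, hpw t ht,
      by rw [← map_mul, ← hst, map_mul, e.symm_apply_apply]⟩
    · rw [Subgroup.mem_center_iff] at hc ⊢
      intro g
      exact e.injective (by simpa using hc (e g))
    · simpa using congrArg e e1

/-- A group with `O_2 = 1` generated by two involutions. -/
theorem two_involutions [Finite X] (hO : Cfsg.pCore 2 X = ⊥) {y y' : X} (hy : y * y = 1) (hy' : y' * y' = 1)
    (hgen : Subgroup.zpowers y ⊔ Subgroup.zpowers y' = ⊤) :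
    OmegaIn 2 (Subgroup.zpowers y) ∧ TwoProd 2 X := by
  set w := y * y' with hw
  have hyi : y⁻¹ = y := inv_eq_of_mul_eq_one_left hy
  have hyw : y * w * y = w⁻¹ := by
    rw [hw, mul_inv_rev, hyi, inv_eq_of_mul_eq_one_left hy',
      show y * (y * y') * y = (y * y) * y' * y by group, hy, one_mul]
  have hcw : ∀ k : ℤ, y * w ^ k = w ^ (-k) * y := fun k => by
    have h1 : y * w ^ k * y⁻¹ = w ^ (-k) := by
      rw [← conj_zpow, hyi, hyw, inv_zpow, zpow_neg]
    rw [← h1]; group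
  let S : Subgroup X :=
    { carrier := {x | ∃ k : ℤ, x = w ^ k ∨ x = y * w ^ k}
      one_mem' := ⟨0, Or.inl (zpow_zero w).symm⟩
      mul_mem' := by
        rintro _ _ ⟨a, rfl | rfl⟩ ⟨b, rfl | rfl⟩
        · exact ⟨a + b, Or.inl (zpow_add w a b).symm⟩
        · refine ⟨-a + b, Or.inr ?_⟩
          rw [← mul_assoc, show w ^ a * y = y * w ^ (-a) by rw [hcw, neg_neg], mul_assoc, ← zpow_add]
        · exact ⟨a + b, Or.inr (by rw [mul_assoc, ← zpow_add])⟩
        · refine ⟨-a + b, Or.inl ?_⟩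
          rw [mul_assoc, ← mul_assoc (w ^ a), show w ^ a * y = y * w ^ (-a) by rw [hcw, neg_neg],
            mul_assoc y (w ^ (-a)), ← mul_assoc y, hy, one_mul, ← zpow_add]
      inv_mem' := by
        rintro _ ⟨a, rfl | rfl⟩
        · exact ⟨-a, Or.inl (zpow_neg w a).symm⟩
        · refine ⟨a, Or.inr ?_⟩
          rw [mul_inv_rev, hyi, hcw, zpow_neg] }
  have hS : ∀ x : X, ∃ k : ℤ, x = w ^ k ∨ x = y * w ^ k := by
    intro x
    have hle : Subgroup.zpowers y ⊔ Subgroup.zpowers y' ≤ S := sup_le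
      (Subgroup.zpowers_le.mpr ⟨0, Or.inr (by rw [zpow_zero, mul_one])⟩)
      (Subgroup.zpowers_le.mpr ⟨1, Or.inr (by rw [zpow_one, hw, ← mul_assoc, hy, one_mul])⟩)
    rw [hgen] at hle
    exact hle (Subgroup.mem_top x)
  have hodd : ¬ 2 ∣ orderOf w := by
    intro hd
    set z := w ^ (orderOf w / 2)
    have hz : orderOf z = 2 := orderOf_pow_orderOf_div (orderOf_pos w).ne' hd
    have hzi : z⁻¹ = z := inv_eq_of_mul_eq_one_left (by rw [← sq, ← hz]; exact pow_orderOf_eq_one z)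
    have hzc : z ∈ Subgroup.center X := by
      rw [Subgroup.mem_center_iff]
      intro x
      have hwz : ∀ k : ℤ, w ^ k * z = z * w ^ k := fun k => ((Commute.refl w).zpow_left k |>.pow_right _).eq
      have hyz : y * z = z * y := by
        show y * w ^ (orderOf w / 2) = _
        rw [← zpow_natCast, hcw, zpow_neg, zpow_natCast]
        exact congrArg (· * y) hzi
      obtain ⟨k, rfl | rfl⟩ := hS x
      · exact hwz k
      · rw [mul_assoc, hwz, ← mul_assoc, hyz, mul_assoc]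
    have hn : (Subgroup.zpowers z).Normal := ⟨fun n hn x => by
      rw [Subgroup.mem_center_iff.mp (Subgroup.zpowers_le.mpr hzc hn) x, mul_inv_cancel_right]; exact hn⟩
    have h1 : Subgroup.zpowers z ≤ Cfsg.pCore 2 X := Core.le_pCore hn
      (IsPGroup.of_card (n := 1) (by rw [Nat.card_zpowers, hz, pow_one]))
    rw [hO, le_bot_iff, Subgroup.zpowers_eq_bot] at h1
    rw [h1, orderOf_one] at hz
    exact absurd hz (by norm_num)
  refine ⟨fun T hT hyT s hs hs2 => ?_, fun h hh hh2 => Or.inl ?_⟩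
  · have hwk : ∀ k : ℤ, w ^ k ∈ T → w ^ k = 1 := fun k hk => by
      obtain ⟨j, hj⟩ := IsPGroup.iff_orderOf.mp hT ⟨w ^ k, hk⟩
      rw [Subgroup.orderOf_mk] at hj
      rw [← orderOf_eq_one_iff]
      have h1 : orderOf (w ^ k) ∣ orderOf w := orderOf_dvd_of_pow_eq_one (by
        rw [← zpow_natCast, ← zpow_mul, mul_comm, zpow_mul, zpow_natCast, pow_orderOf_eq_one, one_zpow])
      rw [hj] at h1 ⊢
      rcases j.eq_zero_or_pos with rfl | hj0
      · exact pow_zero 2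
      · exact absurd ((dvd_pow_self 2 hj0.ne').trans h1) hodd
    obtain ⟨k, rfl | rfl⟩ := hS s
    · rw [hwk k hs]; exact one_mem _
    · have h1 := T.mul_mem (hyT (Subgroup.mem_zpowers y)) hs
      rw [← mul_assoc, hy, one_mul] at h1
      rw [hwk k h1, mul_one]; exact Subgroup.mem_zpowers y
  · have hsq : ∀ k : ℤ, (y * w ^ k) * (y * w ^ k) = 1 := fun k => by
      rw [mul_assoc, ← mul_assoc (w ^ k), show w ^ k * y = y * w ^ (-k) by rw [hcw, neg_neg],
        mul_assoc y (w ^ (-k)), ← mul_assoc y, hy, one_mul, ← zpow_add, neg_add_cancel, zpow_zero]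
    obtain ⟨k, rfl | rfl⟩ := hS h
    · exact ⟨y, y * w ^ k, by rw [sq, hy], by rw [sq, hsq], by rw [← mul_assoc, hy, one_mul]⟩
    · have h1 : orderOf (y * w ^ k) ∣ 2 := orderOf_dvd_of_pow_eq_one (by rw [sq, hsq])
      exact absurd ((Nat.prime_dvd_prime_iff_eq hh Nat.prime_two).mp h1) hh2

section SL2

open Matrix

variable {F : Type*} [Field F] [Fintype F] [Fact p.Prime] [CharP F p]

omit [Fintype F] in
theorem sl2_pow_eq_one {M : Matrix.SpecialLinearGroup (Fin 2) F} (h : M.1 0 0 + M.1 1 1 = 2) : M ^ p = 1 := by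
  haveI : CharP (Matrix (Fin 2) (Fin 2) F) p := inferInstance
  have hd : M.1 0 0 * M.1 1 1 - M.1 0 1 * M.1 1 0 = 1 := by
    have := M.2
    rwa [Matrix.det_fin_two] at this
  set N : Matrix (Fin 2) (Fin 2) F := M.1 - 1
  have hN : N ^ 2 = 0 := by
    ext i j
    fin_cases i <;> fin_cases j <;> simp [N, sq, Matrix.mul_apply, Fin.sum_univ_two]
    · linear_combination M.1 0 0 * h - hd
    · linear_combination M.1 0 1 * h
    · linear_combination M.1 1 0 * h
    · linear_combination M.1 1 1 * h - hd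
  apply Subtype.ext
  rw [Matrix.SpecialLinearGroup.coe_pow, Matrix.SpecialLinearGroup.coe_one,
    show (M : Matrix (Fin 2) (Fin 2) F) = N + 1 by simp [N], add_pow_char_of_commute p (Commute.one_right N), one_pow,
    pow_eq_zero_of_le (Fact.out : p.Prime).two_le hN, zero_add]

omit [Fintype F] in
theorem sl2_split {M : Matrix.SpecialLinearGroup (Fin 2) F}
    (h : M.1 0 1 ≠ 0 ∨ M.1 1 0 ≠ 0 ∨ M.1 0 0 ≠ M.1 1 1) :
    ∃ s t : Matrix.SpecialLinearGroup (Fin 2) F, s ^ p = 1 ∧ t ^ p = 1 ∧ M = s * t := by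
  suffices hh : ∃ a b c d : F, a * d - b * c = 1 ∧ a + d = 2 ∧
      d * M.1 0 0 - b * M.1 1 0 - c * M.1 0 1 + a * M.1 1 1 = 2 by
    obtain ⟨a, b, c, d, h1, h2, h3⟩ := hh
    set s : Matrix.SpecialLinearGroup (Fin 2) F := ⟨!![a, b; c, d], by rw [Matrix.det_fin_two_of, h1]⟩ with hs
    have hinv : (s⁻¹ * M).1 0 0 + (s⁻¹ * M).1 1 1 = 2 := by
      have e : (s⁻¹ * M).1 = Matrix.adjugate (!![a, b; c, d]) * M.1 := rfl
      rw [e, Matrix.adjugate_fin_two_of]
      simp [Matrix.mul_apply, Fin.sum_univ_two]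
      linear_combination h3
    exact ⟨s, s⁻¹ * M, sl2_pow_eq_one (by simp [hs]; exact h2), sl2_pow_eq_one hinv, (mul_inv_cancel_left s M).symm⟩
  set τ := M.1 0 0 + M.1 1 1 - 2
  by_cases hc : M.1 1 0 = 0
  · by_cases hb : M.1 0 1 = 0
    · have had : M.1 0 0 - M.1 1 1 ≠ 0 := sub_ne_zero.mpr ((h.resolve_left (fun e => e hb)).resolve_left (fun e => e hc))
      set x := τ / (M.1 0 0 - M.1 1 1) with hx
      refine ⟨1 + x, x, -x, 1 - x, by ring, by ring, ?_⟩
      rw [hb, hc, hx]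
      field_simp
      simp only [τ]
      ring
    · refine ⟨1, 0, τ / M.1 0 1, 1, by ring, by norm_num, ?_⟩
      rw [div_mul_cancel₀ _ hb]
      simp only [τ]
      ring
  · refine ⟨1, τ / M.1 1 0, 0, 1, by ring, by norm_num, ?_⟩
    rw [div_mul_cancel₀ _ hc]
    simp only [τ]
    ring

omit [Fintype F] in
theorem twoProd_sl2 : TwoProd p (Matrix.SpecialLinearGroup (Fin 2) F) := by
  intro M _ _
  by_cases h : M.1 0 1 ≠ 0 ∨ M.1 1 0 ≠ 0 ∨ M.1 0 0 ≠ M.1 1 1
  · exact Or.inl (sl2_split h)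
  simp only [not_or, not_not] at h
  obtain ⟨hb, hc, had⟩ := h
  have ha : M.1 0 0 ≠ 0 := fun e => by
    have := M.2
    rw [Matrix.det_fin_two, hb, e] at this
    simp at this
  set u : Matrix.SpecialLinearGroup (Fin 2) F := ⟨!![1, 1; 0, 1], by rw [Matrix.det_fin_two]; simp⟩
  obtain ⟨s, t, hs, ht, hst⟩ := sl2_split (p := p) (M := M * u) (Or.inl (by
    rw [Matrix.SpecialLinearGroup.coe_mul]
    simp [u, Matrix.mul_apply, Fin.sum_univ_two, hb, ha]))
  refine Or.inr ⟨?_, u, s, t, fun e => ?_, sl2_pow_eq_one (by simp [u]; norm_num), hs, ht, hst⟩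
  · rw [Subgroup.mem_center_iff]
    intro g
    apply Subtype.ext
    ext i j
    fin_cases i <;> fin_cases j <;> simp [Matrix.mul_apply, Fin.sum_univ_two, hb, hc, ← had] <;> ring
  · have := congrArg (fun g : Matrix.SpecialLinearGroup (Fin 2) F => g.1 0 1) e
    simp [u] at this

theorem omegaIn_sl2 {Z : Subgroup (Matrix.SpecialLinearGroup (Fin 2) F)} (hZ : Nat.card Z = Fintype.card F) :
    OmegaIn p Z := by
  intro T hT hZT s hs _
  suffices h : Nat.card T ≤ Fintype.card F by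
    rw [Subgroup.eq_of_le_of_card_ge hZT (h.trans hZ.ge)]; exact hs
  obtain ⟨k, hk⟩ := IsPGroup.iff_card.mp hT
  refine Nat.le_of_dvd Fintype.card_pos ?_
  have h1 : Nat.card T ∣ Fintype.card F * (Fintype.card F ^ 2 - 1) := Linear.card_SL_two (F := F) ▸ Subgroup.card_subgroup_dvd_card T
  refine Nat.Coprime.dvd_of_dvd_mul_right ?_ h1
  rw [hk]
  refine Nat.Coprime.pow_left k ((Fact.out : p.Prime).coprime_iff_not_dvd.mpr fun hd => ?_)
  obtain ⟨n, -, hn⟩ := FiniteField.card F p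
  have h2 : p ∣ Fintype.card F ^ 2 := dvd_pow (hn ▸ dvd_pow_self p n.ne_zero) two_ne_zero
  have h3 : 1 ≤ Fintype.card F ^ 2 := Nat.one_le_pow _ _ Fintype.card_pos
  have := Nat.dvd_sub h2 hd
  rw [Nat.sub_sub_self h3, Nat.dvd_one] at this
  exact (Fact.out : p.Prime).ne_one this

end SL2

section Sz

open Cfsg.Agent.Suzuki

variable {F : Type*} [Field F] {m : ℕ} (h : Suzuki.Ctx F m)

include h in
theorem sz_real {z : Cfsg.Sz F m} (hz : (orderOf z).Prime) (hz2 : orderOf z ≠ 2) :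
    ∃ t : Cfsg.Sz F m, t * t = 1 ∧ t * z * t = z⁻¹ := by
  classical
  haveI := finite_sz h
  have htrans : ∀ g x : Cfsg.Sz F m, (∃ t, t * t = 1 ∧ t * x * t = x⁻¹) →
      ∃ t, t * t = 1 ∧ t * (g * x * g⁻¹) * t = (g * x * g⁻¹)⁻¹ := by
    rintro g x ⟨t, ht, htx⟩
    refine ⟨g * t * g⁻¹, ?_, ?_⟩
    · rw [show g * t * g⁻¹ * (g * t * g⁻¹) = g * (t * t) * g⁻¹ by group, ht, mul_one, mul_inv_cancel]
    · rw [show g * t * g⁻¹ * (g * x * g⁻¹) * (g * t * g⁻¹) = g * (t * x * t) * g⁻¹ by group, htx]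
      group
  by_cases hfix : Fpf z
  · set r := orderOf z
    haveI := Fact.mk hz
    have hd : r ∣ (2 ^ (2 * m + 1)) ^ 2 + 1 := by
      refine dvd_trans ?_ (card_centralizer_dvd h hfix)
      have := orderOf_dvd_natCard (⟨z, Subgroup.mem_centralizer_singleton_iff.2 rfl⟩ :
        Subgroup.centralizer ({z} : Set (Cfsg.Sz F m)))
      rwa [← Subgroup.orderOf_coe] at this
    have hq1 : 2 ^ (m + 1) ≤ 2 ^ (2 * m + 1) := Nat.pow_le_pow_right (by norm_num) (by omega)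
    have hfac : (2 ^ (2 * m + 1) + 2 ^ (m + 1) + 1) * (2 ^ (2 * m + 1) - 2 ^ (m + 1) + 1) =
        (2 ^ (2 * m + 1)) ^ 2 + 1 := by
      have he : (2 ^ (m + 1)) ^ 2 = 2 * 2 ^ (2 * m + 1) := by rw [← pow_mul, ← pow_succ']; congr 1; ring
      obtain ⟨d, hd⟩ := Nat.le.dest hq1
      generalize 2 ^ (2 * m + 1) = q at *
      generalize 2 ^ (m + 1) = r at *
      subst hd
      rw [Nat.add_sub_cancel_left]
      ring_nf at *
      omega
    rw [← hfac] at hd
    obtain ⟨k, hk, hrk⟩ : ∃ k ∈ ({2 ^ (2 * m + 1) + 2 ^ (m + 1) + 1, 2 ^ (2 * m + 1) - 2 ^ (m + 1) + 1} : Set ℕ),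
        r ∣ k := by
      rcases hz.dvd_mul.mp hd with e | e
      · exact ⟨_, Or.inl rfl, e⟩
      · exact ⟨_, Or.inr rfl, e⟩
    have hodd : ¬ 2 ∣ k := by
      have e1 : 2 ∣ 2 ^ (2 * m + 1) := dvd_pow_self 2 (by omega)
      have e2 : 2 ∣ 2 ^ (m + 1) := dvd_pow_self 2 (by omega)
      rcases hk with rfl | rfl <;> omega
    obtain ⟨U, hUc, hUk, hUcent, hUN⟩ := exceptional_tori h k hk
    -- `z` is conjugate into `U`
    obtain ⟨u, hu⟩ := exists_prime_orderOf_dvd_card' (G := U) r (hUk ▸ hrk)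
    rw [← Subgroup.orderOf_coe] at hu
    obtain ⟨P, hP⟩ := (IsPGroup.of_card (n := 1) (by rw [Nat.card_zpowers, pow_one]) :
      IsPGroup r (Subgroup.zpowers z)).exists_le_sylow
    obtain ⟨g, hgP⟩ : ∃ g : Cfsg.Sz F m, g * (u : Cfsg.Sz F m) * g⁻¹ ∈ (P : Subgroup (Cfsg.Sz F m)) := by
      obtain ⟨P', hP'⟩ := (IsPGroup.of_card (n := 1) (by rw [Nat.card_zpowers, hu, pow_one]) :
        IsPGroup r (Subgroup.zpowers (u : Cfsg.Sz F m))).exists_le_sylow
      obtain ⟨g, hg⟩ := MulAction.exists_smul_eq (Cfsg.Sz F m) P' P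
      exact ⟨g, hg ▸ ⟨_, hP' (Subgroup.mem_zpowers _), rfl⟩⟩
    haveI : IsCyclic (P : Subgroup (Cfsg.Sz F m)) := sylow_cyclic h hz2 P
    have he : Subgroup.zpowers (⟨z, hP (Subgroup.mem_zpowers z)⟩ : (P : Subgroup (Cfsg.Sz F m))) =
        Subgroup.zpowers ⟨_, hgP⟩ := zpowers_eq_of_orderOf (by
      have hinj := (P : Subgroup (Cfsg.Sz F m)).subtype_injective
      refine ((orderOf_injective _ hinj _).symm.trans ?_).trans (orderOf_injective _ hinj _)
      exact ((MulEquiv.orderOf_eq (MulAut.conj g) (u : Cfsg.Sz F m)).trans hu).symm)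
    obtain ⟨j, hj⟩ : (⟨z, hP (Subgroup.mem_zpowers z)⟩ : (P : Subgroup (Cfsg.Sz F m))) ∈
        Subgroup.zpowers (⟨_, hgP⟩ : (P : Subgroup (Cfsg.Sz F m))) := he ▸ Subgroup.mem_zpowers _
    have hzv : z = g * ((u : Cfsg.Sz F m) ^ j) * g⁻¹ := by
      rw [← conj_zpow]; exact (congrArg Subtype.val hj).symm
    rw [hzv]
    refine htrans g _ ?_
    haveI : IsCyclic U := hUc
    -- an involution of `N(U)` inverts `U`
    obtain ⟨t, ht⟩ := exists_prime_orderOf_dvd_card' (G := Subgroup.normalizer (U : Set (Cfsg.Sz F m))) 2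
      (by rw [hUN]; exact Dvd.intro (2 * k) (by ring))
    rw [← Subgroup.orderOf_coe] at ht
    have htt : (t : Cfsg.Sz F m) * t = 1 := by rw [← sq, ← ht]; exact pow_orderOf_eq_one _
    have htU : (t : Cfsg.Sz F m) ∉ U := fun hmem => hodd (hUk ▸ by
      have := orderOf_dvd_natCard (⟨(t : Cfsg.Sz F m), hmem⟩ : U)
      rwa [Subgroup.orderOf_mk, ht] at this)
    set v := (u : Cfsg.Sz F m) ^ j with hv
    have hvU : v ∈ U := U.zpow_mem u.2 j
    refine ⟨t, htt, ?_⟩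
    have hti : (t : Cfsg.Sz F m)⁻¹ = t := inv_eq_of_mul_eq_one_left htt
    have hvU' : (t : Cfsg.Sz F m) * v * t ∈ U := by
      have := (Subgroup.mem_normalizer_iff.mp t.2 v).mp hvU
      rwa [hti] at this
    set v' := v * ((t : Cfsg.Sz F m) * v * t)
    have hcomm : ((t : Cfsg.Sz F m) * v * t) * v = v * ((t : Cfsg.Sz F m) * v * t) := by
      have := (IsCyclic.isMulCommutative (α := U)).is_comm.comm ⟨_, hvU'⟩ ⟨v, hvU⟩
      exact congrArg Subtype.val this
    have hv1 : v' = 1 := by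
      by_contra hne
      apply htU
      refine (hUcent v' (U.mul_mem hvU hvU') hne).le (Subgroup.mem_centralizer_singleton_iff.mpr ?_)
      calc (t : Cfsg.Sz F m) * (v * ((t : Cfsg.Sz F m) * v * t))
          = (t * v * t) * v * ((t : Cfsg.Sz F m) * t)⁻¹ * t := by rw [htt, inv_one, mul_one]; group
        _ = v * ((t : Cfsg.Sz F m) * v * t) * t := by rw [htt, inv_one, mul_one, hcomm]
    exact eq_inv_of_mul_eq_one_right hv1
  · simp only [Fpf, not_forall, not_not] at hfix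
    obtain ⟨p0, hp0⟩ := hfix
    obtain ⟨g, rfl⟩ := exists_smul_inf h p0
    obtain ⟨a, b, k, hk⟩ := fix_inf h (g := g⁻¹ * z * g) (by rw [mul_smul, mul_smul, hp0, inv_smul_smul])
    have hk1 : k ≠ 1 := by
      rintro rfl
      rw [hEl_one, mul_one] at hk
      have h4 : z ^ 4 = 1 := by
        have h5 : (g⁻¹ * z * g) ^ 4 = 1 := hk ▸ uEl_pow_four h a b
        rw [show g⁻¹ * z * g = g⁻¹ * z * g⁻¹⁻¹ by rw [inv_inv], conj_pow] at h5
        calc z ^ 4 = g * (g⁻¹ * z ^ 4 * g⁻¹⁻¹) * g⁻¹ := by group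
          _ = 1 := by rw [h5, mul_one, mul_inv_cancel]
      have h6 : orderOf z ∣ 2 ^ 2 := orderOf_dvd_of_pow_eq_one h4
      exact hz2 ((Nat.prime_dvd_prime_iff_eq hz Nat.prime_two).mp (hz.dvd_of_dvd_pow h6))
    obtain ⟨x, y, hxy⟩ := exists_second_fix h a b hk1
    rw [← hk] at hxy
    set g' := g * uEl h x y
    obtain ⟨l, hl⟩ := fix_two h (g := g'⁻¹ * z * g')
      (by rw [show g'⁻¹ * z * g' = (uEl h x y)⁻¹ * (g⁻¹ * z * g) * uEl h x y by simp [g', mul_assoc]]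
          have hu : uEl h x y • inf' F m = inf' F m := uEl_smul_inf h x y
          rw [mul_smul, mul_smul, hu, mul_smul, mul_smul, hp0, inv_smul_smul, inv_smul_eq_iff, hu])
      (by rw [show g'⁻¹ * z * g' = (uEl h x y)⁻¹ * (g⁻¹ * z * g) * uEl h x y by simp [g', mul_assoc],
            mul_smul, mul_smul, uEl_smul_zero, hxy, inv_smul_eq_iff, uEl_smul_zero])
    rw [show z = g' * (g'⁻¹ * z * g') * g'⁻¹ by group, hl]
    exact htrans g' _ ⟨wEl h, wEl_sq h, wEl_conj h l⟩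

include h in
theorem twoProd_sz : TwoProd 2 (Cfsg.Sz F m) := by
  intro z hz hz2
  obtain ⟨t, ht, htz⟩ := sz_real h hz hz2
  refine Or.inl ⟨t, t * z, by rw [sq, ht], ?_, by rw [← mul_assoc, ht, one_mul]⟩
  rw [sq, ← mul_assoc, htz, inv_mul_cancel]

include h in
theorem omegaIn_sz {Z : Subgroup (Cfsg.Sz F m)} (hel : ∀ z ∈ Z, z * z = 1)
    (hZ : Nat.card Z = 2 ^ (2 * m + 1)) : OmegaIn 2 Z := by
  haveI := finite_sz h
  intro T hT hZT s hs hs2
  obtain ⟨P, hP⟩ := hT.exists_le_sylow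
  obtain ⟨g, hg⟩ := MulAction.exists_smul_eq (Cfsg.Sz F m) P (uSylow h)
  set V := {x : Cfsg.Sz F m | ∃ b : F, x = uEl h 0 b}
  have hmem : ∀ x ∈ T, x * x = 1 → g * x * g⁻¹ ∈ V := by
    intro x hx hx2
    have h1 : g * x * g⁻¹ ∈ (uSylow h : Subgroup (Cfsg.Sz F m)) := hg ▸ ⟨x, hP hx, rfl⟩
    rw [uSylow_coe] at h1
    obtain ⟨a, b, he⟩ := h1
    have h2 : uEl h a b * uEl h a b = 1 := by
      rw [← he, show g * x * g⁻¹ * (g * x * g⁻¹) = g * (x * x) * g⁻¹ by group, hx2, mul_one, mul_inv_cancel]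
    rw [uEl_sq, ← uEl_zero h] at h2
    have h3 := (uEl_inj h h2).2
    rcases mul_eq_zero.mp h3 with e | e
    · exact ⟨b, by rw [he, h.th_eq_zero.1 e]⟩
    · exact ⟨b, by rw [he, e]⟩
  have hVcard : V.ncard ≤ Nat.card Z := by
    rw [hZ, ← h.card, show V = Set.range (fun b : F => uEl h 0 b) by ext x; exact ⟨fun ⟨b, e⟩ => ⟨b, e.symm⟩, fun ⟨b, e⟩ => ⟨b, e.symm⟩⟩]
    haveI := h.finite
    rw [Set.ncard_range_of_injective fun b b' e => (uEl_inj h e).2]
  have hsub : (fun x => g * x * g⁻¹) '' (Z : Set (Cfsg.Sz F m)) ⊆ V := by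
    rintro _ ⟨x, hx, rfl⟩
    exact hmem x (hZT hx) (hel x hx)
  have heq := Set.eq_of_subset_of_ncard_le hsub (by
    rw [Set.ncard_image_of_injective _ (show Function.Injective (fun x => g * x * g⁻¹) from (MulAut.conj g).injective),
      ← Nat.card_coe_set_eq (Z : Set (Cfsg.Sz F m))]
    exact hVcard) (Set.toFinite _)
  obtain ⟨x, hx, he⟩ := heq.ge (hmem s hs (by rw [← sq]; exact hs2))
  have : x = s := mul_left_cancel (mul_right_cancel he)
  rwa [← this]

end Sz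

end Cfsg.Agent.LocalEven
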