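import Cfsg.Agent.LocalEven.MinimalOver
import Cfsg.Agent.LocalEven.WeaklyClosed
import Cfsg.Agent.Core.Cores

/-!
# Fixed points of semisimple elements on `O_p(L) / C_Y(L)` for `Y`-minimal `L`

If `Z` is the image of `Y` in `X = L / O_p(L)`, the only properties of `X` used are: elements of order `p` of a
`p`-subgroup over `Z` lie in `Z`, and elements of prime order other than `p` are, up to a central factor, products of
two elements of order `p`.
-/

set_option autoImplicit false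
set_option linter.style.haveILetI false

open scoped commutatorElement

namespace Cfsg.Agent.LocalEven

variable {L : Type*} [Group L] [Finite L]

theorem sup_cj_eq_top {L₀ Y : Subgroup L} (hmin : Cfsg.IsMinimalOver Y) (hL₀ : IsCoatom L₀) (hYL₀ : Y ≤ L₀)
    {g : L} (hg : g ∉ L₀) : Y ⊔ cj g Y = ⊤ := by
  by_contra hne
  have h1 := le_sup_right.trans (isMinimalOver_le hmin hL₀ hYL₀ le_sup_left hne)
  have h2 : cj g⁻¹ L₀ ≠ ⊤ := fun e => hL₀.1 (Subgroup.eq_top_of_card_eq _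
    (by rw [← card_cj g⁻¹ L₀, e, Subgroup.card_top]))
  have h3 : Y ≤ cj g⁻¹ L₀ := by
    have := cj_mono (g := g⁻¹) h1
    rwa [cj_cj, inv_mul_cancel, cj_one] at this
  have h4 := isMinimalOver_le hmin hL₀ hYL₀ h3 h2
  have h5 : g⁻¹ ∈ Subgroup.normalizer (L₀ : Set L) :=
    cj_eq_self_iff.mp (Subgroup.eq_of_le_of_card_ge h4 (card_cj _ _).ge)
  rw [normalizer_coatom hmin hL₀ hYL₀, inv_mem_iff] at h5
  exact hg h5

omit [Finite L] in
theorem inf_center_normal (Y : Subgroup L) : (Y ⊓ Subgroup.center L).Normal := ⟨fun n hn x => by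
  rw [Subgroup.mem_center_iff.mp (Subgroup.mem_inf.mp hn).2 x, mul_inv_cancel_right]; exact hn⟩

theorem pCore_le_sup_cj {p : ℕ} {L₀ Y : Subgroup L} (hmin : Cfsg.IsMinimalOver Y) (hL₀ : IsCoatom L₀)
    (hYL₀ : Y ≤ L₀) (hYab : Y ≤ Subgroup.centralizer (Y : Set L))
    (hOY : Cfsg.pCore p L ≤ Subgroup.normalizer (Y : Set L))
    (hA : Cfsg.pCore p L = Subgroup.normalClosure ((Cfsg.pCore p L ⊓ Y : Subgroup L) : Set L))
    {g : L} (hg : g ∉ L₀) :
    Cfsg.pCore p L ≤ (Cfsg.pCore p L ⊓ Y) ⊔ (Cfsg.pCore p L ⊓ cj g Y) := by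
  set O := Cfsg.pCore p L with hO
  set B := O ⊓ Y with hB
  set Bg := O ⊓ cj g Y with hBg
  have hgen := sup_cj_eq_top hmin hL₀ hYL₀ hg
  have hOYg : O ≤ Subgroup.normalizer (cj g Y : Set L) := by
    intro o ho
    rw [← cj_eq_self_iff, cj_cj]
    have h1 : g⁻¹ * o * g⁻¹⁻¹ ∈ O := (inferInstance : O.Normal).conj_mem o ho g⁻¹
    rw [show o * g = g * (g⁻¹ * o * g⁻¹⁻¹) by group, ← cj_cj, cj_eq_self_iff.mpr (hOY h1)]
  have hab : cj g Y ≤ Subgroup.centralizer (cj g Y : Set L) := by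
    rintro _ ⟨y, hy, rfl⟩
    refine Subgroup.mem_centralizer_iff.mpr ?_
    rintro _ ⟨z, hz, rfl⟩
    rw [← map_mul, ← map_mul, Subgroup.mem_centralizer_iff.mp (hYab hy) z hz]
  have key : ∀ Z Z' : Subgroup L, O ≤ Subgroup.normalizer (Z : Set L) → Z ≤ Subgroup.centralizer (Z : Set L) →
      ∀ y ∈ Z, y ∈ Subgroup.normalizer (((O ⊓ Z) ⊔ (O ⊓ Z') : Subgroup L) : Set L) := by
    intro Z Z' hn hc y hy
    rw [← cj_eq_self_iff]
    refine Subgroup.eq_of_le_of_card_ge ?_ (card_cj _ _).ge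
    rw [cj, Subgroup.map_sup]
    refine sup_le ?_ ?_
    · rintro _ ⟨c, hc', rfl⟩
      show y * c * y⁻¹ ∈ _
      rw [Subgroup.mem_centralizer_iff.mp (hc (Subgroup.mem_inf.mp hc').2) y hy, mul_inv_cancel_right]
      exact Subgroup.mem_sup_left hc'
    · rintro _ ⟨c, hc', rfl⟩
      show y * c * y⁻¹ ∈ _
      have hcO := (Subgroup.mem_inf.mp hc').1
      have h1 : y * c * y⁻¹ * c⁻¹ ∈ O ⊓ Z := by
        refine Subgroup.mem_inf.mpr ⟨O.mul_mem ((inferInstance : O.Normal).conj_mem c hcO y) (O.inv_mem hcO), ?_⟩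
        rw [mul_assoc, mul_assoc]
        exact Z.mul_mem hy (by rw [← mul_assoc]; exact (Subgroup.mem_normalizer_iff.mp (hn hcO) _).mp (Z.inv_mem hy))
      simpa using mul_mem (Subgroup.mem_sup_left (T := O ⊓ Z') h1) (Subgroup.mem_sup_right (S := O ⊓ Z) hc')
  haveI : (B ⊔ Bg).Normal := by
    rw [← Subgroup.normalizer_eq_top_iff, eq_top_iff, ← hgen]
    refine sup_le (fun y hy => key Y (cj g Y) hOY hYab y hy) (fun y hy => ?_)
    rw [sup_comm]
    exact key (cj g Y) Y hOYg hab y hy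
  exact hA.le.trans (Subgroup.normalClosure_le_normal (SetLike.coe_subset_coe.mpr le_sup_left))

variable {p : ℕ} [Fact p.Prime]

omit [Finite L] [Fact p.Prime] in
theorem mem_of_mk_mem {A Y : Subgroup L} [A.Normal] {s : L ⧸ A} (h : s ∈ Y.map (QuotientGroup.mk' A)) :
    ∃ y ∈ Y, (y : L ⧸ A) = s := h

/-- The main step: elements which are, modulo `O_p(L)`, `s t` with `s, t` of order `p` act without fixed points. -/
theorem frakL_fix_core {L₀ Y : Subgroup L} (hmin : Cfsg.IsMinimalOver Y) (hL₀ : IsCoatom L₀)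
    (hYL₀ : Y ≤ L₀) (hN : Subgroup.normalizer (Y : Set L) = L₀) (hYab : Y ≤ Subgroup.centralizer (Y : Set L))
    (hOY : Cfsg.pCore p L ≤ Subgroup.normalizer (Y : Set L))
    (hA : Cfsg.pCore p L = Subgroup.normalClosure ((Cfsg.pCore p L ⊓ Y : Subgroup L) : Set L))
    (hAA : ⁅Cfsg.pCore p L, Cfsg.pCore p L⁆ ≤ Y ⊓ Subgroup.center L)
    (hexp : ∀ y ∈ Y, y ^ p = 1)
    (hK1 : ∀ T : Subgroup (L ⧸ Cfsg.pCore p L), IsPGroup p T → Y.map (QuotientGroup.mk' (Cfsg.pCore p L)) ≤ T →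
      ∀ s ∈ T, s ^ p = 1 → s ∈ Y.map (QuotientGroup.mk' (Cfsg.pCore p L)))
    {h : L} {s t : L ⧸ Cfsg.pCore p L} (hs : s ^ p = 1) (ht : t ^ p = 1)
    (hst : (h : L ⧸ Cfsg.pCore p L) = s * t) (hp : (h : L ⧸ Cfsg.pCore p L) ^ p ≠ 1)
    {a : L} (ha : a ∈ Cfsg.pCore p L) (hfix : ⁅h, a⁆ ∈ Y ⊓ Subgroup.center L) :
    a ∈ Y ⊓ Subgroup.center L := by
  classical
  set π := QuotientGroup.mk' (Cfsg.pCore p L)
  set Z := Y.map π
  set C := Y ⊓ Subgroup.center L with hC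
  haveI := inf_center_normal Y
  have hXcore : Cfsg.pCore p (L ⧸ (Cfsg.pCore p L)) = ⊥ := Core.pCore_quotient_pCore p L
  have hZp : IsPGroup p Z := IsPGroup.map (fun y => ⟨1, Subtype.ext (by rw [pow_one]; exact hexp y.1 y.2)⟩) π
  -- every element of order `p` lies in a conjugate of `Z`
  have hP2 : ∀ u : L ⧸ (Cfsg.pCore p L), u ^ p = 1 → ∃ x : L, u ∈ (cj x Y).map π := by
    intro u hu
    have hup : IsPGroup p (Subgroup.zpowers u) := by
      rintro ⟨_, k, rfl⟩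
      refine ⟨1, Subtype.ext ?_⟩
      rw [pow_one]
      show (u ^ k) ^ p = 1
      rw [← zpow_natCast, ← zpow_mul, mul_comm, zpow_mul, zpow_natCast, hu, one_zpow]
    obtain ⟨T, hT⟩ := hZp.exists_le_sylow
    have hTm : IsMaxP p (T : Subgroup (L ⧸ Cfsg.pCore p L)) ⊤ :=
      ⟨le_top, T.isPGroup', fun _ hR _ hle => T.is_maximal' hR hle⟩
    obtain ⟨k, -, hk⟩ := hTm.conj_le hup le_top
    obtain ⟨x, rfl⟩ := QuotientGroup.mk'_surjective (Cfsg.pCore p L) k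
    have h1 : π x * u * (π x)⁻¹ ∈ Z :=
      hK1 T T.isPGroup' hT _ (hk ⟨u, Subgroup.mem_zpowers u, rfl⟩) (by rw [conj_pow, hu, mul_one, mul_inv_cancel])
    obtain ⟨y, hy, hye⟩ := h1
    refine ⟨x⁻¹, x⁻¹ * y * x, ⟨y, hy, by simp⟩, ?_⟩
    rw [map_mul, map_mul, map_inv, hye]
    group
  obtain ⟨x1, y1, hy1, hs'⟩ := hP2 s hs
  obtain ⟨x2, y2, hy2, ht'⟩ := hP2 t ht
  set g := x1⁻¹ * x2
  have hs1 : s ≠ 1 := fun e => hp (by rw [hst, e, one_mul, ht])
  have ht1 : t ≠ 1 := fun e => hp (by rw [hst, e, mul_one, hs])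
  have hg : g ∉ L₀ := fun e => by
    rw [← hN] at e
    have he : cj x2 Y = cj x1 Y := by
      have := congrArg (cj x1) (cj_eq_self_iff.mpr e)
      rwa [cj_cj, show x1 * g = x2 by simp [g]] at this
    rw [he] at hy2
    obtain ⟨u, hu, rfl⟩ := hy1
    obtain ⟨v, hv, rfl⟩ := hy2
    apply hp
    rw [hst, ← hs', ← ht', ← map_mul, ← map_mul, ← map_pow, ← map_pow, hexp _ (Y.mul_mem hu hv), map_one, map_one]
  -- move the first factor into `Y`
  set y := x1⁻¹ * y1 * x1 with hydef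
  set y' := x1⁻¹ * y2 * x1 with hy'def
  have hy : y ∈ Y := mem_cj.mp hy1
  have hy' : y' ∈ cj g Y := by
    have := conj_mem_cj (g := x1⁻¹) hy2
    rwa [cj_cj, inv_inv] at this
  have hyA : y ∉ (Cfsg.pCore p L) := fun e => hs1 (by
    rw [← hs']
    exact (QuotientGroup.eq_one_iff _).mpr (by simpa [hydef, mul_assoc] using (inferInstance : (Cfsg.pCore p L).Normal).conj_mem _ e x1))
  have hy'A : y' ∉ (Cfsg.pCore p L) := fun e => ht1 (by
    rw [← ht']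
    exact (QuotientGroup.eq_one_iff _).mpr (by simpa [hy'def, mul_assoc] using (inferInstance : (Cfsg.pCore p L).Normal).conj_mem _ e x1))
  set b0 := x1⁻¹ * a * x1 with hb0
  have hb0A : b0 ∈ (Cfsg.pCore p L) := by simpa [hb0] using (inferInstance : (Cfsg.pCore p L).Normal).conj_mem _ ha x1⁻¹
  suffices hgoal : b0 ∈ C by
    have := (inferInstance : C.Normal).conj_mem _ hgoal x1
    simpa [hb0, mul_assoc] using this
  have hcC : ∀ c ∈ C, ∀ u : L, u * c * u⁻¹ = c := fun c hc u => by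
    rw [Subgroup.mem_center_iff.mp (Subgroup.mem_inf.mp hc).2 u, mul_inv_cancel_right]
  -- the elements centralizing `b` modulo `C`
  have hfix' : ⁅y * y', b0⁆ ∈ C := by
    have h2 : (y1 * y2)⁻¹ * h ∈ (Cfsg.pCore p L) := QuotientGroup.eq.mp (show ((y1 * y2 : L) : L ⧸ (Cfsg.pCore p L)) = h by
      rw [QuotientGroup.mk_mul, hst, ← hs', ← ht']; rfl)
    have h3 : ⁅y1 * y2, a⁆ ∈ C := by
      have e : ⁅h, a⁆ = (y1 * y2) * ⁅(y1 * y2)⁻¹ * h, a⁆ * (y1 * y2)⁻¹ * ⁅y1 * y2, a⁆ := by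
        simp only [commutatorElement_def]; group
      have h4 := hAA (Subgroup.commutator_mem_commutator h2 ha)
      rw [hcC _ h4] at e
      have : ⁅y1 * y2, a⁆ = ⁅(y1 * y2)⁻¹ * h, a⁆⁻¹ * ⁅h, a⁆ := by rw [e]; group
      rw [this]
      exact C.mul_mem (C.inv_mem h4) hfix
    have := (inferInstance : C.Normal).conj_mem _ h3 x1⁻¹
    convert this using 1
    simp only [hydef, hy'def, hb0, commutatorElement_def]; group
  set Yg := cj g Y
  set B := (Cfsg.pCore p L) ⊓ Y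
  set Bg := (Cfsg.pCore p L) ⊓ Yg
  have hgen := sup_cj_eq_top hmin hL₀ hYL₀ hg
  have hAYg : (Cfsg.pCore p L) ≤ Subgroup.normalizer (Yg : Set L) := by
    intro o ho
    rw [← cj_eq_self_iff, cj_cj]
    have h1 : g⁻¹ * o * g⁻¹⁻¹ ∈ (Cfsg.pCore p L) := (inferInstance : (Cfsg.pCore p L).Normal).conj_mem o ho g⁻¹
    rw [show o * g = g * (g⁻¹ * o * g⁻¹⁻¹) by group, ← cj_cj, cj_eq_self_iff.mpr (hOY h1)]
  have hYgab : Yg ≤ Subgroup.centralizer (Yg : Set L) := by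
    rintro _ ⟨u, hu, rfl⟩
    refine Subgroup.mem_centralizer_iff.mpr ?_
    rintro _ ⟨z, hz, rfl⟩
    rw [← map_mul, ← map_mul, Subgroup.mem_centralizer_iff.mp (hYab hu) z hz]
  have hCY : ∀ c, c ∈ Y → c ∈ Yg → c ∈ C := by
    intro c h1 h2
    refine Subgroup.mem_inf.mpr ⟨h1, Subgroup.mem_center_iff.mpr fun u => ?_⟩
    have h3 : Y ⊔ Yg ≤ Subgroup.centralizer ({c} : Set L) := by
      refine sup_le ?_ ?_ <;> intro z hz <;> rw [Subgroup.mem_centralizer_singleton_iff]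
      · exact Subgroup.mem_centralizer_iff.mp (hYab h1) z hz
      · exact Subgroup.mem_centralizer_iff.mp (hYgab h2) z hz
    rw [hgen] at h3
    exact Subgroup.mem_centralizer_singleton_iff.mp (h3 (Subgroup.mem_top u))
  have hCYg : C ≤ Yg := fun c hc => ⟨c, (Subgroup.mem_inf.mp hc).1, hcC c hc g⟩
  -- no element of order `p` of `Y ∖ (Cfsg.pCore p L)` normalizes `Y^g`
  have hnot : ∀ (x k : L) (u : L), u ∈ cj x Y → u ∉ (Cfsg.pCore p L) → cj x Y ⊔ cj k Y = ⊤ →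
      u ∉ Subgroup.normalizer (cj k Y : Set L) := by
    intro x k u hu huA hgenx hn
    refine huA ((QuotientGroup.eq_one_iff u).mp ?_)
    set T := (Subgroup.zpowers u ⊔ cj k Y).map π
    have hup : u ^ p = 1 := by obtain ⟨w, hw, rfl⟩ := hu; rw [← map_pow, hexp w hw, map_one]
    have hTp : IsPGroup p T := by
      refine IsPGroup.map (IsPGroup.to_sup_of_normal_right' ?_ (isPGroup_cj fun y => ⟨1, Subtype.ext (by
        rw [pow_one]; exact hexp y.1 y.2)⟩) (Subgroup.zpowers_le.mpr hn)) π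
      exact fun z => ⟨1, Subtype.ext (by
        obtain ⟨k, hk⟩ := z.2
        rw [pow_one]; show (z : L) ^ p = 1
        rw [← hk]; show (u ^ k) ^ p = 1
        rw [← zpow_natCast, ← zpow_mul, mul_comm, zpow_mul, zpow_natCast, hup, one_zpow])⟩
    have h1 : π u ∈ (cj k Y).map π := by
      set q := π k
      have h2 : q⁻¹ * π u * q ∈ Z := by
        refine hK1 (cj q⁻¹ T) (isPGroup_cj hTp) ?_ _ ?_ (by
          rw [← map_inv, ← map_mul, ← map_mul, ← map_pow,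
            show k⁻¹ * u * k = k⁻¹ * u * (k⁻¹)⁻¹ by rw [inv_inv],
            conj_pow, hup, mul_one, mul_inv_cancel, map_one])
        · rintro _ ⟨w, hw, rfl⟩
          rw [mem_cj]
          exact ⟨k * w * k⁻¹, Subgroup.mem_sup_right ⟨w, hw, rfl⟩, by simp [q]⟩
        · rw [mem_cj]
          exact ⟨u, Subgroup.mem_sup_left (Subgroup.mem_zpowers u), by group⟩
      obtain ⟨w, hw, hwe⟩ := h2
      exact ⟨k * w * k⁻¹, ⟨w, hw, rfl⟩, by rw [map_mul, map_mul, map_inv, hwe]; simp [q, mul_assoc]⟩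
    -- then it is central in `L / (Cfsg.pCore p L)`
    have hc : π u ∈ Subgroup.center (L ⧸ (Cfsg.pCore p L)) := by
      rw [Subgroup.mem_center_iff]
      intro q
      obtain ⟨l, rfl⟩ := QuotientGroup.mk'_surjective (Cfsg.pCore p L) q
      have h3 : cj x Y ⊔ cj k Y ≤ (Subgroup.centralizer ({π u} : Set (L ⧸ (Cfsg.pCore p L)))).comap π := by
        refine sup_le ?_ ?_ <;> intro z hz <;> rw [Subgroup.mem_comap, Subgroup.mem_centralizer_singleton_iff]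
        · obtain ⟨z', hz', rfl⟩ := hz
          obtain ⟨u', hu', rfl⟩ := hu
          rw [← map_mul, ← map_mul, ← map_mul, ← map_mul, Subgroup.mem_centralizer_iff.mp (hYab hu') z' hz']
        · obtain ⟨u', ⟨u'', hu'', rfl⟩, hue⟩ := h1
          obtain ⟨z', hz', rfl⟩ := hz
          rw [← hue, ← map_mul, ← map_mul, ← map_mul, ← map_mul, Subgroup.mem_centralizer_iff.mp (hYab hu'') z' hz']
      rw [hgenx] at h3
      exact (Subgroup.mem_centralizer_singleton_iff.mp (h3 (Subgroup.mem_top l)))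
    have h4 : Subgroup.zpowers (π u) ≤ Cfsg.pCore p (L ⧸ (Cfsg.pCore p L)) := by
      haveI : (Subgroup.zpowers (π u)).Normal := ⟨fun n hn' q => by
        rw [Subgroup.mem_center_iff.mp (Subgroup.zpowers_le.mpr hc hn') q, mul_inv_cancel_right]; exact hn'⟩
      refine Core.le_pCore inferInstance fun z => ⟨1, Subtype.ext ?_⟩
      obtain ⟨k, hk⟩ := z.2
      rw [pow_one]; show (z : L ⧸ (Cfsg.pCore p L)) ^ p = 1
      rw [← hk]; show (π u ^ k) ^ p = 1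
      rw [← zpow_natCast, ← zpow_mul, mul_comm, zpow_mul, zpow_natCast, ← map_pow, hup, map_one, one_zpow]
    rw [hXcore] at h4
    exact Subgroup.mem_bot.mp (h4 (Subgroup.mem_zpowers _))
  -- an element of `Y^{xg} ∩ (Cfsg.pCore p L)` fixed modulo `C` by an element of `Y^x ∖ (Cfsg.pCore p L)` lies in `C`
  have hfixed : ∀ (x k : L) (u w : L), u ∈ cj x Y → u ∉ (Cfsg.pCore p L) → cj x Y ⊔ cj k Y = ⊤ → w ∈ cj k Y →
      ⁅u, w⁆ ∈ C → ∀ l : L, ⁅l, w⁆ ∈ C := by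
    intro x k u w hu huA hgenx hw huw l
    let S : Subgroup L :=
      { carrier := {l | ⁅l, w⁆ ∈ C}
        one_mem' := by simp
        mul_mem' := fun {c d} hc hd => by
          show ⁅c * d, w⁆ ∈ C
          rw [show ⁅c * d, w⁆ = c * ⁅d, w⁆ * c⁻¹ * ⁅c, w⁆ by simp only [commutatorElement_def]; group,
            hcC _ hd]
          exact C.mul_mem hd hc
        inv_mem' := fun {c} hc => by
          show ⁅c⁻¹, w⁆ ∈ C
          rw [show ⁅c⁻¹, w⁆ = c⁻¹ * ⁅c, w⁆⁻¹ * c⁻¹⁻¹ by simp only [commutatorElement_def]; group,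
            hcC _ (C.inv_mem hc)]
          exact C.inv_mem hc }
    by_contra hl
    have hSne : S ≠ ⊤ := fun e => hl (show l ∈ S from e ▸ Subgroup.mem_top l)
    have h1 : cj k Y ≤ S := fun z hz => by
      show ⁅z, w⁆ ∈ C
      obtain ⟨z', hz', rfl⟩ := hz
      obtain ⟨w', hw', rfl⟩ := hw
      rw [commutatorElement_def, ← map_inv, ← map_inv, ← map_mul, ← map_mul, ← map_mul,
        show z' * w' * z'⁻¹ * w'⁻¹ = 1 by
          rw [(Subgroup.mem_centralizer_iff.mp (hYab hw') z' hz'), mul_inv_cancel_right, mul_inv_cancel], map_one]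
      exact C.one_mem
    have h2 : cj k⁻¹ S ≤ L₀ := by
      refine isMinimalOver_le hmin hL₀ hYL₀ ?_ fun e => hSne (Subgroup.eq_top_of_card_eq _
        (by rw [← card_cj k⁻¹ S, e, Subgroup.card_top]))
      have := cj_mono (g := k⁻¹) h1
      rwa [cj_cj, inv_mul_cancel, cj_one] at this
    have h3 := cj_mono (g := k) h2
    rw [cj_cj, mul_inv_cancel, cj_one, ← hN, cj_normalizer] at h3
    exact hnot x k u hu huA hgenx (h3 huw)
  -- decompose `b`
  have hdec := pCore_le_sup_cj hmin hL₀ hYL₀ hYab hOY hA hg hb0A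
  have hBn : (Cfsg.pCore p L) ≤ Subgroup.normalizer (Bg : Set L) :=
    (le_inf Subgroup.le_normalizer hAYg).trans Subgroup.inf_normalizer_le_normalizer_inf
  rw [← SetLike.mem_coe, Subgroup.coe_mul_of_left_le_normalizer_right _ _ (inf_le_left.trans hBn)] at hdec
  obtain ⟨b, hb, b', hb', hbb : b * b' = b0⟩ := hdec
  obtain ⟨hbA, hbY⟩ := Subgroup.mem_inf.mp hb
  obtain ⟨hb'A, hb'Y⟩ := Subgroup.mem_inf.mp hb'
  -- `[y', a]` and `[y, a]` lie in `C`
  have h5 : ⁅y', b0⁆ ∈ Yg := by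
    rw [commutatorElement_def, mul_assoc, mul_assoc]
    exact Yg.mul_mem hy' (by rw [← mul_assoc]; exact (Subgroup.mem_normalizer_iff.mp (hAYg hb0A) _).mp (Yg.inv_mem hy'))
  have h6 : ⁅y, b0⁆ ∈ Y := by
    rw [commutatorElement_def, mul_assoc, mul_assoc]
    exact Y.mul_mem hy (by rw [← mul_assoc]; exact (Subgroup.mem_normalizer_iff.mp (hOY hb0A) _).mp (Y.inv_mem hy))
  have h7 : ⁅y', b0⁆ ∈ C := by
    refine hCY _ ?_ h5
    rw [show ⁅y', b0⁆ = y⁻¹ * (⁅y * y', b0⁆ * ⁅y, b0⁆⁻¹) * y by simp only [commutatorElement_def]; group]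
    exact Y.mul_mem (Y.mul_mem (Y.inv_mem hy) (Y.mul_mem (Subgroup.mem_inf.mp hfix').1 (Y.inv_mem h6))) hy
  have h8 : ⁅y, b0⁆ ∈ C := by
    rw [show ⁅y, b0⁆ = (y * ⁅y', b0⁆ * y⁻¹)⁻¹ * ⁅y * y', b0⁆ by simp only [commutatorElement_def]; group,
      hcC _ h7]
    exact C.mul_mem (C.inv_mem h7) hfix'
  have h9 : ⁅y, b'⁆ ∈ C := by
    have hyb : y * b = b * y := Subgroup.mem_centralizer_iff.mp (hYab hbY) y hy
    have e : ⁅y, b0⁆ = b * ⁅y, b'⁆ * b⁻¹ := by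
      have hyb1 : ⁅y, b⁆ = 1 := commutatorElement_eq_one_iff_mul_comm.mpr hyb
      rw [← hbb, show ⁅y, b * b'⁆ = ⁅y, b⁆ * (b * ⁅y, b'⁆ * b⁻¹) by simp only [commutatorElement_def]; group,
        hyb1, one_mul]
    have h10 := (inferInstance : C.Normal).conj_mem _ h8 b⁻¹
    rwa [e, show b⁻¹ * (b * ⁅y, b'⁆ * b⁻¹) * b⁻¹⁻¹ = ⁅y, b'⁆ by group] at h10
  have hb'C : b' ∈ C := by
    have h10 := hfixed 1 g y b' (by rwa [cj_one]) hyA (by rwa [cj_one]) hb'Y h9 g⁻¹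
    refine hCY _ ?_ hb'Y
    have h11 : g⁻¹ * b' * g ∈ Y := mem_cj.mp hb'Y
    rw [show b' = ⁅g⁻¹, b'⁆⁻¹ * (g⁻¹ * b' * g) by simp only [commutatorElement_def]; group]
    exact Y.mul_mem (Y.inv_mem (Subgroup.mem_inf.mp h10).1) h11
  have hbC : b ∈ C := by
    have h12 : ⁅y', b⁆ ∈ C := by
      have hyb : y' * b' = b' * y' := Subgroup.mem_centralizer_iff.mp (hYgab hb'Y) y' hy'
      have e : ⁅y', b0⁆ = ⁅y', b⁆ := by
        have hyb1 : ⁅y', b'⁆ = 1 := commutatorElement_eq_one_iff_mul_comm.mpr hyb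
        rw [← hbb, show ⁅y', b * b'⁆ = ⁅y', b⁆ * (b * ⁅y', b'⁆ * b⁻¹) by simp only [commutatorElement_def]; group,
          hyb1, mul_one, mul_inv_cancel, mul_one]
      rwa [e] at h7
    have hall : ∀ l : L, ⁅l, b⁆ ∈ C :=
      hfixed g 1 y' b hy' hy'A (by rwa [cj_one, sup_comm]) (by rwa [cj_one]) h12
    exact hCY b hbY (by
      have h11 : g * b * g⁻¹ ∈ Yg := conj_mem_cj hbY
      rw [show b = ⁅g, b⁆⁻¹ * (g * b * g⁻¹) by simp only [commutatorElement_def]; group]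
      exact Yg.mul_mem (Yg.inv_mem (hCYg (hall g))) h11)
  rw [← hbb]
  exact C.mul_mem hbC hb'C

end Cfsg.Agent.LocalEven

namespace Cfsg.Agent.LocalEven

/-- Products of two elements of order `p` exhaust the elements of prime order `≠ p`, up to a central factor. -/
def TwoProd (p : ℕ) (X : Type*) [Group X] : Prop :=
  ∀ h : X, (orderOf h).Prime → orderOf h ≠ p → (∃ s t : X, s ^ p = 1 ∧ t ^ p = 1 ∧ h = s * t) ∨
    (h ∈ Subgroup.center X ∧ ∃ u s t : X, u ≠ 1 ∧ u ^ p = 1 ∧ s ^ p = 1 ∧ t ^ p = 1 ∧ h * u = s * t)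

variable {L : Type*} [Group L] [Finite L] {p : ℕ} [Fact p.Prime]

/-- `p'`-parts act without fixed points on `O_p(L) / C_Y(L)`. -/
theorem frakL_fix {L₀ Y : Subgroup L} (hmin : Cfsg.IsMinimalOver Y) (hL₀ : IsCoatom L₀)
    (hYL₀ : Y ≤ L₀) (hN : Subgroup.normalizer (Y : Set L) = L₀) (hYab : Y ≤ Subgroup.centralizer (Y : Set L))
    (hOY : Cfsg.pCore p L ≤ Subgroup.normalizer (Y : Set L))
    (hA : Cfsg.pCore p L = Subgroup.normalClosure ((Cfsg.pCore p L ⊓ Y : Subgroup L) : Set L))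
    (hAA : ⁅Cfsg.pCore p L, Cfsg.pCore p L⁆ ≤ Y ⊓ Subgroup.center L)
    (hexp : ∀ y ∈ Y, y ^ p = 1)
    (hK1 : ∀ T : Subgroup (L ⧸ Cfsg.pCore p L), IsPGroup p T → Y.map (QuotientGroup.mk' (Cfsg.pCore p L)) ≤ T →
      ∀ s ∈ T, s ^ p = 1 → s ∈ Y.map (QuotientGroup.mk' (Cfsg.pCore p L)))
    (hK3 : TwoProd p (L ⧸ Cfsg.pCore p L))
    {h : L} (hnp : ¬ ∃ k : ℕ, orderOf h = p ^ k)
    {a : L} (ha : a ∈ Cfsg.pCore p L) (hfix : ⁅h, a⁆ ∈ Y ⊓ Subgroup.center L) :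
    a ∈ Y ⊓ Subgroup.center L := by
  classical
  haveI := inf_center_normal Y
  set C := Y ⊓ Subgroup.center L with hC
  have hcC : ∀ c ∈ C, ∀ u : L, u * c * u⁻¹ = c := fun c hc u => by
    rw [Subgroup.mem_center_iff.mp (Subgroup.mem_inf.mp hc).2 u, mul_inv_cancel_right]
  have hAp : IsPGroup p (Cfsg.pCore p L) := Core.isPGroup_pCore p L
  set m := orderOf (h : L ⧸ Cfsg.pCore p L)
  obtain ⟨r, hr, hrm, hrp⟩ : ∃ r : ℕ, r.Prime ∧ r ∣ m ∧ r ≠ p := by
    by_contra hcon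
    push Not at hcon
    have hm := Nat.eq_prime_pow_of_unique_prime_dvd (orderOf_pos (h : L ⧸ Cfsg.pCore p L)).ne'
      (fun {d} hd hdm => hcon d hd hdm)
    obtain ⟨k, hk⟩ := hAp ⟨h ^ m, (QuotientGroup.eq_one_iff _).mp (by
      rw [QuotientGroup.mk_pow]; exact pow_orderOf_eq_one _)⟩
    have h1 : (h ^ m) ^ p ^ k = 1 := congrArg Subtype.val hk
    rw [← pow_mul, show m = p ^ m.primeFactorsList.length from hm, ← pow_add] at h1
    obtain ⟨j, -, hj⟩ := (Nat.dvd_prime_pow (Fact.out : p.Prime)).mp (orderOf_dvd_of_pow_eq_one h1)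
    exact hnp ⟨j, hj⟩
  set h' := h ^ (m / r)
  have ho : orderOf (h' : L ⧸ Cfsg.pCore p L) = r := by
    show orderOf ((h ^ (m / r) : L) : L ⧸ Cfsg.pCore p L) = r
    rw [QuotientGroup.mk_pow]
    exact orderOf_pow_orderOf_div (orderOf_pos (h : L ⧸ Cfsg.pCore p L)).ne' hrm
  let S : L → Subgroup L := fun b =>
    { carrier := {l | ⁅l, b⁆ ∈ C}
      one_mem' := by simp
      mul_mem' := fun {c d} hc hd => by
        show ⁅c * d, b⁆ ∈ C
        rw [show ⁅c * d, b⁆ = c * ⁅d, b⁆ * c⁻¹ * ⁅c, b⁆ by simp only [commutatorElement_def]; group, hcC _ hd]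
        exact C.mul_mem hd hc
      inv_mem' := fun {c} hc => by
        show ⁅c⁻¹, b⁆ ∈ C
        rw [show ⁅c⁻¹, b⁆ = c⁻¹ * ⁅c, b⁆⁻¹ * c⁻¹⁻¹ by simp only [commutatorElement_def]; group,
          hcC _ (C.inv_mem hc)]
        exact C.inv_mem hc }
  have hfix1 : ⁅h', a⁆ ∈ C := (S a).pow_mem hfix _
  have hnp' : (h' : L ⧸ Cfsg.pCore p L) ^ p ≠ 1 := fun e =>
    hrp ((Nat.prime_dvd_prime_iff_eq hr (Fact.out : p.Prime)).mp (ho ▸ orderOf_dvd_of_pow_eq_one e))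
  rcases hK3 _ (ho.symm ▸ hr) (ho.symm ▸ hrp) with ⟨s, t, hs, ht, hst⟩ | ⟨hcen, ub, s, t, hu1, hu, hs, ht, hst⟩
  · exact frakL_fix_core hmin hL₀ hYL₀ hN hYab hOY hA hAA hexp hK1 hs ht hst hnp' ha hfix1
  by_contra haC
  obtain ⟨u, rfl⟩ := QuotientGroup.mk'_surjective (Cfsg.pCore p L) ub
  let U : Subgroup L :=
    { carrier := {b | b ∈ Cfsg.pCore p L ∧ ⁅h', b⁆ ∈ C}
      one_mem' := ⟨one_mem _, by simp⟩
      mul_mem' := fun {c d} hc hd => ⟨mul_mem hc.1 hd.1, by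
        rw [show ⁅h', c * d⁆ = ⁅h', c⁆ * (c * ⁅h', d⁆ * c⁻¹) by simp only [commutatorElement_def]; group,
          hcC _ hd.2]
        exact C.mul_mem hc.2 hd.2⟩
      inv_mem' := fun {c} hc => ⟨inv_mem hc.1, by
        rw [show ⁅h', c⁻¹⁆ = c⁻¹ * ⁅h', c⁆⁻¹ * c⁻¹⁻¹ by simp only [commutatorElement_def]; group,
          hcC _ (C.inv_mem hc.2)]
        exact C.inv_mem hc.2⟩ }
  have hUn : ∀ v : L, ∀ b ∈ U, v * b * v⁻¹ ∈ U := fun v b hb => by
    have hbA := (inferInstance : (Cfsg.pCore p L).Normal).conj_mem _ hb.1 v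
    refine ⟨hbA, ?_⟩
    have hα : h'⁻¹ * (v⁻¹ * h' * v) ∈ Cfsg.pCore p L := QuotientGroup.eq.mp (by
      rw [QuotientGroup.mk_mul, QuotientGroup.mk_mul, mul_assoc, ← Subgroup.mem_center_iff.mp hcen (v : L ⧸ _),
        QuotientGroup.mk_inv, inv_mul_cancel_left])
    rw [show ⁅h', v * b * v⁻¹⁆ = v * (h' * ⁅h'⁻¹ * (v⁻¹ * h' * v), b⁆ * h'⁻¹ * ⁅h', b⁆) * v⁻¹ by
      simp only [commutatorElement_def]; group]
    refine (inferInstance : C.Normal).conj_mem _ (C.mul_mem ?_ hb.2) v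
    exact (inferInstance : C.Normal).conj_mem _ (hAA (Subgroup.commutator_mem_commutator hα hb.1)) h'
  set ρ := QuotientGroup.mk' C
  have hVp : IsPGroup p (U.map ρ) := (hAp.to_le (show U ≤ Cfsg.pCore p L from fun b hb => hb.1)).map ρ
  have hVne : U.map ρ ≠ ⊥ := fun e => haC ((QuotientGroup.eq_one_iff a).mp (by
    have : ρ a ∈ U.map ρ := ⟨a, ⟨ha, hfix1⟩, rfl⟩
    rwa [e, Subgroup.mem_bot] at this))
  have hup : IsPGroup p ↥(Subgroup.zpowers (ρ u)) := by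
    obtain ⟨k, hk⟩ := hAp ⟨u ^ p, (QuotientGroup.eq_one_iff _).mp (by
      rw [QuotientGroup.mk_pow]; exact hu)⟩
    have h1 : (u ^ p) ^ p ^ k = 1 := congrArg Subtype.val hk
    intro z
    obtain ⟨i, hi⟩ := z.2
    refine ⟨1 + k, Subtype.ext ?_⟩
    show (z : L ⧸ C) ^ p ^ (1 + k) = 1
    rw [← hi]; show (ρ u ^ i) ^ p ^ (1 + k) = 1
    rw [← zpow_natCast, ← zpow_mul, mul_comm, zpow_mul, zpow_natCast, ← map_pow, pow_add, pow_one, pow_mul, h1,
      map_one, one_zpow]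
  have hun : Subgroup.zpowers (ρ u) ≤ Subgroup.normalizer (U.map ρ : Set (L ⧸ C)) := by
    rw [Subgroup.zpowers_le]
    refine Subgroup.le_normalizer_map ρ ⟨u, ?_, rfl⟩
    refine Subgroup.mem_normalizer_iff.mpr fun b => ⟨hUn u b, fun hb => ?_⟩
    simpa [mul_assoc] using hUn u⁻¹ _ hb
  obtain ⟨⟨z, hz⟩, hz1⟩ := (Subgroup.ne_bot_iff_exists_ne_one).mp (exists_fixed_ne_bot hVp hVne hup hun)
  obtain ⟨⟨b, hb, rfl⟩, hzc⟩ := Subgroup.mem_inf.mp hz
  have hub : ⁅u, b⁆ ∈ C := (QuotientGroup.eq_one_iff _).mp (show ρ ⁅u, b⁆ = 1 by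
    rw [map_commutatorElement, commutatorElement_eq_one_iff_mul_comm]
    exact Subgroup.mem_centralizer_iff.mp hzc _ (Subgroup.mem_zpowers _))
  refine hz1 (Subtype.ext ((QuotientGroup.eq_one_iff b).mpr ?_))
  refine frakL_fix_core hmin hL₀ hYL₀ hN hYab hOY hA hAA hexp hK1 (h := h' * u) hs ht ?_ ?_ hb.1 ?_
  · rw [QuotientGroup.mk_mul]; exact hst
  · rw [QuotientGroup.mk_mul, Commute.mul_pow (Subgroup.mem_center_iff.mp hcen _).symm,
      show ((u : L ⧸ Cfsg.pCore p L)) ^ p = 1 from hu, mul_one]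
    exact hnp'
  · exact (S b).mul_mem hb.2 hub

end Cfsg.Agent.LocalEven
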