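import Cfsg.Agent.LocalEven.FrakLCases

/-!
# `N(Z)` acts irreducibly on `Z` in the groups `L / O_p(L)`, `L` in `𝔏`
-/

set_option autoImplicit false
set_option linter.style.haveILetI false

namespace Cfsg.Agent.LocalEven

/-- `N(Z)` acts irreducibly on `Z`. -/
def IrredNorm {X : Type*} [Group X] (Z : Subgroup X) : Prop :=
  ∀ V : Subgroup X, V ≤ Z → Subgroup.normalizer (Z : Set X) ≤ Subgroup.normalizer (V : Set X) → V = ⊥ ∨ V = Z

variable {X X' : Type*} [Group X] [Group X'] {p : ℕ}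

theorem irredNorm_of_equiv (e : X ≃* X') {Z : Subgroup X} (h : IrredNorm (Z.map e.toMonoidHom)) : IrredNorm Z := by
  intro V hV hn
  rcases h (V.map e.toMonoidHom) (Subgroup.map_mono hV) (by
      rw [← Subgroup.map_equiv_normalizer_eq, ← Subgroup.map_equiv_normalizer_eq]
      exact Subgroup.map_mono hn) with h1 | h1
  · exact Or.inl ((Subgroup.map_eq_bot_iff_of_injective _ e.injective).mp h1)
  · exact Or.inr (Subgroup.map_injective e.injective h1)

theorem irredNorm_cj {Z : Subgroup X} {g : X} (h : IrredNorm (cj g Z)) : IrredNorm Z :=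
  irredNorm_of_equiv (MulAut.conj g) h

theorem irredNorm_of_card_two {Z : Subgroup X} (hZ : Nat.card Z = 2) : IrredNorm Z := by
  intro V hV _
  haveI : Finite Z := Nat.finite_of_card_ne_zero (by omega)
  have hd := Subgroup.card_dvd_of_le hV
  rw [hZ] at hd
  rcases (Nat.dvd_prime Nat.prime_two).mp hd with e | e
  · exact Or.inl (Subgroup.eq_bot_of_card_eq _ e)
  · exact Or.inr (Subgroup.eq_of_le_of_card_ge hV (by omega))

/-- Two exponent-`p` subgroups of the same order, one with `OmegaIn`, are conjugate. -/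
theorem exists_cj_eq_of_omegaIn [Finite X] [Fact p.Prime] {Z U : Subgroup X} (hU : OmegaIn p U)
    (hUp : IsPGroup p U) (hZ : ∀ z ∈ Z, z ^ p = 1) (hcard : Nat.card U = Nat.card Z) :
    ∃ g : X, cj g Z = U := by
  obtain ⟨T, hT⟩ := hUp.exists_le_sylow
  have hTm : IsMaxP p (T : Subgroup X) ⊤ := ⟨le_top, T.isPGroup', fun _ hR _ hle => T.is_maximal' hR hle⟩
  obtain ⟨g, -, hg⟩ := hTm.conj_le
      (fun z : Z => ⟨1, Subtype.ext (by rw [pow_one]; exact hZ z z.2)⟩) le_top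
  refine ⟨g, Subgroup.eq_of_le_of_card_ge ?_ (by rw [card_cj, hcard])⟩
  rintro _ ⟨z, hz, rfl⟩
  exact hU T T.isPGroup' hT _ (hg ⟨z, hz, rfl⟩) (by rw [← map_pow, hZ z hz, map_one])

section SL2

open Matrix

variable {F : Type*} [Field F]

/-- An upper unitriangular matrix. -/
def sl2U (x : F) : Matrix.SpecialLinearGroup (Fin 2) F := ⟨!![1, x; 0, 1], by rw [Matrix.det_fin_two_of]; ring⟩

theorem sl2U_mul (x y : F) : sl2U x * sl2U y = sl2U (x + y) := by
  apply Subtype.ext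
  rw [Matrix.SpecialLinearGroup.coe_mul]
  ext i j
  fin_cases i <;> fin_cases j <;> simp [sl2U, Matrix.mul_apply, Fin.sum_univ_two, add_comm]

theorem sl2U_zero : sl2U (0 : F) = 1 := by
  apply Subtype.ext
  ext i j
  fin_cases i <;> fin_cases j <;> simp [sl2U]

theorem sl2U_inj {x y : F} (h : sl2U x = sl2U y) : x = y := by
  have := congrArg (fun g : Matrix.SpecialLinearGroup (Fin 2) F => g.1 0 1) h
  simpa [sl2U] using this

/-- The upper unitriangular subgroup of `SL₂`. -/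
def sl2UGrp : Subgroup (Matrix.SpecialLinearGroup (Fin 2) F) where
  carrier := Set.range sl2U
  one_mem' := ⟨0, sl2U_zero⟩
  mul_mem' := by rintro _ _ ⟨x, rfl⟩ ⟨y, rfl⟩; exact ⟨x + y, (sl2U_mul x y).symm⟩
  inv_mem' := by
    rintro _ ⟨x, rfl⟩
    exact ⟨-x, (inv_eq_of_mul_eq_one_right (by rw [sl2U_mul, add_neg_cancel, sl2U_zero])).symm⟩

/-- A diagonal matrix. -/
def sl2D (t : Fˣ) : Matrix.SpecialLinearGroup (Fin 2) F :=
  ⟨!![(t : F), 0; 0, ((t⁻¹ : Fˣ) : F)], by rw [Matrix.det_fin_two_of]; simp⟩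

theorem sl2D_conj (t : Fˣ) (x : F) : sl2D t * sl2U x * (sl2D t)⁻¹ = sl2U ((t : F) ^ 2 * x) := by
  rw [mul_inv_eq_iff_eq_mul]
  apply Subtype.ext
  rw [Matrix.SpecialLinearGroup.coe_mul, Matrix.SpecialLinearGroup.coe_mul]
  ext i j
  fin_cases i <;> fin_cases j <;> simp [sl2U, sl2D, Matrix.mul_apply, Fin.sum_univ_two]
  field_simp

variable [Fintype F] [Fact p.Prime] [CharP F p]

omit [Fintype F] in
theorem sl2U_pow (x : F) : sl2U x ^ p = 1 := sl2_pow_eq_one (by simp [sl2U]; norm_num)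

theorem card_sl2UGrp : Nat.card (sl2UGrp (F := F)) = Fintype.card F := by
  rw [← Nat.card_eq_fintype_card]
  exact (Nat.card_congr (Equiv.ofBijective (fun x : F => (⟨sl2U x, x, rfl⟩ : sl2UGrp (F := F)))
    ⟨fun x y e => sl2U_inj (congrArg Subtype.val e), by rintro ⟨_, x, rfl⟩; exact ⟨x, rfl⟩⟩)).symm

include p in
theorem irredNorm_sl2 {Z : Subgroup (Matrix.SpecialLinearGroup (Fin 2) F)} (hZe : ∀ z ∈ Z, z ^ p = 1)
    (hZ : Nat.card Z = Fintype.card F) : IrredNorm Z := by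
  obtain ⟨g, hg⟩ := exists_cj_eq_of_omegaIn (p := p) (U := sl2UGrp (F := F)) (omegaIn_sl2 card_sl2UGrp)
    (by rintro ⟨_, x, rfl⟩; exact ⟨1, Subtype.ext (by rw [pow_one]; exact sl2U_pow x)⟩) hZe
    (card_sl2UGrp.trans hZ.symm)
  refine irredNorm_cj (g := g) (hg ▸ ?_)
  intro V hV hn
  by_cases hV1 : V = ⊥
  · exact Or.inl hV1
  refine Or.inr (le_antisymm hV ?_)
  obtain ⟨⟨v, hv⟩, hv1⟩ := Subgroup.ne_bot_iff_exists_ne_one.mp hV1
  obtain ⟨x0, rfl⟩ := hV hv
  have hx0 : x0 ≠ 0 := fun e => hv1 (Subtype.ext (by subst e; exact sl2U_zero))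
  have hsq : ∀ t : F, sl2U (t ^ 2 * x0) ∈ V := by
    intro t
    by_cases ht : t = 0
    · rw [ht, zero_pow two_ne_zero, zero_mul, sl2U_zero]; exact one_mem V
    have hd : sl2D (Units.mk0 t ht) ∈ Subgroup.normalizer (sl2UGrp (F := F) : Set _) := by
      rw [← cj_eq_self_iff]
      refine Subgroup.eq_of_le_of_card_ge ?_ (card_cj _ _).ge
      rintro _ ⟨_, ⟨y, rfl⟩, rfl⟩
      exact ⟨_, (sl2D_conj _ y).symm⟩
    have := (Subgroup.mem_normalizer_iff.mp (hn hd) _).mp hv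
    rwa [sl2D_conj] at this
  rintro _ ⟨y, rfl⟩
  by_cases h2 : ringChar F = 2
  · obtain ⟨t, ht⟩ := FiniteField.isSquare_of_char_two h2 (y / x0)
    have := hsq t
    rwa [sq, ← ht, div_mul_cancel₀ _ hx0] at this
  · have h20 : (2 : F) ≠ 0 := Ring.two_ne_zero h2
    have h4 : ((y / x0 + 1) / 2) ^ 2 * x0 + -(((y / x0 - 1) / 2) ^ 2 * x0) = y := by field_simp; ring
    rw [← h4, ← sl2U_mul]
    refine mul_mem (hsq _) ?_
    have := inv_mem (hsq ((y / x0 - 1) / 2))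
    rwa [inv_eq_of_mul_eq_one_right (b := sl2U (-(((y / x0 - 1) / 2) ^ 2 * x0)))
      (by rw [sl2U_mul, add_neg_cancel, sl2U_zero])] at this

end SL2

section Sz

open Cfsg.Agent.Suzuki

variable {F : Type*} [Field F] {m : ℕ} (h : Suzuki.Ctx F m)

/-- The elements `U(0, b)`. -/
def szU0 : Subgroup (Cfsg.Sz F m) where
  carrier := Set.range (fun b : F => uEl h 0 b)
  one_mem' := ⟨0, uEl_zero h⟩
  mul_mem' := by rintro _ _ ⟨x, rfl⟩ ⟨y, rfl⟩; exact ⟨x + y, by simp [uEl_mul, th_zero]⟩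
  inv_mem' := by rintro _ ⟨x, rfl⟩; exact ⟨x, by simp [uEl_inv, th_zero]⟩

include h in
theorem irredNorm_sz {Z : Subgroup (Cfsg.Sz F m)} (hZe : ∀ z ∈ Z, z * z = 1)
    (hZ : Nat.card Z = 2 ^ (2 * m + 1)) : IrredNorm Z := by
  haveI := finite_sz h
  haveI := h.finite
  haveI := Fact.mk Nat.prime_two
  have hsq : ∀ z ∈ szU0 h, z * z = 1 := by
    rintro _ ⟨x, rfl⟩
    show uEl h 0 x * uEl h 0 x = 1
    rw [uEl_sq, mul_zero, uEl_zero]
  have hcard : Nat.card (szU0 h) = 2 ^ (2 * m + 1) := by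
    rw [← h.card]
    exact (Nat.card_congr (Equiv.ofBijective (fun b : F => (⟨uEl h 0 b, b, rfl⟩ : szU0 h))
      ⟨fun x y e => (uEl_inj h (congrArg Subtype.val e)).2, by rintro ⟨_, x, rfl⟩; exact ⟨x, rfl⟩⟩)).symm
  obtain ⟨g, hg⟩ := exists_cj_eq_of_omegaIn (omegaIn_sz h hsq hcard)
    (fun z : szU0 h => ⟨1, Subtype.ext (by rw [pow_one, sq]; exact hsq z z.2)⟩)
    (fun z hz => by rw [sq]; exact hZe z hz) (hcard.trans hZ.symm)
  refine irredNorm_cj (g := g) (hg ▸ ?_)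
  intro V hV hn
  by_cases hV1 : V = ⊥
  · exact Or.inl hV1
  refine Or.inr (le_antisymm hV ?_)
  obtain ⟨⟨v, hv⟩, hv1⟩ := Subgroup.ne_bot_iff_exists_ne_one.mp hV1
  obtain ⟨b0, rfl⟩ := hV hv
  have hb0 : b0 ≠ 0 := fun e => hv1 (Subtype.ext (by subst e; exact uEl_zero h))
  let φ : Fˣ →* Fˣ := MonoidHom.mk' (fun k => Units.mk0 ((k : F) * th m (k : F))
    (mul_ne_zero k.ne_zero (pow_ne_zero _ k.ne_zero)))
    fun k l => Units.ext (by simp [th_mul]; ring)
  have hφ : Function.Surjective φ := (Finite.injective_iff_surjective (f := φ)).mp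
    ((injective_iff_map_eq_one φ).mpr fun k hk => Units.ext (h.mul_th_eq_one (by
      simpa [φ] using congrArg Units.val hk)))
  rintro _ ⟨b, rfl⟩
  by_cases hb : b = 0
  · subst hb; show uEl h 0 0 ∈ V; rw [uEl_zero]; exact one_mem V
  obtain ⟨k, hk⟩ := hφ (Units.mk0 (b / b0) (div_ne_zero hb hb0))
  have hd : hEl h k ∈ Subgroup.normalizer (szU0 h : Set _) := by
    rw [← cj_eq_self_iff]
    refine Subgroup.eq_of_le_of_card_ge ?_ (card_cj _ _).ge
    rintro _ ⟨_, ⟨y, rfl⟩, rfl⟩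
    refine ⟨(k : F) * th m (k : F) * y, ?_⟩
    show _ = hEl h k * uEl h 0 y * (hEl h k)⁻¹
    rw [hEl_conj, mul_zero]
  have := (Subgroup.mem_normalizer_iff.mp (hn hd) _).mp hv
  rwa [hEl_conj, mul_zero, show (k : F) * th m (k : F) * b0 = b by
    have := congrArg Units.val hk
    simp [φ] at this
    rw [this, div_mul_cancel₀ _ hb0]] at this

end Sz

end Cfsg.Agent.LocalEven
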