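import Cfsg.Agent.Core.Cores
import Cfsg.Agent.Core.Residual
import Cfsg.Prelude.Def_LocalStructure

set_option autoImplicit false

namespace Cfsg.Agent.LocalEven

variable {G : Type*} [Group G] {p : ℕ} [hp : Fact p.Prime] [Finite G]

theorem pElement_mem_of_sylow_normal {P : Sylow p G} (hP : (P : Subgroup G).Normal) {x : G}
    (hx : ∃ k, orderOf x = p ^ k) : x ∈ (P : Subgroup G) := by
  obtain ⟨k, hk⟩ := hx
  obtain ⟨Q, hQ⟩ := (IsPGroup.of_card (p := p) (n := k) (by rw [Nat.card_zpowers, hk]) :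
    IsPGroup p (Subgroup.zpowers x)).exists_le_sylow
  haveI := hP
  haveI := Sylow.unique_of_normal P hP
  rw [Subsingleton.elim P Q]
  exact hQ (Subgroup.mem_zpowers x)

theorem isPClosed_iff :
    Cfsg.IsPClosed p G ↔ ∀ x : G, (∃ k, orderOf x = p ^ k) → x ∈ Cfsg.pCore p G := by
  constructor
  · intro h x hx
    obtain ⟨P⟩ : Nonempty (Sylow p G) := inferInstance
    exact Core.le_pCore (h P) P.isPGroup' (pElement_mem_of_sylow_normal (h P) hx)
  · intro h P
    have hle : (P : Subgroup G) ≤ Cfsg.pCore p G := fun x hx => h x (by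
      obtain ⟨k, hk⟩ := IsPGroup.iff_orderOf.mp P.isPGroup' ⟨x, hx⟩
      exact ⟨k, by rw [← hk, Subgroup.orderOf_mk]⟩)
    rw [le_antisymm hle (Core.pCore_le_sylow P)]
    infer_instance

/-- For a normal subgroup, being `p`-closed is decided inside `O_p(G)`. -/
theorem isPClosed_normal_iff {N : Subgroup G} [N.Normal] :
    Cfsg.IsPClosed p N ↔ ∀ x ∈ N, (∃ k, orderOf x = p ^ k) → x ∈ Cfsg.pCore p G := by
  rw [isPClosed_iff]
  constructor
  · intro h x hx hk
    have := h ⟨x, hx⟩ (by simpa using hk)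
    rw [Core.pCore_eq_subgroupOf] at this
    exact this
  · intro h x hk
    rw [Core.pCore_eq_subgroupOf]
    exact h x x.2 (by simpa [Subgroup.orderOf_coe] using hk)

theorem isPClosed_of_isPGroup (h : IsPGroup p G) : Cfsg.IsPClosed p G :=
  isPClosed_iff.mpr fun x _ => by rw [Core.pCore_eq_top h]; exact Subgroup.mem_top x

theorem pResidual_le_of_le_sup {N D : Subgroup G} [N.Normal] [D.Normal] (hD : IsPGroup p D)
    (h : Cfsg.pResidual p G ≤ N ⊔ D) : Cfsg.pResidual p G ≤ N := by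
  set L := Cfsg.pResidual p G
  have h1 : Cfsg.pResidual p L ≤ N.subgroupOf L := by
    refine Core.pResidual_le_of_isPGroup fun q => ?_
    obtain ⟨⟨x, hx⟩, rfl⟩ := QuotientGroup.mk'_surjective _ q
    have hx' := h hx
    rw [← SetLike.mem_coe, Subgroup.normal_mul] at hx'
    obtain ⟨n, hn, d, hd, rfl⟩ := hx'
    obtain ⟨k, hk⟩ := hD ⟨d, hd⟩
    refine ⟨k, ?_⟩
    rw [← map_pow]
    refine (QuotientGroup.eq_one_iff _).mpr ?_
    show (n * d) ^ p ^ k ∈ N
    have hd1 : d ^ p ^ k = 1 := congrArg Subtype.val hk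
    rw [← QuotientGroup.eq_one_iff, QuotientGroup.mk_pow, QuotientGroup.mk_mul,
      (QuotientGroup.eq_one_iff n).mpr hn, one_mul, ← QuotientGroup.mk_pow, hd1, QuotientGroup.mk_one]
  rw [Core.pResidual_pResidual, top_le_iff] at h1
  exact Subgroup.subgroupOf_eq_top.mp h1

/-- Images of subgroups modulo a normal `p`-subgroup. -/
theorem isPClosed_map_iff {N D : Subgroup G} [N.Normal] [D.Normal] (hD : IsPGroup p D) :
    Cfsg.IsPClosed p (N.map (QuotientGroup.mk' D)) ↔ Cfsg.IsPClosed p N := by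
  haveI : (N.map (QuotientGroup.mk' D)).Normal :=
    Subgroup.Normal.map inferInstance _ (QuotientGroup.mk'_surjective D)
  rw [isPClosed_normal_iff, isPClosed_normal_iff]
  have hmem : ∀ x : G, QuotientGroup.mk' D x ∈ Cfsg.pCore p (G ⧸ D) ↔ x ∈ Cfsg.pCore p G := fun x => by
    rw [← Subgroup.mem_comap, Core.comap_pCore_quotient D hD]
  constructor
  · intro h x hx hk
    refine (hmem x).mp (h _ ⟨x, hx, rfl⟩ ?_)
    obtain ⟨k, hk⟩ := hk
    obtain ⟨j, -, hj⟩ := (Nat.dvd_prime_pow hp.out).mp (hk ▸ orderOf_map_dvd (QuotientGroup.mk' D) x)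
    exact ⟨j, hj⟩
  · rintro h _ ⟨x, hx, rfl⟩ ⟨k, hk⟩
    refine (hmem x).mpr (h x hx ?_)
    obtain ⟨j, hj⟩ := hD ⟨x ^ p ^ k, (QuotientGroup.eq_one_iff _).mp (by
      rw [QuotientGroup.mk_pow, ← hk]; exact pow_orderOf_eq_one _)⟩
    have h1 : x ^ p ^ (k + j) = 1 := by
      rw [pow_add, pow_mul]; exact congrArg Subtype.val hj
    obtain ⟨i, -, hi⟩ := (Nat.dvd_prime_pow hp.out).mp (orderOf_dvd_of_pow_eq_one h1)
    exact ⟨i, hi⟩

theorem isPClosed_quotient_iff {D : Subgroup G} [D.Normal] (hD : IsPGroup p D) :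
    Cfsg.IsPClosed p (G ⧸ D) ↔ Cfsg.IsPClosed p G := by
  have hsurj := QuotientGroup.mk'_surjective D
  have hmem : ∀ x : G, QuotientGroup.mk' D x ∈ Cfsg.pCore p (G ⧸ D) ↔ x ∈ Cfsg.pCore p G := fun x => by
    rw [← Subgroup.mem_comap, Core.comap_pCore_quotient D hD]
  rw [isPClosed_iff, isPClosed_iff]
  constructor
  · intro h x hk
    refine (hmem x).mp (h _ ?_)
    obtain ⟨k, hk⟩ := hk
    obtain ⟨j, -, hj⟩ := (Nat.dvd_prime_pow hp.out).mp (hk ▸ orderOf_map_dvd (QuotientGroup.mk' D) x)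
    exact ⟨j, hj⟩
  · intro h q hk
    obtain ⟨x, rfl⟩ := hsurj q
    obtain ⟨k, hk⟩ := hk
    refine (hmem x).mpr (h x ?_)
    obtain ⟨j, hj⟩ := hD ⟨x ^ p ^ k, (QuotientGroup.eq_one_iff _).mp (by
      rw [QuotientGroup.mk_pow, ← hk]; exact pow_orderOf_eq_one _)⟩
    have h1 : x ^ p ^ (k + j) = 1 := by
      rw [pow_add, pow_mul]; exact congrArg Subtype.val hj
    obtain ⟨i, -, hi⟩ := (Nat.dvd_prime_pow hp.out).mp (orderOf_dvd_of_pow_eq_one h1)
    exact ⟨i, hi⟩

end Cfsg.Agent.LocalEven
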