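import Cfsg.Agent.LocalEven.Dagger
import Cfsg.Agent.LocalEven.PClosed
import Cfsg.Agent.S2824

/-!
# Existence of subgroups with the basic property
-/

set_option autoImplicit false
set_option linter.style.haveILetI false

namespace Cfsg.Agent.LocalEven

variable {G : Type*} [Group G] [Finite G] {p : ℕ} [hp : Fact p.Prime]

/-- A minimal supplement of a normal subgroup controls it. -/
theorem supplement_props {M D P C : Subgroup G} (T : Sylow p G) (hTM : (T : Subgroup G) ≤ M)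
    (hD : D ≤ M) (hDn : M ≤ Subgroup.normalizer (D : Set G)) (hDC : D ≤ C)
    (hMC : M ⊔ C = P) (hPC : P ≤ Subgroup.normalizer (C : Set G))
    (hmin : ∀ M' : Subgroup G, M' ≤ M → (T : Subgroup G) ≤ M' → M' ⊔ C = P → M' = M) :
    Cfsg.IsPClosed p ↥D ∧
      (D.subgroupOf M).map (QuotientGroup.mk' (Cfsg.pCore p ↥M)) ≤ frattini (↥M ⧸ Cfsg.pCore p ↥M) := by
  classical
  have hTmax := isMaxP_of_sylow T hTM
  have hTD : IsMaxP p ((T : Subgroup G) ⊓ D) D := hTmax.inf_normal hD hDn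
  set TD := (T : Subgroup G) ⊓ D
  have hN : M ⊓ Subgroup.normalizer (TD : Set G) = M := by
    refine hmin _ inf_le_left (le_inf hTM ((le_inf Subgroup.le_normalizer (hTM.trans hDn)).trans
      Subgroup.inf_normalizer_le_normalizer_inf)) (le_antisymm ((sup_le_sup_right inf_le_left C).trans hMC.le) ?_)
    rw [← hMC]
    refine sup_le (fun m hm => ?_) le_sup_right
    have hsub : cj m TD ≤ D := (cj_mono inf_le_right).trans (cj_eq_self_iff.mpr (hDn hm)).le
    obtain ⟨k, hk, hkT⟩ := hTD.conj_le (isPGroup_cj hTD.2.1) hsub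
    rw [cj_cj] at hkT
    have h1 : k * m ∈ M ⊓ Subgroup.normalizer (TD : Set G) := Subgroup.mem_inf.mpr ⟨mul_mem (hD hk) hm,
      cj_eq_self_iff.mp (Subgroup.eq_of_le_of_card_ge hkT (card_cj _ _).ge)⟩
    rw [show m = k⁻¹ * (k * m) by group]
    exact mul_mem (Subgroup.mem_sup_right (inv_mem (hDC hk))) (Subgroup.mem_sup_left h1)
  have hTDn : M ≤ Subgroup.normalizer (TD : Set G) := inf_eq_left.mp hN
  have hcl : Cfsg.IsPClosed p ↥D := by
    refine isPClosed_iff.mpr fun x hx => ?_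
    haveI : (TD.subgroupOf D).Normal := Subgroup.normal_subgroupOf_of_le_normalizer (hD.trans hTDn)
    obtain ⟨P', hP'⟩ := hTD.exists_sylow
    have hP'n : (P' : Subgroup D).Normal := by
      rw [← Subgroup.comap_map_eq_self_of_injective D.subtype_injective (P' : Subgroup D), hP']
      exact ‹(TD.subgroupOf D).Normal›
    exact Core.le_pCore hP'n P'.isPGroup' (pElement_mem_of_sylow_normal hP'n hx)
  refine ⟨hcl, ?_⟩
  simp only [frattini, Order.radical, le_iInf_iff]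
  intro Mb hMb
  set π := QuotientGroup.mk' (Cfsg.pCore p ↥M) with hπ
  have hsurj : Function.Surjective π := QuotientGroup.mk'_surjective _
  set M₁ := Mb.comap π with hM₁
  rw [Subgroup.map_le_iff_le_comap, ← hM₁]
  by_contra hDM
  have hker : Cfsg.pCore p ↥M ≤ M₁ := fun x hx => by
    show π x ∈ Mb
    rw [(QuotientGroup.eq_one_iff x).mpr hx |> fun h => (h : π x = 1)]
    exact one_mem _
  haveI : (D.subgroupOf M).Normal := Subgroup.normal_subgroupOf_of_le_normalizer hDn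
  have htop : M₁ ⊔ D.subgroupOf M = ⊤ := by
    have hlt : M₁ < M₁ ⊔ D.subgroupOf M := lt_of_le_of_ne le_sup_left fun e => hDM (e ▸ le_sup_right)
    have h1 : ((M₁ ⊔ D.subgroupOf M).map π).comap π = M₁ ⊔ D.subgroupOf M := Subgroup.comap_map_eq_self (by
      rw [QuotientGroup.ker_mk']; exact hker.trans le_sup_left)
    have h2 : Mb < (M₁ ⊔ D.subgroupOf M).map π := by
      rw [← Subgroup.comap_lt_comap_of_surjective hsurj, h1]
      exact hlt
    rw [← h1, hMb.2 _ h2, Subgroup.comap_top]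
  set M₂ := M₁.map M.subtype
  have hM₂M : M₂ ≤ M := Subgroup.map_subtype_le _
  have hM₂ne : M₂ ≠ M := by
    intro e
    refine hDM fun x _ => ?_
    obtain ⟨y, hy, hye⟩ := e.ge x.2
    rwa [← Subtype.ext hye]
  have hcardT : ¬ p ∣ M₁.index := by
    have e1 := Subgroup.relIndex_mul_index (inf_le_left : M₁ ⊓ D.subgroupOf M ≤ M₁)
    have e2 := Subgroup.relIndex_mul_index (inf_le_right : M₁ ⊓ D.subgroupOf M ≤ D.subgroupOf M)
    rw [Subgroup.inf_relIndex_left] at e1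
    rw [Subgroup.inf_relIndex_right] at e2
    have e3 : (D.subgroupOf M).relIndex M₁ = (D.subgroupOf M).index := by
      rw [← Subgroup.relIndex_sup_right, htop, Subgroup.relIndex_top_right]
    rw [e3, ← e2, mul_comm (M₁.relIndex _)] at e1
    rw [Nat.eq_of_mul_eq_mul_left (Nat.pos_of_ne_zero Subgroup.index_ne_zero_of_finite) e1]
    intro hd
    have hle : (TD.subgroupOf M) ≤ M₁ ⊓ D.subgroupOf M := by
      refine le_inf (le_trans ?_ hker) fun x hx => (Subgroup.mem_inf.mp hx).2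
      intro x hx
      obtain ⟨y, hy, hye⟩ := le_op (inf_le_right.trans hD) hTDn hTD.2.1 hx
      rwa [← Subtype.ext hye]
    have h3 : (M₁ ⊓ D.subgroupOf M).relIndex (D.subgroupOf M) ∣ (TD.subgroupOf M).relIndex (D.subgroupOf M) :=
      Subgroup.relIndex_dvd_of_le_left _ hle
    rw [Subgroup.inf_relIndex_right] at h3
    rw [Subgroup.relIndex_subgroupOf hD] at h3
    exact hTD.not_dvd_relIndex (hd.trans h3)
  obtain ⟨Q⟩ : Nonempty (Sylow p M₁) := inferInstance
  set Q' := ((Q : Subgroup M₁).map M₁.subtype).map M.subtype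
  obtain ⟨k, hk, hkT⟩ := hTmax.conj_le (P := Q') ((Q.isPGroup'.map _).map _) (Subgroup.map_subtype_le _)
  have hQcard : Nat.card Q' = Nat.card T := by
    rw [Core.card_map_subtype, Core.card_map_subtype]
    obtain ⟨T', hT'⟩ : ∃ T' : Sylow p M, (T' : Subgroup M).map M.subtype = (T : Subgroup G) := hTmax.exists_sylow
    rw [← show Nat.card ↥((T' : Subgroup M).map M.subtype) = Nat.card T by rw [hT'], Core.card_map_subtype,
      Q.card_eq_multiplicity, T'.card_eq_multiplicity, ← Subgroup.card_mul_index M₁,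
      Nat.factorization_mul Nat.card_pos.ne' Subgroup.index_ne_zero_of_finite, Finsupp.add_apply,
      Nat.factorization_eq_zero_of_not_dvd hcardT, add_zero]
  have hkQ : cj k Q' = (T : Subgroup G) := Subgroup.eq_of_le_of_card_ge hkT (by rw [card_cj, hQcard])
  have hcjM : cj k M = M := cj_eq_self_iff.mpr (Subgroup.le_normalizer hk)
  have hkP : cj k P = P := cj_eq_self_iff.mpr (Subgroup.le_normalizer (hMC ▸ Subgroup.mem_sup_left hk))
  have hkC : cj k C = C := cj_eq_self_iff.mpr (hPC (hMC ▸ Subgroup.mem_sup_left hk))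
  have hM₂P : M₂ ⊔ C = P := by
    refine le_antisymm ((sup_le_sup_right hM₂M C).trans hMC.le) ?_
    rw [← hMC]
    refine sup_le ?_ le_sup_right
    intro x hx
    have h1 : (⟨x, hx⟩ : M) ∈ M₁ ⊔ D.subgroupOf M := by rw [htop]; exact Subgroup.mem_top _
    have h2 := Subgroup.mem_map_of_mem M.subtype h1
    rw [Subgroup.map_sup, Subgroup.subgroupOf_map_subtype] at h2
    exact sup_le_sup_left (inf_le_left.trans hDC) M₂ h2
  have h4 := hmin (cj k M₂) ((cj_mono hM₂M).trans hcjM.le)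
    (hkQ ▸ cj_mono (Subgroup.map_mono (Subgroup.map_subtype_le _))) (by
      have : cj k (M₂ ⊔ C) = cj k M₂ ⊔ cj k C := Subgroup.map_sup _ _ _
      rw [hkC, hM₂P, hkP] at this
      exact this.symm)
  exact hM₂ne (Subgroup.eq_of_le_of_card_ge hM₂M (by rw [← card_cj k M₂, h4]))

theorem exists_frakM (hH : Cfsg.IsOfParabolicCharacteristic p G) (T : Sylow p G) {L : Subgroup G}
    (hTL : (T : Subgroup G) ≤ L) (hL : L ∈ Cfsg.charPSubgroups p G) :
    ∃ M Ls : Subgroup G, (T : Subgroup G) ≤ M ∧ Cfsg.IsInFrakM p M ∧ (T : Subgroup G) ≤ Ls ∧ Ls ≤ M ∧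
      Ls ∈ Cfsg.charPSubgroups p G ∧ Cfsg.largestPReducedOf p L = Cfsg.largestPReducedOf p Ls ∧
      Cfsg.largestPReducedOf p L ≤ Cfsg.largestPReducedOf p M ∧
      L ⊔ Subgroup.centralizer (Cfsg.largestPReducedOf p L : Set G) =
        Ls ⊔ Subgroup.centralizer (Cfsg.largestPReducedOf p L : Set G) := by
  classical
  set YL := Cfsg.largestPReducedOf p L with hYL
  set CL := Subgroup.centralizer (YL : Set G)
  let R : Set (Subgroup G) := {X | X ∈ Cfsg.charPSubgroups p G ∧ (T : Subgroup G) ≤ X ∧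
    ∃ Ls : Subgroup G, Ls ≤ X ∧ (T : Subgroup G) ≤ Ls ∧ Ls ∈ Cfsg.charPSubgroups p G ∧
      Cfsg.largestPReducedOf p Ls = YL ∧ L ⊔ CL = Ls ⊔ CL}
  obtain ⟨X₁, hX₁, hmaxY⟩ := (Set.toFinite R).exists_maximalFor (fun X => Nat.card (Cfsg.largestPReducedOf p X)) _
    ⟨L, hL, hTL, L, le_rfl, hTL, hL, rfl, rfl⟩
  obtain ⟨P, ⟨hPR, hPY⟩, hPmax⟩ :=
    (Set.toFinite {X ∈ R | Nat.card (Cfsg.largestPReducedOf p X) = Nat.card (Cfsg.largestPReducedOf p X₁)}).exists_maximalFor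
      id _ ⟨X₁, hX₁, rfl⟩
  obtain ⟨hP, hTP, Ls₀, hLs₀P, hTLs₀, hLs₀, hYLs₀, hLsfac⟩ := hPR
  have hup : ∀ X : Subgroup G, Ls₀ ≤ X → X ∈ Cfsg.charPSubgroups p G → X ∈ R := fun X hle hX =>
    ⟨hX, hTLs₀.trans hle, Ls₀, hle, hTLs₀, hLs₀, hYLs₀, hLsfac⟩
  have hstable : ∀ X : Subgroup G, P ≤ X → X ∈ Cfsg.charPSubgroups p G → X = P := by
    intro X hPX hX
    have hXR : X ∈ R := ⟨hX, hTP.trans hPX, Ls₀, hLs₀P.trans hPX, hTLs₀, hLs₀, hYLs₀, hLsfac⟩
    have h1 : Nat.card (Cfsg.largestPReducedOf p P) ≤ Nat.card (Cfsg.largestPReducedOf p X) :=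
      Subgroup.card_le_of_le (largestOf_mono T hTP hPX hX)
    have h2 : Nat.card (Cfsg.largestPReducedOf p X₁) ≤ Nat.card (Cfsg.largestPReducedOf p X) := hPY ▸ h1
    have h3 : Nat.card (Cfsg.largestPReducedOf p X) = Nat.card (Cfsg.largestPReducedOf p X₁) :=
      le_antisymm (hmaxY (j := X) hXR h2) h2
    exact le_antisymm (hPmax (j := X) ⟨hXR, h3⟩ hPX) hPX
  set YP := Cfsg.largestPReducedOf p P with hYP
  set CP := Subgroup.centralizer (YP : Set G)
  have hYPne : YP ≠ ⊥ := largestOf_ne_bot T hTP hP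
  have hPN : P ≤ Subgroup.normalizer (YP : Set G) := le_normalizer_largestOf P
  have hNP : Subgroup.normalizer (YP : Set G) = P :=
    hstable _ hPN (normalizer_mem_charP hH T (largestOf_isPGroup P) hYPne (hTP.trans hPN))
  have hCPP : CP ≤ P := hNP ▸ Subgroup.centralizer_le_normalizer _
  have hPCP : P ≤ Subgroup.normalizer (CP : Set G) := hPN.trans (normalizer_le_normalizer_cent _)
  obtain ⟨M, ⟨hTM, hMP, hMC⟩, hMmin⟩ :=
    (Set.toFinite {M : Subgroup G | (T : Subgroup G) ≤ M ∧ M ≤ P ∧ M ⊔ CP = P}).exists_minimalFor id _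
      ⟨P, hTP, le_rfl, sup_eq_left.mpr hCPP⟩
  have hYPT : YP ≤ (T : Subgroup G) := largestOf_le_sylow T hTP
  have hM : M ∈ Cfsg.charPSubgroups p G :=
    mem_charP_of_normalized hH T hTM (largestOf_isPGroup P) hYPne (hMP.trans hPN) (hYPT.trans hTM)
  have hYM : Cfsg.largestPReducedOf p M = YP := by
    refine le_antisymm (largestOf_mono T hTM hMP hP) ?_
    refine le_largestOf (hYPT.trans hTM) (reduced_of_factor (largestOf_le P) (hYPT.trans hTM) (largestOf_reduced P) ?_)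
    rw [hMC]
    exact (sup_eq_left.mpr hCPP).symm
  -- the subgroup `Ls`
  have hYLs₀P : YL ≤ YP := hYLs₀ ▸ largestOf_mono T hTLs₀ hLs₀P hP
  have hCPL : CP ≤ CL := Subgroup.centralizer_le hYLs₀P
  set M₁ := M ⊓ (Ls₀ ⊔ CL)
  have hTM₁ : (T : Subgroup G) ≤ M₁ := le_inf hTM (hTLs₀.trans le_sup_left)
  have hLs₀N : Ls₀ ≤ Subgroup.normalizer (YL : Set G) := hYLs₀ ▸ le_normalizer_largestOf Ls₀
  have hM₁N : M₁ ≤ Subgroup.normalizer (YL : Set G) :=
    inf_le_right.trans (sup_le hLs₀N (Subgroup.centralizer_le_normalizer _))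
  have hYLne : YL ≠ ⊥ := largestOf_ne_bot T hTL hL
  have hYLp : IsPGroup p YL := largestOf_isPGroup L
  have hM₁c : M₁ ∈ Cfsg.charPSubgroups p G :=
    mem_charP_of_normalized hH T hTM₁ hYLp hYLne hM₁N ((largestOf_le_sylow T hTL).trans hTM₁)
  have hfac : M₁ ⊔ CL = Ls₀ ⊔ CL := by
    refine le_antisymm (sup_le inf_le_right le_sup_right) (sup_le (fun x hx => ?_) le_sup_right)
    have hx' : x ∈ M ⊔ CP := hMC ▸ hLs₀P hx
    rw [← SetLike.mem_coe, Subgroup.coe_mul_of_left_le_normalizer_right _ _ (hMP.trans hPCP)] at hx'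
    obtain ⟨m, hm, c, hc, rfl⟩ := hx'
    have hm' : m ∈ Ls₀ ⊔ CL := by
      have := mul_mem (Subgroup.mem_sup_left hx : m * c ∈ Ls₀ ⊔ CL) (inv_mem (Subgroup.mem_sup_right (hCPL hc)))
      simpa using this
    exact mul_mem (Subgroup.mem_sup_left (Subgroup.mem_inf.mpr ⟨hm, hm'⟩)) (Subgroup.mem_sup_right (hCPL hc))
  obtain ⟨hY₁, hfac₁⟩ := S2824.result T Ls₀ M₁ hTLs₀ hTM₁ ((charP_iff _).mpr (mem_charP_inf hLs₀))
    ((charP_iff _).mpr (mem_charP_inf hM₁c)) _ rfl (by rw [hYLs₀]; exact hfac) _ rfl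
  set T₀ := (T : Subgroup G) ⊓ Subgroup.centralizer (Cfsg.largestPReducedOf p Ls₀ : Set G)
  set Ls := M₁ ⊓ Subgroup.normalizer (T₀ : Set G)
  have hTLs : (T : Subgroup G) ≤ Ls := le_inf hTM₁ ((le_inf Subgroup.le_normalizer
    ((hTLs₀.trans (le_normalizer_largestOf Ls₀)).trans (normalizer_le_normalizer_cent _))).trans
      Subgroup.inf_normalizer_le_normalizer_inf)
  have hLsM : Ls ≤ M := inf_le_left.trans inf_le_left
  have hLsc : Ls ∈ Cfsg.charPSubgroups p G :=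
    mem_charP_of_normalized hH T hTLs hYLp hYLne (inf_le_left.trans hM₁N) ((largestOf_le_sylow T hTL).trans hTLs)
  rw [hYLs₀] at hY₁ hfac₁
  have hfin : L ⊔ CL = Ls ⊔ CL := hLsfac.trans hfac₁
  have hLsR : ∀ X : Subgroup G, Ls ≤ X → X ∈ Cfsg.charPSubgroups p G → X ∈ R := fun X hle hX =>
    ⟨hX, hTLs.trans hle, Ls, hle, hTLs, hLsc, hY₁, hfin⟩
  refine ⟨M, Ls, hTM, ⟨hM, ?_, ?_, ?_, ?_⟩, hTLs, hLsM, hLsc, hY₁.symm, hYM ▸ hYLs₀P, hfin⟩
  all_goals rw [hYM]
  · rw [hMC]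
    exact ⟨hP, fun X hX hPX => hstable X hPX hX⟩
  · intro X hX hMX
    rw [hMC]
    have hXR := hLsR X (hLsM.trans hMX) hX.1
    have h1 : YP ≤ Cfsg.largestPReducedOf p X := hYM ▸ largestOf_mono T hTM hMX hX.1
    have h2 : Nat.card (Cfsg.largestPReducedOf p X₁) ≤ Nat.card (Cfsg.largestPReducedOf p X) :=
      hPY ▸ Subgroup.card_le_of_le h1
    have h3 : Nat.card (Cfsg.largestPReducedOf p X) ≤ Nat.card YP := (hmaxY (j := X) hXR h2).trans hPY.ge
    have h4 : Cfsg.largestPReducedOf p X = YP := (Subgroup.eq_of_le_of_card_ge h1 h3).symm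
    exact (hX.2 P hP ((le_normalizer_largestOf X).trans (h4 ▸ hNP.le))).symm
  · rw [hMC]
  · set D := M ⊓ CP
    obtain ⟨h1, h2⟩ := supplement_props (D := D) (P := P) (C := CP) T hTM inf_le_left
      ((le_inf Subgroup.le_normalizer (hMP.trans hPCP)).trans Subgroup.inf_normalizer_le_normalizer_inf)
      inf_le_right hMC hPCP fun M' hM' hT' h => le_antisymm hM' (hMmin (j := M') ⟨hT', hM'.trans hMP, h⟩ hM')
    exact ⟨h1, h2⟩

end Cfsg.Agent.LocalEven
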