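import Cfsg.Agent.LocalEven.InvertedZJ

/-!
A group whose Sylow `2`-subgroup is not normal has an inverted element of odd prime order.
-/

set_option autoImplicit false
set_option linter.style.haveILetI false

namespace Cfsg.Agent.LocalEven

open Subgroup Cfsg Cfsg.Agent

universe u

variable {G : Type u} [Group G] [Finite G]

/-- Two involutions whose product has `2`-power order generate a `2`-group; otherwise a power of the
product has odd prime order and is inverted. -/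
theorem exists_inverted_of_pair {u v : G} (hu : u * u = 1) (hv : v * v = 1)
    (h : ¬ IsPGroup 2 ↥(zpowers u ⊔ zpowers v)) :
    ∃ (q : ℕ), q.Prime ∧ q ≠ 2 ∧ ∃ y : G, y ≠ 1 ∧ y ^ q = 1 ∧ u * y * u⁻¹ = y⁻¹ := by
  haveI := Fact.mk Nat.prime_two
  set z := u * v with hz
  have hui : u⁻¹ = u := inv_eq_of_mul_eq_one_right hu
  have hzi : u * z * u⁻¹ = z⁻¹ := by
    rw [hz, hui, mul_inv_rev, hui, inv_eq_of_mul_eq_one_right hv, ← mul_assoc u u v, hu, one_mul]
  obtain ⟨q, hq, hqd, hq2⟩ : ∃ q, q.Prime ∧ q ∣ orderOf z ∧ q ≠ 2 := by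
    by_contra hall
    push Not at hall
    apply h
    have hzp : IsPGroup 2 (zpowers z) := IsPGroup.of_card (n := (orderOf z).primeFactorsList.length) (by
      rw [Nat.card_zpowers]
      exact Nat.eq_prime_pow_of_unique_prime_dvd (orderOf_pos z).ne' (fun {d} hd hdd => hall d hd hdd))
    have hup : IsPGroup 2 (zpowers u) := by
      obtain ⟨j, -, hj⟩ := (Nat.dvd_prime_pow Nat.prime_two).mp
        (orderOf_dvd_of_pow_eq_one (show u ^ (2 ^ 1) = 1 by rw [pow_one, pow_two, hu]))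
      exact IsPGroup.of_card (n := j) (by rw [Nat.card_zpowers, hj])
    have hnorm : zpowers u ≤ normalizer (zpowers z : Set G) := by
      rw [zpowers_le, Subgroup.mem_normalizer_iff_map_conj_eq, MonoidHom.map_zpowers]
      show zpowers (u * z * u⁻¹) = _
      rw [hzi, Subgroup.zpowers_inv]
    refine (IsPGroup.to_sup_of_normal_right' hup hzp hnorm).to_le (sup_le le_sup_left ?_)
    rw [zpowers_le, show v = u⁻¹ * z by rw [hz, inv_mul_cancel_left]]
    exact mul_mem (inv_mem (mem_sup_left (mem_zpowers u))) (mem_sup_right (mem_zpowers z))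
  refine ⟨q, hq, hq2, z ^ (orderOf z / q), fun e => ?_, ?_, ?_⟩
  · have h1 := orderOf_dvd_of_pow_eq_one e
    have h2 : orderOf z / q < orderOf z := Nat.div_lt_self (orderOf_pos z) hq.one_lt
    exact absurd (Nat.le_of_dvd (Nat.div_pos (Nat.le_of_dvd (orderOf_pos z) hqd) hq.pos) h1) (not_le.mpr h2)
  · rw [← pow_mul, Nat.div_mul_cancel hqd, pow_orderOf_eq_one]
  · rw [← conj_pow, hzi, inv_pow]

/-- A group whose Sylow `2`-subgroup is not normal inverts an element of odd prime power order. -/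
theorem exists_hasInv_of_not_normal (P : Sylow 2 G) (hP : ¬ (P : Subgroup G).Normal) :
    ∃ q : ℕ, q.Prime ∧ q ≠ 2 ∧ HasInv q (⊤ : Subgroup G) := by
  haveI := Fact.mk Nat.prime_two
  set O := pCore 2 G with hO
  set π := QuotientGroup.mk' O with hπ
  have hπs : Function.Surjective π := QuotientGroup.mk'_surjective O
  set P₁ : Sylow 2 (G ⧸ O) := P.mapSurjective hπs with hP₁
  have hP₁ne : (P₁ : Subgroup (G ⧸ O)) ≠ ⊥ := by
    intro e
    rw [hP₁, Sylow.coe_mapSurjective, Subgroup.map_eq_bot_iff, hπ, QuotientGroup.ker_mk'] at e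
    exact hP (le_antisymm e (Core.pCore_le_sylow P) ▸ (inferInstance : O.Normal))
  have h2d : 2 ∣ Nat.card P₁ := by
    obtain ⟨k, hk⟩ := IsPGroup.iff_card.mp P₁.2
    refine hk ▸ dvd_pow_self 2 fun h0 => hP₁ne ?_
    rw [h0, pow_zero] at hk
    exact Subgroup.eq_bot_of_card_eq _ hk
  obtain ⟨u, hu⟩ := exists_prime_orderOf_dvd_card' 2 h2d
  have hu2 : (u : G ⧸ O) * u = 1 := by
    have := pow_orderOf_eq_one u
    rw [hu, pow_two] at this
    exact congrArg Subtype.val this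
  have hu1 : (u : G ⧸ O) ≠ 1 := by
    intro e
    rw [show u = 1 from Subtype.ext e, orderOf_one] at hu
    norm_num at hu
  have hcore : pCore 2 (G ⧸ O) = ⊥ := Core.pCore_quotient_pCore 2 G
  obtain ⟨c, hc⟩ : ∃ c : G ⧸ O, ¬ IsPGroup 2 ↥(zpowers (u : G ⧸ O) ⊔ zpowers (c * u * c⁻¹)) := by
    by_contra hcon
    push Not at hcon
    obtain ⟨N, hN, hNp, hle⟩ := Components.baer_suzuki (p := 2) (zpowers (u : G ⧸ O)) (fun g => by
      rw [MonoidHom.map_zpowers]
      exact hcon g)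
    exact hu1 (mem_bot.mp (hcore ▸ Core.le_pCore hN hNp (hle (mem_zpowers _))))
  have hv2 : c * (u : G ⧸ O) * c⁻¹ * (c * u * c⁻¹) = 1 := by
    calc c * (u : G ⧸ O) * c⁻¹ * (c * u * c⁻¹) = c * ((u : G ⧸ O) * u) * c⁻¹ := by group
      _ = 1 := by rw [hu2]; group
  obtain ⟨q, hq, hq2, y, hy1, hyq, hyinv⟩ := exists_inverted_of_pair hu2 hv2 hc
  haveI := Fact.mk hq
  obtain ⟨y', rfl⟩ := hπs y
  obtain ⟨g, hg⟩ := hπs (u : G ⧸ O)
  refine ⟨q, hq, hq2, hasInv_lift π ?_ (x := y') (g := g) hy1 ⟨1, by rw [pow_one]; exact hyq⟩ (by rw [hg]; exact hyinv)⟩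
  rw [hπ, QuotientGroup.ker_mk']
  obtain ⟨k, hk⟩ := IsPGroup.iff_card.mp (Core.isPGroup_pCore 2 G)
  rw [hk]
  exact ((Nat.coprime_primes Nat.prime_two hq).mpr (Ne.symm hq2)).pow_left k

/-- A group with normal Sylow `2`-subgroup inverts no nontrivial element of odd prime power order. -/
theorem not_hasInv_of_normal {q : ℕ} [hq : Fact q.Prime] (hq2 : q ≠ 2) {N : Subgroup G}
    (P : Sylow 2 N) (hP : (P : Subgroup N).Normal) : ¬ HasInv q N := by
  intro h
  haveI := Fact.mk Nat.prime_two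
  haveI := hP
  obtain ⟨x, hx, g, hg, hx1, ⟨k, hk⟩, hinv, ⟨l, hl⟩⟩ := h.two hq2
  have hgz : IsPGroup 2 (zpowers (⟨g, hg⟩ : N)) := by
    obtain ⟨j, -, hj⟩ := (Nat.dvd_prime_pow Nat.prime_two).mp
      (orderOf_dvd_of_pow_eq_one (show (⟨g, hg⟩ : N) ^ 2 ^ l = 1 from Subtype.ext hl))
    exact IsPGroup.of_card (n := j) (by rw [Nat.card_zpowers, hj])
  have hgP : (⟨g, hg⟩ : N) ∈ (P : Subgroup N) := by
    have e := P.3 (hgz.to_sup_of_normal_right P.2) le_sup_right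
    exact e.le (mem_sup_left (mem_zpowers _))
  have hxx : (⟨x, hx⟩ : N) ^ 2 ∈ (P : Subgroup N) := by
    have h1 := hP.conj_mem _ hgP ⟨x, hx⟩
    have h2 := (P : Subgroup N).mul_mem h1 ((P : Subgroup N).inv_mem hgP)
    have e : (⟨x, hx⟩ : N) * ⟨g, hg⟩ * (⟨x, hx⟩ : N)⁻¹ * (⟨g, hg⟩ : N)⁻¹ = ⟨x, hx⟩ ^ 2 := by
      apply Subtype.ext
      show x * g * x⁻¹ * g⁻¹ = x ^ 2
      calc x * g * x⁻¹ * g⁻¹ = x * (g * x * g⁻¹)⁻¹ := by group
        _ = x ^ 2 := by rw [hinv, inv_inv, pow_two]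
    rwa [e] at h2
  obtain ⟨j, hj⟩ := P.2 ⟨_, hxx⟩
  have hj' : x ^ 2 ^ (j + 1) = 1 := by
    rw [pow_succ', pow_mul]
    exact congrArg Subtype.val (congrArg Subtype.val hj)
  have h3 := pow_gcd_eq_one.mpr ⟨hj', hk⟩
  rw [(((Nat.coprime_primes Nat.prime_two hq.out).mpr (Ne.symm hq2)).pow _ _).gcd_eq_one, pow_one] at h3
  exact hx1 h3

/-- A normal Sylow `2`-subgroup passes to subgroups. -/
theorem normal_sylow_two_sub (h : ∀ P : Sylow 2 G, (P : Subgroup G).Normal) (N : Subgroup G)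
    (P : Sylow 2 N) : (P : Subgroup N).Normal := by
  haveI := Fact.mk Nat.prime_two
  obtain ⟨P₀⟩ : Nonempty (Sylow 2 G) := inferInstance
  haveI := h P₀
  have hn : ((P₀ : Subgroup G).subgroupOf N).Normal := inferInstance
  have hle : (P : Subgroup N) = (P₀ : Subgroup G).subgroupOf N := by
    refine (P.3 ((P₀.2).comap_subtype) fun x hx => ?_).symm
    have hs : (P : Subgroup N).map N.subtype ⊔ (P₀ : Subgroup G) = P₀ :=
      P₀.3 ((P.2.map _).to_sup_of_normal_right P₀.2) le_sup_right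
    exact hs.le (mem_sup_left ⟨x, hx, rfl⟩)
  rw [hle]; exact hn

/-- The equivalences. -/
theorem normal_sylow_two_iff :
    ((∀ P : Sylow 2 G, (P : Subgroup G).Normal) ↔ ∀ (q : ℕ) [Fact q.Prime], q ≠ 2 → q ∣ Nat.card G →
      ∀ T : Sylow q G, ∀ P : Sylow 2 ↥(normalizer (centerThompsonAOf (T : Subgroup G) : Set G)),
        (P : Subgroup ↥(normalizer (centerThompsonAOf (T : Subgroup G) : Set G))).Normal) ∧
    ((∀ P : Sylow 2 G, (P : Subgroup G).Normal) ↔ ∀ (q : ℕ) [Fact q.Prime], q ≠ 2 →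
      ∀ T : Sylow q G, ∀ x ∈ (T : Subgroup G), x ≠ 1 →
        ∀ g ∈ normalizer (centerThompsonAOf (T : Subgroup G) : Set G), g * x * g⁻¹ ≠ x⁻¹) := by
  haveI := Fact.mk Nat.prime_two
  have hc : (∀ (q : ℕ) [Fact q.Prime], q ≠ 2 → ∀ T : Sylow q G, ∀ x ∈ (T : Subgroup G), x ≠ 1 →
      ∀ g ∈ normalizer (centerThompsonAOf (T : Subgroup G) : Set G), g * x * g⁻¹ ≠ x⁻¹) →
      ∀ P : Sylow 2 G, (P : Subgroup G).Normal := by
    intro h P
    by_contra hP
    obtain ⟨q, hq, hq2, hi⟩ := exists_hasInv_of_not_normal P hP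
    haveI := Fact.mk hq
    obtain ⟨T⟩ : Nonempty (Sylow q G) := inferInstance
    set N := normalizer (centerThompsonAOf (T : Subgroup G) : Set G) with hN
    obtain ⟨x, hx, g, hg, hx1, ⟨k, hk⟩, hinv⟩ := hasInv_zj hq2 _ G rfl hi T
    have hTN : (T : Subgroup G) ≤ N := Subgroup.le_normalizer.trans (normalizer_le_zj hq2 T.2)
    have hxz : IsPGroup q (zpowers (⟨x, hx⟩ : N)) := by
      obtain ⟨j, -, hj⟩ := (Nat.dvd_prime_pow hq).mp
        (orderOf_dvd_of_pow_eq_one (show (⟨x, hx⟩ : N) ^ q ^ k = 1 from Subtype.ext hk))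
      exact IsPGroup.of_card (n := j) (by rw [Nat.card_zpowers, hj])
    obtain ⟨S₁, hS₁⟩ := hxz.exists_le_sylow
    obtain ⟨c, hc⟩ := MulAction.exists_smul_eq N S₁ (T.subtype hTN)
    have hmem : c * (⟨x, hx⟩ : N) * c⁻¹ ∈ (T : Subgroup G).subgroupOf N := by
      rw [← Sylow.coe_subtype (h := hTN), ← hc, Sylow.coe_subgroup_smul]
      exact ⟨_, hS₁ (mem_zpowers _), rfl⟩
    refine h q hq2 T ((c : G) * x * (c : G)⁻¹) hmem (fun e => hx1 (conj_eq_one_iff.mp e))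
      ((c : G) * g * (c : G)⁻¹) (N.mul_mem (N.mul_mem c.2 hg) (N.inv_mem c.2)) ?_
    calc (c : G) * g * (c : G)⁻¹ * ((c : G) * x * (c : G)⁻¹) * ((c : G) * g * (c : G)⁻¹)⁻¹
        = (c : G) * (g * x * g⁻¹) * (c : G)⁻¹ := by group
      _ = ((c : G) * x * (c : G)⁻¹)⁻¹ := by rw [hinv]; group
  have hbc : (∀ (q : ℕ) [Fact q.Prime], q ≠ 2 → q ∣ Nat.card G → ∀ T : Sylow q G,
      ∀ P : Sylow 2 ↥(normalizer (centerThompsonAOf (T : Subgroup G) : Set G)),
        (P : Subgroup ↥(normalizer (centerThompsonAOf (T : Subgroup G) : Set G))).Normal) →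
      ∀ (q : ℕ) [Fact q.Prime], q ≠ 2 → ∀ T : Sylow q G, ∀ x ∈ (T : Subgroup G), x ≠ 1 →
        ∀ g ∈ normalizer (centerThompsonAOf (T : Subgroup G) : Set G), g * x * g⁻¹ ≠ x⁻¹ := by
    intro h q hq hq2 T x hx hx1 g hg e
    obtain ⟨k, hk⟩ := T.2 ⟨x, hx⟩
    have hk' : x ^ q ^ k = 1 := congrArg Subtype.val hk
    have hd : q ∣ Nat.card G := by
      obtain ⟨j, -, hj⟩ := (Nat.dvd_prime_pow hq.out).mp (orderOf_dvd_of_pow_eq_one hk')
      rcases j with _ | j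
      · exact absurd (orderOf_eq_one_iff.mp (by simpa using hj)) hx1
      · exact (dvd_pow_self q j.succ_ne_zero).trans (hj ▸ orderOf_dvd_natCard x)
    obtain ⟨P⟩ : Nonempty (Sylow 2 ↥(normalizer (centerThompsonAOf (T : Subgroup G) : Set G))) := inferInstance
    exact not_hasInv_of_normal hq2 P (h q hq2 hd T P)
      ⟨x, Subgroup.le_normalizer.trans (normalizer_le_zj hq2 T.2) hx, g, hg, hx1, ⟨k, hk'⟩, e⟩
  exact ⟨⟨fun h q _ _ _ T P => normal_sylow_two_sub h _ P, fun h => hc (hbc h)⟩,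
    ⟨fun h => hbc (fun q _ _ _ T P => normal_sylow_two_sub h _ P), hc⟩⟩

end Cfsg.Agent.LocalEven
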