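import Cfsg.Agent.FusionZJ.ClosedZJ

/-!
The ZJ theorem with stability only assumed for the elements of the abelian subgroups of largest order.
-/

set_option autoImplicit false
set_option linter.style.haveILetI false
set_option linter.unusedSectionVars false

namespace Cfsg.Agent.LocalEven

open Subgroup Cfsg Cfsg.Agent Cfsg.Agent.PLocal Cfsg.Agent.FusionZJ
open scoped commutatorElement

variable {G : Type*} [Group G] {P : Subgroup G → Prop}
variable [Finite G] {p : ℕ} [Fact p.Prime]

/-- A member of largest order normalized by `B` contains `B`. -/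
theorem le_of_normalized_members (hP : ReplClass p G P) (S : Sylow p G) {D : Subgroup G}
    (hD : ClosedIn S D) (B : Subgroup G) [B.Normal]
    (hB : Subgroup.normalClosure ((B ⊓ zMax P D : Subgroup G) : Set G) = B)
    {A : Subgroup G} (hA : A ∈ maxIn P D) (hBN : B ≤ normalizer (A : Set G))
    (hst : ∀ a ∈ A, ⁅⁅B, zpowers a⁆, zpowers a⁆ = ⊥ →
        (QuotientGroup.mk a : G ⧸ centralizer (B : Set G)) ∈ pCore p (G ⧸ centralizer (B : Set G))) :
    B ≤ A := by
  set C := centralizer (B : Set G) with hC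
  set L := (pCore p (G ⧸ C)).comap (QuotientGroup.mk' C) with hL
  haveI : L.Normal := Subgroup.Normal.comap inferInstance _
  have hAcomm : ⁅A, A⁆ = ⊥ := by
    haveI := hP.comm A hA.2.1
    exact commutator_eq_bot_iff_le_centralizer.mpr (le_centralizer_iff_isMulCommutative.mpr inferInstance)
  have hAL : A ≤ L := by
    intro a ha
    refine hst a ha (le_bot_iff.mp ?_)
    have h1 : ⁅B, A⁆ ≤ A := by
      rw [commutator_le]
      intro x hx y hy
      rw [commutatorElement_def]
      exact mul_mem ((mem_normalizer_iff.mp (hBN hx) y).mp hy) (inv_mem hy)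
    calc ⁅⁅B, zpowers a⁆, zpowers a⁆ ≤ ⁅⁅B, A⁆, A⁆ :=
          commutator_mono (commutator_mono le_rfl (zpowers_le.mpr ha)) (zpowers_le.mpr ha)
      _ ≤ ⁅A, A⁆ := commutator_mono h1 le_rfl
      _ = ⊥ := hAcomm
  have hCL : C ≤ L := fun x hx => by
    rw [hL, Subgroup.mem_comap, QuotientGroup.mk'_apply, (QuotientGroup.eq_one_iff x).mpr hx]
    exact one_mem _
  have hk : ∃ k, C.relIndex L ∣ p ^ k := by
    obtain ⟨k, hk⟩ := IsPGroup.iff_card.mp (Core.isPGroup_pCore p (G ⧸ C))
    refine ⟨k, ?_⟩
    have hc := Subgroup.relIndex_comap (⊥ : Subgroup (G ⧸ C)) (QuotientGroup.mk' C) L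
    rw [MonoidHom.comap_bot, QuotientGroup.ker_mk', hL,
      Subgroup.map_comap_eq_self_of_surjective (QuotientGroup.mk'_surjective C),
      Subgroup.relIndex_bot_left, hk] at hc
    exact hc.dvd
  have hG : C ⊔ normalizer ((D ⊓ L : Subgroup G) : Set G) = ⊤ := top_le_iff.mp
    ((normalizer_inf_sup_eq_top S L C hCL hk).ge.trans (sup_le_sup_left (hD.normalizer_inf_le L) C))
  set SL := D ⊓ L with hSL
  have hASL : A ∈ maxIn P SL :=
    ⟨le_inf hA.1 hAL, hA.2.1, fun E hE hE' => hA.2.2 E (hE.trans inf_le_left) hE'⟩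
  have hZ1 : zMax P D ≤ zMax P SL := le_sInf fun E hE =>
    zMax_le_mem (maxIn_subset_of_le inf_le_left hA hASL.1 hE)
  rw [← hB]
  refine (Subgroup.closure_le _).mpr fun g hg => ?_
  obtain ⟨w, hw, hwg⟩ := Group.mem_conjugatesOfSet_iff.mp hg
  obtain ⟨y, rfl⟩ := isConj_iff.mp hwg
  obtain ⟨cc, hcc, n, hn, rfl⟩ := Coprime.exists_mul_of_mem_sup
    (le_of_le_of_eq le_top (Subgroup.normalizer_eq_top C).symm)
    (show y ∈ C ⊔ normalizer (SL : Set G) by rw [hG]; trivial)
  obtain ⟨hwB, hwZ⟩ := mem_inf.mp hw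
  have hstep : n * w * n⁻¹ ∈ zMax P SL :=
    (mem_normalizer_iff.mp (normalizer_le_normalizer_zMax hP.map SL hn) w).mp (hZ1 hwZ)
  have hfix : cc * (n * w * n⁻¹) * cc⁻¹ = n * w * n⁻¹ := by
    rw [← mem_centralizer_iff.mp hcc _ ((inferInstance : B.Normal).conj_mem w hwB n), mul_inv_cancel_right]
  rw [SetLike.mem_coe, mul_inv_rev, show cc * n * w * (n⁻¹ * cc⁻¹) = cc * (n * w * n⁻¹) * cc⁻¹ by group, hfix]
  exact zMax_le_mem hASL hstep


/-- The intersection of a normal `p`-subgroup with `zMax` of a Sylow subgroup is normal. -/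
theorem inf_zMax_normal_members (hP : ReplClass p G P) (hp : p ≠ 2) (S : Sylow p G) {D₀ : Subgroup G}
    (hD₀ : ClosedIn S D₀)
    (hst : ∀ (Q : Subgroup G) [Q.Normal], IsPGroup p Q → ∀ A ∈ maxIn P D₀, ∀ a ∈ A,
      ⁅⁅Q, zpowers a⁆, zpowers a⁆ = ⊥ →
        (QuotientGroup.mk a : G ⧸ centralizer (Q : Set G)) ∈ pCore p (G ⧸ centralizer (Q : Set G))) :
    ∀ (n : ℕ) (B : Subgroup G) [B.Normal], Nat.card B ≤ n → IsPGroup p B → B ≤ D₀ →
      (B ⊓ zMax P D₀).Normal := by
  intro n
  induction n with
  | zero => intro B _ h; exact absurd h (by simp [Nat.card_pos.ne'])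
  | succ n ih =>
    intro B _ hn hB hBS
    set S₀ : Subgroup G := D₀ with hS₀
    set Z := zMax P S₀ with hZ
    set W := B ⊓ Z with hW
    have hZS : Z ≤ S₀ := zMax_le hP.bot _
    have hSZ : S₀ ≤ normalizer (Z : Set G) :=
      Subgroup.le_normalizer.trans (normalizer_le_normalizer_zMax hP.map _)
    -- reduce to `B` generated by the conjugates of `W`
    set B₁ := Subgroup.normalClosure (W : Set G) with hB₁
    have hB₁B : B₁ ≤ B := Subgroup.normalClosure_le_normal (fun x hx => (mem_inf.mp hx).1)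
    rcases lt_or_eq_of_le hB₁B with hlt | heq
    · have hc : Nat.card B₁ < Nat.card B := lt_of_le_of_ne (Subgroup.card_le_of_le hB₁B)
        fun e => hlt.ne (eq_of_le_of_card_ge hB₁B e.ge)
      have h1 := ih B₁ (by omega) (hB.to_le hB₁B) (hB₁B.trans hBS)
      have e : B₁ ⊓ Z = W := le_antisymm (inf_le_inf_right _ hB₁B)
        (le_inf (fun x hx => Subgroup.subset_normalClosure hx) inf_le_right)
      rwa [e] at h1
    by_contra hnot
    -- `[B, B] ≤ Z`
    have hB1 : B ≠ ⊥ := fun e => hnot (by rw [hW, e, bot_inf_eq]; infer_instance)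
    have hB'lt : ⁅B, B⁆ < B := by
      refine lt_of_le_of_ne (commutator_le_right B B) fun e => ?_
      haveI := hB.isNilpotent
      haveI : Nontrivial B := (Subgroup.nontrivial_iff_ne_bot _).mpr hB1
      have h2 := Group.IsSolvable.commutator_lt_top_of_nontrivial B
      apply h2.ne
      refine Subgroup.map_injective B.subtype_injective ?_
      rw [_root_.commutator_def, Subgroup.map_commutator, ← MonoidHom.range_eq_map, Subgroup.range_subtype, e]
    have hn' : Nat.card (⁅B, B⁆ : Subgroup G) ≤ n := by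
      have : Nat.card (⁅B, B⁆ : Subgroup G) < Nat.card B := lt_of_le_of_ne (Subgroup.card_le_of_le hB'lt.le)
        fun e => hB'lt.ne (eq_of_le_of_card_ge hB'lt.le e.ge)
      omega
    have hD : (⁅B, B⁆ ⊓ Z).Normal := ih ⁅B, B⁆ hn' (hB.to_le hB'lt.le) (hB'lt.le.trans hBS)
    haveI := hD
    set π := QuotientGroup.mk' (⁅B, B⁆ ⊓ Z) with hπ
    have hWC : W ≤ (centralizer ((B.map π : Subgroup _) : Set (G ⧸ (⁅B, B⁆ ⊓ Z)))).comap π := by
      intro w hw
      rw [Subgroup.mem_comap, mem_centralizer_iff]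
      rintro _ ⟨b, hb, rfl⟩
      obtain ⟨hwB, hwZ⟩ := mem_inf.mp hw
      rw [← map_mul, ← map_mul, hπ, QuotientGroup.mk'_apply, QuotientGroup.mk'_apply, QuotientGroup.eq]
      refine mem_inf.mpr ⟨?_, ?_⟩
      · have : (b * w)⁻¹ * (w * b) = ⁅w⁻¹, b⁻¹⁆ := by rw [commutatorElement_def]; group
        rw [this]
        exact commutator_mem_commutator (inv_mem hwB) (inv_mem hb)
      · have : (b * w)⁻¹ * (w * b) = w⁻¹ * (b⁻¹ * w * b) := by group
        rw [this]
        exact mul_mem (inv_mem hwZ) ((mem_normalizer_iff''.mp (hSZ (hBS hb)) w).mp hwZ)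
    haveI hBm : (B.map π).Normal := Subgroup.Normal.map inferInstance π (QuotientGroup.mk'_surjective _)
    haveI : ((centralizer ((B.map π : Subgroup _) : Set (G ⧸ (⁅B, B⁆ ⊓ Z)))).comap π).Normal :=
      Subgroup.Normal.comap inferInstance π
    have hBC := (Subgroup.normalClosure_le_normal hWC)
    rw [← hB₁, heq] at hBC
    have hB'Z : ⁅B, B⁆ ≤ Z := by
      have h1 : ⁅B, B⁆.map π = ⊥ := by
        rw [Subgroup.map_commutator, commutator_eq_bot_iff_le_centralizer]
        exact Subgroup.map_le_iff_le_comap.mpr hBC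
      rw [Subgroup.map_eq_bot_iff, hπ, QuotientGroup.ker_mk'] at h1
      exact h1.trans inf_le_right
    -- every member of largest order contains `B`
    have hall : ∀ A ∈ maxIn P S₀, B ≤ A := by
      by_contra hcon
      push Not at hcon
      obtain ⟨U, hU, hBU⟩ := hcon
      -- replacement inside `S`
      set 𝔉 : Set (Subgroup S₀) := {A | A.map S₀.subtype ∈ maxIn P S₀} with h𝔉
      obtain ⟨A', hA', hA'1, hA'2, hA'3⟩ := exists_normalized_member (p := p) (S.isPGroup'.to_le hD₀.le) (B.subgroupOf S₀)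
        (fun h => absurd h hp) 𝔉
        (fun A hA => by
          haveI := hP.comm _ hA.2.1
          have h := Subgroup.comap_injective_isMulCommutative (A.map S₀.subtype) S₀.subtype_injective
          rwa [Subgroup.comap_map_eq_self_of_injective S₀.subtype_injective] at h)
        (fun A hA b hcd hcm hex => by
          have hm : IsMulCommutative ((replacement A b).map S₀.subtype : Subgroup G) := by
            haveI := hcm; exact Subgroup.map_isMulCommutative _ _
          refine ⟨Subgroup.map_subtype_le _, hP.repl _ _ hA.2.1 hm (fun h2 => ?_), fun C hC hC' => ?_⟩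
          · rw [← Monoid.exponent_eq_of_mulEquiv ((replacement A b).equivMapOfInjective _ S₀.subtype_injective),
              ← Monoid.exponent_eq_of_mulEquiv (A.equivMapOfInjective _ S₀.subtype_injective)]
            exact hex h2
          · refine (hA.2.2 C hC hC').trans_eq ?_
            rw [Subgroup.card_map_of_injective S₀.subtype_injective,
              Subgroup.card_map_of_injective S₀.subtype_injective, hcd])
        ⟨U.subgroupOf S₀, by
          rw [h𝔉, Set.mem_setOf_eq, Subgroup.map_subgroupOf_eq_of_le hU.1]; exact hU, by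
          refine fun x hx => Subgroup.mem_subgroupOf.mpr (zMax_le_mem hU (hB'Z ?_))
          have h1 : (x : G) ∈ (⁅B.subgroupOf S₀, B.subgroupOf S₀⁆ : Subgroup S₀).map S₀.subtype := ⟨x, hx, rfl⟩
          rw [Subgroup.map_commutator, Subgroup.map_subgroupOf_eq_of_le hBS] at h1
          exact h1, fun h => hBU (fun x hx => by
            have : (⟨x, hBS hx⟩ : S₀) ∈ B.subgroupOf S₀ := hx
            exact h this)⟩
      set A := A'.map S₀.subtype with hA
      have hBA : ¬ B ≤ A := fun h => hA'2 fun x hx => by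
        obtain ⟨y, hy, e⟩ := h (Subgroup.mem_subgroupOf.mp hx)
        rwa [← show y = x from Subtype.ext e]
      have hBN : B ≤ normalizer (A : Set G) := by
        intro x hx
        refine mem_normalizer_fintype ?_
        rintro _ ⟨y, hy, rfl⟩
        have h1 := (mem_normalizer_iff.mp (hA'3 (show (⟨x, hBS hx⟩ : S₀) ∈ B.subgroupOf S₀ from hx)) y).mp hy
        exact ⟨_, h1, by simp⟩
      have hAmax : A ∈ maxIn P S₀ := hA'
      exact hBA (le_of_normalized_members hP S hD₀ B heq hAmax hBN (hst B hB A hAmax))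
    -- all members lie in `C(B)`
    set C := centralizer (B : Set G) with hC
    have hAC : ∀ A ∈ maxIn P S₀, A ≤ C := fun A hA => by
      haveI := hP.comm A hA.2.1
      exact (le_centralizer_iff_isMulCommutative.mpr inferInstance : A ≤ centralizer (A : Set G)).trans
        (centralizer_le (hall A hA))
    apply hnot
    refine Subgroup.normalizer_eq_top_iff.mp (eq_top_iff.mpr fun y _ => ?_)
    set SL := S₀ ⊓ C with hSL
    have hG : normalizer (SL : Set G) ⊔ C = ⊤ := by
      rw [sup_comm]
      exact top_le_iff.mp ((normalizer_inf_sup_eq_top S C C le_rfl ⟨0, by simp⟩).ge.trans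
        (sup_le_sup_left (hD₀.normalizer_inf_le C) C))
    have hzz : zMax P SL = Z := by
      obtain ⟨A, hA⟩ := maxIn_nonempty hP.bot S₀
      refine le_antisymm (le_sInf fun D hD => zMax_le_mem ?_) (le_sInf fun D hD => zMax_le_mem ?_)
      · exact ⟨le_inf hD.1 (hAC D hD), hD.2.1, fun E hE hE' => hD.2.2 E (hE.trans inf_le_left) hE'⟩
      · exact maxIn_subset_of_le inf_le_left hA (le_inf hA.1 (hAC A hA)) hD
    have hnW : normalizer (SL : Set G) ≤ normalizer (W : Set G) := by
      intro x hx
      refine mem_normalizer_fintype fun w hw => mem_inf.mpr ⟨(inferInstance : B.Normal).conj_mem w (mem_inf.mp hw).1 x, ?_⟩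
      have h := normalizer_le_normalizer_zMax (P := P) hP.map SL hx
      rw [hzz] at h
      exact (mem_normalizer_iff.mp h w).mp (mem_inf.mp hw).2
    have hcW : C ≤ normalizer (W : Set G) := by
      intro x hx
      refine mem_normalizer_fintype fun w hw => ?_
      rw [SetLike.mem_coe, ← mem_centralizer_iff.mp hx w (mem_inf.mp hw).1, mul_inv_cancel_right]
      exact hw
    exact (sup_le hnW hcW) (hG ▸ mem_top y)

/-- The relative ZJ theorem. -/
theorem zMax_normal_members (hP : ReplClass p G P) (hp : p ≠ 2) (S : Sylow p G) {D : Subgroup G}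
    (hD : ClosedIn S D) (hc : centralizer (pCore p G : Set G) ≤ pCore p G)
    (hst : ∀ (Q : Subgroup G) [Q.Normal], IsPGroup p Q → ∀ A ∈ maxIn P D, ∀ a ∈ A,
      ⁅⁅Q, zpowers a⁆, zpowers a⁆ = ⊥ →
        (QuotientGroup.mk a : G ⧸ centralizer (Q : Set G)) ∈ pCore p (G ⧸ centralizer (Q : Set G))) :
    (zMax P D).Normal := by
  set O := pCore p G with hO
  set Z := zMax P D with hZ
  have hZD : Z ≤ D := zMax_le hP.bot _
  have hSN : (S : Subgroup G) ≤ normalizer (Z : Set G) := by
    refine le_trans (fun x hx => mem_normalizer_fintype fun d hd => ?_)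
      (normalizer_le_normalizer_zMax hP.map D)
    exact hD.closed x d hd ((S : Subgroup G).mul_mem ((S : Subgroup G).mul_mem hx (hD.le hd))
      ((S : Subgroup G).inv_mem hx))
  have hZO : Z ≤ O := by
    obtain ⟨A, hA⟩ := maxIn_nonempty hP.bot D
    haveI := hP.comm A hA.2.1
    have hZc : ⁅Z, Z⁆ = ⊥ := le_bot_iff.mp
      ((commutator_mono (zMax_le_mem hA) (zMax_le_mem hA)).trans
        (commutator_eq_bot_iff_le_centralizer.mpr (le_centralizer_iff_isMulCommutative.mpr inferInstance)).le)
    intro z hz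
    have hOZ : ⁅O, Z⁆ ≤ Z := by
      rw [commutator_le]
      intro x hx y hy
      rw [commutatorElement_def]
      exact mul_mem ((mem_normalizer_iff.mp (hSN (Core.pCore_le_sylow S hx)) y).mp hy) (inv_mem hy)
    have h1 := hst O (Core.isPGroup_pCore p G) A hA z (zMax_le_mem hA hz) (le_bot_iff.mp (by
      calc ⁅⁅O, zpowers z⁆, zpowers z⁆ ≤ ⁅⁅O, Z⁆, Z⁆ :=
            commutator_mono (commutator_mono le_rfl (zpowers_le.mpr hz)) (zpowers_le.mpr hz)
        _ ≤ ⁅Z, Z⁆ := commutator_mono hOZ le_rfl
        _ = ⊥ := hZc))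
    haveI : ((pCore p (G ⧸ centralizer (O : Set G))).comap (QuotientGroup.mk' (centralizer (O : Set G)))).Normal :=
      Subgroup.Normal.comap inferInstance _
    refine Core.le_pCore this ?_ h1
    refine (Core.isPGroup_pCore p _).comap_of_ker_isPGroup _ ?_
    rw [QuotientGroup.ker_mk']
    exact (Core.isPGroup_pCore p G).to_le hc
  haveI hB : (D ⊓ O).Normal := ⟨fun x hx g => by
    have h1 := (inferInstance : O.Normal).conj_mem x hx.2 g
    exact ⟨hD.closed g x hx.1 (Core.pCore_le_sylow S h1), h1⟩⟩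
  have h := inf_zMax_normal_members hP hp S hD hst _ (D ⊓ O) le_rfl
    ((Core.isPGroup_pCore p G).to_le inf_le_right) inf_le_left
  rwa [inf_eq_right.mpr (le_inf hZD hZO)] at h

end Cfsg.Agent.LocalEven
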