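import Cfsg.Agent.LocalEven.QuadraticInvolution
import Cfsg.Agent.LocalEven.ZJMembers
import Cfsg.Agent.PLocal.FunctorComplement
import Cfsg.Agent.S3800
import Cfsg.Agent.Core.ThompsonComplement

/-!
Inverted elements: if some nontrivial `p`-element is inverted, then one is inverted inside the normalizer
of `Z(J(S))`, for `p` odd.
-/

set_option autoImplicit false
set_option linter.style.haveILetI false
set_option linter.unusedSectionVars false

namespace Cfsg.Agent.LocalEven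

open Subgroup Cfsg Cfsg.Agent Cfsg.Agent.PLocal
open scoped commutatorElement

universe u

/-- Some nontrivial `p`-element of `M` is inverted in `M`. -/
def HasInv {G : Type*} [Group G] (p : ℕ) (M : Subgroup G) : Prop :=
  ∃ x ∈ M, ∃ g ∈ M, x ≠ 1 ∧ (∃ k : ℕ, x ^ p ^ k = 1) ∧ g * x * g⁻¹ = x⁻¹

variable {G : Type u} [Group G] [Finite G] {p : ℕ} [hp : Fact p.Prime]

theorem HasInv.mono {M M' : Subgroup G} (h : HasInv p M) (hle : M ≤ M') : HasInv p M' := by
  obtain ⟨x, hx, g, hg, h1, h2, h3⟩ := h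
  exact ⟨x, hle hx, g, hle hg, h1, h2, h3⟩

theorem HasInv.map {G' : Type*} [Group G'] {f : G →* G'} (hf : Function.Injective f) {M : Subgroup G}
    (h : HasInv p M) : HasInv p (M.map f) := by
  obtain ⟨x, hx, g, hg, h1, ⟨k, h2⟩, h3⟩ := h
  refine ⟨f x, ⟨x, hx, rfl⟩, f g, ⟨g, hg, rfl⟩, fun e => h1 (hf (e.trans (map_one f).symm)),
    ⟨k, by rw [← map_pow, h2, map_one]⟩, ?_⟩
  rw [← map_inv, ← map_mul, ← map_mul, h3, map_inv]

theorem HasInv.top {M : Subgroup G} (h : HasInv p M) : HasInv p (⊤ : Subgroup M) := by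
  obtain ⟨x, hx, g, hg, h1, ⟨k, h2⟩, h3⟩ := h
  exact ⟨⟨x, hx⟩, mem_top _, ⟨g, hg⟩, mem_top _, fun e => h1 (congrArg Subtype.val e),
    ⟨k, Subtype.ext h2⟩, Subtype.ext h3⟩

/-- An inverted element of odd order is inverted by a `2`-element. -/
theorem HasInv.two {M : Subgroup G} (hp2 : p ≠ 2) (h : HasInv p M) :
    ∃ x ∈ M, ∃ g ∈ M, x ≠ 1 ∧ (∃ k : ℕ, x ^ p ^ k = 1) ∧ g * x * g⁻¹ = x⁻¹ ∧ (∃ l : ℕ, g ^ 2 ^ l = 1) := by
  obtain ⟨x, hx, g, hg, h1, h2, h3⟩ := h
  obtain ⟨m, ⟨j, rfl⟩, hl⟩ := exists_odd_pow g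
  refine ⟨x, hx, g ^ (2 * j + 1), pow_mem hg _, h1, h2, ?_, hl⟩
  have hsq : ∀ i : ℕ, g ^ (2 * i) * x * (g ^ (2 * i))⁻¹ = x := by
    intro i
    induction i with
    | zero => simp
    | succ i ih =>
      calc g ^ (2 * (i + 1)) * x * (g ^ (2 * (i + 1)))⁻¹
          = g * (g * (g ^ (2 * i) * x * (g ^ (2 * i))⁻¹) * g⁻¹) * g⁻¹ := by
            rw [mul_add, mul_one, add_comm, pow_add, pow_two]; group
        _ = g * (g * x * g⁻¹) * g⁻¹ := by rw [ih]
        _ = g * x⁻¹ * g⁻¹ := by rw [h3]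
        _ = (g * x * g⁻¹)⁻¹ := by group
        _ = x := by rw [h3, inv_inv]
  calc g ^ (2 * j + 1) * x * (g ^ (2 * j + 1))⁻¹
      = g * (g ^ (2 * j) * x * (g ^ (2 * j))⁻¹) * g⁻¹ := by rw [pow_succ']; group
    _ = x⁻¹ := by rw [hsq, h3]

/-- A `2`-element acting nontrivially on a `p`-subgroup inverts one of its elements. -/
theorem hasInv_of_two {M R : Subgroup G} (hRM : R ≤ M) (hR : IsPGroup p R) {t : G} (htM : t ∈ M)
    (htN : t ∈ normalizer (R : Set G)) (ht2 : ∃ k : ℕ, t ^ 2 ^ k = 1)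
    (htC : t ∉ centralizer (R : Set G)) : HasInv p M := by
  obtain ⟨k, hk⟩ := ht2
  induction k generalizing t with
  | zero =>
    refine absurd ?_ htC
    rw [pow_zero, pow_one] at hk
    rw [hk]; exact one_mem _
  | succ k ih =>
    by_cases h2 : t ^ 2 ∈ centralizer (R : Set G)
    swap
    · exact ih (pow_mem htM 2) (pow_mem htN 2) h2 (by rw [← pow_mul, ← pow_succ', hk])
    obtain ⟨q, hq, hne⟩ : ∃ q ∈ R, t * q * t⁻¹ ≠ q := by
      by_contra hall
      push Not at hall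
      exact htC fun q hq => (mul_inv_eq_iff_eq_mul.mp (hall q hq)).symm
    have hxR : q⁻¹ * (t * q * t⁻¹) ∈ R := mul_mem (inv_mem hq) ((mem_normalizer_iff.mp htN q).mp hq)
    refine ⟨q⁻¹ * (t * q * t⁻¹), hRM hxR, t, htM, fun e => hne (inv_mul_eq_one.mp e).symm, ?_, ?_⟩
    · obtain ⟨i, hi⟩ := hR ⟨_, hxR⟩
      exact ⟨i, congrArg Subtype.val hi⟩
    · have e : t ^ 2 * q * (t ^ 2)⁻¹ = q := by rw [← mem_centralizer_iff.mp h2 q hq, mul_inv_cancel_right]
      calc t * (q⁻¹ * (t * q * t⁻¹)) * t⁻¹ = (t * q * t⁻¹)⁻¹ * (t ^ 2 * q * (t ^ 2)⁻¹) := by rw [pow_two]; group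
        _ = (q⁻¹ * (t * q * t⁻¹))⁻¹ := by rw [e]; group

/-- Inverted elements lift modulo a normal subgroup of order prime to `p`. -/
theorem hasInv_lift {Q : Type*} [Group Q] {K : Type u} [Group K] [Finite K] (f : K →* Q)
    (hcop : (Nat.card f.ker).Coprime p) {x g : K} (hx1 : f x ≠ 1) (hxp : ∃ k : ℕ, f x ^ p ^ k = 1)
    (hinv : f g * f x * (f g)⁻¹ = (f x)⁻¹) : HasInv p (⊤ : Subgroup K) := by
  obtain ⟨k, hk⟩ := hxp
  set c := Nat.card f.ker with hc
  set y := x ^ c with hy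
  have hyp : y ^ p ^ k = 1 := by
    rw [hy, ← pow_mul, mul_comm, pow_mul]
    exact congrArg Subtype.val (pow_card_eq_one' (x := (⟨x ^ p ^ k, by rw [MonoidHom.mem_ker, map_pow, hk]⟩ : f.ker)))
  have hy1 : f y ≠ 1 := by
    intro e
    rw [hy, map_pow] at e
    have := pow_gcd_eq_one.mpr ⟨hk, e⟩
    rw [((hcop.pow_right k).symm).gcd_eq_one, pow_one] at this
    exact hx1 this
  have hyinv : f g * f y * (f g)⁻¹ = (f y)⁻¹ := by rw [hy, map_pow, ← conj_pow, hinv, inv_pow]
  set N := f.ker with hN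
  set P := zpowers y with hP
  have hPp : IsPGroup p P := by
    obtain ⟨j, -, hj⟩ := (Nat.dvd_prime_pow hp.out).mp (orderOf_dvd_of_pow_eq_one hyp)
    exact IsPGroup.of_card (n := j) (by rw [hP, Nat.card_zpowers, hj])
  have hmap : (P.map (MulAut.conj g).toMonoidHom).map f = P.map f := by
    rw [hP, MonoidHom.map_zpowers, MonoidHom.map_zpowers, MonoidHom.map_zpowers]
    show zpowers (f (g * y * g⁻¹)) = _
    rw [map_mul, map_mul, map_inv, hyinv, Subgroup.zpowers_inv]
  -- both subgroups are Sylow in `P ⊔ N`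
  set W := P ⊔ N with hW
  have hP'W : P.map (MulAut.conj g).toMonoidHom ≤ W := by
    refine le_trans (Subgroup.le_comap_map f _) ?_
    rw [hmap, Subgroup.comap_map_eq]
  have hP'p : IsPGroup p (P.map (MulAut.conj g).toMonoidHom) := hPp.map _
  have hidx : ∀ X : Subgroup K, X ≤ W → IsPGroup p X → Nat.card X = Nat.card P →
      ∃ S : Sylow p W, (S : Subgroup W) = X.subgroupOf W := by
    intro X hX hXp hXc
    have hXp' : IsPGroup p (X.subgroupOf W) := hXp.of_equiv (subgroupOfEquivOfLe hX).symm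
    refine ⟨hXp'.toSylow fun hd => ?_, rfl⟩
    have hmul := (X.subgroupOf W).card_mul_index
    rw [Nat.card_congr (subgroupOfEquivOfLe hX).toEquiv, hXc] at hmul
    have hd2 : Nat.card W ∣ Nat.card P * Nat.card N := by
      have e := Core.card_sup_mul_card_inf P N
      exact ⟨Nat.card (P ⊓ N : Subgroup K), e.symm⟩
    rw [← hmul] at hd2
    have hd3 := Nat.dvd_of_mul_dvd_mul_left Nat.card_pos hd2
    exact (hp.out.coprime_iff_not_dvd.mp hcop.symm) (hd.trans hd3)
  obtain ⟨S1, hS1⟩ := hidx P le_sup_left hPp rfl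
  obtain ⟨S2, hS2⟩ := hidx _ hP'W hP'p
    (Subgroup.card_map_of_injective (MulAut.conj g).injective)
  obtain ⟨w, hw⟩ := MulAction.exists_smul_eq W S2 S1
  have hwP : (P.map (MulAut.conj g).toMonoidHom).map (MulAut.conj (w : K)).toMonoidHom = P := by
    have e0 : ((S2 : Subgroup W).map (MulAut.conj w).toMonoidHom) = (S1 : Subgroup W) := by
      rw [← hw]; rfl
    rw [hS1, hS2] at e0
    have e := congrArg (Subgroup.map W.subtype) e0
    rw [Subgroup.map_subgroupOf_eq_of_le (le_sup_left : P ≤ W), Subgroup.map_map] at e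
    refine Eq.trans ?_ e
    conv_lhs => rw [← Subgroup.map_subgroupOf_eq_of_le hP'W, Subgroup.map_map]
    congr 1
  obtain ⟨n, hn, z, hz, hnz⟩ := Coprime.exists_mul_of_mem_sup
    (le_of_le_of_eq le_top (Subgroup.normalizer_eq_top N).symm)
    (show (w : K) ∈ N ⊔ P by rw [sup_comm]; exact w.2)
  set g' := (w : K) * g with hg'
  have hmem : g' * y * g'⁻¹ ∈ P := by
    have h1 : (w : K) * (g * y * g⁻¹) * (w : K)⁻¹ ∈ P := by
      rw [← hwP]
      exact ⟨_, ⟨y, mem_zpowers y, rfl⟩, rfl⟩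
    rw [hg']
    rwa [show (w : K) * g * y * ((w : K) * g)⁻¹ = (w : K) * (g * y * g⁻¹) * (w : K)⁻¹ by group]
  refine ⟨y, mem_top _, g', mem_top _, fun e => hy1 (by rw [e, map_one]), ⟨k, hyp⟩, ?_⟩
  have hfz : f (w : K) = f z := by rw [← hnz, map_mul, MonoidHom.mem_ker.mp hn, one_mul]
  have himg : f (g' * y * g'⁻¹) = f y⁻¹ := by
    rw [hg', map_mul, map_mul, map_inv, map_mul, hfz,
      show f z * f g * f y * (f z * f g)⁻¹ = f z * (f g * f y * (f g)⁻¹) * (f z)⁻¹ by group, hyinv,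
      ← map_inv, ← map_mul, ← map_inv, ← map_mul]
    congr 1
    obtain ⟨i, rfl⟩ := hz
    rw [← zpow_neg_one y, ← _root_.zpow_neg, ← _root_.zpow_add, ← _root_.zpow_add]
    congr 1
    ring
  have hinj : ∀ u ∈ P, f u = 1 → u = 1 := fun u hu e => by
    have : u ∈ P ⊓ N := ⟨hu, MonoidHom.mem_ker.mpr e⟩
    rwa [inf_eq_bot_of_coprime (show (Nat.card P).Coprime (Nat.card N) by
      obtain ⟨j, hj⟩ := IsPGroup.iff_card.mp hPp
      rw [hj]; exact (hcop.symm).pow_left j), mem_bot] at this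
  have := hinj (g' * y * g'⁻¹ * y) (mul_mem hmem (mem_zpowers y)) (by
    rw [map_mul, himg, map_inv, inv_mul_cancel])
  exact eq_inv_of_mul_eq_one_left this

/-- The normalizer of a `p`-subgroup that is not Sylow contains a larger `p`-subgroup. -/
theorem exists_gt_pgroup {T : Subgroup G} (hT : IsPGroup p T) (hS : ∀ S : Sylow p G, (S : Subgroup G) ≠ T) :
    ∃ T₁ : Subgroup G, IsPGroup p T₁ ∧ T < T₁ ∧ T₁ ≤ normalizer (T : Set G) := by
  obtain ⟨S, hTS⟩ := hT.exists_le_sylow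
  have hlt : T < S := lt_of_le_of_ne hTS (Ne.symm (hS S))
  refine ⟨(S : Subgroup G) ⊓ normalizer (T : Set G), S.2.to_le inf_le_left,
    lt_of_le_of_ne (le_inf hTS Subgroup.le_normalizer) fun e => ?_, inf_le_right⟩
  haveI := S.2.isNilpotent
  have hn := normalizerCondition_of_isNilpotent (T.subgroupOf (S : Subgroup G))
    (lt_top_iff_ne_top.mpr fun h => hlt.not_ge (Subgroup.subgroupOf_eq_top.mp h))
  refine hn.ne (le_antisymm hn.le fun x hx => ?_)
  rw [mem_subgroupOf, e]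
  refine ⟨x.2, mem_normalizer_fintype fun y hy => ?_⟩
  exact (mem_normalizer_iff.mp hx ⟨y, hTS hy⟩).mp hy

theorem normalizer_le_zj (hp2 : p ≠ 2) {T : Subgroup G} (hT : IsPGroup p T) :
    normalizer (T : Set G) ≤ normalizer (centerThompsonAOf T : Set G) :=
  (isPFunctor_centerThompsonA hp2).normalizer_le T hT

/-- Conjugate Sylow subgroups give conjugate normalizers. -/
theorem hasInv_zj_conj {S S' : Sylow p G} (h : HasInv p (normalizer (centerThompsonAOf (S : Subgroup G) : Set G))) :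
    HasInv p (normalizer (centerThompsonAOf (S' : Subgroup G) : Set G)) := by
  obtain ⟨c, hc⟩ := MulAction.exists_smul_eq G S S'
  have e : (S' : Subgroup G) = (S : Subgroup G).map (MulAut.conj c).toMonoidHom := by
    rw [← hc, Sylow.coe_subgroup_smul]; rfl
  refine (h.map (f := (MulAut.conj c).toMonoidHom) (MulAut.conj c).injective).mono ?_
  refine (Subgroup.le_normalizer_map _).trans ?_
  rw [e, centerThompsonAOf_map _ (MulAut.conj c).injective.injOn]

/-- If a nontrivial `p`-element is inverted, then one is inverted in the normalizer of `Z(J(S))`. -/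
theorem hasInv_zj (hp2 : p ≠ 2) : ∀ (n : ℕ) (G : Type u) [Group G] [Finite G], Nat.card G = n →
    HasInv p (⊤ : Subgroup G) →
    ∀ S : Sylow p G, HasInv p (normalizer (centerThompsonAOf (S : Subgroup G) : Set G)) := by
  intro n
  induction n using Nat.strong_induction_on with
  | _ n IH =>
  intro G _ _ hcard hG S
  by_contra hgoal
  have hgoal' : ∀ S' : Sylow p G, ¬ HasInv p (normalizer (centerThompsonAOf (S' : Subgroup G) : Set G)) :=
    fun S' h => hgoal (hasInv_zj_conj h)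
  -- the induction hypothesis inside a proper subgroup
  have hsub : ∀ M : Subgroup G, M ≠ ⊤ → HasInv p M → ∀ T : Subgroup G, T ≤ M → IsPGroup p T →
      (∀ T' : Subgroup G, T' ≤ M → IsPGroup p T' → T ≤ T' → T' = T) →
      HasInv p (normalizer (centerThompsonAOf T : Set G)) := by
    intro M hM hMi T hTM hT hmax
    have hlt : Nat.card M < n := hcard ▸ lt_of_le_of_ne (Subgroup.card_le_card_group M)
      fun e => hM (Subgroup.eq_top_of_card_eq M e)
    obtain ⟨TM, hTM'⟩ := (hT.of_equiv (subgroupOfEquivOfLe hTM).symm).exists_le_sylow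
    have e : (TM : Subgroup M).map M.subtype = T := hmax _ (map_subtype_le _) (TM.2.map _) (by
      rw [← Subgroup.map_subgroupOf_eq_of_le hTM]; exact Subgroup.map_mono hTM')
    refine ((IH _ hlt M rfl hMi.top TM).map M.subtype_injective).mono ?_
    refine (Subgroup.le_normalizer_map _).trans ?_
    rw [centerThompsonAOf_map M.subtype M.subtype_injective.injOn, e]
  -- no proper subgroup with inverted elements contains a Sylow subgroup
  have hbig : ∀ M : Subgroup G, HasInv p M → ∀ S' : Sylow p G, (S' : Subgroup G) ≤ M → M = ⊤ :=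
    fun M hMi S' hS' => by_contra fun hM => hgoal' S' (hsub M hM hMi S' hS' S'.2 fun T' _ hT' hle => S'.3 hT' hle)
  obtain ⟨x, -, g, -, hx1, hxp, hinv, hg2⟩ := hG.two hp2
  -- trivial p'-core
  set O := pPrimeCore p G with hO
  have hOcop : (Nat.card O).Coprime p := Core.card_pPrimeCore_coprime p G
  rcases eq_or_ne O ⊥ with hO1 | hO1
  swap
  · set π := QuotientGroup.mk' O with hπ
    have hπs : Function.Surjective π := QuotientGroup.mk'_surjective O
    have hlt : Nat.card (G ⧸ O) < n := by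
      rw [← hcard, O.card_eq_card_quotient_mul_card_subgroup]
      exact lt_mul_of_one_lt_right Nat.card_pos ((Subgroup.one_lt_card_iff_ne_bot O).mpr hO1)
    obtain ⟨k, hk⟩ := hxp
    have hπx : π x ≠ 1 := fun e => hx1 (by
      have hxO : x ∈ O := (QuotientGroup.eq_one_iff x).mp e
      have h1 : x ^ Nat.card O = 1 := congrArg Subtype.val (pow_card_eq_one' (x := (⟨x, hxO⟩ : O)))
      have h2 := pow_gcd_eq_one.mpr ⟨h1, hk⟩
      rwa [(hOcop.pow_right k).gcd_eq_one, pow_one] at h2)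
    have hQ : HasInv p (⊤ : Subgroup (G ⧸ O)) := ⟨π x, mem_top _, π g, mem_top _, hπx,
      ⟨k, by rw [← map_pow, hk, map_one]⟩, by rw [← map_inv, ← map_mul, ← map_mul, hinv, map_inv]⟩
    obtain ⟨a, ha, b, hb, ha1, hap, hab⟩ := IH _ hlt (G ⧸ O) rfl hQ (S.mapSurjective hπs)
    have hinj : Set.InjOn π ((S : Subgroup G) : Set G) := fun u hu v hv e => by
      have h1 : u⁻¹ * v ∈ (S : Subgroup G) ⊓ O :=
        ⟨(S : Subgroup G).mul_mem ((S : Subgroup G).inv_mem hu) hv, QuotientGroup.eq.mp e⟩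
      rw [inf_eq_bot_of_coprime (show (Nat.card (S : Subgroup G)).Coprime (Nat.card O) by
        obtain ⟨j, hj⟩ := IsPGroup.iff_card.mp S.2
        rw [hj]; exact hOcop.symm.pow_left j), mem_bot] at h1
      exact inv_mul_eq_one.mp h1
    have hN : normalizer (centerThompsonAOf ((S.mapSurjective hπs : Sylow p (G ⧸ O)) : Subgroup (G ⧸ O)) :
        Set (G ⧸ O)) = (normalizer (centerThompsonAOf (S : Subgroup G) : Set G)).map π := by
      rw [Sylow.coe_mapSurjective, ← centerThompsonAOf_map π hinj]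
      exact (S3800.result O hOcop _ (S.2.to_le (centerThompsonAOf_le _))).1
    rw [hN] at ha hb
    obtain ⟨a', ha', rfl⟩ := ha
    obtain ⟨b', hb', rfl⟩ := hb
    set NZ := normalizer (centerThompsonAOf (S : Subgroup G) : Set G) with hNZ
    apply hgoal
    have hk' : (Nat.card (π.comp NZ.subtype).ker).Coprime p := by
      refine hOcop.coprime_dvd_left ?_
      rw [← MonoidHom.comap_ker, hπ, QuotientGroup.ker_mk', ← Subgroup.card_map_of_injective NZ.subtype_injective]
      exact Subgroup.card_dvd_of_le (Subgroup.map_comap_le _ _)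
    have h := hasInv_lift (π.comp NZ.subtype) hk' (x := ⟨a', ha'⟩) (g := ⟨b', hb'⟩) ha1 hap hab
    refine (h.map NZ.subtype_injective).mono ?_
    rw [← MonoidHom.range_eq_map, Subgroup.range_subtype]
  -- nontrivial p-core
  set R := pCore p G with hR
  have hRp : IsPGroup p R := Core.isPGroup_pCore p G
  have hPFam : ∀ (Φ : Subgroup G → Prop), (∀ T, Φ T → IsPGroup p T) → (∀ T T₁ : Subgroup G, Φ T → IsPGroup p T₁ → T ≤ T₁ →
      (∃ M : Subgroup G, M ≠ ⊤ ∧ HasInv p M ∧ T₁ ≤ M) → Φ T₁) →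
      (∀ T, Φ T → ∃ M : Subgroup G, M ≠ ⊤ ∧ HasInv p M ∧ T ≤ M) → (∃ T, Φ T) →
      ∃ T, Φ T ∧ (normalizer (centerThompsonAOf T : Set G) = ⊤) := by
    intro Φ hΦp hΦup hΦM hne
    obtain ⟨T, hT, hTmax⟩ := (Set.toFinite {T : Subgroup G | Φ T}).exists_maximal hne
    obtain ⟨M, hM, hMi, hTM⟩ := hΦM T hT
    have hnS : ∀ S' : Sylow p G, (S' : Subgroup G) ≠ T := fun S' e => hM (hbig M hMi S' (e ▸ hTM))
    have hN := hsub M hM hMi T hTM (hΦp T hT) fun T' hT'M hT' hle =>
      le_antisymm (hTmax (hΦup T T' hT hT' hle ⟨M, hM, hMi, hT'M⟩) hle) hle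
    refine ⟨T, hT, by_contra fun hne => ?_⟩
    obtain ⟨T₁, hT₁, hlt, hle⟩ := exists_gt_pgroup (hΦp T hT) hnS
    exact hlt.not_ge (hTmax (hΦup T T₁ hT hT₁ hlt.le
      ⟨_, hne, hN, hle.trans (normalizer_le_zj hp2 (hΦp T hT))⟩) hlt.le)
  have hxP : IsPGroup p (zpowers x) := by
    obtain ⟨k, hk⟩ := hxp
    obtain ⟨j, -, hj⟩ := (Nat.dvd_prime_pow hp.out).mp (orderOf_dvd_of_pow_eq_one hk)
    exact IsPGroup.of_card (n := j) (by rw [Nat.card_zpowers, hj])
  have hR1 : R ≠ ⊥ := by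
    intro e
    have hnn : ∀ U : Subgroup G, IsPGroup p U → U ≠ ⊥ → normalizer (U : Set G) ≠ ⊤ := fun U hU hU1 hn =>
      hU1 (le_bot_iff.mp (e ▸ Core.le_pCore (Subgroup.normalizer_eq_top_iff.mp hn) hU))
    obtain ⟨T, ⟨hTp, hT1, -⟩, hT⟩ := hPFam
      (fun T => IsPGroup p T ∧ T ≠ ⊥ ∧ ∃ M : Subgroup G, M ≠ ⊤ ∧ HasInv p M ∧ T ≤ M)
      (fun T h => h.1) (fun T T₁ h h1 hle hM => ⟨h1, ne_bot_of_le_ne_bot h.2.1 hle, hM⟩) (fun T h => h.2.2)
      ⟨zpowers x, hxP, by simp [hx1], _, hnn _ hxP (by simp [hx1]),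
        ⟨x, Subgroup.le_normalizer (mem_zpowers x), g, by
          rw [Subgroup.mem_normalizer_iff_map_conj_eq, MonoidHom.map_zpowers]
          show zpowers (g * x * g⁻¹) = _
          rw [hinv, Subgroup.zpowers_inv], hx1, hxp, hinv⟩, Subgroup.le_normalizer⟩
    exact hnn _ (hTp.to_le (centerThompsonAOf_le T)) (centerThompsonAOf_ne_bot hTp hT1) hT
  -- constraint
  set C := centralizer (R : Set G) with hC
  have hRS : ∀ S' : Sylow p G, R ≤ S' := fun S' => Core.pCore_le_sylow S'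
  have hC2 : ∃ t : G, (∃ l : ℕ, t ^ 2 ^ l = 1) ∧ t ∉ C := by
    by_contra hall
    push Not at hall
    have hgC := hall g hg2
    have hxR : x ∉ R := fun hxR => by
      have e := mem_centralizer_iff.mp hgC x hxR
      have h1 : x = x⁻¹ := by
        calc x = g * x * g⁻¹ := by rw [← e, mul_inv_cancel_right]
          _ = x⁻¹ := hinv
      have h2 : x ^ 2 = 1 := by rw [pow_two]; exact mul_eq_one_iff_eq_inv.mpr h1
      obtain ⟨k, hk⟩ := hxp
      have h3 := pow_gcd_eq_one.mpr ⟨h2, hk⟩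
      rw [(((Nat.coprime_primes Nat.prime_two hp.out).mpr hp2.symm).pow_right k).gcd_eq_one, pow_one] at h3
      exact hx1 h3
    set π := QuotientGroup.mk' R with hπ
    have hπs : Function.Surjective π := QuotientGroup.mk'_surjective R
    have hlt : Nat.card (G ⧸ R) < n := by
      rw [← hcard, R.card_eq_card_quotient_mul_card_subgroup]
      exact lt_mul_of_one_lt_right Nat.card_pos ((Subgroup.one_lt_card_iff_ne_bot R).mpr hR1)
    obtain ⟨k, hk⟩ := hxp
    have hQ : HasInv p (⊤ : Subgroup (G ⧸ R)) := ⟨π x, mem_top _, π g, mem_top _,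
      fun e => hxR ((QuotientGroup.eq_one_iff x).mp e), ⟨k, by rw [← map_pow, hk, map_one]⟩,
      by rw [← map_inv, ← map_mul, ← map_mul, hinv, map_inv]⟩
    set S₁ : Sylow p (G ⧸ R) := S.mapSurjective hπs with hS₁
    obtain ⟨a, ha, b, hb, ha1, hap, hab, hb2⟩ := (IH _ hlt (G ⧸ R) rfl hQ S₁).two hp2
    set N₁ := normalizer (centerThompsonAOf (S₁ : Subgroup (G ⧸ R)) : Set (G ⧸ R)) with hN₁
    have hcore : pCore p (G ⧸ R) = ⊥ := Core.pCore_quotient_pCore p G
    have hS₁ne : (S₁ : Subgroup (G ⧸ R)) ≠ ⊥ := by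
      intro e
      have hxa : IsPGroup p (zpowers (π x)) := by rw [← MonoidHom.map_zpowers]; exact hxP.map π
      obtain ⟨S₂, hS₂⟩ := hxa.exists_le_sylow
      obtain ⟨c, hc⟩ := MulAction.exists_smul_eq (G ⧸ R) S₁ S₂
      have e2 : (S₂ : Subgroup (G ⧸ R)) = ⊥ := by
        rw [← hc, Sylow.coe_subgroup_smul, e, Subgroup.smul_bot]
      exact hxR ((QuotientGroup.eq_one_iff x).mp (mem_bot.mp (e2 ▸ hS₂ (mem_zpowers (π x)))))
    have hN₁top : N₁ ≠ ⊤ := fun e => centerThompsonAOf_ne_bot S₁.2 hS₁ne (le_bot_iff.mp (hcore ▸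
      Core.le_pCore (Subgroup.normalizer_eq_top_iff.mp e) (S₁.2.to_le (centerThompsonAOf_le _))))
    have hSle : (S : Subgroup G) ≤ N₁.comap π := by
      refine Subgroup.map_le_iff_le_comap.mp ?_
      rw [← Sylow.coe_mapSurjective hπs S]
      exact Subgroup.le_normalizer.trans (normalizer_le_zj hp2 S₁.2)
    obtain ⟨a', rfl⟩ := hπs a
    obtain ⟨b', rfl⟩ := hπs b
    obtain ⟨m, hm, hl⟩ := exists_odd_pow b'
    obtain ⟨l, hbl⟩ := hb2
    have hcop : (orderOf (π b')).Coprime m :=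
      ((Nat.coprime_two_left.mpr hm).pow_left l).coprime_dvd_left (orderOf_dvd_of_pow_eq_one hbl)
    set W := zpowers a' ⊔ R with hW
    have hWp : IsPGroup p W := by
      obtain ⟨i, hi⟩ := hap
      rw [← map_pow] at hi
      have haR : a' ^ p ^ i ∈ R := (QuotientGroup.eq_one_iff _).mp hi
      obtain ⟨j, hj⟩ := hRp ⟨_, haR⟩
      have hj' : a' ^ p ^ (i + j) = 1 := by rw [pow_add, pow_mul]; exact congrArg Subtype.val hj
      obtain ⟨q, -, hq⟩ := (Nat.dvd_prime_pow hp.out).mp (orderOf_dvd_of_pow_eq_one hj')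
      exact (IsPGroup.of_card (n := q) (by rw [Nat.card_zpowers, hq]) :
        IsPGroup p (zpowers a')).to_sup_of_normal_right hRp
    have hW' : W = ((zpowers (π a')).comap π) := by
      rw [← MonoidHom.map_zpowers, Subgroup.comap_map_eq, hπ, QuotientGroup.ker_mk']
    have hbm : b' ^ m ∈ normalizer (W : Set G) := by
      rw [hW']
      refine Subgroup.le_normalizer_comap π ?_
      rw [mem_comap, map_pow]
      refine pow_mem ?_ m
      rw [Subgroup.mem_normalizer_iff_map_conj_eq, MonoidHom.map_zpowers]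
      show zpowers (π b' * π a' * (π b')⁻¹) = _
      rw [hab, Subgroup.zpowers_inv]
    refine hN₁top ?_
    have hi : HasInv p (N₁.comap π) := by
      refine hasInv_of_two (R := W) (t := b' ^ m) ?_ hWp ?_ hbm hl ?_
      · exact sup_le (zpowers_le.mpr ha) ((hRS S).trans hSle)
      · exact pow_mem (show b' ∈ N₁.comap π from hb) m
      · intro hcent
        obtain ⟨q, hq⟩ := exists_pow_eq_self_of_coprime hcop.symm
        have e : Commute (π a') (π b' ^ m) := by
          have := congrArg π (mem_centralizer_iff.mp hcent a' (mem_sup_left (mem_zpowers a')))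
          rwa [map_mul, map_mul, map_pow] at this
        have e2 : Commute (π a') (π b') := hq ▸ e.pow_right q
        have e3 : π a' = (π a')⁻¹ := by rw [← hab, ← e2.eq, mul_inv_cancel_right]
        obtain ⟨i, hi⟩ := hap
        have h3 := pow_gcd_eq_one.mpr ⟨(show π a' ^ 2 = 1 by rw [pow_two]; exact mul_eq_one_iff_eq_inv.mpr e3), hi⟩
        rw [(((Nat.coprime_primes Nat.prime_two hp.out).mpr hp2.symm).pow_right i).gcd_eq_one, pow_one] at h3
        exact ha1 h3
    rw [← Subgroup.map_comap_eq_self_of_surjective hπs N₁, hbig _ hi S hSle, Subgroup.map_top_of_surjective _ hπs]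
  -- two-elements outside a normal subgroup reach the normalizer of its Sylow subgroup
  have hFr : ∀ (L : Subgroup G) [L.Normal] (t : G), (∃ l : ℕ, t ^ 2 ^ l = 1) → t ∉ L →
      ∃ t' ∈ normalizer (((S : Subgroup G) ⊓ L : Subgroup G) : Set G), (∃ l : ℕ, t' ^ 2 ^ l = 1) ∧ t' ∉ L := by
    intro L _ t ht htL
    have htop := PLocal.normalizer_inf_sup_eq_top S L L le_rfl ⟨0, by simp⟩
    obtain ⟨c, hc, s, hs, hcs⟩ := Coprime.exists_mul_of_mem_sup
      (le_of_le_of_eq le_top (Subgroup.normalizer_eq_top L).symm)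
      (show t ∈ L ⊔ normalizer (((S : Subgroup G) ⊓ L : Subgroup G) : Set G) by rw [htop]; trivial)
    obtain ⟨m, hm, hl⟩ := exists_odd_pow s
    refine ⟨s ^ m, pow_mem hs m, hl, fun hsL => htL ?_⟩
    obtain ⟨l, hl'⟩ := ht
    have e : QuotientGroup.mk' L s = QuotientGroup.mk' L t := by
      rw [← hcs, map_mul, show QuotientGroup.mk' L c = 1 from (QuotientGroup.eq_one_iff c).mpr hc, one_mul]
    have e2 : QuotientGroup.mk' L t ^ m = 1 := by
      rw [← e, ← map_pow]; exact (QuotientGroup.eq_one_iff _).mpr hsL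
    have h3 := pow_gcd_eq_one.mpr ⟨e2, (show QuotientGroup.mk' L t ^ 2 ^ l = 1 by rw [← map_pow, hl', map_one])⟩
    rw [((Nat.coprime_two_right.mpr hm).pow_right l).gcd_eq_one, pow_one] at h3
    exact (QuotientGroup.eq_one_iff t).mp h3
  have hSN : ∀ L : Subgroup G, L.Normal →
      (S : Subgroup G) ≤ normalizer (((S : Subgroup G) ⊓ L : Subgroup G) : Set G) := fun L hL u hu =>
    mem_normalizer_fintype fun v hv => ⟨(S : Subgroup G).mul_mem ((S : Subgroup G).mul_mem hu hv.1) ((S : Subgroup G).inv_mem hu), hL.conj_mem v hv.2 u⟩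
  have hCR : C ≤ R := by
    obtain ⟨t, ht, htC⟩ := hC2
    obtain ⟨t', ht'N, ht', ht'C⟩ := hFr C t ht htC
    have htop := hbig _ (hasInv_of_two ((hRS S).trans (hSN C inferInstance)) hRp ht'N
      ((Subgroup.normalizer_eq_top R).ge (mem_top t')) ht' ht'C) S (hSN C inferInstance)
    have hPR : (S : Subgroup G) ⊓ C ≤ R :=
      Core.le_pCore (Subgroup.normalizer_eq_top_iff.mp htop) (S.2.to_le inf_le_left)
    obtain ⟨TC, hTC⟩ := PLocal.exists_sylow_inf S C
    have hcent : normalizer ((TC : Subgroup C) : Set C) ≤ centralizer ((TC : Subgroup C) : Set C) := by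
      intro c _ v hv
      apply Subtype.ext
      have hvR : (v : G) ∈ R := hPR (hTC ▸ ⟨v, hv, rfl⟩)
      exact mem_centralizer_iff.mp c.2 v hvR
    have hK := MonoidHom.ker_transferSylow_isComplement' TC hcent
    set K := (MonoidHom.transferSylow TC hcent).ker with hKdef
    have hKc : (Nat.card K).Coprime p := by
      refine (hp.out.coprime_iff_not_dvd.mpr ?_).symm
      rw [← Subgroup.IsComplement'.index_eq_card hK]
      exact TC.not_dvd_index
    have hK1 : K = ⊥ := by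
      have h1 : K ≤ pPrimeCore p C := Core.le_pPrimeCore inferInstance hKc
      rwa [Core.pPrimeCore_eq_bot_of_normal C hO1, le_bot_iff] at h1
    have hTtop : (TC : Subgroup C) = ⊤ := by
      have := hK.sup_eq_top
      rwa [hK1, bot_sup_eq] at this
    have e : C = (S : Subgroup G) ⊓ C := by
      rw [← hTC, hTtop, ← MonoidHom.range_eq_map, Subgroup.range_subtype]
    exact e.le.trans hPR
  -- two-elements act nontrivially on the core
  have htwoC : ∀ t : G, (∃ l : ℕ, t ^ 2 ^ l = 1) → t ≠ 1 → t ∉ C := by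
    rintro t ⟨l, hl⟩ ht htC
    obtain ⟨j, hj⟩ := hRp ⟨t, hCR htC⟩
    have h := pow_gcd_eq_one.mpr ⟨hl, (congrArg Subtype.val hj : t ^ p ^ j = 1)⟩
    rw [(((Nat.coprime_primes Nat.prime_two hp.out).mpr hp2.symm).pow _ _).gcd_eq_one, pow_one] at h
    exact ht h
  -- the ZJ theorem
  have hD : FusionZJ.ClosedIn (S : Subgroup G) (S : Subgroup G) := ⟨le_rfl, fun _ _ _ h => h⟩
  obtain ⟨Q, hQn, hQp, A, hA, a, haA, hq, hns⟩ : ∃ (Q : Subgroup G) (_ : Q.Normal) (_ : IsPGroup p Q),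
      ∃ A ∈ maxIn (IsAb (G := G)) (S : Subgroup G), ∃ a ∈ A, ∃ _ : ⁅⁅Q, zpowers a⁆, zpowers a⁆ = ⊥,
        (QuotientGroup.mk a : G ⧸ centralizer (Q : Set G)) ∉ pCore p (G ⧸ centralizer (Q : Set G)) := by
    by_contra hcon
    push Not at hcon
    have hn := zMax_normal_members (replClass_ab (p := p) (G := G)) hp2 S hD hCR
      (fun Q hQn hQp A hA a ha hq => hcon Q hQn hQp A hA a ha hq)
    rw [zMax_ab_eq] at hn
    exact hgoal (hG.mono (Subgroup.normalizer_eq_top_iff.mpr hn).ge)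
  haveI := hQn
  obtain ⟨M₀, hM₀, hM₀R, hM₀c, t, htM, ht2, htQ⟩ := involution_witness hp2 _ G Q le_rfl hQp a hq hns
  have hRM : R ≤ M₀ := hM₀R R inferInstance hRp
  have hAab : IsMulCommutative A := hA.2.1
  have hAM : A ≤ M₀ := fun b hb => hM₀c b (Subgroup.le_centralizer_iff_isMulCommutative.mpr hAab haA b hb)
  have htC : t ∉ C := fun h => htQ (centralizer_le (Core.le_pCore hQn hQp) h)
  have haR : a ∉ R := fun haR => hns (Core.le_pCore (Subgroup.Normal.map inferInstance _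
    (QuotientGroup.mk'_surjective (centralizer (Q : Set G)))) (hRp.map _) ⟨a, haR, rfl⟩)
  have hM₀i : HasInv p M₀ :=
    hasInv_of_two hRM hRp htM ((Subgroup.normalizer_eq_top R).ge (mem_top t)) ht2 htC
  -- maximize
  obtain ⟨T, ⟨hTp, hRT, ⟨A', hA'T, hA'ab, hA'R, hA'c⟩, -⟩, hUn⟩ := hPFam
    (fun T => IsPGroup p T ∧ R ≤ T ∧ (∃ A' : Subgroup G, A' ≤ T ∧ IsMulCommutative A' ∧ ¬ A' ≤ R ∧
      Nat.card A' = Nat.card A) ∧ ∃ M : Subgroup G, M ≠ ⊤ ∧ HasInv p M ∧ T ≤ M)
    (fun T h => h.1)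
    (fun T T₁ h h1 hle hM => ⟨h1, h.2.1.trans hle,
      h.2.2.1.imp fun A' hA' => ⟨hA'.1.trans hle, hA'.2⟩, hM⟩)
    (fun T h => h.2.2.2)
    ⟨A ⊔ R, (S.2.to_le hA.1).to_sup_of_normal_right hRp, le_sup_right,
      ⟨A, le_sup_left, hAab, fun h => haR (h haA), rfl⟩, M₀, hM₀, hM₀i, sup_le hAM hRM⟩
  set U := centerThompsonAOf T with hU
  haveI hUn' : U.Normal := Subgroup.normalizer_eq_top_iff.mp hUn
  obtain ⟨S', hTS'⟩ := hTp.exists_le_sylow
  have hA'max : A' ∈ maxIn (IsAb (G := G)) (S' : Subgroup G) := by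
    refine ⟨hA'T.trans hTS', hA'ab, fun B hB hBab => ?_⟩
    obtain ⟨c, hc⟩ := MulAction.exists_smul_eq G S' S
    rw [hA'c, ← Subgroup.card_map_of_injective (f := (MulAut.conj c).toMonoidHom) (MulAut.conj c).injective]
    refine hA.2.2 _ ?_ (by haveI : IsMulCommutative B := hBab; exact Subgroup.map_isMulCommutative _ _)
    rw [show (S : Subgroup G) = (S' : Subgroup G).map (MulAut.conj c).toMonoidHom by
      rw [← hc, Sylow.coe_subgroup_smul]; rfl]
    exact Subgroup.map_mono hB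
  have hA'maxT : A' ∈ maxIn (IsAb (G := G)) T :=
    ⟨hA'T, hA'ab, fun B hB => hA'max.2.2 B (hB.trans hTS')⟩
  have hZU : centerThompsonAOf (S' : Subgroup G) ≤ U := by
    rw [hU, ← zMax_ab_eq, ← zMax_ab_eq]
    exact le_sInf fun B hB => zMax_le_mem (maxIn_subset_of_le hTS' hA'max hA'T hB)
  set CU := centralizer (U : Set G) with hCU
  have hCUN : CU ≤ normalizer (centerThompsonAOf (S' : Subgroup G) : Set G) :=
    (centralizer_le hZU).trans (Subgroup.centralizer_le_normalizer _)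
  have hA'CU : A' ≤ CU := by
    refine (Subgroup.le_centralizer_iff_isMulCommutative.mpr hA'ab).trans (centralizer_le ?_)
    rw [hU, ← zMax_ab_eq]
    exact zMax_le_mem hA'maxT
  have hRN : R ≤ normalizer (centerThompsonAOf (S' : Subgroup G) : Set G) :=
    (hRS S').trans (Subgroup.le_normalizer.trans (normalizer_le_zj hp2 S'.2))
  by_cases hev : ∃ s ∈ CU, (∃ l : ℕ, s ^ 2 ^ l = 1) ∧ s ≠ 1
  · obtain ⟨s, hs, hs2, hs1⟩ := hev
    exact hgoal' S' (hasInv_of_two hRN hRp (hCUN hs) ((Subgroup.normalizer_eq_top R).ge (mem_top s)) hs2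
      (htwoC s hs2 hs1))
  push Not at hev
  have hg1 : g ≠ 1 := by
    intro e
    rw [e, one_mul, inv_one, mul_one] at hinv
    have h2 : x ^ 2 = 1 := by rw [pow_two]; exact mul_eq_one_iff_eq_inv.mpr hinv
    obtain ⟨k, hk⟩ := hxp
    have h3 := pow_gcd_eq_one.mpr ⟨h2, hk⟩
    rw [(((Nat.coprime_primes Nat.prime_two hp.out).mpr hp2.symm).pow_right k).gcd_eq_one, pow_one] at h3
    exact hx1 h3
  have hgU : g ∉ CU := fun h => hg1 (hev g h hg2)
  have htop' := PLocal.normalizer_inf_sup_eq_top S' CU CU le_rfl ⟨0, by simp⟩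
  obtain ⟨c, hc, s, hs, hcs⟩ := Coprime.exists_mul_of_mem_sup
    (le_of_le_of_eq le_top (Subgroup.normalizer_eq_top CU).symm)
    (show g ∈ CU ⊔ normalizer (((S' : Subgroup G) ⊓ CU : Subgroup G) : Set G) by rw [htop']; trivial)
  obtain ⟨m, hm, hl⟩ := exists_odd_pow s
  have hsm : s ^ m ≠ 1 := by
    intro e
    apply hgU
    have e1 : QuotientGroup.mk' CU s = QuotientGroup.mk' CU g := by
      rw [← hcs, map_mul, show QuotientGroup.mk' CU c = 1 from (QuotientGroup.eq_one_iff c).mpr hc, one_mul]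
    have e2 : QuotientGroup.mk' CU g ^ m = 1 := by rw [← e1, ← map_pow, e, map_one]
    obtain ⟨l, hl'⟩ := hg2
    have h3 := pow_gcd_eq_one.mpr ⟨e2, (show QuotientGroup.mk' CU g ^ 2 ^ l = 1 by rw [← map_pow, hl', map_one])⟩
    rw [((Nat.coprime_two_right.mpr hm).pow_right l).gcd_eq_one, pow_one] at h3
    exact (QuotientGroup.eq_one_iff g).mp h3
  have hS'N : (S' : Subgroup G) ≤ normalizer (((S' : Subgroup G) ⊓ CU : Subgroup G) : Set G) := fun u hu =>
    mem_normalizer_fintype fun v hv =>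
      ⟨(S' : Subgroup G).mul_mem ((S' : Subgroup G).mul_mem hu hv.1) ((S' : Subgroup G).inv_mem hu), (inferInstance : CU.Normal).conj_mem v hv.2 u⟩
  have htop := hbig _ (hasInv_of_two ((hRS S').trans hS'N) hRp (pow_mem hs m)
    ((Subgroup.normalizer_eq_top R).ge (mem_top _)) hl (htwoC _ hl hsm)) S' hS'N
  exact hA'R ((le_inf (hA'T.trans hTS') hA'CU).trans
    (Core.le_pCore (Subgroup.normalizer_eq_top_iff.mp htop) (S'.2.to_le inf_le_left)))

end Cfsg.Agent.LocalEven
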