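import Cfsg.Agent.LocalEven.Conj
import Cfsg.Prelude.Def_IsolatedElements

set_option autoImplicit false

namespace Cfsg.Agent.LocalEven

variable {G : Type*} [Group G] [Finite G] {p : ℕ} [Fact p.Prime] {x : G}

/-- An isolated element is central in every `p`-subgroup containing it. -/
theorem isolated_le_centralizer (hiso : Cfsg.IsIsolated x) {R : Subgroup G} (hR : IsPGroup p R)
    (hx : x ∈ R) : R ≤ Subgroup.centralizer ({x} : Set G) := by
  refine inf_eq_left.mp (eq_of_normalizer_le hR inf_le_left ?_)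
  intro n hn'
  obtain ⟨hnR, hn⟩ := Subgroup.mem_inf.mp hn'
  refine Subgroup.mem_inf.mpr ⟨hnR, ?_⟩
  have hxM : x ∈ R ⊓ Subgroup.centralizer ({x} : Set G) :=
    ⟨hx, Subgroup.mem_centralizer_singleton_iff.mpr rfl⟩
  have h1 := (Subgroup.mem_inf.mp ((Subgroup.mem_normalizer_iff.mp hn x).mp hxM)).2
  rw [Subgroup.mem_centralizer_singleton_iff] at h1
  rw [Subgroup.mem_centralizer_singleton_iff]
  exact mul_inv_eq_iff_eq_mul.mp (hiso n h1.symm)

/-- Conjugates of an isolated `p`-element by elements of `G` inside a subgroup `C`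
are already conjugate in `C`. -/
theorem isolated_exists_conj (hiso : Cfsg.IsIsolated x) (hx : ∃ k, orderOf x = p ^ k)
    {C : Subgroup G} (hxC : x ∈ C) {g : G} (hg : g * x * g⁻¹ ∈ C) :
    ∃ c ∈ C, c * g * x = x * (c * g) := by
  have hx' : ∃ k, orderOf (g * x * g⁻¹) = p ^ k := by
    obtain ⟨k, hk⟩ := hx
    refine ⟨k, ?_⟩
    rw [← hk]
    exact orderOf_injective (MulAut.conj g).toMonoidHom (MulAut.conj g).injective x
  obtain ⟨R, -, hR, hxR, c, hc, hcR⟩ := exists_cj_le_common (isPGroup_zpowers_of_orderOf hx)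
    (isPGroup_zpowers_of_orderOf hx') (Subgroup.zpowers_le.mpr hxC) (Subgroup.zpowers_le.mpr hg)
  refine ⟨c, hc, ?_⟩
  have hmem : (c * g) * x * (c * g)⁻¹ ∈ R := by
    simpa [mul_assoc] using hcR (conj_mem_cj (g := c) (Subgroup.mem_zpowers (g * x * g⁻¹)))
  have h2 := isolated_le_centralizer hiso hR (hxR (Subgroup.mem_zpowers x)) hmem
  rw [Subgroup.mem_centralizer_singleton_iff] at h2
  exact mul_inv_eq_iff_eq_mul.mp (hiso (c * g) h2.symm)

end Cfsg.Agent.LocalEven
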