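import Cfsg.Agent.LocalEven.Isolated
import Cfsg.Agent.Core.Cores
import Cfsg.Agent.Core.CoprimeAction

/-! Invariant Sylow subgroups for an isolated element that is central modulo the `p'`-core,
and the structure of a minimal counterexample to the `Z*` property. -/

set_option autoImplicit false

namespace Cfsg.Agent.LocalEven

open Subgroup

variable {G : Type*} [Group G] [Finite G] {p : ℕ} [hp : Fact p.Prime] {x : G}

theorem IsIsolated_subtype (hiso : Cfsg.IsIsolated x) (H : Subgroup G) (hx : x ∈ H) :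
    Cfsg.IsIsolated (⟨x, hx⟩ : ↥H) := fun g hg =>
  Subtype.ext (hiso g (congrArg Subtype.val hg))

/-- An isolated element of order `p` that is central modulo the `p'`-core normalizes a Sylow `q`-subgroup. -/
theorem exists_sylow_normalized_of_inZStar (hiso : Cfsg.IsIsolated x) (hx : orderOf x = p)
    (hz : Cfsg.InZStar p x) (q : ℕ) [hq : Fact q.Prime] :
    ∃ R : Sylow q G, x ∈ normalizer ((R : Subgroup G) : Set G) := by
  set O := Cfsg.pPrimeCore p G with hO
  set C := centralizer ({x} : Set G) with hC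
  set A := zpowers x with hA
  haveI hOn : O.Normal := by rw [hO]; infer_instance
  have hAO : A ≤ normalizer (O : Set G) := by rw [normalizer_eq_top (H := O)]; exact le_top
  have hAcard : Nat.card A = p := by rw [hA, Nat.card_zpowers, hx]
  have hAc : IsMulCommutative ↥A := inferInstance
  have hcop : (Nat.card A).Coprime (Nat.card O) := by
    rw [hAcard]; exact (Core.card_pPrimeCore_coprime p G).symm
  have hsol : Group.IsSolvable ↥A ∨ Group.IsSolvable ↥O := by
    letI : CommGroup ↥A := { (inferInstance : Group ↥A) with mul_comm := fun a b => mul_comm' a b }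
    exact Or.inl inferInstance
  -- factorization
  have hfac : ∀ h : G, ∃ o ∈ O, ∃ c ∈ C, h = o * c := by
    intro h
    have hxM : x ∈ O ⊔ A := mem_sup_right (mem_zpowers x)
    have hyM : h * x * h⁻¹ ∈ O ⊔ A := by
      have := mul_mem_sup (hz h) (mem_zpowers x : x ∈ A)
      rwa [inv_mul_cancel_right] at this
    obtain ⟨c, hc, hch⟩ := isolated_exists_conj hiso ⟨1, by rw [hx, pow_one]⟩ hxM hyM
    have hc' : c⁻¹ ∈ ((O ⊔ A : Subgroup G) : Set G) := inv_mem hc
    rw [normal_mul O A] at hc'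
    obtain ⟨o, ho, a, ha, hoa⟩ := Set.mem_mul.mp hc'
    obtain ⟨i, rfl⟩ := mem_zpowers_iff.mp ha
    refine ⟨o, ho, x ^ i * (c * h), C.mul_mem (C.zpow_mem (mem_centralizer_singleton_iff.mpr rfl) i)
      (mem_centralizer_singleton_iff.mpr hch), ?_⟩
    rw [← mul_assoc, hoa, inv_mul_cancel_left]
  obtain ⟨T, hTO, hT, hTi, hTA⟩ := Core.exists_invariant_sylow (G := G) hAO hsol hcop q
  set D := C ⊓ normalizer (T : Set G) with hD
  have hfac2 : ∀ h : G, ∃ o ∈ O, ∃ d ∈ D, h = o * d := by
    intro h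
    obtain ⟨o, ho, c, hc, rfl⟩ := hfac h
    have hTc : T.map (MulAut.conj c).toMonoidHom ≤ O := by
      rintro _ ⟨t, ht, rfl⟩
      exact hOn.conj_mem t (hTO ht) c
    have hTci : ¬ q ∣ (T.map (MulAut.conj c).toMonoidHom).relIndex O := by
      have h1 := Subgroup.relIndex_map_map_of_injective T O (f := (MulAut.conj c).toMonoidHom)
        (MulAut.conj c).injective
      have hOc : O.map (MulAut.conj c).toMonoidHom = O := mem_normalizer_iff_map_conj_eq.mp (show c ∈ normalizer (O : Set G) by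
        rw [normalizer_eq_top (H := O)]; trivial)
      rw [hOc] at h1
      rwa [h1]
    have hTcA : A ≤ normalizer ((T.map (MulAut.conj c).toMonoidHom : Subgroup G) : Set G) := by
      rw [hA, zpowers_le]
      refine mem_normalizer_fintype ?_
      rintro _ ⟨t, ht, rfl⟩
      refine ⟨x * t * x⁻¹, (mem_normalizer_iff.mp (hTA (mem_zpowers x)) t).mp ht, ?_⟩
      show c * (x * t * x⁻¹) * c⁻¹ = x * (c * t * c⁻¹) * x⁻¹
      have hcx : c * x = x * c := mem_centralizer_singleton_iff.mp hc
      have hcx' : x⁻¹ * c⁻¹ = c⁻¹ * x⁻¹ := by rw [← mul_inv_rev, ← mul_inv_rev, hcx]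
      simp only [← mul_assoc, hcx]
      simp only [mul_assoc, hcx']
    obtain ⟨o', ho', hTT⟩ := Core.exists_conj_invariant_sylow (G := G) hAO hsol hcop hTO hTc hT (hT.map _) hTi hTci hTA hTcA
    obtain ⟨ho'O, ho'C⟩ := mem_inf.mp ho'
    have ho'C' : o' ∈ C := by
      rw [hC, mem_centralizer_singleton_iff]
      exact (mem_centralizer_iff.mp ho'C x (mem_zpowers x)).symm
    have hn : o'⁻¹ * c ∈ normalizer (T : Set G) := by
      refine mem_normalizer_fintype fun t ht => ?_
      have h1 : c * t * c⁻¹ ∈ T.map (MulAut.conj o').toMonoidHom := hTT ▸ ⟨t, ht, rfl⟩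
      obtain ⟨s, hs, hst⟩ := h1
      have hst' : o' * s * o'⁻¹ = c * t * c⁻¹ := hst
      have : o'⁻¹ * c * t * (o'⁻¹ * c)⁻¹ = s := by
        calc o'⁻¹ * c * t * (o'⁻¹ * c)⁻¹ = o'⁻¹ * (c * t * c⁻¹) * o' := by group
          _ = s := by rw [← hst']; group
      rwa [this]
    refine ⟨o * o', O.mul_mem ho ho'O, o'⁻¹ * c, ⟨C.mul_mem (C.inv_mem ho'C') hc, hn⟩, ?_⟩
    group
  obtain ⟨Dq⟩ := (inferInstance : Nonempty (Sylow q ↥D))
  set E := (Dq : Subgroup ↥D).map D.subtype with hE
  have hED : E ≤ D := map_subtype_le _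
  have hEn : E ≤ normalizer (T : Set G) := hED.trans inf_le_right
  have hU : IsPGroup q ↥(E ⊔ T : Subgroup G) := (Dq.2.map _).to_sup_of_normal_right' hT hEn
  obtain ⟨R, hR⟩ := hU.exists_le_sylow
  refine ⟨R, ?_⟩
  suffices hRU : (R : Subgroup G) ≤ E ⊔ T by
    have heq : (R : Subgroup G) = E ⊔ T := le_antisymm hRU hR
    rw [heq]
    refine mem_normalizer_fintype fun u hu => ?_
    have hnorm : x ∈ normalizer (T : Set G) := hTA (mem_zpowers x)
    have hu' : u ∈ ((E ⊔ T : Subgroup G) : Set G) := hu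
    rw [coe_mul_of_left_le_normalizer_right E T hEn] at hu'
    obtain ⟨e, he, t, ht, rfl⟩ := Set.mem_mul.mp hu'
    have hex : e * x = x * e := mem_centralizer_singleton_iff.mp (mem_inf.mp (hED he)).1
    rw [show x * (e * t) * x⁻¹ = (x * e * x⁻¹) * (x * t * x⁻¹) by group, ← hex, mul_inv_cancel_right]
    exact mul_mem_sup he ((mem_normalizer_iff.mp hnorm t).mp ht)
  intro r hr
  -- the image of the Sylow subgroup of `D` is a Sylow subgroup of the quotient
  set π := QuotientGroup.mk' O with hπ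
  have hDtop : Function.Surjective (π.comp D.subtype) := by
    intro y
    obtain ⟨h, rfl⟩ := QuotientGroup.mk'_surjective O y
    obtain ⟨o, ho, d, hd, rfl⟩ := hfac2 h
    refine ⟨⟨d, hd⟩, ?_⟩
    show π d = π (o * d)
    rw [map_mul, show π o = 1 from (QuotientGroup.eq_one_iff o).mpr ho, one_mul]
  have hsyl : ¬ q ∣ (E.map π).index := by
    rw [hE, Subgroup.map_map]
    exact fun h => Dq.not_dvd_index (h.trans (index_map_dvd _ hDtop))
  have hEq : E.map π = (R : Subgroup G).map π := by
    refine (((Dq.2.map _).map π).toSylow hsyl).3 (R.2.map π) ?_ |>.symm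
    exact map_mono (le_sup_left.trans hR)
  obtain ⟨e, he, her⟩ := hEq.ge ⟨r, hr, rfl⟩
  have hdiff : e⁻¹ * r ∈ O := by
    rw [← QuotientGroup.eq]
    exact her
  have hRT : (R : Subgroup G) ⊓ O = T := by
    refine (Subgroup.eq_of_le_of_card_ge (le_inf (le_sup_right.trans hR) hTO) ?_).symm
    have hO' : ((R : Subgroup G) ⊓ O).subgroupOf O = T.subgroupOf O := by
      have hTs : IsPGroup q ↥(T.subgroupOf O) := hT.comap_subtype
      refine (hTs.toSylow hTi).3 ((R.2.to_le inf_le_left).comap_subtype) ?_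
      intro t ht
      exact ⟨hR (mem_sup_right ht), t.2⟩
    rw [← Core.card_subgroupOf (inf_le_right : (R : Subgroup G) ⊓ O ≤ O), hO', Core.card_subgroupOf hTO]
  have : e⁻¹ * r ∈ T := hRT ▸ ⟨(R : Subgroup G).mul_mem ((R : Subgroup G).inv_mem (hR (mem_sup_left he))) hr, hdiff⟩
  have := mul_mem_sup he this
  rwa [mul_inv_cancel_left] at this

/-- The hypotheses of a minimal counterexample force a trivial `p'`-core. -/
theorem pPrimeCore_eq_bot_of_minimal (hnz : ¬ Cfsg.InZStar p x)
    (hquot : ∀ (N : Subgroup G) [N.Normal], N ≠ ⊥ → Cfsg.InZStar p (QuotientGroup.mk x : G ⧸ N)) :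
    Cfsg.pPrimeCore p G = ⊥ := by
  by_contra h
  haveI hn : (Cfsg.pPrimeCore p G).Normal := by infer_instance
  refine hnz fun g => ?_
  have h1 := hquot _ h (QuotientGroup.mk g)
  rw [Core.pPrimeCore_quotient_pPrimeCore, mem_bot] at h1
  exact (QuotientGroup.eq_one_iff _).mp h1

/-- An isolated element centralizing a normal subgroup containing it is central. -/
theorem isolated_central (hiso : Cfsg.IsIsolated x) (C : Subgroup G) [hCn : C.Normal] (hxC : x ∈ C)
    (hc : ∀ c ∈ C, c * x = x * c) : Cfsg.InZStar p x := fun g => by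
  rw [hiso g (hc _ (hCn.conj_mem x hxC g)).symm, mul_inv_cancel]
  exact one_mem _

end Cfsg.Agent.LocalEven
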