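import Cfsg.Agent.LocalEven.JCompTools

/-! The internal structure of a `J(T)`-component. -/

set_option autoImplicit false
set_option linter.style.haveILetI false
set_option linter.unusedSectionVars false

open scoped commutatorElement

namespace Cfsg.Agent.LocalEven.JComp

open Cfsg

variable {G : Type*} [Group G]

/-- `O₂(K)` has index 3. -/
structure JCore (K : Subgroup G) : Prop where
  idx : (pCoreOf 2 K).relIndex K = 3

/-- The conditions on a component in terms of the subgroup `J`. -/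
structure JC (J K : Subgroup G) : Prop extends JCore K where
  gen : Subgroup.closure {g : G | g ∈ K ∧ Odd (orderOf g)} = K
  comm : ⁅K, J⁆ = K
  syl : ∀ S : Subgroup G, IsSylowTwoIn S (K ⊔ J) → J ≤ S → JT S = J
  card4 : Nat.card ↥(wOf K) = 4
  exp2 : ∀ w ∈ wOf K, w * w = 1

theorem jc_iff {T K : Subgroup G} : IsJComponent T K ↔ JC (JT T) K :=
  ⟨fun ⟨h1, h2, h3, h4, h5, h6⟩ => ⟨⟨h3⟩, h1, h2, h4, h5, h6⟩,
    fun h => ⟨h.gen, h.comm, h.idx, h.syl, h.card4, h.exp2⟩⟩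

variable [Finite G]

/-- `Ω₁(Z(R))`. -/
theorem omegaCenter_le (R : Subgroup G) : omegaCenterOf R ≤ R :=
  (omegaOne_le _).trans inf_le_left

theorem omegaCenter_le_centralizer (R : Subgroup G) : omegaCenterOf R ≤ Subgroup.centralizer (R : Set G) :=
  (omegaOne_le _).trans inf_le_right

theorem omegaCenter_isEA (R : Subgroup G) : IsElementaryAbelian 2 (omegaCenterOf R) :=
  isElementaryAbelian_omegaOne (inf_centralizer_abelian R)

theorem mem_omegaCenter {R : Subgroup G} {x : G} :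
    x ∈ omegaCenterOf R ↔ x ∈ R ∧ x ∈ Subgroup.centralizer (R : Set G) ∧ x ^ 2 = 1 := by
  rw [omegaCenterOf, mem_omegaOne_iff (inf_centralizer_abelian R), Subgroup.mem_inf, and_assoc]

theorem normalizer_le_normalizer_omegaCenter (R : Subgroup G) :
    Subgroup.normalizer (R : Set G) ≤ Subgroup.normalizer (omegaCenterOf R : Set G) :=
  (le_inf le_rfl (normalizer_le_normalizer_cent R)).trans
    (Subgroup.inf_normalizer_le_normalizer_inf.trans (normalizer_le_normalizer_omegaOne _))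

theorem normalizer_le_normalizer_core (K : Subgroup G) :
    Subgroup.normalizer (K : Set G) ≤ Subgroup.normalizer (pCoreOf 2 K : Set G) :=
  OddLocal.normalizer_le_normalizer_map_char K (pCore 2 ↥K)

theorem normalizer_le_normalizer_wOf (K : Subgroup G) :
    Subgroup.normalizer (K : Set G) ≤ Subgroup.normalizer (wOf K : Set G) :=
  le_normalizer_comm ((normalizer_le_normalizer_core K).trans
    (normalizer_le_normalizer_omegaCenter _)) le_rfl

theorem sq_self_comm {V : Subgroup G} (hV : IsElementaryAbelian 2 V) {a b : G} (ha : a ∈ V) (hb : b ∈ V) :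
    a * b = b * a := PLocal.comm_of_EA hV ha hb

theorem sq_self {V : Subgroup G} (hV : IsElementaryAbelian 2 V) {a : G} (ha : a ∈ V) : a * a = 1 := by
  have := hV.2 a ha; rwa [pow_two] at this

theorem inv_self {V : Subgroup G} (hV : IsElementaryAbelian 2 V) {a : G} (ha : a ∈ V) : a⁻¹ = a :=
  inv_eq_of_mul_eq_one_right (sq_self hV ha)

/-- `N(v) = v · dvd⁻¹ · d²vd⁻²`. -/
def norm3 (d v : G) : G := v * (d * v * d⁻¹) * (d * (d * v * d⁻¹) * d⁻¹)

theorem norm3_fixed {V : Subgroup G} (hV : IsElementaryAbelian 2 V) {d v : G}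
    (hd : d ∈ Subgroup.normalizer (V : Set G)) (hv : v ∈ V)
    (hd3 : d * (d * (d * v * d⁻¹) * d⁻¹) * d⁻¹ = v) : d * norm3 d v * d⁻¹ = norm3 d v := by
  have h1 : d * v * d⁻¹ ∈ V := (Subgroup.mem_normalizer_iff.mp hd v).mp hv
  have h2 : d * (d * v * d⁻¹) * d⁻¹ ∈ V := (Subgroup.mem_normalizer_iff.mp hd _).mp h1
  unfold norm3
  calc d * (v * (d * v * d⁻¹) * (d * (d * v * d⁻¹) * d⁻¹)) * d⁻¹
      = (d * v * d⁻¹) * (d * (d * v * d⁻¹) * d⁻¹) * (d * (d * (d * v * d⁻¹) * d⁻¹) * d⁻¹) := by group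
    _ = (d * v * d⁻¹) * (d * (d * v * d⁻¹) * d⁻¹) * v := by rw [hd3]
    _ = v * ((d * v * d⁻¹) * (d * (d * v * d⁻¹) * d⁻¹)) := sq_self_comm hV (V.mul_mem h1 h2) hv
    _ = _ := by group

namespace JC

variable {J K : Subgroup G}

theorem J_normalizes (h : JC J K) : J ≤ Subgroup.normalizer (K : Set G) := by
  rw [← h.comm]; exact Subgroup.normalizer_commutator_ge_right K J

theorem R_le : pCoreOf 2 K ≤ K := op_le K

theorem R_pGroup : IsPGroup 2 (pCoreOf 2 K) := isPGroup_op K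

theorem K_normalizes_R : K ≤ Subgroup.normalizer (pCoreOf 2 K : Set G) :=
  Subgroup.le_normalizer.trans (normalizer_le_normalizer_core K)

theorem W_le_omega : wOf K ≤ omegaCenterOf (pCoreOf 2 K) :=
  Subgroup.le_normalizer_iff_commutator_le_left.mp
    (K_normalizes_R.trans (normalizer_le_normalizer_omegaCenter _))

theorem W_le_R : wOf K ≤ pCoreOf 2 K := W_le_omega.trans (omegaCenter_le _)

theorem W_EA : IsElementaryAbelian 2 (wOf K) := PLocal.isEA_mono (omegaCenter_isEA _) W_le_omega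

theorem R_centralizes_omega : pCoreOf 2 K ≤ Subgroup.centralizer (omegaCenterOf (pCoreOf 2 K) : Set G) :=
  Subgroup.le_centralizer_iff.mp (omegaCenter_le_centralizer _)

theorem R_centralizes_W : pCoreOf 2 K ≤ Subgroup.centralizer (wOf K : Set G) :=
  R_centralizes_omega.trans (Subgroup.centralizer_le W_le_omega)

theorem K_normalizes_W : K ≤ Subgroup.normalizer (wOf K : Set G) :=
  Subgroup.le_normalizer.trans (normalizer_le_normalizer_wOf K)

theorem W_ne_bot (h : JC J K) : wOf K ≠ ⊥ := fun e => by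
  have := h.card4; rw [e, Subgroup.card_bot] at this; exact absurd this (by norm_num)

theorem W_pGroup : IsPGroup 2 (wOf K) := R_pGroup.to_le W_le_R

theorem _root_.Cfsg.Agent.LocalEven.JComp.JCore.exists_d (h : JCore K) : ∃ d ∈ K, d ∉ pCoreOf 2 K := by
  have h1 : ¬ K ≤ pCoreOf 2 K := fun hle => by
    have := h.idx; rw [Subgroup.relIndex_eq_one.mpr hle] at this; exact absurd this (by norm_num)
  exact SetLike.not_le_iff_exists.mp h1

theorem _root_.Cfsg.Agent.LocalEven.JComp.JCore.cases3 (h : JCore K) {d : G} (hd : d ∈ K) (hdR : d ∉ pCoreOf 2 K) {k : G} (hk : k ∈ K) :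
    k ∈ pCoreOf 2 K ∨ k * d⁻¹ ∈ pCoreOf 2 K ∨ k * d ∈ pCoreOf 2 K := by
  set N := (pCoreOf 2 K).subgroupOf K with hN
  haveI : N.Normal := Subgroup.normal_subgroupOf_of_le_normalizer K_normalizes_R
  have hq : Nat.card (↥K ⧸ N) = 3 := h.idx
  haveI : Fact (Nat.Prime 3) := ⟨Nat.prime_three⟩
  set δ : ↥K ⧸ N := QuotientGroup.mk ⟨d, hd⟩
  have hδ : δ ≠ 1 := fun e => hdR ((QuotientGroup.eq_one_iff (⟨d, hd⟩ : ↥K)).mp e)
  have ho : orderOf δ = 3 := orderOf_eq_prime
    (by rw [← hq]; exact pow_card_eq_one') hδ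
  obtain ⟨n, hn⟩ := Subgroup.mem_zpowers_iff.mp
    (show (QuotientGroup.mk ⟨k, hk⟩ : ↥K ⧸ N) ∈ Subgroup.zpowers δ from
      mem_zpowers_of_prime_card hq hδ)
  rw [← zpow_mod_orderOf, ho] at hn
  have hcases : n % ((3 : ℕ) : ℤ) = 0 ∨ n % ((3 : ℕ) : ℤ) = 1 ∨ n % ((3 : ℕ) : ℤ) = 2 := by omega
  rcases hcases with e | e | e <;> rw [e] at hn
  · rw [zpow_zero] at hn
    exact Or.inl ((QuotientGroup.eq_one_iff (⟨k, hk⟩ : ↥K)).mp hn.symm)
  · refine Or.inr (Or.inl ?_)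
    rw [zpow_one] at hn
    have h2 : (QuotientGroup.mk (⟨k, hk⟩ * ⟨d, hd⟩⁻¹) : ↥K ⧸ N) = 1 := by
      rw [QuotientGroup.mk_mul, QuotientGroup.mk_inv, ← hn, mul_inv_cancel]
    exact (QuotientGroup.eq_one_iff (⟨k, hk⟩ * ⟨d, hd⟩⁻¹ : ↥K)).mp h2
  · refine Or.inr (Or.inr ?_)
    have h2 : (QuotientGroup.mk (⟨k, hk⟩ * ⟨d, hd⟩) : ↥K ⧸ N) = 1 := by
      rw [QuotientGroup.mk_mul, ← hn]
      have h3 : δ ^ (2 : ℤ) * δ = δ ^ 3 := by
        rw [show ((2 : ℤ)) = ((2 : ℕ) : ℤ) from rfl, zpow_natCast, pow_succ δ 2]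
      rw [h3, ← ho, pow_orderOf_eq_one]
    exact (QuotientGroup.eq_one_iff (⟨k, hk⟩ * ⟨d, hd⟩ : ↥K)).mp h2

theorem _root_.Cfsg.Agent.LocalEven.JComp.JCore.cube_mem (h : JCore K) {k : G} (hk : k ∈ K) : k ^ 3 ∈ pCoreOf 2 K := by
  haveI : ((pCoreOf 2 K).subgroupOf K).Normal := Subgroup.normal_subgroupOf_of_le_normalizer K_normalizes_R
  have h1 := Subgroup.pow_index_mem ((pCoreOf 2 K).subgroupOf K) ⟨k, hk⟩
  rw [show ((pCoreOf 2 K).subgroupOf K).index = 3 from h.idx] at h1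
  exact h1

theorem _root_.Cfsg.Agent.LocalEven.JComp.JCore.mem_R_of_two (h : JCore K) {x : G} (hx : x ∈ K) {n : ℕ} (hn : x ^ 2 ^ n = 1) :
    x ∈ pCoreOf 2 K := by
  haveI : ((pCoreOf 2 K).subgroupOf K).Normal := Subgroup.normal_subgroupOf_of_le_normalizer K_normalizes_R
  set N := (pCoreOf 2 K).subgroupOf K
  have h1 : orderOf (QuotientGroup.mk ⟨x, hx⟩ : ↥K ⧸ N) ∣ 3 := by
    have : Nat.card (↥K ⧸ N) = 3 := h.idx
    exact this ▸ orderOf_dvd_natCard _
  have h2 : orderOf (QuotientGroup.mk ⟨x, hx⟩ : ↥K ⧸ N) ∣ 2 ^ n := by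
    refine orderOf_dvd_of_pow_eq_one ?_
    rw [← QuotientGroup.mk_pow, show (⟨x, hx⟩ : ↥K) ^ 2 ^ n = 1 from Subtype.ext hn, QuotientGroup.mk_one]
  exact (QuotientGroup.eq_one_iff (⟨x, hx⟩ : ↥K)).mp (orderOf_eq_one_iff.mp
    (Nat.eq_one_of_dvd_coprimes ((by decide : Nat.Coprime 3 2).pow_right n) h1 h2))

theorem _root_.Cfsg.Agent.LocalEven.JComp.JCore.le_R_of_pGroup (h : JCore K) {Q : Subgroup G} (hQ : IsPGroup 2 Q) : K ⊓ Q ≤ pCoreOf 2 K := by
  rintro x ⟨hx, hxQ⟩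
  obtain ⟨n, hn⟩ := hQ ⟨x, hxQ⟩
  exact h.mem_R_of_two hx (congrArg Subtype.val hn)

theorem _root_.Cfsg.Agent.LocalEven.JComp.JCore.K_not_pGroup (h : JCore K) : ¬ IsPGroup 2 K := fun hK => by
  obtain ⟨d, hd, hdR⟩ := h.exists_d
  exact hdR (h.le_R_of_pGroup hK ⟨hd, hd⟩)

theorem _root_.Cfsg.Agent.LocalEven.JComp.JCore.K_eq_sup (h : JCore K) {d : G} (hd : d ∈ K) (hdR : d ∉ pCoreOf 2 K) :
    K = pCoreOf 2 K ⊔ Subgroup.zpowers d := by
  refine le_antisymm (fun k hk => ?_) (sup_le R_le (Subgroup.zpowers_le.mpr hd))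
  rcases h.cases3 hd hdR hk with h1 | h1 | h1
  · exact Subgroup.mem_sup_left h1
  · simpa using Subgroup.mul_mem _ (Subgroup.mem_sup_left h1) (Subgroup.mem_sup_right (Subgroup.mem_zpowers d))
  · simpa [mul_assoc] using Subgroup.mul_mem _ (Subgroup.mem_sup_left h1)
      (Subgroup.mem_sup_right (Subgroup.inv_mem _ (Subgroup.mem_zpowers d)))

/-! #### The action on `W` -/

theorem _root_.Cfsg.Agent.LocalEven.JComp.JCore.d_cube_fix (h : JCore K) {d v : G} (hd : d ∈ K)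
    (hvR : ∀ r ∈ pCoreOf 2 K, r * v = v * r) : d * (d * (d * v * d⁻¹) * d⁻¹) * d⁻¹ = v := by
  have h1 := hvR _ (h.cube_mem hd)
  calc d * (d * (d * v * d⁻¹) * d⁻¹) * d⁻¹ = (d ^ 3 * v) * (d ^ 3)⁻¹ := by
        simp only [pow_succ, pow_zero, one_mul, mul_inv_rev, mul_assoc]
    _ = v := by rw [h1]; group

theorem W_R_comm {r w : G} (hr : r ∈ pCoreOf 2 K) (hw : w ∈ wOf K) : r * w = w * r :=
  (Subgroup.mem_centralizer_iff.mp (R_centralizes_W hr) w hw).symm

theorem V_R_comm {r v : G} (hr : r ∈ pCoreOf 2 K) (hv : v ∈ omegaCenterOf (pCoreOf 2 K)) : r * v = v * r :=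
  Subgroup.mem_centralizer_iff.mp (omegaCenter_le_centralizer _ hv) r hr

theorem norm3_mul {V : Subgroup G} (hV : IsElementaryAbelian 2 V) {d a b : G}
    (hd : d ∈ Subgroup.normalizer (V : Set G)) (ha : a ∈ V) (hb : b ∈ V) :
    norm3 d (a * b) = norm3 d a * norm3 d b := by
  have a1 := (Subgroup.mem_normalizer_iff.mp hd a).mp ha
  have b1 := (Subgroup.mem_normalizer_iff.mp hd b).mp hb
  have a2 := (Subgroup.mem_normalizer_iff.mp hd _).mp a1
  have e1 : d * (a * b) * d⁻¹ = (d * a * d⁻¹) * (d * b * d⁻¹) := by group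
  have e2 : d * (d * (a * b) * d⁻¹) * d⁻¹ = (d * (d * a * d⁻¹) * d⁻¹) * (d * (d * b * d⁻¹) * d⁻¹) := by group
  unfold norm3
  rw [e2, e1]
  set x := d * a * d⁻¹
  set y := d * b * d⁻¹
  set z := d * x * d⁻¹
  set u := d * y * d⁻¹
  calc a * b * (x * y) * (z * u) = a * (b * x) * (y * z) * u := by group
    _ = a * (x * b) * (z * y) * u := by rw [sq_self_comm hV hb a1, sq_self_comm hV b1 a2]
    _ = a * x * (b * z) * y * u := by group
    _ = a * x * (z * b) * y * u := by rw [sq_self_comm hV hb a2]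
    _ = _ := by group

theorem _root_.Cfsg.Agent.LocalEven.JComp.JCore.norm3_W (h : JCore K) {d : G} (hd : d ∈ K) (hdR : d ∉ pCoreOf 2 K) {w : G} (hw : w ∈ wOf K) :
    norm3 d w = 1 := by
  set V := omegaCenterOf (pCoreOf 2 K) with hVd
  have hV := omegaCenter_isEA (pCoreOf 2 K)
  have hdV : d ∈ Subgroup.normalizer (V : Set G) :=
    K_normalizes_R.trans (normalizer_le_normalizer_omegaCenter _) hd
  suffices hsuff : w ∈ V ∧ norm3 d w = 1 from hsuff.2
  refine Subgroup.closure_induction (p := fun w _ => w ∈ V ∧ norm3 d w = 1) ?_ ?_ ?_ ?_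
    (show w ∈ Subgroup.closure {g : G | ∃ g₁ ∈ V, ∃ g₂ ∈ K, ⁅g₁, g₂⁆ = g} from
      (Subgroup.commutator_def V K) ▸ hw)
  · rintro x ⟨v, hv, k, hk, rfl⟩
    have hmem : ⁅v, k⁆ ∈ V := W_le_omega (Subgroup.commutator_mem_commutator hv hk)
    refine ⟨hmem, ?_⟩
    have hkV : k * v⁻¹ * k⁻¹ ∈ V :=
      (Subgroup.mem_normalizer_iff.mp ((K_normalizes_R.trans
        (normalizer_le_normalizer_omegaCenter _)) hk) _).mp (V.inv_mem hv)
    rw [show ⁅v, k⁆ = v * (k * v⁻¹ * k⁻¹) by rw [commutatorElement_def]; group,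
      norm3_mul hV hdV hv hkV]
    suffices hsame : norm3 d (k * v⁻¹ * k⁻¹) = norm3 d v by
      rw [hsame]
      have := (Subgroup.mem_normalizer_iff.mp hdV v).mp hv
      exact sq_self hV (V.mul_mem (V.mul_mem hv this) ((Subgroup.mem_normalizer_iff.mp hdV _).mp this))
    rw [inv_self hV hv]
    have hfix := h.d_cube_fix hd fun r hr => V_R_comm hr hv
    rcases h.cases3 hd hdR hk with h1 | h1 | h1
    · rw [V_R_comm h1 hv, mul_inv_cancel_right]
    · have e : k * v * k⁻¹ = d * v * d⁻¹ := by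
        have hdv := (Subgroup.mem_normalizer_iff.mp hdV v).mp hv
        calc k * v * k⁻¹ = ((k * d⁻¹) * (d * v * d⁻¹)) * (k * d⁻¹)⁻¹ := by group
          _ = _ := by rw [V_R_comm h1 hdv, mul_inv_cancel_right]
      rw [e, ← norm3_fixed hV hdV hv hfix]
      unfold norm3; group
    · have hdv := (Subgroup.mem_normalizer_iff.mp (Subgroup.inv_mem _ hdV) v).mp hv
      rw [inv_inv] at hdv
      have e : k * v * k⁻¹ = d⁻¹ * v * d := by
        calc k * v * k⁻¹ = ((k * d) * (d⁻¹ * v * d)) * (k * d)⁻¹ := by group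
          _ = _ := by rw [V_R_comm h1 hdv, mul_inv_cancel_right]
      rw [e]
      have h2 := norm3_fixed hV hdV hdv (h.d_cube_fix hd fun r hr => V_R_comm hr hdv)
      rw [← h2]
      unfold norm3; group
  · exact ⟨V.one_mem, by simp [norm3]⟩
  · exact fun a b _ _ ha hb => ⟨V.mul_mem ha.1 hb.1, by rw [norm3_mul hV hdV ha.1 hb.1, ha.2, hb.2, one_mul]⟩
  · exact fun a _ ha => ⟨V.inv_mem ha.1, by rw [inv_self hV ha.1]; exact ha.2⟩

theorem _root_.Cfsg.Agent.LocalEven.JComp.JCore.fpf (h : JCore K) {d : G} (hd : d ∈ K) (hdR : d ∉ pCoreOf 2 K) {w : G} (hw : w ∈ wOf K)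
    (hc : d * w = w * d) : w = 1 := by
  have h1 := h.norm3_W hd hdR hw
  have e : d * w * d⁻¹ = w := by rw [hc, mul_inv_cancel_right]
  rw [norm3, e, e, sq_self W_EA hw, one_mul] at h1
  exact h1

/-- The three involutions of `W`. -/
theorem four (h : JC J K) {d w : G} (hd : d ∈ K) (hdR : d ∉ pCoreOf 2 K) (hw : w ∈ wOf K) (hw1 : w ≠ 1)
    {v : G} (hv : v ∈ wOf K) :
    v = 1 ∨ v = w ∨ v = d * w * d⁻¹ ∨ v = d * (d * w * d⁻¹) * d⁻¹ := by
  classical
  set x := d * w * d⁻¹ with hxd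
  set y := d * x * d⁻¹ with hyd
  have hdN := K_normalizes_W hd
  have hx : x ∈ wOf K := (Subgroup.mem_normalizer_iff.mp hdN w).mp hw
  have hy : y ∈ wOf K := (Subgroup.mem_normalizer_iff.mp hdN x).mp hx
  have hx1 : x ≠ 1 := fun e => hw1 (by
    have := congrArg (fun t => d⁻¹ * t * d) e; simpa [hxd, mul_assoc] using this)
  have hy1 : y ≠ 1 := fun e => hx1 (by
    have := congrArg (fun t => d⁻¹ * t * d) e; simpa [hyd, mul_assoc] using this)
  have hwx : w ≠ x := fun e => hw1 (h.fpf hd hdR hw (by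
    conv_rhs => rw [e, hxd, inv_mul_cancel_right]))
  have hxy : x ≠ y := fun e => hwx (by
    have := congrArg (fun t => d⁻¹ * t * d) e; simpa [hxd, hyd, mul_assoc] using this)
  have hwy : w ≠ y := fun e => hxy (by
    have h3 := h.d_cube_fix hd fun r hr => W_R_comm hr hw
    rw [← hxd, ← hyd] at h3
    -- `w = y` gives `x = d w d⁻¹ = d y d⁻¹ = w = y`
    calc x = d * w * d⁻¹ := rfl
      _ = d * y * d⁻¹ := by rw [e]
      _ = w := h3
      _ = y := e)
  by_contra hcon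
  push Not at hcon
  obtain ⟨n1, n2, n3, n4⟩ := hcon
  have hsub : ({1, w, x, y, v} : Finset G) ⊆ ((wOf K : Set G).toFinite.toFinset) := by
    intro t ht
    rw [Set.Finite.mem_toFinset, SetLike.mem_coe]
    simp only [Finset.mem_insert, Finset.mem_singleton] at ht
    rcases ht with rfl | rfl | rfl | rfl | rfl
    exacts [one_mem _, hw, hx, hy, hv]
  have hcard := Finset.card_le_card hsub
  rw [← Nat.card_eq_card_finite_toFinset, show Nat.card ↥(wOf K : Set G) = 4 from h.card4,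
    show ({1, w, x, y, v} : Finset G) = insert 1 (insert w (insert x (insert y {v}))) from rfl,
    Finset.card_insert_of_notMem, Finset.card_insert_of_notMem, Finset.card_insert_of_notMem,
    Finset.card_insert_of_notMem, Finset.card_singleton] at hcard
  · omega
  · simpa using Ne.symm n4
  · simp [hxy, Ne.symm n3]
  · simp [hwx, hwy, Ne.symm n2]
  · simp [Ne.symm hw1, Ne.symm hx1, Ne.symm hy1, Ne.symm n1]

theorem mem_R_of_centralizes (h : JC J K) {k : G} (hk : k ∈ K)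
    (hc : k ∈ Subgroup.centralizer (wOf K : Set G)) : k ∈ pCoreOf 2 K := by
  by_contra hkR
  obtain ⟨⟨w, hw⟩, hw1⟩ := Subgroup.ne_bot_iff_exists_ne_one.mp h.W_ne_bot
  exact hw1 (Subtype.ext (h.fpf hk hkR hw (Subgroup.mem_centralizer_iff.mp hc w hw).symm))

/-- An element which fixes an involution of `W` and commutes with `d` modulo `R` centralizes `W`. -/
theorem centralizes_of_fix (h : JC J K) {d x w : G} (hd : d ∈ K) (hdR : d ∉ pCoreOf 2 K)
    (hw : w ∈ wOf K) (hw1 : w ≠ 1) (hxw : x * w = w * x) (hxd : ⁅d, x⁆ ∈ pCoreOf 2 K) :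
    x ∈ Subgroup.centralizer (wOf K : Set G) := by
  have hdN := K_normalizes_W hd
  have hstep : ∀ u ∈ wOf K, x * u = u * x → x * (d * u * d⁻¹) = d * u * d⁻¹ * x := by
    intro u hu hxu
    have hdu := (Subgroup.mem_normalizer_iff.mp hdN u).mp hu
    refine mul_inv_eq_iff_eq_mul.mp ?_
    have hxu' : x * u * x⁻¹ = u := by rw [hxu, mul_inv_cancel_right]
    calc x * (d * u * d⁻¹) * x⁻¹ = ⁅d, x⁆⁻¹ * (d * (x * u * x⁻¹) * d⁻¹) * ⁅d, x⁆ := by
          rw [commutatorElement_def]; group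
      _ = ⁅d, x⁆⁻¹ * (d * u * d⁻¹ * ⁅d, x⁆) := by rw [hxu', mul_assoc]
      _ = _ := by rw [← W_R_comm hxd hdu, inv_mul_cancel_left]
  rw [Subgroup.mem_centralizer_iff]
  intro v hv
  have h1 := hstep w hw hxw
  have h2 := hstep _ ((Subgroup.mem_normalizer_iff.mp hdN w).mp hw) h1
  rcases h.four hd hdR hw hw1 hv with rfl | rfl | rfl | rfl
  · simp
  · exact hxw.symm
  · exact h1.symm
  · exact h2.symm

/-- Conversely. -/
theorem comm_mem_R_of_centralizes (h : JC J K) {d x : G} (hd : d ∈ K)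
    (hx : x ∈ Subgroup.normalizer (K : Set G)) (hxc : x ∈ Subgroup.centralizer (wOf K : Set G)) :
    ⁅d, x⁆ ∈ pCoreOf 2 K := by
  refine h.mem_R_of_centralizes ?_ ?_
  · rw [show ⁅d, x⁆ = d * (x * d⁻¹ * x⁻¹) by rw [commutatorElement_def]; group]
    exact K.mul_mem hd ((Subgroup.mem_normalizer_iff.mp hx _).mp (K.inv_mem hd))
  · rw [commutatorElement_def]
    have hn : d ∈ Subgroup.normalizer (Subgroup.centralizer (wOf K : Set G) : Set G) :=
      normalizer_le_normalizer_cent _ (K_normalizes_W hd)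
    exact Subgroup.mul_mem _ ((Subgroup.mem_normalizer_iff.mp hn x).mp hxc) (Subgroup.inv_mem _ hxc)

/-- A two-element centralizing `K` modulo `R` centralizes `W`. -/
theorem centralizes_of_pGroup (h : JC J K) {Q : Subgroup G} (hQ : IsPGroup 2 Q)
    (hQK : Q ≤ Subgroup.normalizer (K : Set G)) (hQR : ∀ x ∈ Q, ∀ k ∈ K, ⁅k, x⁆ ∈ pCoreOf 2 K) :
    Q ≤ Subgroup.centralizer (wOf K : Set G) := by
  obtain ⟨w, hw, hw1, hfix⟩ := exists_fixed W_pGroup hQ h.W_ne_bot
    (hQK.trans (normalizer_le_normalizer_wOf K))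
  obtain ⟨d, hd, hdR⟩ := h.exists_d
  exact fun x hx => h.centralizes_of_fix hd hdR hw hw1 (hfix x hx) (hQR x hx d hd)

/-- If `[y,k]` lies in `Ω₁(Z(R))` and is killed by the norm it lies in `W`. -/
theorem _root_.Cfsg.Agent.LocalEven.JComp.JCore.mem_W_of_norm (h : JCore K) {d v : G} (hd : d ∈ K) (hdR : d ∉ pCoreOf 2 K)
    (hv : v ∈ omegaCenterOf (pCoreOf 2 K)) (hN : norm3 d v = 1) : v ∈ wOf K := by
  set V := omegaCenterOf (pCoreOf 2 K) with hVd
  have hV := omegaCenter_isEA (pCoreOf 2 K)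
  have hdV : d ∈ Subgroup.normalizer (V : Set G) :=
    K_normalizes_R.trans (normalizer_le_normalizer_omegaCenter _) hd
  set x := d * v * d⁻¹ with hxd
  set y := d * x * d⁻¹ with hyd
  have hx : x ∈ V := (Subgroup.mem_normalizer_iff.mp hdV v).mp hv
  have hy : y ∈ V := (Subgroup.mem_normalizer_iff.mp hdV x).mp hx
  have h1 : ⁅v, d⁆ * ⁅v, d * d⁆ ∈ wOf K :=
    (wOf K).mul_mem (Subgroup.commutator_mem_commutator hv hd)
      (Subgroup.commutator_mem_commutator hv (K.mul_mem hd hd))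
  have e1 : ⁅v, d⁆ = v * x⁻¹ := by rw [commutatorElement_def, hxd]; group
  have e2 : ⁅v, d * d⁆ = v * y⁻¹ := by
    rw [commutatorElement_def, hyd, hxd]; simp only [mul_inv_rev, inv_inv, mul_assoc]
  have hvxy : v * x * y = 1 := hN
  rw [e1, e2, inv_self hV hx, inv_self hV hy,
    show v * x * (v * y) = v * (x * v) * y by group, sq_self_comm hV hx hv,
    show v * (v * x) * y = (v * v) * (x * y) by group, sq_self hV hv, one_mul] at h1
  have h2 : v = (x * y)⁻¹ := eq_inv_of_mul_eq_one_left (by rw [← mul_assoc]; exact hvxy)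
  rw [h2]
  exact (wOf K).inv_mem h1

/-- Commutators of an elementary abelian group `Y` with `K` lie in `W`. -/
theorem _root_.Cfsg.Agent.LocalEven.JComp.JCore.commutator_mem_W (h : JCore K) {Y : Subgroup G} (hY : IsElementaryAbelian 2 Y)
    (hKY : K ≤ Subgroup.normalizer (Y : Set G)) (hYK : Y ≤ Subgroup.normalizer (K : Set G))
    (hRY : pCoreOf 2 K ≤ Subgroup.centralizer (Y : Set G)) {y k : G} (hy : y ∈ Y) (hk : k ∈ K) :
    ⁅y, k⁆ ∈ wOf K := by
  by_cases hkR : k ∈ pCoreOf 2 K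
  · rw [show ⁅y, k⁆ = 1 from commutatorElement_eq_one_iff_mul_comm.mpr
      (Subgroup.mem_centralizer_iff.mp (hRY hkR) y hy)]
    exact one_mem _
  have hyky : k * y⁻¹ * k⁻¹ ∈ Y := (Subgroup.mem_normalizer_iff.mp (hKY hk) _).mp (Y.inv_mem hy)
  have e : ⁅y, k⁆ = y * (k * y⁻¹ * k⁻¹) := by rw [commutatorElement_def]; group
  have hvY : ⁅y, k⁆ ∈ Y := e ▸ Y.mul_mem hy hyky
  have hvK : ⁅y, k⁆ ∈ K := by
    rw [commutatorElement_def]
    exact K.mul_mem ((Subgroup.mem_normalizer_iff.mp (hYK hy) k).mp hk) (K.inv_mem hk)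
  refine h.mem_W_of_norm hk hkR (mem_omegaCenter.mpr ⟨h.le_R_of_pGroup (PLocal.isPGroup_of_EA hY)
    ⟨hvK, hvY⟩, Subgroup.mem_centralizer_iff.mpr fun r hr =>
      (Subgroup.mem_centralizer_iff.mp (hRY hr) _ hvY).symm, hY.2 _ hvY⟩) ?_
  rw [e, norm3_mul hY (hKY hk) hy hyky, inv_self hY hy]
  have hfix := h.d_cube_fix (v := y) hk fun r hr => (Subgroup.mem_centralizer_iff.mp (hRY hr) y hy).symm
  have hsame : norm3 k (k * y * k⁻¹) = norm3 k y := by
    rw [← norm3_fixed hY (hKY hk) hy hfix]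
    unfold norm3; group
  rw [hsame]
  have h1 := (Subgroup.mem_normalizer_iff.mp (hKY hk) y).mp hy
  exact sq_self hY (Y.mul_mem (Y.mul_mem hy h1) ((Subgroup.mem_normalizer_iff.mp (hKY hk) _).mp h1))

end JC

end Cfsg.Agent.LocalEven.JComp
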