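import Cfsg.Agent.LocalEven.JCompJ

/-! `Ω₁(Z(J))` splits over `W` and the centre of `⟨K, J⟩`. -/

set_option autoImplicit false
set_option linter.style.haveILetI false
set_option linter.unusedSectionVars false

open scoped commutatorElement

namespace Cfsg.Agent.LocalEven.JComp

open Cfsg

variable {G : Type*} [Group G] [Finite G]

theorem card_mul_relIndex {A B : Subgroup G} (hAB : A ≤ B) : Nat.card A * A.relIndex B = Nat.card B := by
  rw [← Nat.card_congr (Subgroup.subgroupOfEquivOfLe hAB).toEquiv]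
  exact Subgroup.card_mul_index _

namespace JC

variable {T K : Subgroup G}

theorem decomp (hT : IsPGroup 2 T) (h : JC (JT T) K) :
    (omegaCenterOf (JT T) ⊓ ((K ⊔ JT T) ⊓ Subgroup.centralizer ((K ⊔ JT T : Subgroup G) : Set G))) ⊔
      (omegaCenterOf (JT T) ⊓ wOf K) = omegaCenterOf (JT T) := by
  refine le_antisymm (sup_le inf_le_left inf_le_left) fun x hx => ?_
  obtain ⟨hxJ, hxC, hx2⟩ := mem_omegaCenter.mp hx
  set P := K ⊔ JT T with hP
  set C := Subgroup.centralizer (wOf K : Set G) with hC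
  set Q := P ⊓ C with hQ
  have hPK : P ≤ Subgroup.normalizer (K : Set G) := sup_le Subgroup.le_normalizer h.J_normalizes
  have hPW : P ≤ Subgroup.normalizer (wOf K : Set G) := hPK.trans (normalizer_le_normalizer_wOf K)
  have hQP : P ≤ Subgroup.normalizer (Q : Set G) :=
    (le_inf Subgroup.le_normalizer (hPW.trans (normalizer_le_normalizer_cent _))).trans
      Subgroup.inf_normalizer_le_normalizer_inf
  obtain ⟨d, hd, hdR⟩ := h.exists_d
  set S := pCoreOf 2 K ⊔ JT T with hS
  -- `Q` is a normal 2-subgroup of `P`, so inside `S`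
  have hQ2 : IsPGroup 2 Q := by
    refine fun ⟨g, hgP, hgC⟩ => ?_
    have hgP' : g ∈ K ⊔ JT T := hgP
    obtain ⟨k, hk, j, hj, he⟩ := Coprime.exists_mul_of_mem_sup h.J_normalizes hgP'
    obtain ⟨n, hn⟩ := isPGroup_JT hT ⟨j, hj⟩
    -- `g ^ 2^n` lies in `K ∩ C ≤ R`
    have hgn : g ^ 2 ^ n ∈ pCoreOf 2 K := by
      refine h.mem_R_of_centralizes ?_ (C.pow_mem hgC _)
      haveI : (K.subgroupOf P).Normal := Subgroup.normal_subgroupOf_of_le_normalizer hPK
      have h1 : (QuotientGroup.mk (⟨g, hgP⟩ : ↥P) : ↥P ⧸ K.subgroupOf P) =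
          QuotientGroup.mk (⟨j, Subgroup.mem_sup_right hj⟩ : ↥P) := by
        refine QuotientGroup.eq.mpr ?_
        show g⁻¹ * j ∈ K
        rw [← he, mul_inv_rev]
        simpa [mul_assoc] using (Subgroup.mem_normalizer_iff.mp
          (Subgroup.inv_mem _ (h.J_normalizes hj)) _).mp (K.inv_mem hk)
      have h2 : (QuotientGroup.mk ((⟨g, hgP⟩ : ↥P) ^ 2 ^ n) : ↥P ⧸ K.subgroupOf P) = 1 := by
        rw [QuotientGroup.mk_pow, h1, ← QuotientGroup.mk_pow,
          show (⟨j, Subgroup.mem_sup_right hj⟩ : ↥P) ^ 2 ^ n = 1 from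
            Subtype.ext (congrArg Subtype.val hn :), QuotientGroup.mk_one]
      exact (QuotientGroup.eq_one_iff ((⟨g, hgP⟩ : ↥P) ^ 2 ^ n)).mp h2
    obtain ⟨m, hm⟩ := (R_pGroup (K := K)) ⟨_, hgn⟩
    refine ⟨n + m, Subtype.ext ?_⟩
    show g ^ 2 ^ (n + m) = 1
    rw [pow_add, pow_mul]
    exact congrArg Subtype.val hm
  have hQS : Q ≤ S :=
    (isSylowTwoIn_isMaxP (h.S_sylow hT)).normal_le hQ2 inf_le_left hQP
  obtain ⟨A, hA, a, ha, haW⟩ := h.exists_moving
  set A0 := A ⊓ C with hA0
  have hA0W := h.A0W_isMax hT hA ha haW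
  have hA0WQ : A0 ⊔ wOf K ≤ Q := by
    refine le_inf (hA0W.le_JT.trans le_sup_right) (sup_le inf_le_right ?_)
    exact Subgroup.le_centralizer_iff_isMulCommutative.mpr W_EA.1
  set V := omegaCenterOf (JT Q) with hV
  have hVEA : IsElementaryAbelian 2 V := omegaCenter_isEA _
  have hPV : P ≤ Subgroup.normalizer (V : Set G) :=
    hQP.trans ((normalizer_le_normalizer_JT Q).trans (normalizer_le_normalizer_omegaCenter _))
  have hJQJ : JT Q ≤ JT T := by
    have h1 := JT_mono hQS (hA0W.transfer (h.JT_S hT).symm) hA0WQ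
    rwa [h.JT_S hT] at h1
  have hA0WQmax : IsMaxEA Q (A0 ⊔ wOf K) := ⟨hA0WQ, hA0W.2.1, fun B hB hBe =>
    (hA0W.transfer (h.JT_S hT).symm).2.2 B (hB.trans hQS) hBe⟩
  have hWJQ : wOf K ≤ JT Q := le_sup_right.trans hA0WQmax.le_JT
  -- elements of `Ω₁(Z(J))` in `Q` lie in `V`
  have hmemV : ∀ y ∈ omegaCenterOf (JT T), y ∈ V := by
    intro y hy
    obtain ⟨hyJ, hyC, hy2⟩ := mem_omegaCenter.mp hy
    have hyQ : y ∈ Q := ⟨Subgroup.mem_sup_right hyJ, Subgroup.mem_centralizer_iff.mpr fun w hw =>
      Subgroup.mem_centralizer_iff.mp hyC w (h.W_le_J hT hw)⟩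
    have hcy : y ∈ Subgroup.centralizer (JT Q : Set G) := Subgroup.centralizer_le hJQJ hyC
    have hmax : IsMaxEA Q ((A0 ⊔ wOf K) ⊔ Subgroup.zpowers y) := by
      refine hA0WQmax.of_card (sup_le hA0WQ (Subgroup.zpowers_le.mpr hyQ)) ?_
        (Subgroup.card_le_of_le le_sup_left)
      exact PLocal.isEA_sup hA0W.2.1 (PLocal.isEA_zpowers hy2)
        (Subgroup.le_centralizer_iff.mp (Subgroup.zpowers_le.mpr
          (Subgroup.centralizer_le hA0WQmax.le_JT hcy)))
    exact mem_omegaCenter.mpr ⟨hmax.le_JT (Subgroup.mem_sup_right (Subgroup.mem_zpowers y)), hcy, hy2⟩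
  have hWV : wOf K ≤ V := fun w hw => by
    refine mem_omegaCenter.mpr ⟨hWJQ hw, ?_, W_EA.2 w hw⟩
    exact Subgroup.le_centralizer_iff.mp ((JT_le Q).trans inf_le_right) hw
  -- `a` and `b = dad⁻¹` induce transvections on `V`
  set U := V ⊓ Subgroup.centralizer ({a} : Set G) with hU
  have haP : a ∈ P := Subgroup.mem_sup_right (hA.le_JT ha)
  have hA0V : V ⊔ A0 ≤ S := sup_le ((omegaCenter_le _).trans ((JT_le Q).trans hQS))
    (inf_le_left.trans (hA.le_JT.trans le_sup_right))
  have hVA0 : V ≤ Subgroup.centralizer (A0 : Set G) :=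
    (omegaCenter_le_centralizer _).trans
      (Subgroup.centralizer_le (SetLike.coe_subset_coe.mpr ((le_sup_left : A0 ≤ A0 ⊔ wOf K).trans hA0WQmax.le_JT)))
  have hindex : U.relIndex V ≤ 2 := by
    have h1 := (hA.transfer (h.JT_S hT).symm).2.2 _ hA0V
      (PLocal.isEA_sup hVEA (PLocal.isEA_mono hA.2.1 inf_le_left) hVA0)
    have h2 := PLocal.card_sup_mul_card_inf (A := V) (B := A0)
      (hVA0.trans (Subgroup.centralizer_le_normalizer _))
    have h3 : V ⊓ A0 ≤ U := le_inf inf_le_left fun t ht =>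
      Subgroup.mem_centralizer_singleton_iff.mpr (PLocal.comm_of_EA hA.2.1 ht.2.1 ha)
    have h4 := card_mul_relIndex (inf_le_left : U ≤ V)
    have h5 := Subgroup.card_le_of_le h3
    have h6 := h.card_le_two_mul hA
    have h7 := Nat.card_pos (α := A0)
    rw [← hC, ← hA0] at h6
    have h8 : Nat.card V * Nat.card A0 ≤ Nat.card U * 2 * Nat.card A0 := by
      rw [← h2]
      calc Nat.card ↥(V ⊔ A0) * Nat.card ↥(V ⊓ A0) ≤ Nat.card A * Nat.card U := Nat.mul_le_mul h1 h5
        _ ≤ 2 * Nat.card A0 * Nat.card U := Nat.mul_le_mul_right _ h6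
        _ = _ := by ring
    have h9 := Nat.le_of_mul_le_mul_right h8 h7
    rw [← h4] at h9
    exact Nat.le_of_mul_le_mul_left h9 Nat.card_pos
  set b := d * a * d⁻¹ with hbdef
  have hdP : d ∈ P := Subgroup.mem_sup_left hd
  set c := a * b with hcdef
  have hc : c ∈ K := by
    have hbb : a * a = 1 := sq_self hA.2.1 ha
    have e : c = a * d * a⁻¹ * d⁻¹ := by
      rw [hcdef, hbdef, inv_eq_of_mul_eq_one_right hbb]; group
    rw [e]
    exact K.mul_mem ((Subgroup.mem_normalizer_iff.mp (hPK haP) d).mp hd) (K.inv_mem hd)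
  have hcR : c ∉ pCoreOf 2 K := fun hcR => by
    obtain ⟨z, hz, hz1, hfix⟩ := exists_fixed W_pGroup (PLocal.isPGroup_of_EA hA.2.1) h.W_ne_bot
      (h.A_normalizes_W hA)
    -- `c` centralizes `z`, so `dzd⁻¹` is fixed by `a`
    have h1 := hfix a ha
    have h2 : c * z = z * c := W_R_comm hcR hz
    have h3 : b * z = z * b := by
      have : b = a⁻¹ * c := by rw [hcdef]; group
      rw [this]
      exact ((Commute.inv_left (h1 : Commute a z)).mul_left (h2 : Commute c z)).eq
    set w := d⁻¹ * z * d with hw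
    have hwW : w ∈ wOf K := by
      have := (Subgroup.mem_normalizer_iff.mp (Subgroup.inv_mem _ (K_normalizes_W hd)) z).mp hz
      rwa [inv_inv] at this
    have haw : a * w = w * a := by
      rw [hw]
      calc a * (d⁻¹ * z * d) = d⁻¹ * (b * z) * d := by rw [hbdef]; group
        _ = d⁻¹ * (z * b) * d := by rw [h3]
        _ = _ := by rw [hbdef]; group
    refine haW (Subgroup.mem_centralizer_iff.mpr fun t ht => ?_)
    have hdd : d * w * d⁻¹ = z := by rw [hw]; group
    rcases h.four hd hdR hwW (fun e => hz1 (by rw [← hdd, e]; group)) ht with rfl | rfl | rfl | rfl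
    · simp
    · exact haw.symm
    · rw [hdd]; exact h1.symm
    · rw [hdd]
      have hn := h.norm3_W hd hdR hwW
      rw [norm3, hdd] at hn
      rw [eq_inv_of_mul_eq_one_right hn]
      exact ((Commute.mul_right (haw : Commute a w) (h1 : Commute a z)).inv_right).eq.symm
  -- `V = W × C_V(c)`
  set U2 := U ⊓ Subgroup.centralizer ({b} : Set G) with hU2
  have hVU2 : U2.relIndex V ≤ 4 := by
    have hUb : (V ⊓ Subgroup.centralizer ({b} : Set G)).relIndex V = U.relIndex V := by
      have e : V ⊓ Subgroup.centralizer ({b} : Set G) = cj d U := by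
        ext t
        rw [mem_cj, hU, Subgroup.mem_inf, Subgroup.mem_inf, Subgroup.mem_centralizer_singleton_iff,
          Subgroup.mem_centralizer_singleton_iff]
        have hdv : t ∈ V ↔ d⁻¹ * t * d ∈ V := by
          have := Subgroup.mem_normalizer_iff.mp (Subgroup.inv_mem _ (hPV hdP)) t
          rwa [inv_inv] at this
        refine and_congr hdv ⟨fun e => ?_, fun e => ?_⟩
        · calc d⁻¹ * t * d * a = d⁻¹ * (t * b) * d := by rw [hbdef]; group
            _ = d⁻¹ * (b * t) * d := by rw [e]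
            _ = _ := by rw [hbdef]; group
        · calc t * b = d * ((d⁻¹ * t * d) * a) * d⁻¹ := by rw [hbdef]; group
            _ = d * (a * (d⁻¹ * t * d)) * d⁻¹ := by rw [e]
            _ = _ := by rw [hbdef]; group
      have h1 := card_mul_relIndex (inf_le_left : V ⊓ Subgroup.centralizer ({b} : Set G) ≤ V)
      have h2 := card_mul_relIndex (inf_le_left : U ≤ V)
      rw [← h2] at h1
      conv_lhs at h1 => arg 1; rw [e, card_cj]
      exact Nat.eq_of_mul_eq_mul_left Nat.card_pos h1
    have h1 : U2 = U ⊓ (V ⊓ Subgroup.centralizer ({b} : Set G)) := by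
      rw [hU2, hU]; ext t; simp only [Subgroup.mem_inf]; tauto
    rw [h1]
    refine (Subgroup.relIndex_inf_le).trans ?_
    rw [hUb]
    exact Nat.mul_le_mul hindex hindex
  have hWU2 : wOf K ⊓ U2 = ⊥ := by
    rw [Subgroup.eq_bot_iff_forall]
    rintro t ⟨htW, ⟨htV, hta⟩, htb⟩
    refine h.fpf hc hcR htW ?_
    exact (Commute.mul_left (Subgroup.mem_centralizer_singleton_iff.mp hta).symm
      (Subgroup.mem_centralizer_singleton_iff.mp htb).symm : Commute c t).eq
  have hsplit : V ≤ wOf K ⊔ U2 := by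
    refine (Subgroup.eq_of_le_of_card_ge (sup_le hWV (inf_le_left.trans inf_le_left)) ?_).ge
    have h1 := PLocal.card_sup_mul_card_inf (A := wOf K) (B := U2)
      ((Subgroup.le_centralizer_iff.mp ((inf_le_left.trans inf_le_left).trans
        ((Subgroup.le_centralizer_iff_isMulCommutative.mpr hVEA.1).trans
          (Subgroup.centralizer_le hWV)))).trans (Subgroup.centralizer_le_normalizer _))
    rw [hWU2, Subgroup.card_bot, mul_one, h.card4] at h1
    rw [h1, ← card_mul_relIndex (inf_le_left.trans inf_le_left : U2 ≤ V), mul_comm 4]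
    exact Nat.mul_le_mul_left _ hVU2
  obtain ⟨w, hw, y, hy, rfl⟩ := Coprime.exists_mul_of_mem_sup
    ((inf_le_left.trans inf_le_left).trans ((Subgroup.le_centralizer_iff_isMulCommutative.mpr
      hVEA.1).trans ((Subgroup.centralizer_le hWV).trans (Subgroup.centralizer_le_normalizer _))))
    (hsplit (hmemV x hx))
  obtain ⟨⟨hyV, hya⟩, hyb⟩ := hy
  replace hya := Subgroup.mem_centralizer_singleton_iff.mp hya
  replace hyb := Subgroup.mem_centralizer_singleton_iff.mp hyb
  -- `a` fixes `w`, so `w` is central in `J`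
  have hwa : a * w = w * a := by
    have h1 : a * (w * y) = w * y * a := Subgroup.mem_centralizer_iff.mp hxC a (hA.le_JT ha)
    have h2 : a * w * y = w * a * y := by rw [mul_assoc, h1, mul_assoc, hya, mul_assoc]
    exact mul_right_cancel h2
  have hwZ : w ∈ omegaCenterOf (JT T) := by
    by_cases hw1 : w = 1
    · rw [hw1]; exact one_mem _
    obtain ⟨z, hz, hz1, hfix⟩ := exists_fixed W_pGroup (isPGroup_JT hT) h.W_ne_bot
      (h.J_normalizes.trans (normalizer_le_normalizer_wOf K))
    refine mem_omegaCenter.mpr ⟨h.W_le_J hT hw,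
      Subgroup.mem_centralizer_iff.mpr fun j hj => ?_, W_EA.2 w hw⟩
    suffices e : w = z by rw [e]; exact hfix j hj
    by_contra hne
    refine haW (Subgroup.mem_centralizer_iff.mpr fun t ht => ?_)
    -- `a` fixes two involutions of `W`
    have hza := hfix a (hA.le_JT ha)
    have hsub : Subgroup.closure {z, w} = wOf K := by
      have hle : Subgroup.closure {z, w} ≤ wOf K := (Subgroup.closure_le _).mpr (by
        rintro t (rfl | rfl)
        exacts [hz, hw])
      refine Subgroup.eq_of_le_of_card_ge hle ?_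
      rw [h.card4]
      classical
      have hs : ({1, z, w, z * w} : Finset G) ⊆
          ((Subgroup.closure {z, w} : Subgroup G) : Set G).toFinite.toFinset := by
        intro t ht
        rw [Set.Finite.mem_toFinset, SetLike.mem_coe]
        simp only [Finset.mem_insert, Finset.mem_singleton] at ht
        have m1 : z ∈ Subgroup.closure {z, w} := Subgroup.subset_closure (Set.mem_insert _ _)
        have m2 : w ∈ Subgroup.closure {z, w} := Subgroup.subset_closure (Set.mem_insert_of_mem _ rfl)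
        rcases ht with rfl | rfl | rfl | rfl
        exacts [one_mem _, m1, m2, Subgroup.mul_mem _ m1 m2]
      have := Finset.card_le_card hs
      rw [← Nat.card_eq_card_finite_toFinset] at this
      refine le_trans (le_of_eq ?_) this
      have hzw : z * w ≠ 1 := fun e => hne (by
        rw [eq_inv_of_mul_eq_one_left e, inv_self W_EA hw])
      rw [Finset.card_insert_of_notMem, Finset.card_insert_of_notMem, Finset.card_insert_of_notMem,
        Finset.card_singleton]
      · simp [hw1]
        exact hz1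
      · simp only [Finset.mem_insert, Finset.mem_singleton, not_or]
        exact ⟨fun e => hne e.symm, fun e => hw1 (mul_eq_left.mp e.symm)⟩
      · simp [Ne.symm hz1, Ne.symm hw1, Ne.symm hzw]
    rw [← hsub] at ht
    refine Subgroup.closure_induction ?_ ?_ ?_ ?_ ht
    · rintro t (rfl | rfl)
      exacts [hza.symm, hwa.symm]
    · simp
    · exact fun p q _ _ hp hq => (Commute.mul_left hp hq : Commute (p * q) a)
    · exact fun p _ hp => (Commute.inv_left hp : Commute p⁻¹ a)
  have hyZ : y ∈ omegaCenterOf (JT T) := by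
    have := (omegaCenterOf (JT T)).mul_mem ((omegaCenterOf (JT T)).inv_mem hwZ) hx
    simpa using this
  rw [sup_comm]
  refine Subgroup.mul_mem_sup ⟨hwZ, hw⟩ ⟨hyZ, Subgroup.mem_sup_right (mem_omegaCenter.mp hyZ).1,
    Subgroup.mem_centralizer_iff.mpr fun g hg => ?_⟩
  have hgen : K ⊔ JT T ≤ JT T ⊔ Subgroup.zpowers c := sup_le (h.K_le_sup_zpowers hT hc hcR) le_sup_left
  have hycent : JT T ⊔ Subgroup.zpowers c ≤ Subgroup.centralizer ({y} : Set G) := by
    refine sup_le (fun j hj => ?_) (Subgroup.zpowers_le.mpr ?_)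
    · rw [Subgroup.mem_centralizer_singleton_iff]
      exact Subgroup.mem_centralizer_iff.mp (mem_omegaCenter.mp hyZ).2.1 j hj
    · rw [Subgroup.mem_centralizer_singleton_iff]
      exact (Commute.mul_left hya.symm hyb.symm : Commute c y).eq
  exact Subgroup.mem_centralizer_singleton_iff.mp (hycent (hgen hg))

end JC

end Cfsg.Agent.LocalEven.JComp
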