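import Cfsg.Agent.LocalEven.JCompShift

/-! The structure of `T` and of the two members. -/

set_option autoImplicit false
set_option linter.style.haveILetI false
set_option linter.unusedSectionVars false

open scoped commutatorElement

namespace Cfsg.Agent.LocalEven.JComp

open Cfsg

universe u

variable {G : Type u} [Group G] [Finite G]

/-- What is known about a family at `T`. -/
structure CoreData (T : Subgroup G) (P : Subgroup G → Subgroup G → Prop) (C D : Subgroup G) : Prop where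
  pC : P T C
  pD : P T D
  ne : C ≠ D
  nonorm : NoNorm T C D
  abelC : IsElementaryAbelian 2 (pCoreOf 2 (lK T C))
  abelD : IsElementaryAbelian 2 (pCoreOf 2 (lK T D))
  Q_eq : pCoreOf 2 (lK T C) = yOf (lK T C)
  Q_eq' : pCoreOf 2 (lK T D) = yOf (lK T D)
  inf_eq : pCoreOf 2 (lK T C) ⊓ pCoreOf 2 (lK T D) = zJ T
  sup_eq : pCoreOf 2 (lK T C) ⊔ pCoreOf 2 (lK T D) = T
  card_C : Nat.card (pCoreOf 2 (lK T C)) = 2 * Nat.card (zJ T)
  card_D : Nat.card (pCoreOf 2 (lK T D)) = 2 * Nat.card (zJ T)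
  card_T : Nat.card T = 4 * Nat.card (zJ T)
  z_eq : zJ T ⊓ wOf C = zJ T ⊓ wOf D
  inv : ∀ x ∈ T, x * x = 1 → x ∈ pCoreOf 2 (lK T C) ∨ x ∈ pCoreOf 2 (lK T D)
  J_eq : JT T = T
  only : ∀ X, P T X → X = C ∨ X = D
  ea : ∀ A : Subgroup G, A ≤ T → IsElementaryAbelian 2 A →
    A ≤ pCoreOf 2 (lK T C) ∨ A ≤ pCoreOf 2 (lK T D)

theorem sq_closure_normalized (L : Subgroup G) :
    L ≤ Subgroup.normalizer (Subgroup.closure ((fun x => x * x) '' (pCoreOf 2 L : Set G)) : Set G) := by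
  intro g hg
  rw [← cj_eq_self_iff]
  refine Subgroup.eq_of_le_of_card_ge ?_ (card_cj g _).ge
  rw [LocalEven.cj, MonoidHom.map_closure]
  refine Subgroup.closure_mono ?_
  rintro _ ⟨_, ⟨x, hx, rfl⟩, rfl⟩
  refine ⟨g * x * g⁻¹, (Subgroup.mem_normalizer_iff.mp (map_pCore_normalized L hg) x).mp hx, ?_⟩
  show g * x * g⁻¹ * (g * x * g⁻¹) = g * (x * x) * g⁻¹
  group

theorem Member.card_Y_eq {T K : Subgroup G} (m : Member T K) :
    Nat.card (yOf (lK T K)) = 2 * Nat.card (zJ T) := by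
  have hc := PLocal.card_sup_mul_card_inf (A := hK T K) (B := wOf K)
    (fun x hx => Subgroup.centralizer_le_normalizer _ (Subgroup.mem_centralizer_iff.mpr fun y hy =>
      PLocal.comm_of_EA (omegaCenter_isEA _) (m.W_le_Y hy) (m.hK_le_Y hx)))
  rw [m.jc.hK_inf_W, Subgroup.card_bot, mul_one, m.jc.card4, sup_comm, ← m.Y_eq] at hc
  have := m.jc.card_zJ m.hT
  omega

namespace Fam

variable {T : Subgroup G} {P : Subgroup G → Subgroup G → Prop}

theorem core_of (F : Fam T P) {C D : Subgroup G} (hC : P T C) (hD : P T D) (hne : C ≠ D)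
    (hcr : ¬ yOf (lK T C) ≤ pCoreOf 2 (lK T D)) : CoreData T P C D := by
  haveI : Fact (Nat.Prime 2) := ⟨Nat.prime_two⟩
  have mC := F.mem hC
  have mD := F.mem hD
  set QC := pCoreOf 2 (lK T C) with hQC
  set QD := pCoreOf 2 (lK T D) with hQD
  set YC := yOf (lK T C) with hYC
  set YD := yOf (lK T D) with hYD
  have hYCT : YC ≤ T := mC.Y_le_Q.trans mC.Q_le
  have hYDT : YD ≤ T := mD.Y_le_Q.trans mD.Q_le
  obtain ⟨a, ha, haD⟩ := SetLike.not_le_iff_exists.mp hcr
  obtain ⟨v, hv, hne'⟩ : ∃ v ∈ YD, ⁅a, v⁆ ≠ 1 := by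
    by_contra hcon
    push Not at hcon
    refine haD (mD.mem_Q (hYCT ha) (Subgroup.mem_centralizer_iff.mpr fun w hw => ?_))
    exact (commutatorElement_eq_one_iff_mul_comm.mp (hcon w (mD.W_le_Y hw))).symm
  have hvC : v ∉ QC := fun h => hne' (commutatorElement_eq_one_iff_mul_comm.mpr
    (Subgroup.mem_centralizer_iff.mp (mC.Q_cent_Y h) a ha))
  have hnn : NoNorm T C D := by
    intro V hV hV1 hTV hCV hDV
    rcases F.link hC hD V hV hV1 hTV hCV hDV with e | ⟨-, -, e⟩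
    · exact hne e
    refine haD (mD.mem_Q (hYCT ha) ?_)
    rw [hYC, mC.Y_eq] at ha
    refine Subgroup.mem_centralizer_iff.mpr fun w hw => ?_
    have h1 : wOf C ⊔ hK T C ≤ Subgroup.centralizer ({w} : Set G) := by
      refine sup_le (fun x hx => ?_) (fun x hx => ?_)
      · exact Subgroup.mem_centralizer_singleton_iff.mpr (Subgroup.mem_centralizer_iff.mp (e hw) x hx)
      · exact Subgroup.mem_centralizer_singleton_iff.mpr (Subgroup.mem_centralizer_iff.mp
          ((mD.W_le_Y.trans (mD.Y_le_Q.trans mD.Q_le)).trans mC.T_cent_hK hw) x hx)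
    exact (Subgroup.mem_centralizer_singleton_iff.mp (h1 ha)).symm
  have haa : a * a = 1 := sq_self (omegaCenter_isEA _) ha
  have hvv : v * v = 1 := sq_self (omegaCenter_isEA _) hv
  have hCeq : ∀ x ∈ QC, x ∈ QD ∨ ∃ d ∈ QC ⊓ QD, x = a * d := fun x hx => by
    by_cases hxD : x ∈ QD
    · exact Or.inl hxD
    · exact Or.inr ⟨a⁻¹ * x, ⟨QC.mul_mem (QC.inv_mem (mC.Y_le_Q ha)) hx,
        mD.inv_mul_mem_Q (mC.Q_le hx) (hYCT ha) hxD haD⟩, (mul_inv_cancel_left a x).symm⟩
  have hDeq : ∀ x ∈ QD, x ∈ QC ∨ ∃ d ∈ QC ⊓ QD, x = v * d := fun x hx => by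
    by_cases hxC : x ∈ QC
    · exact Or.inl hxC
    · exact Or.inr ⟨v⁻¹ * x, ⟨mC.inv_mul_mem_Q (mD.Q_le hx) (hYDT hv) hxC hvC,
        QD.mul_mem (QD.inv_mem (mD.Y_le_Q hv)) hx⟩, (mul_inv_cancel_left v x).symm⟩
  set Φ := Subgroup.closure ((fun x => x * x) '' ((QC ⊓ QD : Subgroup G) : Set G)) with hΦ
  have hsq : ∀ {x d b : G}, x = b * d → b * b = 1 → b * d = d * b → x * x = d * d := by
    intro x d b e hb hc
    rw [e]
    calc b * d * (b * d) = b * (d * b) * d := by group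
      _ = b * (b * d) * d := by rw [← hc]
      _ = b * b * (d * d) := by group
      _ = _ := by rw [hb, one_mul]
  have hΦC : Φ = Subgroup.closure ((fun x => x * x) '' (QC : Set G)) := by
    refine le_antisymm (Subgroup.closure_mono (Set.image_mono (SetLike.coe_subset_coe.mpr inf_le_left))) ?_
    rw [Subgroup.closure_le]
    rintro _ ⟨x, hx, rfl⟩
    rcases hCeq x hx with h | ⟨d, hd, e⟩
    · exact Subgroup.subset_closure ⟨x, ⟨hx, h⟩, rfl⟩
    · show x * x ∈ Φ
      rw [hsq e haa (Subgroup.mem_centralizer_iff.mp (mC.Q_cent_Y hd.1) a ha)]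
      exact Subgroup.subset_closure ⟨d, hd, rfl⟩
  have hΦD : Φ = Subgroup.closure ((fun x => x * x) '' (QD : Set G)) := by
    refine le_antisymm (Subgroup.closure_mono (Set.image_mono (SetLike.coe_subset_coe.mpr inf_le_right))) ?_
    rw [Subgroup.closure_le]
    rintro _ ⟨x, hx, rfl⟩
    rcases hDeq x hx with h | ⟨d, hd, e⟩
    · exact Subgroup.subset_closure ⟨x, ⟨h, hx⟩, rfl⟩
    · show x * x ∈ Φ
      rw [hsq e hvv (Subgroup.mem_centralizer_iff.mp (mD.Q_cent_Y hd.2) v hv)]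
      exact Subgroup.subset_closure ⟨d, hd, rfl⟩
  have hΦle : Φ ≤ QC := (Subgroup.closure_le _).mpr (by
    rintro _ ⟨x, hx, rfl⟩
    exact QC.mul_mem hx.1 hx.1)
  have hΦ1 : Φ = ⊥ := by
    by_contra hne0
    have nC : lK T C ≤ Subgroup.normalizer (Φ : Set G) := by rw [hΦC]; exact sq_closure_normalized _
    have nD : lK T D ≤ Subgroup.normalizer (Φ : Set G) := by rw [hΦD]; exact sq_closure_normalized _
    exact hnn Φ ((isPGroup_op _).to_le hΦle) hne0 (mC.T_le.trans nC) (mC.K_le.trans nC) (mD.K_le.trans nD)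
  have hea : ∀ Q : Subgroup G, Φ = Subgroup.closure ((fun x => x * x) '' (Q : Set G)) →
      IsElementaryAbelian 2 Q := by
    intro Q hQ
    have h1 : ∀ x ∈ Q, x * x = 1 := fun x hx => by
      have h := Subgroup.subset_closure (k := (fun x => x * x) '' (Q : Set G)) ⟨x, hx, rfl⟩
      rw [← hQ, hΦ1] at h
      exact h
    refine ⟨⟨⟨fun x y => Subtype.ext ?_⟩⟩, fun x hx => by rw [pow_two]; exact h1 x hx⟩
    show (x : G) * y = y * x
    have e := h1 _ (Q.mul_mem x.2 y.2)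
    calc (x : G) * y = ((x : G) * y)⁻¹ := (inv_eq_of_mul_eq_one_right e).symm
      _ = (y : G)⁻¹ * (x : G)⁻¹ := mul_inv_rev _ _
      _ = _ := by rw [inv_eq_of_mul_eq_one_right (h1 _ x.2), inv_eq_of_mul_eq_one_right (h1 _ y.2)]
  have hEC := hea QC hΦC
  have hED := hea QD hΦD
  have hQYC : QC = YC := le_antisymm (fun x hx => mem_omegaCenter.mpr
    ⟨hx, Subgroup.mem_centralizer_iff.mpr fun y hy => PLocal.comm_of_EA hEC hy hx, hEC.2 x hx⟩) mC.Y_le_Q
  have hQYD : QD = YD := le_antisymm (fun x hx => mem_omegaCenter.mpr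
    ⟨hx, Subgroup.mem_centralizer_iff.mpr fun y hy => PLocal.comm_of_EA hED hy hx, hED.2 x hx⟩) mD.Y_le_Q
  have hsup : QC ⊔ QD = T := by
    refine le_antisymm (sup_le mC.Q_le mD.Q_le) fun x hx => ?_
    by_cases hxD : x ∈ QD
    · exact Subgroup.mem_sup_right hxD
    · have h := mD.inv_mul_mem_Q hx (hYCT ha) hxD haD
      have := Subgroup.mul_mem_sup (mC.Y_le_Q ha : a ∈ QC) h
      rwa [mul_inv_cancel_left] at this
  have hinf : QC ⊓ QD = zJ T := by
    refine le_antisymm (fun x hx => omegaCenter_le_zJ T (mem_omegaCenter.mpr ⟨mC.Q_le hx.1, ?_, hEC.2 x hx.1⟩))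
      (le_inf (mC.zJ_le_Y.trans mC.Y_le_Q) (mD.zJ_le_Y.trans mD.Y_le_Q))
    have h1 : T ≤ Subgroup.centralizer ({x} : Set G) := hsup ▸ sup_le
      (fun y hy => Subgroup.mem_centralizer_singleton_iff.mpr (PLocal.comm_of_EA hEC hy hx.1))
      (fun y hy => Subgroup.mem_centralizer_singleton_iff.mpr (PLocal.comm_of_EA hED hy hx.2))
    exact Subgroup.mem_centralizer_iff.mpr fun y hy => Subgroup.mem_centralizer_singleton_iff.mp (h1 hy)
  have hcC : Nat.card QC = 2 * Nat.card (zJ T) := hQYC ▸ mC.card_Y_eq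
  have hcD : Nat.card QD = 2 * Nat.card (zJ T) := hQYD ▸ mD.card_Y_eq
  have hcT : Nat.card T = 4 * Nat.card (zJ T) := by
    have h := PLocal.card_sup_mul_card_inf (A := QC) (B := QD)
      (mC.Q_le.trans (mD.T_le.trans mD.lK_le_norm_Q))
    rw [hsup, hinf, hcC, hcD] at h
    have := Nat.card_pos (α := zJ T)
    nlinarith
  have hfix : ∀ x ∈ QC, ∀ y ∈ QD, x * y = y * x → x ∈ zJ T ∨ y ∈ zJ T := by
    intro x hx y hy hxy
    by_cases hxD : x ∈ QD
    · exact Or.inl (hinf ▸ ⟨hx, hxD⟩)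
    · exact Or.inr (mD.fixed_mem (mC.Q_le hx) hxD (hQYD.le hy) hxy)
  have hinv : ∀ x ∈ T, x * x = 1 → x ∈ QC ∨ x ∈ QD := by
    intro x hx hxx
    rw [← hsup] at hx
    obtain ⟨d, hd, c, hc, rfl⟩ := Coprime.exists_mul_of_mem_sup
      (mC.Q_le.trans (mD.T_le.trans mD.lK_le_norm_Q) : QC ≤ Subgroup.normalizer (QD : Set G))
      (by rw [sup_comm]; exact hx)
    have hdd := sq_self hED hd
    have hcc := sq_self hEC hc
    have hcomm : c * d = d * c := by
      calc c * d = (d * d) * (c * d) * (c * c) := by rw [hdd, hcc, one_mul, mul_one]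
        _ = d * (d * c * (d * c)) * c := by group
        _ = d * c := by rw [hxx, mul_one]
    rcases hfix c hc d hd hcomm with h | h
    · exact Or.inr (QD.mul_mem hd (hinf.ge h).2)
    · exact Or.inl (QC.mul_mem (hinf.ge h).1 hc)
  have heale : ∀ A : Subgroup G, A ≤ T → IsElementaryAbelian 2 A → A ≤ QC ∨ A ≤ QD := by
    intro A hA hAE
    by_contra hcon
    push Not at hcon
    obtain ⟨x, hx, hxC⟩ := SetLike.not_le_iff_exists.mp hcon.1
    obtain ⟨y, hy, hyD⟩ := SetLike.not_le_iff_exists.mp hcon.2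
    have hxD := (hinv x (hA hx) (sq_self hAE hx)).resolve_left hxC
    have hyC := (hinv y (hA hy) (sq_self hAE hy)).resolve_right hyD
    rcases hfix y hyC x hxD (PLocal.comm_of_EA hAE hy hx) with h | h
    · exact hyD (hinf.ge h).2
    · exact hxC (hinf.ge h).1
  have hJ : JT T = T := by
    refine le_antisymm (JT_le T) ?_
    conv_lhs => rw [← hsup]
    refine sup_le (IsMaxEA.le_JT ⟨mC.Q_le, hEC, fun B hB hBe => ?_⟩)
      (IsMaxEA.le_JT ⟨mD.Q_le, hED, fun B hB hBe => ?_⟩) <;>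
    rcases heale B hB hBe with h | h <;> have := Subgroup.card_le_of_le h <;> omega
  have hz : zJ T ⊓ wOf C = zJ T ⊓ wOf D := by
    have h1 := mC.comm_mem (hYDT hv) ha
    have h2 := mD.comm_mem (hYCT ha) hv
    have h2' : ⁅a, v⁆ ∈ zJ T ⊓ wOf D := by
      rw [← commutatorElement_inv v a]
      exact Subgroup.inv_mem _ h2
    ext y
    constructor <;> intro hy <;> by_cases hy1 : y = 1
    · rw [hy1]; exact one_mem _
    · rw [eq_of_card_le_two (mC.jc.card_inf_W mC.hT).le hy h1 hy1 hne']; exact h2'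
    · rw [hy1]; exact one_mem _
    · rw [eq_of_card_le_two (mD.jc.card_inf_W mD.hT).le hy h2' hy1 hne']; exact h1
  have honly : ∀ X, P T X → X = C ∨ X = D := by
    intro X hX
    have mX := F.mem hX
    obtain ⟨z, hz0, hzW, hz1, -⟩ := mX.jc.exists_z mX.hT
    obtain ⟨t, ht, htQ⟩ := mX.exists_moving
    obtain ⟨w, hw, hw1, hzw⟩ := exists_ne_of_four mX.jc.card4 z
    have htT := JT_le T ht
    have hzc : ⁅w, t⁆ = z := by
      rw [commutatorElement_def, show w * t * w⁻¹ * t⁻¹ = w * (t * w * t⁻¹)⁻¹ by group,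
        mX.swap htT htQ hz0 hzW hz1 hw hw1 hzw, mul_inv_rev, mul_inv_cancel_left, inv_self JC.W_EA hzW]
    have key : ∀ {K : Subgroup G}, P T K → IsElementaryAbelian 2 (pCoreOf 2 (lK T K)) →
        Nat.card (pCoreOf 2 (lK T K)) = 2 * Nat.card (zJ T) → wOf X ≤ pCoreOf 2 (lK T K) → X = K := by
      intro K hK hEK hcK hW
      have mK := F.mem hK
      have hle : pCoreOf 2 (lK T K) ≤ pCoreOf 2 (lK T X) := fun y hy => mX.mem_Q (mK.Q_le hy)
        (Subgroup.mem_centralizer_iff.mpr fun x hx => PLocal.comm_of_EA hEK (hW hx) hy)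
      have hQX : pCoreOf 2 (lK T X) = pCoreOf 2 (lK T K) := by
        refine le_antisymm (fun y hy => ?_) hle
        by_contra hyK
        obtain ⟨b, hb, hbK⟩ := mK.exists_moving
        have hbX : b ∈ pCoreOf 2 (lK T X) := by
          have := (pCoreOf 2 (lK T X)).mul_mem hy
            (hle (mK.inv_mul_mem_Q (JT_le T hb) (mX.Q_le hy) hbK hyK))
          rwa [mul_inv_cancel_left] at this
        refine htQ ?_
        by_cases htK : t ∈ pCoreOf 2 (lK T K)
        · exact hle htK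
        · have := (pCoreOf 2 (lK T X)).mul_mem hbX (hle (mK.inv_mul_mem_Q htT (JT_le T hb) htK hbK))
          rwa [mul_inv_cancel_left] at this
      rcases F.link hX hK (pCoreOf 2 (lK T K)) (isPGroup_op _)
        (fun e => mK.jc.W_ne_bot (le_bot_iff.mp (e ▸ mK.W_le_Y.trans mK.Y_le_Q)))
        (mK.T_le.trans mK.lK_le_norm_Q) (hQX ▸ mX.K_le.trans mX.lK_le_norm_Q)
        (mK.K_le.trans mK.lK_le_norm_Q) with e | ⟨-, m2, -⟩
      · exact e
      exfalso
      -- `z ∈ [T, T] ≤ Ω₁(Z(J)) ∩ W_K`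
      obtain ⟨b, hb, hbK⟩ := mK.exists_moving
      have hbT := JT_le T hb
      have hwK := hW hw
      have hKY : pCoreOf 2 (lK T K) = yOf (lK T K) := le_antisymm (fun x hx => mem_omegaCenter.mpr
        ⟨hx, Subgroup.mem_centralizer_iff.mpr fun y hy => PLocal.comm_of_EA hEK hy hx, hEK.2 x hx⟩)
        mK.Y_le_Q
      have h3 := mK.comm_mem htT (hKY ▸ hwK)
      rw [hzc] at h3
      exact hz1 (mK.jc.eq_one_of_fixed h3.2 (m2 ⟨hz0, hzW⟩))
    rcases heale (wOf X) (mX.W_le_Y.trans (mX.Y_le_Q.trans mX.Q_le)) JC.W_EA with h | h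
    · exact Or.inl (key hC hEC hcC h)
    · exact Or.inr (key hD hED hcD h)
  exact ⟨hC, hD, hne, hnn, hEC, hED, hQYC, hQYD, hinf, hsup, hcC, hcD, hcT, hz, hinv, hJ, honly, heale⟩

theorem core (F : Fam T P) : ∃ C D, CoreData T P C D := by
  obtain ⟨C, D, hC, hD, hne, hcr⟩ := F.exists_crossing
  exact ⟨C, D, F.core_of hC hD hne hcr⟩

end Fam

end Cfsg.Agent.LocalEven.JComp
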