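import Cfsg.Agent.LocalEven.JCompFam

/-! The setting of a maximal straddling 2-group. -/

set_option autoImplicit false
set_option linter.style.haveILetI false
set_option linter.unusedSectionVars false

open scoped commutatorElement

namespace Cfsg.Agent.LocalEven.JComp

open Cfsg

universe u

variable {G : Type u} [Group G] [Finite G]

/-- The hypotheses on `M` and `T`. -/
structure Ctx (M T : Subgroup G) : Prop where
  hL : IsCharacteristicTwoType G
  hN : ∀ N : Subgroup G, IsTwoLocal N → Group.IsSolvable ↥N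
  hZ : ∀ S : Sylow 2 G, Subgroup.centralizer (omegaCenterOf (S : Subgroup G) : Set G) ≤
    Subgroup.normalizer ((S : Subgroup G) : Set G)
  hS : ∃ S : Sylow 2 G, Subgroup.normalizer (JT (S : Subgroup G) : Set G) ≤ M
  hT : T ∈ maxStraddlingTwoSubgroups M

/-- `T` is a Sylow 2-subgroup of the whole group. -/
def IsTop (T : Subgroup G) : Prop := ∀ U : Subgroup G, IsPGroup 2 U → T ≤ U → U = T

/-- Each outside component is normalized by all components. -/
def Glob (M T : Subgroup G) : Prop :=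
  ∀ K K' : Subgroup G, JC (JT T) K → JC (JT T) K' → ¬ K ≤ M → K' ≤ Subgroup.normalizer (wOf K : Set G)

theorem centralizer_isTwoLocal {u : G} (hu : u ^ 2 = 1) (hu1 : u ≠ 1) :
    IsTwoLocal (Subgroup.centralizer ({u} : Set G)) := by
  haveI : Fact (Nat.Prime 2) := ⟨Nat.prime_two⟩
  have hp : IsPGroup 2 (Subgroup.zpowers u) := PLocal.isPGroup_of_EA (PLocal.isEA_zpowers hu)
  have hcard : Nat.card (Subgroup.zpowers u) ≤ 2 := by
    rw [Nat.card_zpowers]
    exact Nat.le_of_dvd (by norm_num) (orderOf_dvd_of_pow_eq_one hu)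
  refine ⟨Subgroup.zpowers u, hp, fun e => hu1 (Subgroup.zpowers_eq_bot.mp e), le_antisymm ?_ ?_⟩
  · intro x hx
    refine Subgroup.centralizer_le_normalizer _ (Subgroup.mem_centralizer_iff.mpr ?_)
    rintro _ ⟨n, rfl⟩
    exact (Commute.zpow_left (Subgroup.mem_centralizer_singleton_iff.mp hx : x * u = u * x).symm n).eq
  · refine (centralizes_of_card_le_two hcard le_rfl).trans (fun x hx => ?_)
    exact Subgroup.mem_centralizer_singleton_iff.mpr
      (Subgroup.mem_centralizer_iff.mp hx u (Subgroup.mem_zpowers u)).symm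

theorem normalizer_isTwoLocal {J K : Subgroup G} (h : JC J K) :
    IsTwoLocal (Subgroup.normalizer (wOf K : Set G)) := ⟨wOf K, JC.W_pGroup, h.W_ne_bot, rfl⟩

theorem JC.ne_bot {J K : Subgroup G} (h : JC J K) : K ≠ ⊥ := fun e => h.K_not_pGroup (e ▸ IsPGroup.of_bot)

theorem mem_singleton_centralizer {A : Subgroup G} {u : G} (hu : u ∈ Subgroup.centralizer (A : Set G)) :
    A ≤ Subgroup.centralizer ({u} : Set G) := fun a ha =>
  Subgroup.mem_centralizer_singleton_iff.mpr (Subgroup.mem_centralizer_iff.mp hu a ha)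

theorem mem_hK_of {T K : Subgroup G} {u : G} (hu : u ∈ zJ T)
    (hK' : K ≤ Subgroup.centralizer ({u} : Set G)) : u ∈ hK T K :=
  ⟨hu, Subgroup.mem_centralizer_iff.mpr fun k hk => Subgroup.mem_centralizer_singleton_iff.mp (hK' hk)⟩

namespace Ctx

variable {M T : Subgroup G}

theorem T_pGroup (c : Ctx M T) : IsPGroup 2 T := c.hT.1.1

theorem T_ne (c : Ctx M T) : T ≠ ⊥ := c.hT.1.2.1

theorem T_le (c : Ctx M T) : T ≤ M := c.hT.1.2.2.1

theorem normJ (c : Ctx M T) : Subgroup.normalizer (JT T : Set G) ≤ M := by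
  obtain ⟨S, hS⟩ := c.hS
  exact straddle_normalizer_le S hS c.hT

theorem cj_out (c : Ctx M T) {x : G} (hx : x ∈ M) {K : Subgroup G} (hK : ¬ K ≤ M) :
    ¬ LocalEven.cj x K ≤ M := fun h => hK (by
  have := cj_mono (g := x⁻¹) h
  rwa [cj_cj, inv_mul_cancel, cj_one, cj_eq_self_iff.mpr (Subgroup.le_normalizer (M.inv_mem hx))] at this)

/-- The Sylow subgroup of `M` above `T` is one of `G`. -/
theorem exists_sylow (c : Ctx M T) : ∃ S : Sylow 2 G, T ≤ S ∧ (S : Subgroup G) ≤ M := by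
  haveI : Fact (Nat.Prime 2) := ⟨Nat.prime_two⟩
  obtain ⟨S0, hS0⟩ := c.hS
  obtain ⟨S1, hS1, hle⟩ := exists_sylowTwoIn_ge c.T_pGroup c.T_le
  have hS0M : (S0 : Subgroup G) ≤ M :=
    (Subgroup.le_normalizer.trans (normalizer_le_normalizer_JT _)).trans hS0
  obtain ⟨m, -, hle0⟩ := IsSylowTwoIn.exists_conj_le hS1 S0.isPGroup' hS0M
  obtain ⟨P, hP⟩ := hS1.2.1.exists_le_sylow
  have heq : S1 = (P : Subgroup G) := Subgroup.eq_of_le_of_card_ge hP (by
    rw [P.card_eq_multiplicity, ← S0.card_eq_multiplicity]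
    exact (Subgroup.card_le_of_le hle0).trans (card_cj m S1).le)
  exact ⟨P, heq ▸ hle, heq ▸ hS1.1⟩

theorem eq_T (c : Ctx M T) {X U : Subgroup G} (hX : IsTwoLocal X) (hXM : ¬ X ≤ M) (hUX : U ≤ X)
    (hUM : U ≤ M) (hU : IsPGroup 2 U) (hTU : T ≤ U) : U = T := by
  have hstr : U ∈ straddlingTwoSubgroups M :=
    ⟨hU, fun e => c.T_ne (eq_bot_iff.mpr (hTU.trans e.le)), hUM, X, hX, hUX, hXM⟩
  exact (Subgroup.eq_of_le_of_card_ge hTU (straddle_ge c.hT hstr ((JT_le T).trans hTU)).2).symm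

/-- Above a Sylow subgroup the Thompson subgroup is weakly closed. -/
theorem wc (c : Ctx M T) (ht : IsTop T) {U : Subgroup G} (hU : IsPGroup 2 U) (hJ : JT T ≤ U) :
    JT U = JT T := by
  haveI : Fact (Nat.Prime 2) := ⟨Nat.prime_two⟩
  obtain ⟨P, hP⟩ := c.T_pGroup.exists_le_sylow
  have hPT : (P : Subgroup G) = T := ht _ P.isPGroup' hP
  have hsyl : IsSylowTwoIn T (⊤ : Subgroup G) := by
    obtain ⟨S, hS, hle⟩ := exists_sylowTwoIn_ge c.T_pGroup (le_top : T ≤ (⊤ : Subgroup G))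
    rwa [ht S hS.2.1 hle] at hS
  obtain ⟨g, -, hle⟩ := IsSylowTwoIn.exists_conj_le hsyl hU le_top
  obtain ⟨A, hA⟩ := exists_isMaxEA T
  obtain ⟨B, hB⟩ := exists_isMaxEA U
  have hmax : ∀ {C : Subgroup G}, IsMaxEA T C → IsMaxEA U C := fun {C} hC =>
    hB.of_card (hC.le_JT.trans hJ) hC.2.1 (by
      rw [hC.card_eq hA, ← card_cj g A]
      exact (hA.cj g).2.2 B (hB.1.trans hle) hB.2.1)
  have h1 : JT T ≤ JT U := JT_le_of fun C hC => (hmax hC).le_JT
  have h2 : JT U ≤ JT (LocalEven.cj g T) := JT_le_of fun C hC =>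
    IsMaxEA.le_JT ((hA.cj g).of_card (hC.1.trans hle) hC.2.1 (by
      rw [card_cj]; exact hC.2.2 A (hA.le_JT.trans hJ) hA.2.1))
  exact (Subgroup.eq_of_le_of_card_ge h1 (by
    have := Subgroup.card_le_of_le h2
    rwa [JT_cj, card_cj] at this)).symm

/-- A 2-local subgroup containing `J` whose Sylow subgroups have the same `J`. -/
theorem overJ (c : Ctx M T) {X : Subgroup G} (hX : IsTwoLocal X) (hout : ¬ X ≤ M ∨ IsTop T)
    (hJ : JT T ≤ X) : ∃ T₀, JT T₀ = JT T ∧ Over T₀ X := by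
  obtain ⟨T₀, hT₀, hle⟩ := exists_sylowTwoIn_ge (isPGroup_JT c.T_pGroup) hJ
  have hJT : JT T₀ = JT T := by
    rcases hout with h | h
    · obtain ⟨S, hS⟩ := c.hS
      exact (straddle_local c.hL S hS c.hT hX h hT₀ hle).1
    · exact c.wc h hT₀.2.1 hle
  have hs := c.hN X hX
  obtain ⟨W, hW, hW1, rfl⟩ := hX
  exact ⟨T₀, hJT, hT₀, charTwo_normalizer c.hL hW hW1, hs, c.hZ⟩

theorem overT (c : Ctx M T) {X : Subgroup G} (hX : IsTwoLocal X) (hout : ¬ X ≤ M ∨ IsTop T)
    (hTX : T ≤ X) : Over T X := by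
  obtain ⟨T₀, hT₀, hle⟩ := exists_sylowTwoIn_ge c.T_pGroup hTX
  have heq : T₀ = T := by
    rcases hout with h | h
    · obtain ⟨S, hS⟩ := c.hS
      have h2 := (straddle_local c.hL S hS c.hT hX h hT₀ ((JT_le T).trans hle)).2.1
      exact (Subgroup.eq_of_le_of_card_ge hle (straddle_ge c.hT h2 ((JT_le T).trans hle)).2).symm
    · exact h T₀ hT₀.2.1 hle
  subst heq
  have hs := c.hN X hX
  obtain ⟨W, hW, hW1, rfl⟩ := hX
  exact ⟨hT₀, charTwo_normalizer c.hL hW hW1, hs, c.hZ⟩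

/-- Two components in a common overgroup. -/
theorem two (c : Ctx M T) {T₀ X K K' : Subgroup G} (hJ : JT T₀ = JT T) (o : Over T₀ X)
    (h : JC (JT T) K) (hKX : K ≤ X) (h' : JC (JT T) K') (hKX' : K' ≤ X) :
    K' ≤ Subgroup.normalizer (K : Set G) ∧ (K = K' ∨ Mutual T K K') := by
  obtain ⟨h1, h2⟩ := o.two_comps (hJ.symm ▸ h) hKX (hJ.symm ▸ h') hKX'
  obtain ⟨-, h2'⟩ := o.two_comps (hJ.symm ▸ h') hKX' (hJ.symm ▸ h) hKX
  refine ⟨h1, ?_⟩
  rcases h2 with e | ⟨a, b⟩
  · exact Or.inl e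
  rcases h2' with e | ⟨a', -⟩
  · exact Or.inl e.symm
  exact Or.inr ⟨inf_le_right.trans (Subgroup.le_centralizer_iff.mp a),
    inf_le_right.trans (Subgroup.le_centralizer_iff.mp a'), b⟩

/-- Mutual components have a nontrivial hyperplane. -/
theorem mutual_hK (c : Ctx M T) {K K' : Subgroup G} (h' : JC (JT T) K') (m : Mutual T K K') :
    ∃ u ∈ hK T K, u ≠ 1 ∧ u ∈ wOf K' := by
  obtain ⟨z, hz, hzW, hz1, -⟩ := h'.exists_z c.T_pGroup
  exact ⟨z, ⟨hz, m.1 ⟨hz, hzW⟩⟩, hz1, hzW⟩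

/-- Components centralizing a common involution. -/
theorem eq_of_common (c : Ctx M T) (h4 : Nat.card (zJ T) ≤ 4) {K K' : Subgroup G} (h : JC (JT T) K)
    (h' : JC (JT T) K') (hout : ¬ K ≤ M ∨ IsTop T) {u : G} (hu1 : u ≠ 1) (hu : u ∈ hK T K)
    (hu' : u ∈ hK T K') : K = K' := by
  have hCK := mem_singleton_centralizer hu.2
  obtain ⟨T₀, hJ, o⟩ := c.overJ (centralizer_isTwoLocal ((mem_omegaCenter.mp hu.1).2.2) hu1)
    (hout.imp (fun hK1 hle => hK1 (hCK.trans hle)) id)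
    (mem_singleton_centralizer (mem_omegaCenter.mp hu.1).2.1)
  obtain ⟨-, h2⟩ := c.two hJ o h hCK h' (mem_singleton_centralizer hu'.2)
  refine h2.resolve_right fun m => ?_
  obtain ⟨z, hz, hz1, hzW⟩ := c.mutual_hK h' m
  have := eq_of_card_le_two (h.card_hK_le c.T_pGroup h4) hu hz hu1 hz1
  subst this
  exact hu1 (h'.eq_one_of_fixed hzW hu'.2)

theorem small (c : Ctx M T) (hB : ¬ Glob M T) : Nat.card (zJ T) ≤ 4 := by
  by_contra h4
  refine hB fun K K' h h' hKM => ?_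
  obtain ⟨u, hu, hu', hu1⟩ := h.exists_common c.T_pGroup h' (not_le.mp h4)
  have hCK := mem_singleton_centralizer hu.2
  obtain ⟨T₀, hJ, o⟩ := c.overJ (centralizer_isTwoLocal ((mem_omegaCenter.mp hu.1).2.2) hu1)
    (Or.inl fun hle => hKM (hCK.trans hle)) (mem_singleton_centralizer (mem_omegaCenter.mp hu.1).2.1)
  exact (c.two hJ o h hCK h' (mem_singleton_centralizer hu'.2)).1.trans (normalizer_le_normalizer_wOf K)

/-- No component lies in a subgroup normalizing a 2-group containing `J`. -/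
theorem no_comp (c : Ctx M T) {S' K' B : Subgroup G} (hS : IsPGroup 2 S') (hB : B ≤ S')
    (hgen : Subgroup.closure {g : G | g ∈ K' ∧ Odd (orderOf g)} = K') (hcomm : ⁅K', B⁆ = K')
    (hle : K' ≤ Subgroup.normalizer (S' : Set G)) : K' = ⊥ := by
  have h1 : K' ≤ S' := hcomm ▸ (Subgroup.commutator_mono le_rfl hB).trans
    (Subgroup.le_normalizer_iff_commutator_le_right.mp hle)
  exact le_bot_iff.mp (le_of_odd_gen (fun x _ => Subgroup.mem_normalizer_iff.mpr fun y => by simp) hS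
    (h1.trans le_sup_right) hgen)

theorem exists_central (c : Ctx M T) (S : Sylow 2 G) (hTS : T ≤ S) :
    ∃ p ∈ omegaCenterOf (S : Subgroup G), p ≠ 1 := by
  haveI : Fact (Nat.Prime 2) := ⟨Nat.prime_two⟩
  have hne : (S : Subgroup G) ≠ ⊥ := fun e => c.T_ne (eq_bot_iff.mpr (hTS.trans e.le))
  obtain ⟨w, hw, hw1, hfix⟩ := exists_fixed S.isPGroup' S.isPGroup' hne Subgroup.le_normalizer
  obtain ⟨x, hx, hxo⟩ := exists_orderOf_eq (p := 2) (Q := Subgroup.zpowers w)
    (S.isPGroup'.to_le (Subgroup.zpowers_le.mpr hw)) (fun e => hw1 (Subgroup.zpowers_eq_bot.mp e))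
  obtain ⟨n, rfl⟩ := hx
  refine ⟨w ^ n, mem_omegaCenter.mpr ⟨Subgroup.zpow_mem _ hw n,
    Subgroup.mem_centralizer_iff.mpr fun y hy => ((show Commute y w from hfix y hy).zpow_right n).eq,
    hxo ▸ pow_orderOf_eq_one _⟩, fun e => ?_⟩
  have hxo' : orderOf (w ^ n) = 2 := hxo
  rw [e, orderOf_one] at hxo'
  exact absurd hxo' (by norm_num)

theorem central_le_zJ (c : Ctx M T) (S : Sylow 2 G) (hTS : T ≤ S) {L : Subgroup G} (o : Over T L) :
    omegaCenterOf (S : Subgroup G) ≤ zJ T := fun x hx => by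
  obtain ⟨-, hxC, hx2⟩ := mem_omegaCenter.mp hx
  have h1 := o.char2 (Subgroup.centralizer_le (SetLike.coe_subset_coe.mpr (o.Q_le_T.trans hTS)) hxC)
  exact mem_zJ_of (o.Q_le_T h1)
    (Subgroup.centralizer_le (SetLike.coe_subset_coe.mpr ((JT_le T).trans hTS)) hxC) hx2

/-- An involution generating `Ω₁(Z(S))` has its centralizer in `N(S)`. -/
theorem center_eq (c : Ctx M T) (S : Sylow 2 G) {u : G}
    (hall : ∀ y ∈ omegaCenterOf (S : Subgroup G), y = 1 ∨ y = u) :
    Subgroup.centralizer ({u} : Set G) ≤ Subgroup.normalizer ((S : Subgroup G) : Set G) := by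
  refine le_trans (fun x hx => Subgroup.mem_centralizer_iff.mpr fun y hy => ?_) (c.hZ S)
  rcases hall y hy with rfl | rfl
  · simp
  · exact (Subgroup.mem_centralizer_singleton_iff.mp hx).symm

/-- A swapped mutual pair forces the global case. -/
theorem swap_false (c : Ctx M T) (hB : ¬ Glob M T) (S : Sylow 2 G) (hTS : T ≤ S)
    (hZS : omegaCenterOf (S : Subgroup G) ≤ zJ T) {K : Subgroup G} (h : JC (JT T) K) (hKM : ¬ K ≤ M)
    {x : G} (hx : x ∈ (S : Subgroup G)) (hxJ : x ∈ Subgroup.normalizer (JT T : Set G))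
    (hm : Mutual T K (LocalEven.cj x K)) (hn : LocalEven.cj x K ≤ Subgroup.normalizer (K : Set G))
    (hn' : K ≤ Subgroup.normalizer (LocalEven.cj x K : Set G)) : False := by
  classical
  set K₂ := LocalEven.cj x K with hK₂
  have h2 : JC (JT T) K₂ := by
    have := h.cj x
    rwa [cj_eq_self_iff.mpr hxJ] at this
  have hK₂M : ¬ K₂ ≤ M := c.cj_out (c.normJ hxJ) hKM
  have h4 := c.small hB
  obtain ⟨a, ha, ha1, haW⟩ := c.mutual_hK h2 hm
  have hm' : Mutual T K₂ K := ⟨hm.2.1, hm.1, Subgroup.le_centralizer_iff.mp hm.2.2⟩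
  obtain ⟨b, hb, hb1, hbW⟩ := c.mutual_hK h hm'
  have hnb : a ≠ b := fun e => ha1 (h.eq_one_of_fixed (e ▸ hbW) ha.2)
  have hc := h.card_zJ c.T_pGroup
  have hcard : Nat.card (zJ T) = 4 := by
    have h5 : Nat.card (hK T K) ≠ 1 := fun e => ha1 (Subgroup.mem_bot.mp (Subgroup.card_eq_one.mp e ▸ ha))
    have h6 := Nat.card_pos (α := hK T K)
    omega
  have hEA : IsElementaryAbelian 2 (zJ T) := omegaCenter_isEA _
  obtain ⟨p, hp, hp1⟩ := c.exists_central S hTS
  have hnot : ∀ y ∈ omegaCenterOf (S : Subgroup G), y ≠ 1 → y = a * b := by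
    intro y hy hy1
    have hxy : x * y * x⁻¹ = y := mul_inv_eq_iff_eq_mul.mpr
      (Subgroup.mem_centralizer_iff.mp (mem_omegaCenter.mp hy).2.1 x hx)
    have key : ∀ {u : G}, u ∈ hK T K → u ∈ hK T K₂ → u ≠ 1 → False := fun {u} hu hu' hu1 =>
      hb1 (h.eq_one_of_fixed hbW (show b ∈ Subgroup.centralizer (K : Set G) from
        (c.eq_of_common h4 h h2 (Or.inl hKM) hu1 hu hu') ▸ hb.2))
    have hmap : ∀ u, u ∈ hK T K → x * u * x⁻¹ ∈ hK T K₂ := fun u hu => by
      have h7 : x * u * x⁻¹ ∈ LocalEven.cj x (hK T K) := ⟨u, hu, rfl⟩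
      rw [cj_inf, cj_omegaCenter, cj_eq_self_iff.mpr hxJ, cj_centralizer_sub] at h7
      exact h7
    rcases four_elems hcard hEA ha.1 hb.1 ha1 hb1 hnb (hZS hy) with e | e | e | e
    · exact absurd e hy1
    · refine (key ha ?_ ha1).elim
      have := hmap a ha
      rwa [← e, hxy, e] at this
    · exfalso
      have hfix : x * b * x⁻¹ = b := e ▸ hxy
      have h8 := hmap a ha
      have h9 : x * a * x⁻¹ ≠ 1 := fun e => ha1 (conj_eq_one_iff.mp e)
      have h10 := eq_of_card_le_two (h2.card_hK_le c.T_pGroup h4) h8 hb h9 hb1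
      rw [← hfix] at h10
      exact hnb ((MulAut.conj x).injective h10)
    · exact e
  have hpab := hnot p hp hp1
  have hcp := c.center_eq S (u := a * b) fun y hy => or_iff_not_imp_left.mpr (hnot y hy)
  refine hB fun K0 K' h0 h' h0M => ?_
  have honly : ∀ {X : Subgroup G}, JC (JT T) X → X = K ∨ X = K₂ := by
    intro X hX
    have hne : hK T X ≠ ⊥ := fun e => by
      have h11 := hX.card_zJ c.T_pGroup
      rw [e, Subgroup.card_bot] at h11
      omega
    obtain ⟨⟨w, hw⟩, hw1⟩ := Subgroup.ne_bot_iff_exists_ne_one.mp hne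
    have hw1' : w ≠ 1 := fun e => hw1 (Subtype.ext e)
    rcases four_elems hcard hEA ha.1 hb.1 ha1 hb1 hnb hw.1 with e | e | e | e
    · exact absurd e hw1'
    · exact Or.inl (c.eq_of_common h4 h hX (Or.inl hKM) ha1 ha (e ▸ hw)).symm
    · exact Or.inr (c.eq_of_common h4 h2 hX (Or.inl hK₂M) hb1 hb (e ▸ hw)).symm
    · exact absurd (c.no_comp S.isPGroup' ((JT_le T).trans hTS) hX.gen hX.comm
        ((mem_singleton_centralizer hw.2).trans (e ▸ hcp))) hX.ne_bot
  rcases honly h0 with rfl | rfl <;> rcases honly h' with rfl | rfl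
  · exact JC.K_normalizes_W
  · exact hn.trans (normalizer_le_normalizer_wOf _)
  · exact hn'.trans (normalizer_le_normalizer_wOf _)
  · exact JC.K_normalizes_W

end Ctx

end Cfsg.Agent.LocalEven.JComp
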