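import Cfsg.Agent.LocalEven.JCompCtx
import Cfsg.Agent.LocalEven.JCompCore

/-! In the non-global case the outside components form a family. -/

set_option autoImplicit false
set_option linter.style.haveILetI false
set_option linter.unusedSectionVars false

open scoped commutatorElement

namespace Cfsg.Agent.LocalEven.JComp

open Cfsg

universe u

variable {G : Type u} [Group G] [Finite G]

/-- The members at `T`. -/
def Mem0 (M T C : Subgroup G) : Prop :=
  JC (JT T) C ∧ T ≤ Subgroup.normalizer (C : Set G) ∧ (¬ C ≤ M ∨ IsTop T)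

/-- The family generated by the members at `T`. -/
def famP (M T : Subgroup G) (U C : Subgroup G) : Prop :=
  ∃ g C₀, Mem0 M T C₀ ∧ U = LocalEven.cj g T ∧ C = LocalEven.cj g C₀

/-- The members at `T₀` for the case of a non-invariant component. -/
def famQ (T J T₀ : Subgroup G) (U C : Subgroup G) : Prop :=
  ∃ g C₀, JC J C₀ ∧ Over T₀ (Subgroup.normalizer (wOf C₀ : Set G)) ∧ T₀ ≤ T ∧
    U = LocalEven.cj g T₀ ∧ C = LocalEven.cj g C₀

theorem exists_between {T U : Subgroup G} (hU : IsPGroup 2 U) (hTU : T ≤ U) (hne : T ≠ U) :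
    ∃ x ∈ U, x ∈ Subgroup.normalizer (T : Set G) ∧ x ∉ T := by
  haveI : Fact (Nat.Prime 2) := ⟨Nat.prime_two⟩
  by_contra hcon
  push Not at hcon
  exact hne (eq_of_normalizer_le hU hTU fun x hx => hcon x hx.1 hx.2)

namespace Ctx

variable {M T : Subgroup G}

theorem mem0_self (c : Ctx M T) {C : Subgroup G} (h : famP M T T C) : Mem0 M T C := by
  obtain ⟨g, C₀, ⟨h1, h2, h3⟩, e, rfl⟩ := h
  have hg : g ∈ Subgroup.normalizer (T : Set G) := cj_eq_self_iff.mp e.symm
  have hgJ := normalizer_le_normalizer_JT T hg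
  refine ⟨?_, ?_, h3.imp (c.cj_out (c.normJ hgJ)) id⟩
  · have := h1.cj g
    rwa [cj_eq_self_iff.mpr hgJ] at this
  · conv_lhs => rw [e]
    rw [← cj_normalizer]
    exact cj_mono h2

theorem mem0_member (c : Ctx M T) (h4 : Nat.card (zJ T) ≤ 4) {C : Subgroup G} (h : Mem0 M T C) :
    Member T C :=
  ⟨h.1, c.overT (normalizer_isTwoLocal h.1) (h.2.2.imp (fun hC hle => hC (JC.K_normalizes_W.trans hle)) id)
    (h.2.1.trans (normalizer_le_normalizer_wOf C)), h4⟩

theorem famP_self (c : Ctx M T) {C : Subgroup G} (h : Mem0 M T C) : famP M T T C :=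
  ⟨1, C, h, (cj_one T).symm, (cj_one C).symm⟩

theorem outside_mem (c : Ctx M T) (hB : ¬ Glob M T) {K : Subgroup G}
    (hK : K ∈ jComponentsOutside M T) : Mem0 M T K := by
  obtain ⟨⟨hK1, -⟩, hKM, hcore⟩ := hK
  have h := jc_iff.mp hK1
  refine ⟨h, fun t ht => ?_, Or.inl hKM⟩
  set L := Subgroup.normalizer (pCoreOf 2 (K ⊔ T) : Set G) with hL
  have hL2 : IsTwoLocal L := ⟨_, isPGroup_op _, hcore, rfl⟩
  have hKL : K ≤ L := le_sup_left.trans (map_pCore_normalized _)
  have hTL : T ≤ L := le_sup_right.trans (map_pCore_normalized _)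
  have o := c.overT hL2 (Or.inl fun hle => hKM (hKL.trans hle)) hTL
  have htJ : t ∈ Subgroup.normalizer (JT T : Set G) :=
    normalizer_le_normalizer_JT T (Subgroup.le_normalizer ht)
  have h2 : JC (JT T) (LocalEven.cj t K) := by
    have := h.cj t
    rwa [cj_eq_self_iff.mpr htJ] at this
  have hK2L : LocalEven.cj t K ≤ L :=
    (cj_mono hKL).trans (cj_eq_self_iff.mpr (Subgroup.le_normalizer (hTL ht))).le
  obtain ⟨hn, h3⟩ := c.two rfl o h hKL h2 hK2L
  rcases h3 with e | m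
  · exact cj_eq_self_iff.mp e.symm
  · exfalso
    obtain ⟨S, hTS, -⟩ := c.exists_sylow
    exact c.swap_false hB S hTS (c.central_le_zJ S hTS o) h hKM (hTS ht) htJ m hn
      (c.two rfl o h2 hK2L h hKL).1

theorem exists_outside (c : Ctx M T) : ∃ K, K ∈ jComponentsOutside M T := by
  obtain ⟨S, hS⟩ := c.hS
  exact straddle_outside c.hL c.hN c.hZ S hS c.hT

theorem uOver_core (c : Ctx M T) (h4 : Nat.card (zJ T) ≤ 4) {K₀ : Subgroup G} (m₀ : Member T K₀)
    (hK₀ : ¬ K₀ ≤ M) {u : G} (hu : u ∈ zJ T) (hu1 : u ≠ 1)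
    (hout : u ∈ hK T K₀ ∨ (∃ C, Mem0 M T C ∧ ¬ C ≤ M ∧ u ∈ hK T C) ∨ IsTop T) :
    Over T (Subgroup.centralizer ({u} : Set G)) ∧
      ∀ K, JC (JT T) K → K ≤ Subgroup.centralizer ({u} : Set G) → famP M T T K := by
  set X := Subgroup.centralizer ({u} : Set G) with hX
  have hX2 : IsTwoLocal X := centralizer_isTwoLocal ((mem_omegaCenter.mp hu).2.2) hu1
  have hwit : (∃ C, JC (JT T) C ∧ ¬ C ≤ M ∧ u ∈ hK T C) ∨ IsTop T := by
    rcases hout with h | ⟨C, hC, hCM, hu'⟩ | h
    · exact Or.inl ⟨K₀, m₀.jc, hK₀, h⟩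
    · exact Or.inl ⟨C, hC.1, hCM, hu'⟩
    · exact Or.inr h
  have hXo : ¬ X ≤ M ∨ IsTop T :=
    hwit.imp (fun ⟨C, _, hCM, hu'⟩ hle => hCM ((mem_singleton_centralizer hu'.2).trans hle)) id
  have hTX : T ≤ X :=
    mem_singleton_centralizer (Subgroup.le_centralizer_iff.mp m₀.T_cent_zJ hu)
  have o := c.overT hX2 hXo hTX
  refine ⟨o, fun K hK' hKX => c.famP_self ?_⟩
  have hKu := mem_hK_of hu hKX
  have hTK : T ≤ Subgroup.normalizer (K : Set G) := fun t ht => by
    have htJ : t ∈ Subgroup.normalizer (JT T : Set G) :=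
      normalizer_le_normalizer_JT T (Subgroup.le_normalizer ht)
    have h2 : JC (JT T) (LocalEven.cj t K) := by
      have := hK'.cj t
      rwa [cj_eq_self_iff.mpr htJ] at this
    have h2X : LocalEven.cj t K ≤ X :=
      (cj_mono hKX).trans (cj_eq_self_iff.mpr (Subgroup.le_normalizer (hTX ht))).le
    obtain ⟨-, h3⟩ := c.two rfl o hK' hKX h2 h2X
    refine cj_eq_self_iff.mp (h3.resolve_right fun m => ?_).symm
    obtain ⟨z, hz, hz1, hzW⟩ := c.mutual_hK h2 m
    have := eq_of_card_le_two (hK'.card_hK_le c.T_pGroup h4) hKu hz hu1 hz1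
    subst this
    exact hu1 (h2.eq_one_of_fixed hzW (mem_hK_of hu h2X).2)
  refine ⟨hK', hTK, ?_⟩
  rcases hwit with ⟨C, hC, hCM, hu'⟩ | h
  · exact Or.inl ((c.eq_of_common h4 hC hK' (Or.inl hCM) hu1 hu' hKu) ▸ hCM)
  · exact Or.inr h

theorem link_core (c : Ctx M T) {C C' : Subgroup G} (h : Mem0 M T C) (h' : Mem0 M T C')
    {V : Subgroup G} (hV : IsPGroup 2 V) (hV1 : V ≠ ⊥) (hTV : T ≤ Subgroup.normalizer (V : Set G))
    (hCV : C ≤ Subgroup.normalizer (V : Set G)) (hC'V : C' ≤ Subgroup.normalizer (V : Set G)) :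
    C' ≤ Subgroup.normalizer (C : Set G) ∧ C ≤ Subgroup.normalizer (C' : Set G) ∧
      (C = C' ∨ Mutual T C C') := by
  have o := c.overT ⟨V, hV, hV1, rfl⟩ (h.2.2.imp (fun hC hle => hC (hCV.trans hle)) id) hTV
  obtain ⟨h1, h2⟩ := c.two rfl o h.1 hCV h'.1 hC'V
  exact ⟨h1, (c.two rfl o h'.1 hC'V h.1 hCV).1, h2⟩

/-- In the non-global case every component of `T` is invariant under `T`. -/
theorem invariant_of_top (c : Ctx M T) (hB : ¬ Glob M T) (ht : IsTop T) {K : Subgroup G}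
    (h : JC (JT T) K) : T ≤ Subgroup.normalizer (K : Set G) := by
  haveI : Fact (Nat.Prime 2) := ⟨Nat.prime_two⟩
  have h4 := c.small hB
  obtain ⟨K₀, hK₀⟩ := c.exists_outside
  have hmem₀ := c.outside_mem hB hK₀
  have m₀ := c.mem0_member h4 hmem₀
  by_cases hne : hK T K = ⊥
  · -- `Ω₁(Z(J))` has order two
    have h2 : Nat.card (zJ T) = 2 := by rw [h.card_zJ c.T_pGroup, hne, Subgroup.card_bot]
    by_contra hcon
    have hJK : JT T ≤ Subgroup.normalizer (wOf K : Set G) :=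
      h.J_normalizes.trans (normalizer_le_normalizer_wOf K)
    obtain ⟨S, hTS, -⟩ := c.exists_sylow
    have hST : (S : Subgroup G) = T := ht _ S.isPGroup' hTS
    obtain ⟨z, hz, hz1⟩ := c.exists_central S hTS
    have hzJ : z ∈ zJ T := omegaCenter_le_zJ T (hST ▸ hz)
    have hcz : Subgroup.centralizer ({z} : Set G) ≤ Subgroup.normalizer (T : Set G) := by
      have := c.center_eq S (u := z) fun y hy => or_iff_not_imp_left.mpr fun hy1 =>
        eq_of_card_le_two h2.le (omegaCenter_le_zJ T (hST ▸ hy)) hzJ hy1 hz1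
      rwa [hST] at this
    have hNJ : ∀ U : Subgroup G, IsPGroup 2 U → U ≤ Subgroup.normalizer (JT T : Set G) → U ≤ T := by
      intro U hU hUJ
      have h5 : U ≤ Subgroup.centralizer (zJ T : Set G) :=
        centralizes_of_card_le_two h2.le (hUJ.trans (normalizer_le_normalizer_omegaCenter _))
      have h6 : U ≤ Subgroup.normalizer (T : Set G) :=
        (mem_singleton_centralizer (Subgroup.le_centralizer_iff.mp h5 hzJ)).trans hcz
      exact le_sup_right.trans
        (ht _ (IsPGroup.to_sup_of_normal_left' c.T_pGroup hU h6) le_sup_left).le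
    have sub : ∀ {X : Subgroup G}, IsTwoLocal X → ∀ {U : Subgroup G}, IsSylowTwoIn U X → JT T ≤ U →
        JT U = JT T ∧ U ≤ T := by
      intro X hX U hU hJU
      have h7 := c.wc ht hU.2.1 hJU
      exact ⟨h7, hNJ U hU.2.1 (h7 ▸ Subgroup.le_normalizer.trans (normalizer_le_normalizer_JT U))⟩
    set T₀ := T ⊓ Subgroup.normalizer (wOf K : Set G) with hT₀
    obtain ⟨U, hU, hTU⟩ := exists_sylowTwoIn_ge (c.T_pGroup.to_le (inf_le_left : T₀ ≤ T))
      (inf_le_right : T₀ ≤ Subgroup.normalizer (wOf K : Set G))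
    obtain ⟨hJU, hUT⟩ := sub (normalizer_isTwoLocal h) hU ((le_inf (JT_le T) hJK).trans hTU)
    have hU0 : U = T₀ := le_antisymm (le_inf hUT hU.1) hTU
    rw [hU0] at hU hJU
    have o₀ : Over T₀ (Subgroup.normalizer (wOf K : Set G)) :=
      ⟨hU, charTwo_normalizer c.hL JC.W_pGroup h.W_ne_bot, c.hN _ (normalizer_isTwoLocal h), c.hZ⟩
    have hT₀ne : T₀ ≠ T := fun e => hcon fun t ht' =>
      o₀.normalizes_of_normalizes_W (hJU.symm ▸ h) JC.K_normalizes_W
        ⟨(e.symm ▸ ht' : t ∈ T₀).2, (e.symm ▸ ht' : t ∈ T₀).2⟩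
    obtain ⟨y, hy, hyN, hy0⟩ := exists_between c.T_pGroup inf_le_left hT₀ne
    have hzT₀ : zJ T₀ = zJ T := by rw [zJ, zJ, hJU]
    have hself : ∀ {C : Subgroup G}, famQ T (JT T) T₀ T₀ C →
        JC (JT T₀) C ∧ Over T₀ (Subgroup.normalizer (wOf C : Set G)) := by
      rintro C ⟨g, C₀, h1, h3, -, e, rfl⟩
      have hg : g ∈ Subgroup.normalizer (T₀ : Set G) := cj_eq_self_iff.mp e.symm
      refine ⟨?_, ?_⟩
      · have := (hJU.symm ▸ h1 : JC (JT T₀) C₀).cj g
        rwa [cj_eq_self_iff.mpr (normalizer_le_normalizer_JT T₀ hg)] at this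
      · have := h3.cj g
        rwa [cj_eq_self_iff.mpr hg, cj_normalizer, cj_wOf] at this
    have hnomut : ∀ {C C' : Subgroup G}, JC (JT T) C → JC (JT T) C' → ¬ Mutual T C C' := by
      intro C C' hC hC' m
      obtain ⟨u, hu, hu1, -⟩ := c.mutual_hK hC' m
      have h8 := hC.card_zJ c.T_pGroup
      have h9 : Nat.card (hK T C) = 1 := by omega
      exact hu1 (Subgroup.mem_bot.mp (Subgroup.card_eq_one.mp h9 ▸ hu))
    have hlink : ∀ {C C' : Subgroup G}, JC (JT T₀) C → JC (JT T₀) C' → ∀ V : Subgroup G, IsPGroup 2 V →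
        V ≠ ⊥ → T₀ ≤ Subgroup.normalizer (V : Set G) → C ≤ Subgroup.normalizer (V : Set G) →
        C' ≤ Subgroup.normalizer (V : Set G) → C = C' := by
      intro C C' h1 h1' V hV hV1 hTV hCV hC'V
      obtain ⟨U', hU', hle⟩ := exists_sylowTwoIn_ge o₀.sylT.2.1 hTV
      obtain ⟨hJU', -⟩ := sub ⟨V, hV, hV1, rfl⟩ hU' (hJU ▸ (JT_le T₀).trans hle)
      have o : Over U' (Subgroup.normalizer (V : Set G)) :=
        ⟨hU', charTwo_normalizer c.hL hV hV1, c.hN _ ⟨V, hV, hV1, rfl⟩, c.hZ⟩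
      exact ((c.two hJU' o (hJU ▸ h1) hCV (hJU ▸ h1') hC'V).2).resolve_right
        (hnomut (hJU ▸ h1) (hJU ▸ h1'))
    have hself0 : famQ T (JT T) T₀ T₀ K :=
      ⟨1, K, h, o₀, inf_le_left, (cj_one T₀).symm, (cj_one K).symm⟩
    have hyJ : y ∈ Subgroup.normalizer (JT T : Set G) := by
      have := normalizer_le_normalizer_JT T₀ hyN
      rwa [hJU] at this
    have hPy : famQ T (JT T) T₀ T₀ (LocalEven.cj y K) :=
      ⟨y, K, h, o₀, inf_le_left, (cj_eq_self_iff.mpr hyN).symm, rfl⟩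
    have hyne : K ≠ LocalEven.cj y K := fun e =>
      hy0 ⟨hy, normalizer_le_normalizer_wOf K (cj_eq_self_iff.mp e.symm)⟩
    have F : Fam T₀ (famQ T (JT T) T₀) :=
      { mem := by
          rintro U C ⟨g, C₀, h1, h3, h4', rfl, rfl⟩
          exact (⟨hJU.symm ▸ h1, h3, by rw [hzT₀]; omega⟩ : Member T₀ C₀).cj g
        conj := by
          rintro g U C ⟨a, C₀, h1, h3, h4', rfl, rfl⟩
          exact ⟨g * a, C₀, h1, h3, h4', by rw [cj_cj], by rw [cj_cj]⟩
        base := by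
          rintro U C ⟨g, C₀, -, -, -, rfl, -⟩
          exact ⟨g, rfl⟩
        uOver := by
          intro u hu hu1 K' B hgen hK' hB' hcomm hle
          rw [hzT₀] at hu
          have huz : u = z := eq_of_card_le_two h2.le hu hzJ hu1 hz1
          subst huz
          exact absurd (c.no_comp c.T_pGroup (hJU ▸ hB' |>.trans (JT_le T)) hgen hcomm (hle.trans hcz)) hK'
        link := fun {C C'} h1 h1' V hV hV1 a b d =>
          Or.inl (hlink (hself h1).1 (hself h1').1 V hV hV1 a b d)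
        pair := ⟨K, _, hself0, hPy, fun V hV hV1 a b d =>
          hyne (hlink (hself hself0).1 (hself hPy).1 V hV hV1 a b d)⟩ }
    obtain ⟨C, D, cd⟩ := F.core
    have hK₀h := m₀.jc
    have hJT₀ : JT T = T₀ := hJU ▸ cd.J_eq
    have hW₀ : wOf K₀ ≤ T₀ := hJT₀ ▸ hK₀h.W_le_J c.T_pGroup
    have hW : ∀ {X : Subgroup G}, famQ T (JT T) T₀ T₀ X → pCoreOf 2 (lK T₀ X) = yOf (lK T₀ X) →
        Nat.card (pCoreOf 2 (lK T₀ X)) = 2 * Nat.card (zJ T₀) →
        pCoreOf 2 (lK T₀ X) = wOf X := fun {X} hX hQY hQc => by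
      have mX := F.mem hX
      rw [hzT₀, h2] at hQc
      exact (Subgroup.eq_of_le_of_card_ge (mX.W_le_Y.trans hQY.ge) (by rw [mX.jc.card4]; omega)).symm
    have hCD : wOf K₀ = wOf C ∨ wOf K₀ = wOf D := by
      rcases cd.ea _ hW₀ JC.W_EA with hl | hl
      · exact Or.inl (Subgroup.eq_of_le_of_card_ge (hW cd.pC cd.Q_eq cd.card_C ▸ hl)
          (by rw [hK₀h.card4, (F.mem cd.pC).jc.card4]))
      · exact Or.inr (Subgroup.eq_of_le_of_card_ge (hW cd.pD cd.Q_eq' cd.card_D ▸ hl)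
          (by rw [hK₀h.card4, (F.mem cd.pD).jc.card4]))
    have hboth : wOf K₀ = wOf K ∨ wOf K₀ = wOf (LocalEven.cj y K) := by
      rcases cd.only K hself0 with e | e <;> rcases cd.only _ hPy with e' | e'
      · exact absurd (e.trans e'.symm) hyne
      · rw [e', e]; exact hCD
      · rw [e', e]; exact hCD.symm
      · exact absurd (e.trans e'.symm) hyne
    have hTW₀ : T ≤ Subgroup.normalizer (wOf K₀ : Set G) := m₀.ovW.sylT.1
    rcases hboth with e | e
    · exact hT₀ne (inf_eq_left.mpr (e ▸ hTW₀))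
    · rw [← cj_wOf] at e
      refine hT₀ne (inf_eq_left.mpr fun t ht' => ?_)
      have h10 : y * t * y⁻¹ ∈ LocalEven.cj y (Subgroup.normalizer (wOf K : Set G)) := by
        rw [cj_normalizer, ← e]
        exact hTW₀ (T.mul_mem (T.mul_mem hy ht') (T.inv_mem hy))
      rw [mem_cj, show y⁻¹ * (y * t * y⁻¹) * y = t by group] at h10
      exact h10
  · obtain ⟨⟨u, hu⟩, hu1⟩ := Subgroup.ne_bot_iff_exists_ne_one.mp hne
    exact (c.mem0_self ((c.uOver_core h4 m₀ hK₀.2.1 hu.1 (fun e => hu1 (Subtype.ext e))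
      (Or.inr (Or.inr ht))).2 K h (mem_singleton_centralizer hu.2))).2.1

/-- The family of the non-global case. -/
theorem fam (c : Ctx M T) (hB : ¬ Glob M T) : Fam T (famP M T) := by
  haveI : Fact (Nat.Prime 2) := ⟨Nat.prime_two⟩
  have h4 := c.small hB
  obtain ⟨K, hKo⟩ := c.exists_outside
  have hK0 := c.outside_mem hB hKo
  have hKM := hKo.2.1
  have m := c.mem0_member h4 hK0
  obtain ⟨S, hTS, hSM⟩ := c.exists_sylow
  have hZS := c.central_le_zJ S hTS m.ovW
  have hSnorm : ∀ {x : G}, x ∈ Subgroup.normalizer (T : Set G) → x ∈ M := fun hx =>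
    c.normJ (normalizer_le_normalizer_JT T hx)
  -- a second member when `T` is not a Sylow subgroup
  have hmove : ¬ IsTop T → ∃ x ∈ (S : Subgroup G), x ∈ Subgroup.normalizer (T : Set G) ∧
      Mem0 M T (LocalEven.cj x K) ∧ K ≠ LocalEven.cj x K := by
    intro htop
    have hne : T ≠ (S : Subgroup G) := fun e => htop fun U hU hle =>
      (S.3 hU (e ▸ hle)).trans e.symm
    obtain ⟨x, hx, hxN, hxT⟩ := exists_between S.isPGroup' hTS hne
    have hxM := hSM hx
    refine ⟨x, hx, hxN, c.mem0_self ⟨x, K, hK0, (cj_eq_self_iff.mpr hxN).symm, rfl⟩, fun e => hxT ?_⟩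
    have hxW : x ∈ Subgroup.normalizer (wOf K : Set G) :=
      normalizer_le_normalizer_wOf K (cj_eq_self_iff.mp e.symm)
    have hU : IsPGroup 2 ↥(T ⊔ Subgroup.zpowers x) := S.isPGroup'.to_le (sup_le hTS (Subgroup.zpowers_le.mpr hx))
    have := c.eq_T (normalizer_isTwoLocal m.jc) (fun hle => hKM (JC.K_normalizes_W.trans hle))
      (sup_le m.ovW.sylT.1 (Subgroup.zpowers_le.mpr hxW)) (sup_le c.T_le (Subgroup.zpowers_le.mpr hxM))
      hU le_sup_left
    rw [← this]
    exact Subgroup.mem_sup_right (Subgroup.mem_zpowers x)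
  refine
    { mem := fun {U C} ⟨g, C₀, hC₀, eU, eC⟩ => by
        subst eU eC
        exact (c.mem0_member h4 hC₀).cj g
      conj := fun g {U C} ⟨a, C₀, hC₀, eU, eC⟩ =>
        ⟨g * a, C₀, hC₀, by rw [eU, cj_cj], by rw [eC, cj_cj]⟩
      base := fun {U C} ⟨g, C₀, _, eU, _⟩ => ⟨g, eU⟩
      uOver := ?_
      link := fun {C C'} h h' V hV hV1 a b d =>
        (c.link_core (c.mem0_self h) (c.mem0_self h') hV hV1 a b d).2.2
      pair := ?_ }
  · intro u hu hu1 K' B hgen hK' hB' hcomm hle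
    refine c.uOver_core h4 m hKM hu hu1 ?_
    by_cases htop : IsTop T
    · exact Or.inr (Or.inr htop)
    obtain ⟨x, hx, hxN, hK2, hne⟩ := hmove htop
    by_cases h1 : u ∈ hK T K
    · exact Or.inl h1
    have hK2M : ¬ LocalEven.cj x K ≤ M := c.cj_out (hSnorm hxN) hKM
    by_cases h2 : u ∈ hK T (LocalEven.cj x K)
    · exact Or.inr (Or.inl ⟨_, hK2, hK2M, h2⟩)
    exfalso
    have hxzJ := normalizer_le_normalizer_zJ T hxN
    have hmap : ∀ w, w ∈ hK T K → x * w * x⁻¹ ∈ hK T (LocalEven.cj x K) := fun w hw => by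
      have h7 : x * w * x⁻¹ ∈ LocalEven.cj x (hK T K) := ⟨w, hw, rfl⟩
      rw [cj_hK, cj_eq_self_iff.mpr hxN] at h7
      exact h7
    refine hK' (c.no_comp S.isPGroup' (hB'.trans ((JT_le T).trans hTS)) hgen hcomm
      (hle.trans (c.center_eq S fun y hy => or_iff_not_imp_left.mpr fun hy1 => ?_)))
    by_cases h2z : Nat.card (zJ T) ≤ 2
    · exact eq_of_card_le_two h2z (hZS hy) hu hy1 hu1
    have hc := m.jc.card_zJ c.T_pGroup
    have hcard : Nat.card (zJ T) = 4 := by omega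
    have hEA : IsElementaryAbelian 2 (zJ T) := omegaCenter_isEA _
    obtain ⟨⟨a, ha⟩, ha1⟩ := Subgroup.ne_bot_iff_exists_ne_one.mp
      (show hK T K ≠ ⊥ from fun e => by rw [e, Subgroup.card_bot] at hc; omega)
    have ha1' : a ≠ 1 := fun e => ha1 (Subtype.ext e)
    have hb := hmap a ha
    have hb1 : x * a * x⁻¹ ≠ 1 := fun e => ha1' (conj_eq_one_iff.mp e)
    have hab : a ≠ x * a * x⁻¹ := fun e =>
      hne (c.eq_of_common h4 m.jc hK2.1 (Or.inl hKM) ha1' ha (e.symm ▸ hb))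
    have hfix : x * y * x⁻¹ = y := mul_inv_eq_iff_eq_mul.mpr
      (Subgroup.mem_centralizer_iff.mp (mem_omegaCenter.mp hy).2.1 x hx)
    rcases four_elems hcard hEA ha.1 hb.1 ha1' hb1 hab hu with e | e | e | e
    · exact absurd e hu1
    · exact absurd (e.symm ▸ ha) h1
    · exact absurd (e.symm ▸ hb) h2
    rcases four_elems hcard hEA ha.1 hb.1 ha1' hb1 hab (hZS hy) with e' | e' | e' | e'
    · exact absurd e' hy1
    · subst e'
      exact absurd hfix.symm hab
    · have h8 : x * y * x⁻¹ = x * a * x⁻¹ := hfix.trans e'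
      exact absurd (((MulAut.conj x).injective h8).symm.trans e') hab
    · rw [e', e]
  · by_cases htop : IsTop T
    · obtain ⟨K₀, K', h0, h', h0M, hnot⟩ : ∃ K₀ K', JC (JT T) K₀ ∧ JC (JT T) K' ∧ ¬ K₀ ≤ M ∧
          ¬ K' ≤ Subgroup.normalizer (wOf K₀ : Set G) := by
        by_contra hcon
        exact hB fun A B' hA hB'' hAM => by
          by_contra hh
          exact hcon ⟨A, B', hA, hB'', hAM, hh⟩
      have p0 : Mem0 M T K₀ := ⟨h0, c.invariant_of_top hB htop h0, Or.inl h0M⟩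
      have p' : Mem0 M T K' := ⟨h', c.invariant_of_top hB htop h', Or.inr htop⟩
      exact ⟨K₀, K', c.famP_self p0, c.famP_self p', fun V hV hV1 a b d =>
        hnot ((c.link_core p0 p' hV hV1 a b d).1.trans (normalizer_le_normalizer_wOf K₀))⟩
    · obtain ⟨x, hx, hxN, hK2, hne⟩ := hmove htop
      refine ⟨K, _, c.famP_self hK0, c.famP_self hK2, fun V hV hV1 a b d => ?_⟩
      obtain ⟨hn, hn', hm⟩ := c.link_core hK0 hK2 hV hV1 a b d
      exact c.swap_false hB S hTS hZS m.jc hKM hx (normalizer_le_normalizer_JT T hxN)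
        (hm.resolve_left hne) hn hn'

end Ctx

end Cfsg.Agent.LocalEven.JComp
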