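import Cfsg.Agent.LocalEven.JCompKey
import Cfsg.Prelude.Def_CaseTheorems

/-! Components with `J = J(S)` for the Sylow subgroups `S` of `N(W)`. -/

set_option autoImplicit false
set_option linter.style.haveILetI false
set_option linter.unusedSectionVars false

open scoped commutatorElement

namespace Cfsg.Agent.LocalEven.JComp

open Cfsg

universe u

variable {G : Type u} [Group G] [Finite G]

theorem cj_core (g : G) (H : Subgroup G) : LocalEven.cj g (pCoreOf 2 H) = pCoreOf 2 (LocalEven.cj g H) :=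
  (map_pCore_cj g H).symm

theorem cj_omegaCenter (g : G) (H : Subgroup G) :
    LocalEven.cj g (omegaCenterOf H) = omegaCenterOf (LocalEven.cj g H) := by
  rw [omegaCenterOf, omegaCenterOf, LocalEven.cj, map_omegaOne _ (MulAut.conj g).injective,
    Core.ThompsonComplement.centre_map _ (MulAut.conj g).injective.injOn]

theorem cj_wOf (g : G) (K : Subgroup G) : LocalEven.cj g (wOf K) = wOf (LocalEven.cj g K) := by
  rw [wOf, wOf, LocalEven.cj, Subgroup.map_commutator]
  congr 1
  show LocalEven.cj g _ = _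
  rw [cj_omegaCenter, cj_core]

theorem cj_isSylowTwoIn {S P : Subgroup G} (h : IsSylowTwoIn S P) (g : G) :
    IsSylowTwoIn (LocalEven.cj g S) (LocalEven.cj g P) :=
  isMaxP_isSylowTwoIn ((isSylowTwoIn_isMaxP h).cj g)

theorem JC.cj {J K : Subgroup G} (h : JC J K) (g : G) : JC (LocalEven.cj g J) (LocalEven.cj g K) where
  gen := by
    refine le_antisymm ((Subgroup.closure_le _).mpr fun x hx => hx.1) ?_
    refine Subgroup.map_le_iff_le_comap.mpr ?_
    conv_lhs => rw [← h.gen]
    rw [Subgroup.closure_le]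
    rintro x ⟨hx, hxo⟩
    exact Subgroup.subset_closure ⟨⟨x, hx, rfl⟩,
      (show orderOf ((MulAut.conj g) x) = orderOf x from (MulAut.conj g).orderOf_eq x) ▸ hxo⟩
  comm := by
    show ⁅K.map _, J.map _⁆ = _
    rw [← Subgroup.map_commutator, h.comm]
  idx := by
    rw [← cj_core]
    exact (Subgroup.relIndex_map_map_of_injective _ _ (MulAut.conj g).injective).trans h.idx
  syl := fun S hS hJS => by
    have h1 := cj_isSylowTwoIn hS g⁻¹
    rw [show LocalEven.cj g⁻¹ (LocalEven.cj g K ⊔ LocalEven.cj g J) =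
      LocalEven.cj g⁻¹ (LocalEven.cj g K) ⊔ LocalEven.cj g⁻¹ (LocalEven.cj g J) from Subgroup.map_sup _ _ _] at h1
    rw [cj_cj, cj_cj, inv_mul_cancel, cj_one, cj_one] at h1
    have h2 : J ≤ LocalEven.cj g⁻¹ S := by
      have := cj_mono (g := g⁻¹) hJS
      rwa [cj_cj, inv_mul_cancel, cj_one] at this
    have h3 := congrArg (LocalEven.cj g) (h.syl _ h1 h2)
    rwa [← JT_cj, cj_cj, mul_inv_cancel, cj_one] at h3
  card4 := by rw [← cj_wOf, card_cj]; exact h.card4
  exp2 := fun w hw => by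
    rw [← cj_wOf] at hw
    obtain ⟨v, hv, rfl⟩ := hw
    rw [← map_mul, h.exp2 v hv, map_one]

theorem charTwo_normalizer (hL : IsCharacteristicTwoType G) {W : Subgroup G} (hW : IsPGroup 2 W)
    (hW1 : W ≠ ⊥) :
    Subgroup.centralizer (pCoreOf 2 (Subgroup.normalizer (W : Set G)) : Set G) ≤
      pCoreOf 2 (Subgroup.normalizer (W : Set G)) := by
  set N := Subgroup.normalizer (W : Set G)
  have h1 := (charP_iff (p := 2) N).mp (hL.2 W hW hW1)
  intro x hx
  refine h1 ⟨?_, hx⟩
  have hWQ : W ≤ pCoreOf 2 N := le_op Subgroup.le_normalizer le_rfl hW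
  exact Subgroup.centralizer_le_normalizer _ (Subgroup.centralizer_le hWQ hx)

variable {T K : Subgroup G}

/-- For a Sylow subgroup `S ⊇ J(T)` of `N(W)`, `N(W)` lies in `jOvergroups S`. -/
theorem exists_over (hL : IsCharacteristicTwoType G)
    (hN : ∀ N : Subgroup G, IsTwoLocal N → Group.IsSolvable ↥N)
    (hZ : ∀ S : Sylow 2 G, Subgroup.centralizer (omegaCenterOf (S : Subgroup G) : Set G) ≤
      Subgroup.normalizer ((S : Subgroup G) : Set G))
    (hT : IsPGroup 2 T) (hK : K ∈ jComponentsZero T) :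
    ∃ S, JT S = JT T ∧ Over S (Subgroup.normalizer (wOf K : Set G)) ∧
      K ≤ Subgroup.normalizer (wOf K : Set G) := by
  have h := jc_iff.mp hK.1
  obtain ⟨S, hS, hJS⟩ := exists_sylowTwoIn_ge (isPGroup_JT hT)
    (h.J_normalizes.trans (normalizer_le_normalizer_wOf K))
  exact ⟨S, hK.2 S hJS hS, ⟨hS, charTwo_normalizer hL JC.W_pGroup h.W_ne_bot,
    hN _ ⟨wOf K, JC.W_pGroup, h.W_ne_bot, rfl⟩, hZ⟩, JC.K_normalizes_W⟩

theorem normalizer_eq (hL : IsCharacteristicTwoType G)
    (hN : ∀ N : Subgroup G, IsTwoLocal N → Group.IsSolvable ↥N)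
    (hZ : ∀ S : Sylow 2 G, Subgroup.centralizer (omegaCenterOf (S : Subgroup G) : Set G) ≤
      Subgroup.normalizer ((S : Subgroup G) : Set G))
    (hT : IsPGroup 2 T) (hK : K ∈ jComponentsZero T) :
    Subgroup.normalizer (K : Set G) = Subgroup.normalizer (wOf K : Set G) := by
  refine le_antisymm (normalizer_le_normalizer_wOf K) ?_
  obtain ⟨S, hJ, o, hKN⟩ := exists_over hL hN hZ hT hK
  have h := jc_iff.mp hK.1
  rw [← hJ] at h
  exact fun x hx => o.normalizes_of_normalizes_W h hKN ⟨hx, hx⟩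

/-- Conjugates of `J(T)` inside `N(W)` are conjugate by an element normalizing `K`. -/
theorem component_of_conj (hL : IsCharacteristicTwoType G)
    (hN : ∀ N : Subgroup G, IsTwoLocal N → Group.IsSolvable ↥N)
    (hZ : ∀ S : Sylow 2 G, Subgroup.centralizer (omegaCenterOf (S : Subgroup G) : Set G) ≤
      Subgroup.normalizer ((S : Subgroup G) : Set G))
    (hT : IsPGroup 2 T) (hK : K ∈ jComponentsZero T) {g : G}
    (hg : JT (LocalEven.cj g T) ≤ Subgroup.normalizer (wOf K : Set G)) :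
    IsJComponent (LocalEven.cj g T) K := by
  obtain ⟨S, hJ, o, -⟩ := exists_over hL hN hZ hT hK
  obtain ⟨n, hn, hle⟩ := IsSylowTwoIn.exists_conj_le o.sylT (isPGroup_JT (isPGroup_cj hT)) hg
  have heq : JT (LocalEven.cj g T) = LocalEven.cj n (JT T) := by
    refine Subgroup.eq_of_le_of_card_ge (JT_le_of fun A hA => ?_) (by rw [JT_cj, card_cj, card_cj])
    obtain ⟨B, hB⟩ := exists_isMaxEA S
    have hcard : Nat.card A = Nat.card B :=
      hA.card_eq ((hB.transfer hJ).cj g) |>.trans (card_cj g B)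
    have h1 : A ≤ LocalEven.cj n S := hA.le_JT.trans hle
    have h2 := ((hB.cj n).of_card h1 hA.2.1 (by rw [card_cj, hcard])).le_JT
    rw [JT_cj, hJ] at h2
    exact h2
  have hnK : n ∈ Subgroup.normalizer (K : Set G) := (normalizer_eq hL hN hZ hT hK).ge hn
  refine jc_iff.mpr ?_
  rw [heq]
  have h1 := (jc_iff.mp hK.1).cj n
  rwa [cj_eq_self_iff.mpr hnK] at h1

end Cfsg.Agent.LocalEven.JComp
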