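import Cfsg.Agent.LocalEven.JCompFour
import Cfsg.Agent.LocalEven.JCompLocal
import Cfsg.Agent.Transfer.Basic

/-! Existence of `J(T)`-components: every plane of a member of `jOvergroups T` gives one. -/

set_option autoImplicit false
set_option linter.style.haveILetI false
set_option linter.unusedSectionVars false

open scoped commutatorElement

namespace Cfsg.Agent.LocalEven.JComp

open Cfsg

universe u

variable {G : Type u} [Group G] [Finite G]

namespace Over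

variable {T L : Subgroup G}

theorem hOf_le_of (o : Over T L) {X : Subgroup G} (h : ∀ g ∈ L, LocalEven.cj g (JT T) ≤ X) : hOf L ≤ X := by
  rw [hOf, thompsonSubgroup, Subgroup.map_le_iff_le_comap]
  refine sSup_le fun A hA => ?_
  obtain ⟨g, hg, hle⟩ := IsSylowTwoIn.exists_conj_le o.sylT
    ((PLocal.isPGroup_of_EA hA.1).map L.subtype) (Subgroup.map_subtype_le A)
  have hmax : IsMaxEA T (LocalEven.cj g⁻¹ (A.map L.subtype)) := by
    refine ⟨?_, PLocal.isEA_map (PLocal.isEA_map hA.1 _) _, fun B hB hBe => ?_⟩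
    · have := cj_mono (g := g⁻¹) hle
      rwa [cj_cj, inv_mul_cancel, cj_one] at this
    · rw [card_cj, Subgroup.card_map_of_injective L.subtype_injective,
        ← Nat.card_congr (Subgroup.subgroupOfEquivOfLe (hB.trans o.sylT.1)).toEquiv]
      exact hA.2 _ (PLocal.isEA_comap hBe _ L.subtype_injective)
  have h1 : A.map L.subtype ≤ LocalEven.cj g (JT T) := by
    have := cj_mono (g := g) hmax.le_JT
    rwa [cj_cj, mul_inv_cancel, cj_one] at this
  exact Subgroup.map_le_iff_le_comap.mp (h1.trans (h g hg))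

/-- `L = H · N_L(J(T))`. -/
theorem exists_mul_normalizer_J (o : Over T L) {g : G} (hg : g ∈ L) :
    ∃ h ∈ hOf L, ∃ n ∈ L, n ∈ Subgroup.normalizer (JT T : Set G) ∧ g = h * n := by
  haveI : Fact (Nat.Prime 2) := ⟨Nat.prime_two⟩
  set H := hOf L
  set S0 := T ⊓ H with hS0
  have hS02 : IsPGroup 2 S0 := o.sylT.2.1.to_le inf_le_left
  have hS : IsSylowTwoIn S0 H := by
    obtain ⟨S, hS, hle⟩ := exists_sylowTwoIn_ge hS02 (inf_le_right : S0 ≤ H)
    obtain ⟨k, hk, hle2⟩ := IsSylowTwoIn.exists_conj_le o.sylT hS.2.1 (hS.1.trans (hOf_le L))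
    have h1 : S ≤ LocalEven.cj k S0 := fun s hs => mem_cj.mpr ⟨mem_cj.mp (hle2 hs), by
      have h2 := (Subgroup.mem_normalizer_iff.mp (Subgroup.inv_mem _ (le_normalizer_hOf L hk)) s).mp (hS.1 hs)
      rwa [inv_inv] at h2⟩
    rw [← Subgroup.eq_of_le_of_card_ge hle ((Subgroup.card_le_of_le h1).trans (card_cj k S0).le)] at hS
    exact hS
  have hJ0 : JT T ≤ S0 := le_inf (JT_le T) o.JT_le_hOf
  obtain ⟨h, hh, hle⟩ := IsSylowTwoIn.exists_conj_le hS (hS02.map _)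
    ((cj_mono inf_le_right).trans (cj_eq_self_iff.mpr (le_normalizer_hOf L hg)).le : LocalEven.cj g S0 ≤ H)
  have heq : LocalEven.cj g S0 = LocalEven.cj h S0 :=
    Subgroup.eq_of_le_of_card_ge hle (by rw [card_cj, card_cj])
  refine ⟨h, hh, h⁻¹ * g, L.mul_mem (L.inv_mem (hOf_le L hh)) hg, ?_, by group⟩
  have h1 : h⁻¹ * g ∈ Subgroup.normalizer (S0 : Set G) := cj_eq_iff.mp heq
  have h2 := normalizer_le_normalizer_JT S0 h1
  rwa [JT_eq_of_between inf_le_left hJ0] at h2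

theorem plane_moved (o : Over T L) {P : Subgroup G} (hP : Plane L P) :
    ¬ JT T ≤ Subgroup.centralizer (P : Set G) := by
  intro hJ
  obtain ⟨t, ht, -, htc, -⟩ := hP.axis
  refine htc ((o.hOf_le_of (X := Subgroup.centralizer (P : Set G)) fun g hg => ?_) ht)
  obtain ⟨h, hh, n, -, hn, rfl⟩ := o.exists_mul_normalizer_J hg
  rw [← cj_cj, cj_eq_self_iff.mpr hn]
  exact (cj_mono hJ).trans (cj_eq_self_iff.mpr (normalizer_le_normalizer_cent _ (hP.norm hh))).le

/-- Elements of `C_L(Y)` with square in `O₂(L)` lie in `O₂(L)`. -/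
theorem mem_Q_of_sq (o : Over T L) {c : G} (hc : c ∈ cOf L) (h2 : c * c ∈ pCoreOf 2 L) :
    c ∈ pCoreOf 2 L := by
  haveI : Fact (Nat.Prime 2) := ⟨Nat.prime_two⟩
  obtain ⟨n, hn⟩ := isPGroup_op (p := 2) L ⟨_, h2⟩
  have hz : IsPGroup 2 (Subgroup.zpowers c) := by
    refine isPGroup_zpowers_of_orderOf ?_
    have h3 : c ^ 2 ^ (n + 1) = 1 := by
      rw [pow_succ', pow_mul, pow_two]
      exact congrArg Subtype.val hn
    obtain ⟨j, -, hj⟩ := (Nat.dvd_prime_pow Nat.prime_two).mp (orderOf_dvd_of_pow_eq_one h3)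
    exact ⟨j, hj⟩
  exact o.mem_Q_of_two hz (Subgroup.zpowers_le.mpr hc) (Subgroup.mem_zpowers _)

/-- Every plane is `W_K` for a component `K`. -/
theorem component_of_plane (o : Over T L) {P : Subgroup G} (hP : Plane L P) :
    ∃ K, JC (JT T) K ∧ K ≤ L ∧ wOf K = P := by
  haveI : Fact (Nat.Prime 2) := ⟨Nat.prime_two⟩
  haveI : Fact (Nat.Prime 3) := ⟨Nat.prime_three⟩
  have hY : IsElementaryAbelian 2 (yOf L) := omegaCenter_isEA _
  have hPE := PLocal.isEA_mono hY hP.le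
  obtain ⟨t, ht, ⟨z, hz, hz1, htz⟩, htc, htt, htcomm⟩ := hP.axis
  obtain ⟨d, hd, hdm, hdf, hd3⟩ := hP.rot
  have hdH : d ∈ hOf L := Subgroup.commutator_le_self _ hd
  have hdL := hOf_le L hdH
  have htL := hOf_le L ht
  have td : Typ (yOf L) P d := ⟨hP.le, hP.card, le_normalizer_yOf L hdL, hdm, hdf, hd3.2⟩
  have hdz : d * z * d⁻¹ ∈ P := (Subgroup.mem_normalizer_iff.mp (hP.norm hdH) z).mp hz
  have hdz1 : d * z * d⁻¹ ≠ 1 := fun e => hz1 (conj_eq_one_iff.mp e)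
  have hzdz : z ≠ d * z * d⁻¹ := fun e => hz1 (hdf z hz (mul_inv_eq_iff_eq_mul.mp e.symm))
  set δ := ⁅d, t⁆ with hδdef
  have hδ' : δ ∈ ⁅hOf L, hOf L⁆ := Subgroup.commutator_mem_commutator hdH ht
  have hδH : δ ∈ hOf L := Subgroup.commutator_le_self _ hδ'
  have hδL : δ ∈ L := hOf_le L hδH
  have hδY := le_normalizer_yOf L hδL
  have hdδ : ⁅d, δ⁆ ∈ Subgroup.centralizer (yOf L : Set G) :=
    (o.derived_derived_le (Subgroup.commutator_mem_commutator hd hδ')).2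
  have htP := hP.norm ht
  have hδmove : ∀ y ∈ yOf L, ⁅y, δ⁆ ∈ P := by
    intro y hy
    -- `δ = d · t d⁻¹ t⁻¹`
    have hy' : t⁻¹ * y * t ∈ yOf L := by
      have := (Subgroup.mem_normalizer_iff.mp (Subgroup.inv_mem _ (le_normalizer_yOf L htL)) y).mp hy
      rwa [inv_inv] at this
    have hinv : ∀ v ∈ yOf L, ⁅v, d⁻¹⁆ ∈ P := fun v hv => by
      rw [show ⁅v, d⁻¹⁆ = d⁻¹ * ⁅v, d⁆⁻¹ * d by simp only [commutatorElement_def]; group]
      have := (Subgroup.mem_normalizer_iff.mp (Subgroup.inv_mem _ td.normW) _).mp (P.inv_mem (hdm v hv))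
      rwa [inv_inv] at this
    rw [show ⁅y, δ⁆ = ⁅y, d⁆ * (d * (t * ⁅t⁻¹ * y * t, d⁻¹⁆ * t⁻¹) * d⁻¹) by
      rw [hδdef]; simp only [commutatorElement_def]; group]
    exact P.mul_mem (hdm y hy) ((Subgroup.mem_normalizer_iff.mp td.normW _).mp
      ((Subgroup.mem_normalizer_iff.mp htP _).mp (hinv _ hy')))
  have hδnc : δ ∉ Subgroup.centralizer (P : Set G) := fun hc => by
    refine htc (centralizes_of_two_fixed hP.card hPE hz hdz hz1 hdz1 hzdz htz (mul_inv_eq_iff_eq_mul.mp ?_))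
    have h1 : t * z * t⁻¹ = z := by rw [htz, mul_inv_cancel_right]
    have h2 := Subgroup.mem_centralizer_iff.mp hc _ hdz
    calc t * (d * z * d⁻¹) * t⁻¹ = δ⁻¹ * (d * (t * z * t⁻¹) * d⁻¹) * δ := by
          rw [hδdef, commutatorElement_def]; group
      _ = δ⁻¹ * (d * z * d⁻¹ * δ) := by rw [h1]; group
      _ = _ := by rw [h2, inv_mul_cancel_left]
  have hδfpf : ∀ w ∈ P, δ * w = w * δ → w = 1 := by
    intro w hw hc
    by_contra hw1
    exact hδnc (td.centralizes_of_comm hY hδY hdδ hw hw1 hc)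
  have hδ3 : δ ^ 3 ∈ cOf L := by
    -- `δ` agrees with a power of `d` on `Y`
    obtain ⟨k, hk, hkz⟩ : ∃ k ∈ ({d, d * d} : Set G), δ * z * δ⁻¹ = k * z * k⁻¹ := by
      rcases td.four hY hz hz1 ((Subgroup.mem_normalizer_iff.mp (hP.norm hδH) z).mp hz) with e | e | e | e
      · exact absurd (conj_eq_one_iff.mp e) hz1
      · exact absurd (hδfpf z hz (mul_inv_eq_iff_eq_mul.mp e)) hz1
      · exact ⟨d, Set.mem_insert _ _, e⟩
      · exact ⟨d * d, Set.mem_insert_of_mem _ rfl, e.trans (by group)⟩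
    have hkH' : k ∈ ⁅hOf L, hOf L⁆ := by
      rcases hk with rfl | rfl; exacts [hd, Subgroup.mul_mem _ hd hd]
    have hkP : k ∈ Subgroup.normalizer (P : Set G) := hP.norm (Subgroup.commutator_le_self _ hkH')
    set u := k⁻¹ * δ with hu
    have hu' : u ∈ ⁅hOf L, hOf L⁆ := Subgroup.mul_mem _ (Subgroup.inv_mem _ hkH') hδ'
    have hdu := (o.derived_derived_le (Subgroup.commutator_mem_commutator hd hu')).2
    have huY := le_normalizer_yOf L (hOf_le L (Subgroup.commutator_le_self _ hu'))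
    have huz : u * z = z * u := by
      refine mul_inv_eq_iff_eq_mul.mp ?_
      rw [hu, show k⁻¹ * δ * z * (k⁻¹ * δ)⁻¹ = k⁻¹ * (δ * z * δ⁻¹) * k by group, hkz]; group
    have hinv : ∀ v ∈ yOf L, ⁅v, d⁻¹⁆ ∈ P := fun v hv => by
      rw [show ⁅v, d⁻¹⁆ = d⁻¹ * ⁅v, d⁆⁻¹ * d by simp only [commutatorElement_def]; group]
      have := (Subgroup.mem_normalizer_iff.mp (Subgroup.inv_mem _ td.normW) _).mp (P.inv_mem (hdm v hv))
      rwa [inv_inv] at this
    have hkmove : ∀ v ∈ yOf L, ⁅v, k⁻¹⁆ ∈ P := fun v hv => by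
      rcases hk with rfl | rfl
      · exact hinv v hv
      · rw [show ⁅v, (d * d)⁻¹⁆ = ⁅v, d⁻¹⁆ * (d⁻¹ * ⁅v, d⁻¹⁆ * d) by
          simp only [commutatorElement_def, mul_inv_rev]; group]
        have := (Subgroup.mem_normalizer_iff.mp (Subgroup.inv_mem _ td.normW) _).mp (hinv v hv)
        rw [inv_inv] at this
        exact P.mul_mem (hinv v hv) this
    have huC : u ∈ Subgroup.centralizer (yOf L : Set G) :=
      td.mem_centralizer_of_fix hY huY (td.centralizes_of_comm hY huY hdu hz hz1 huz) (fun v hv => by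
        rw [hu, show ⁅v, k⁻¹ * δ⁆ = ⁅v, k⁻¹⁆ * (k⁻¹ * ⁅v, δ⁆ * k) by simp only [commutatorElement_def]; group]
        have := (Subgroup.mem_normalizer_iff.mp (Subgroup.inv_mem _ hkP) _).mp (hδmove v hv)
        rw [inv_inv] at this
        exact P.mul_mem (hkmove v hv) this) hdu
    haveI : ((cOf L).subgroupOf L).Normal := Subgroup.normal_subgroupOf_of_le_normalizer (le_normalizer_cOf L)
    set π := QuotientGroup.mk' ((cOf L).subgroupOf L)
    have hkL : k ∈ L := hOf_le L (Subgroup.commutator_le_self _ hkH')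
    have h1 : π ⟨δ, hδL⟩ = π ⟨k, hkL⟩ := by
      refine (QuotientGroup.eq.mpr ?_).symm
      exact ⟨L.mul_mem (L.inv_mem hkL) hδL, huC⟩
    have h2 : π ⟨k, hkL⟩ ^ 3 = 1 := by
      rw [← map_pow]
      refine (QuotientGroup.eq_one_iff ((⟨k, hkL⟩ : ↥L) ^ 3)).mpr ?_
      show k ^ 3 ∈ cOf L
      rcases hk with rfl | rfl
      · exact hd3
      · rw [(Commute.refl d).mul_pow]; exact (cOf L).mul_mem hd3 hd3
    have h3 : π (⟨δ, hδL⟩ ^ 3) = 1 := by rw [map_pow, h1, h2]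
    exact (QuotientGroup.eq_one_iff ((⟨δ, hδL⟩ : ↥L) ^ 3)).mp h3
  have tδ : Typ (yOf L) P δ := ⟨hP.le, hP.card, hδY, hδmove, hδfpf, hδ3.2⟩
  -- modulo `O₂(L)`
  set Q := pCoreOf 2 L with hQ
  haveI : (Q.subgroupOf L).Normal := Subgroup.normal_subgroupOf_of_le_normalizer (map_pCore_normalized L)
  set π := QuotientGroup.mk' (Q.subgroupOf L) with hπ
  have hmem : ∀ g : ↥L, π g = 1 ↔ (g : G) ∈ Q := fun g => QuotientGroup.eq_one_iff g
  have hcommπ : ∀ (c g : ↥L), (c : G) ∈ cOf L → (g : G) ∈ hOf L → π c * π g = π g * π c := by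
    intro c g hc hg
    have : π ⁅c, g⁆ = 1 := (hmem _).mpr (o.C_comm_H hc hg)
    rw [map_commutatorElement] at this
    exact commutatorElement_eq_one_iff_mul_comm.mp this
  let D : ↥L := ⟨d, hdL⟩
  let T' : ↥L := ⟨t, htL⟩
  let Δ : ↥L := ⟨δ, hδL⟩
  have hΔ : π Δ = π D * π T' * (π D)⁻¹ * (π T')⁻¹ := by
    rw [show Δ = ⁅D, T'⁆ from rfl, map_commutatorElement, commutatorElement_def]
  have cTT : Commute (π T' * π T') (π D) := by
    have := hcommπ (T' * T') D htt hdH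
    rwa [map_mul] at this
  have hinvΔ : π T' * π Δ * (π T')⁻¹ = (π Δ)⁻¹ := by
    rw [hΔ]
    calc π T' * (π D * π T' * (π D)⁻¹ * (π T')⁻¹) * (π T')⁻¹
        = π T' * π D * π T' * ((π D)⁻¹ * (π T' * π T')⁻¹) := by group
      _ = π T' * π D * π T' * ((π T' * π T')⁻¹ * (π D)⁻¹) := by rw [(cTT.inv_inv).eq]
      _ = _ := by group
  have hδ3Q : δ ^ 3 ∈ Q := by
    refine o.mem_Q_of_sq hδ3 ?_
    have c1 : Commute (π (Δ ^ 3)) (π T') := hcommπ (Δ ^ 3) T' hδ3 ht
    have h1 : π (Δ ^ 3) = (π (Δ ^ 3))⁻¹ := by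
      calc π (Δ ^ 3) = π T' * π (Δ ^ 3) * (π T')⁻¹ := by rw [← c1.eq, mul_inv_cancel_right]
        _ = (π T' * π Δ * (π T')⁻¹) ^ 3 := by rw [conj_pow, map_pow]
        _ = _ := by rw [hinvΔ, inv_pow, map_pow]
    have h2 : π (Δ ^ 3 * Δ ^ 3) = 1 := by
      rw [map_mul]
      nth_rw 2 [h1]
      exact mul_inv_cancel _
    exact (hmem (Δ ^ 3 * Δ ^ 3)).mp h2
  set N1 := Q ⊔ Subgroup.zpowers δ with hN1
  have hN1L : N1 ≤ L := sup_le (op_le L) (Subgroup.zpowers_le.mpr hδL)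
  have hQN1 : N1 ≤ Subgroup.normalizer (Q : Set G) := hN1L.trans (map_pCore_normalized L)
  have hnormN1 : ∀ h ∈ L, h * δ * h⁻¹ ∈ N1 → h ∈ Subgroup.normalizer (N1 : Set G) := by
    intro h hh hmem'
    rw [← cj_eq_self_iff]
    refine Subgroup.eq_of_le_of_card_ge ?_ (card_cj h N1).ge
    rw [cj, Subgroup.map_le_iff_le_comap, hN1]
    refine sup_le (fun q hq => Subgroup.mem_sup_left
      ((Subgroup.mem_normalizer_iff.mp (map_pCore_normalized L hh) q).mp hq)) (Subgroup.zpowers_le.mpr ?_)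
    exact hmem'
  have hδN1 : δ ∈ N1 := Subgroup.mem_sup_right (Subgroup.mem_zpowers δ)
  have hcent : ∀ h ∈ hOf L, h ∈ Subgroup.centralizer (P : Set G) →
      h ∈ Subgroup.normalizer (N1 : Set G) := by
    intro h hh hhc
    have hhL := hOf_le L hh
    refine hnormN1 h hhL ?_
    set g := δ⁻¹ * (h * δ * h⁻¹) with hg
    have hconj : h * δ * h⁻¹ ∈ ⁅hOf L, hOf L⁆ := conj_mem_H' hhL hδ'
    have hgH' : g ∈ ⁅hOf L, hOf L⁆ := Subgroup.mul_mem _ (Subgroup.inv_mem _ hδ') hconj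
    have hgH : g ∈ hOf L := Subgroup.commutator_le_self _ hgH'
    have hgY := le_normalizer_yOf L (hOf_le L hgH)
    have hdg := (o.derived_derived_le (Subgroup.commutator_mem_commutator hδ' hgH')).2
    have hhP := hP.norm hh
    have hfix : ∀ w ∈ P, h * w * h⁻¹ = w := fun w hw => by
      rw [← Subgroup.mem_centralizer_iff.mp hhc w hw, mul_inv_cancel_right]
    have hgC : g ∈ cOf L := by
      refine ⟨hOf_le L hgH, tδ.mem_centralizer_of_fix hY hgY ?_ ?_ hdg⟩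
      · rw [Subgroup.mem_centralizer_iff]
        intro w hw
        refine (mul_inv_eq_iff_eq_mul.mp ?_).symm
        have hw' : δ * w * δ⁻¹ ∈ P := (Subgroup.mem_normalizer_iff.mp tδ.normW w).mp hw
        have hwi : h⁻¹ * w * h = w := by
          calc h⁻¹ * w * h = h⁻¹ * (h * w * h⁻¹) * h := by rw [hfix w hw]
            _ = w := by group
        calc g * w * g⁻¹ = δ⁻¹ * (h * (δ * (h⁻¹ * w * h) * δ⁻¹) * h⁻¹) * δ := by rw [hg]; group
          _ = δ⁻¹ * (δ * w * δ⁻¹) * δ := by rw [hwi, hfix _ hw']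
          _ = w := by group
      · intro y hy
        have hyh : h⁻¹ * y * h ∈ yOf L := by
          have := (Subgroup.mem_normalizer_iff.mp (Subgroup.inv_mem _ (le_normalizer_yOf L hhL)) y).mp hy
          rwa [inv_inv] at this
        have hδi : ⁅y, δ⁻¹⁆ ∈ P := by
          rw [show ⁅y, δ⁻¹⁆ = δ⁻¹ * ⁅y, δ⁆⁻¹ * δ by simp only [commutatorElement_def]; group]
          have := (Subgroup.mem_normalizer_iff.mp (Subgroup.inv_mem _ tδ.normW) _).mp (P.inv_mem (hδmove y hy))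
          rwa [inv_inv] at this
        rw [show ⁅y, g⁆ = ⁅y, δ⁻¹⁆ * (δ⁻¹ * (h * ⁅h⁻¹ * y * h, δ⁆ * h⁻¹) * δ) by
          rw [hg]; simp only [commutatorElement_def]; group]
        refine P.mul_mem hδi ?_
        have := (Subgroup.mem_normalizer_iff.mp (Subgroup.inv_mem _ tδ.normW) _).mp
          ((Subgroup.mem_normalizer_iff.mp hhP _).mp (hδmove _ hyh))
        rwa [inv_inv] at this
    -- `γ² ∈ O₂(L)`
    let X : ↥L := ⟨h, hhL⟩
    let g1 : ↥L := Δ⁻¹ * (X * Δ * X⁻¹)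
    have hκ : ⁅t, h⁆ ∈ cOf L := htcomm h hh hhc
    let kk : ↥L := ⁅T', X⁆
    have e1 : π X * π Δ * (π X)⁻¹ = π Δ * π g1 := by
      simp only [g1, map_mul, map_inv]; group
    have e3 : π T' * π X = π kk * (π X * π T') := by
      rw [show π kk = ⁅π T', π X⁆ from map_commutatorElement π T' X, commutatorElement_def]; group
    have c1 : Commute (π g1) (π T') := hcommπ g1 T' hgC ht
    have c3 : Commute (π g1) (π Δ) := hcommπ g1 Δ hgC hδH
    have c4 : Commute (π kk) (π Δ) := hcommπ kk Δ hκ hδH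
    have c7 : Commute (π kk) (π g1) := hcommπ kk g1 hκ hgH
    have L1 : π T' * π X * π Δ * (π T' * π X)⁻¹ = (π Δ)⁻¹ * π g1 := by
      calc π T' * π X * π Δ * (π T' * π X)⁻¹ = π T' * (π X * π Δ * (π X)⁻¹) * (π T')⁻¹ := by group
        _ = π T' * π Δ * (π g1 * (π T')⁻¹) := by rw [e1]; group
        _ = π T' * π Δ * ((π T')⁻¹ * π g1) := by rw [(c1.inv_right).eq]
        _ = (π T' * π Δ * (π T')⁻¹) * π g1 := by group
        _ = _ := by rw [hinvΔ]
    have L2 : π X * π T' * π Δ * (π X * π T')⁻¹ = (π Δ)⁻¹ * (π g1)⁻¹ := by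
      calc π X * π T' * π Δ * (π X * π T')⁻¹ = π X * (π T' * π Δ * (π T')⁻¹) * (π X)⁻¹ := by group
        _ = (π X * π Δ * (π X)⁻¹)⁻¹ := by rw [hinvΔ]; group
        _ = (π g1)⁻¹ * (π Δ)⁻¹ := by rw [e1]; group
        _ = _ := (c3.inv_inv).eq
    have hkc : Commute (π kk) ((π Δ)⁻¹ * (π g1)⁻¹) := (c4.inv_right).mul_right c7.inv_right
    have hEq : (π Δ)⁻¹ * π g1 = (π Δ)⁻¹ * (π g1)⁻¹ := by
      rw [← L1, e3]
      calc π kk * (π X * π T') * π Δ * (π kk * (π X * π T'))⁻¹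
          = π kk * (π X * π T' * π Δ * (π X * π T')⁻¹) * (π kk)⁻¹ := by group
        _ = _ := by rw [L2, hkc.eq, mul_inv_cancel_right]
    have h5 := mul_left_cancel hEq
    have hsq : π (g1 * g1) = 1 := by
      rw [map_mul]
      nth_rw 2 [h5]
      exact mul_inv_cancel _
    have hgQ : g ∈ Q := o.mem_Q_of_sq hgC ((hmem (g1 * g1)).mp hsq)
    rw [show h * δ * h⁻¹ = δ * g by rw [hg, mul_inv_cancel_left]]
    exact N1.mul_mem hδN1 (Subgroup.mem_sup_left hgQ)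
  have htN : t ∈ Subgroup.normalizer (N1 : Set G) := by
    refine hnormN1 t htL ?_
    have h1 : π (T' * Δ * T'⁻¹ * Δ) = 1 := by
      rw [map_mul, map_mul, map_mul, map_inv, hinvΔ, inv_mul_cancel]
    have h2 : t * δ * t⁻¹ * δ ∈ Q := (hmem _).mp h1
    rw [show t * δ * t⁻¹ = (t * δ * t⁻¹ * δ) * δ⁻¹ by group]
    exact N1.mul_mem (Subgroup.mem_sup_left h2) (N1.inv_mem hδN1)
  have hHN : hOf L ≤ Subgroup.normalizer (N1 : Set G) := by
    set N := Subgroup.normalizer (N1 : Set G)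
    have hδN : δ ∈ N := Subgroup.le_normalizer hδN1
    have hδz : δ * z * δ⁻¹ ∈ P := (Subgroup.mem_normalizer_iff.mp tδ.normW z).mp hz
    have fixcase : ∀ h ∈ hOf L, h * z = z * h → h ∈ N := by
      intro h hh hhz
      by_cases hhc : h ∈ Subgroup.centralizer (P : Set G)
      · exact hcent h hh hhc
      have h1 := image_of_fixed hP.card hPE hz hdz hz1 hdz1 hzdz (hP.norm hh) hhz hhc
      have h2 := image_of_fixed hP.card hPE hz hdz hz1 hdz1 hzdz htP htz htc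
      have h3 : t⁻¹ * h ∈ Subgroup.centralizer (P : Set G) := by
        refine centralizes_of_two_fixed hP.card hPE hz hdz hz1 hdz1 hzdz
          ((Commute.inv_left (show Commute t z from htz)).mul_left (show Commute h z from hhz)).eq
          (mul_inv_eq_iff_eq_mul.mp ?_)
        calc t⁻¹ * h * (d * z * d⁻¹) * (t⁻¹ * h)⁻¹ = t⁻¹ * (h * (d * z * d⁻¹) * h⁻¹) * t := by group
          _ = t⁻¹ * (t * (d * z * d⁻¹) * t⁻¹) * t := by rw [h1, h2]
          _ = _ := by group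
      have := N.mul_mem htN (hcent _ ((hOf L).mul_mem ((hOf L).inv_mem ht) hh) h3)
      rwa [mul_inv_cancel_left] at this
    intro h hh
    rcases tδ.four hY hz hz1 ((Subgroup.mem_normalizer_iff.mp (hP.norm hh) z).mp hz) with e | e | e | e
    · exact absurd (conj_eq_one_iff.mp e) hz1
    · exact fixcase h hh (mul_inv_eq_iff_eq_mul.mp e)
    · have h1 := fixcase (δ⁻¹ * h) ((hOf L).mul_mem ((hOf L).inv_mem hδH) hh) (mul_inv_eq_iff_eq_mul.mp (by
        rw [show δ⁻¹ * h * z * (δ⁻¹ * h)⁻¹ = δ⁻¹ * (h * z * h⁻¹) * δ by group, e]; group))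
      have := N.mul_mem hδN h1
      rwa [mul_inv_cancel_left] at this
    · have h1 := fixcase (δ⁻¹ * δ⁻¹ * h) ((hOf L).mul_mem ((hOf L).mul_mem ((hOf L).inv_mem hδH)
        ((hOf L).inv_mem hδH)) hh) (mul_inv_eq_iff_eq_mul.mp (by
        rw [show δ⁻¹ * δ⁻¹ * h * z * (δ⁻¹ * δ⁻¹ * h)⁻¹ = δ⁻¹ * (δ⁻¹ * (h * z * h⁻¹) * δ) * δ by
          simp only [mul_inv_rev, inv_inv, mul_assoc], e]; group))
      have := N.mul_mem (N.mul_mem hδN hδN) h1
      rwa [show δ * δ * (δ⁻¹ * δ⁻¹ * h) = h by group] at this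
  -- `K = O²(N1)`
  set Kgen := {g : G | g ∈ N1 ∧ Odd (orderOf g)} with hKgen
  set K := Subgroup.closure Kgen with hK
  have hKN1 : K ≤ N1 := (Subgroup.closure_le _).mpr fun g hg => hg.1
  have hKL : K ≤ L := hKN1.trans hN1L
  have hNK : Subgroup.normalizer (N1 : Set G) ≤ Subgroup.normalizer (K : Set G) := by
    intro x hx
    rw [← cj_eq_self_iff]
    refine Subgroup.eq_of_le_of_card_ge ?_ (card_cj x K).ge
    rw [cj, hK, MonoidHom.map_closure]
    refine Subgroup.closure_mono ?_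
    rintro _ ⟨g, ⟨hg, hgo⟩, rfl⟩
    exact ⟨(Subgroup.mem_normalizer_iff.mp hx g).mp hg,
      (show orderOf ((MulAut.conj x) g) = orderOf g from (MulAut.conj x).orderOf_eq g) ▸ hgo⟩
  have hN1K : N1 ≤ Subgroup.normalizer (K : Set G) := Subgroup.le_normalizer.trans hNK
  have hgen : Subgroup.closure {g : G | g ∈ K ∧ Odd (orderOf g)} = K := by
    refine le_antisymm ((Subgroup.closure_le _).mpr fun g hg => hg.1) ?_
    rw [hK]
    exact Subgroup.closure_mono fun g hg => ⟨Subgroup.subset_closure hg, hg.2⟩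
  -- the element of order 3
  obtain ⟨n, hn⟩ := isPGroup_op (p := 2) L ⟨_, hδ3Q⟩
  set δ2 := δ ^ 2 ^ n with hδ2
  have hδ23 : δ2 ^ 3 = 1 := by
    rw [hδ2, ← pow_mul, mul_comm, pow_mul]
    exact congrArg Subtype.val hn
  have hδ2K : δ2 ∈ K := by
    refine Subgroup.subset_closure ⟨N1.pow_mem hδN1 _, ?_⟩
    rcases (Nat.dvd_prime Nat.prime_three).mp (orderOf_dvd_of_pow_eq_one hδ23) with e | e <;> rw [e] <;> decide
  obtain ⟨m, hm⟩ : ∃ m : ℕ, δ⁻¹ * δ2 ^ m ∈ Q := by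
    rcases Nat.even_or_odd n with he | ho
    · refine ⟨1, ?_⟩
      obtain ⟨c, hc⟩ : 3 ∣ 2 ^ n - 1 := by
        obtain ⟨j, rfl⟩ := he
        rw [← two_mul, pow_mul]
        have := Nat.sub_dvd_pow_sub_pow (2 ^ 2) 1 j
        simpa using this
      have e : 2 ^ n = 3 * c + 1 := by have := Nat.one_le_two_pow (n := n); omega
      rw [pow_one, hδ2, e, pow_succ', inv_mul_cancel_left, pow_mul]
      exact Q.pow_mem hδ3Q c
    · refine ⟨2, ?_⟩
      obtain ⟨c, hc⟩ : 3 ∣ 2 ^ (n + 1) - 1 := by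
        obtain ⟨j, hj⟩ := ho
        rw [show n + 1 = 2 * (j + 1) by omega, pow_mul]
        have := Nat.sub_dvd_pow_sub_pow (2 ^ 2) 1 (j + 1)
        simpa using this
      have e : 2 ^ n * 2 = 3 * c + 1 := by
        rw [← pow_succ]; have := Nat.one_le_two_pow (n := n + 1); omega
      rw [hδ2, ← pow_mul, e, pow_succ', inv_mul_cancel_left, pow_mul]
      exact Q.pow_mem hδ3Q c
  have hQP : Q ≤ Subgroup.centralizer (P : Set G) :=
    ((core_le_cOf L).trans inf_le_right).trans (Subgroup.centralizer_le hP.le)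
  have hδnQ : δ ∉ Q := fun hq => hδnc (hQP hq)
  have hδQK : δ ∈ K ⊔ Q := by
    rw [show δ = δ2 ^ m * (δ⁻¹ * δ2 ^ m)⁻¹ by group]
    exact Subgroup.mul_mem_sup (K.pow_mem hδ2K m) (Q.inv_mem hm)
  -- the quotient by `R = K ∩ Q` has order 3
  let f : ↥K →* ↥L ⧸ Q.subgroupOf L := π.comp (Subgroup.inclusion hKL)
  have hker : f.ker = Q.subgroupOf K := by
    ext k
    exact hmem _
  have hΔ1 : π Δ ≠ 1 := fun e => hδnQ ((hmem Δ).mp e)
  have hordΔ : orderOf (π Δ) = 3 := by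
    refine orderOf_eq_prime ?_ hΔ1
    rw [← map_pow]
    exact (hmem (Δ ^ 3)).mpr hδ3Q
  have hrange : f.range = Subgroup.zpowers (π Δ) := by
    refine le_antisymm ?_ (Subgroup.zpowers_le.mpr ?_)
    · rintro _ ⟨⟨k, hk⟩, rfl⟩
      have hk' : k ∈ Q ⊔ Subgroup.zpowers δ := hKN1 hk
      obtain ⟨q, hq, x, hx, hqx⟩ := Coprime.exists_mul_of_mem_sup
        ((Subgroup.zpowers_le.mpr hδL).trans (map_pCore_normalized L)) hk'
      obtain ⟨i, rfl⟩ := Subgroup.mem_zpowers_iff.mp hx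
      refine ⟨i, ?_⟩
      have e : (⟨k, hKL hk⟩ : ↥L) = ⟨q, op_le L hq⟩ * Δ ^ i := Subtype.ext hqx.symm
      show π Δ ^ i = π ⟨k, hKL hk⟩
      rw [e, map_mul, map_zpow, (hmem ⟨q, op_le L hq⟩).mpr hq, one_mul]
    · refine ⟨⟨δ2 ^ m, K.pow_mem hδ2K m⟩, ?_⟩
      have h1 : π (Δ⁻¹ * ⟨δ2 ^ m, hKL (K.pow_mem hδ2K m)⟩) = 1 := (hmem _).mpr hm
      rw [map_mul, map_inv, inv_mul_eq_one] at h1
      exact h1.symm
  have hidx : (Q.subgroupOf K).index = 3 := by
    rw [← hker, Subgroup.index_ker, hrange, Nat.card_zpowers, hordΔ]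
  have hR : pCoreOf 2 K = K ⊓ Q := by
    refine le_antisymm (le_inf (op_le K) fun r hr => ?_)
      (le_op inf_le_left (fun k hk => ?_) ((isPGroup_op L).to_le inf_le_right))
    · obtain ⟨r', hr', rfl⟩ := hr
      refine (hmem _).mp (?_ : π (Subgroup.inclusion hKL r') = 1)
      obtain ⟨j, hj⟩ := Core.isPGroup_pCore 2 ↥K ⟨r', hr'⟩
      have h1 : orderOf (f r') ∣ 2 ^ j := orderOf_dvd_of_pow_eq_one (by
        rw [← map_pow, show r' ^ 2 ^ j = 1 from congrArg Subtype.val hj, map_one])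
      have h2 : orderOf (f r') ∣ 3 := by
        rw [← hordΔ, ← Nat.card_zpowers (π Δ), ← hrange]
        exact Subgroup.orderOf_dvd_natCard _ ⟨r', rfl⟩
      exact orderOf_eq_one_iff.mp (Nat.eq_one_of_dvd_coprimes ((by decide : Nat.Coprime 2 3).pow_left j) h1 h2)
    · exact Subgroup.inf_normalizer_le_normalizer_inf
        ⟨Subgroup.le_normalizer hk, map_pCore_normalized L (hKL hk)⟩
  have hcore : JCore K := ⟨by rw [hR, Subgroup.relIndex, inf_comm, Subgroup.inf_subgroupOf_right]; exact hidx⟩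
  have hRT : pCoreOf 2 K ≤ T := hR.le.trans (inf_le_right.trans o.Q_le_T)
  have hJK : JT T ≤ Subgroup.normalizer (K : Set G) := o.JT_le_hOf.trans (hHN.trans hNK)
  -- `J` moves `P`
  obtain ⟨A, hA, a, ha, haP⟩ : ∃ A, IsMaxEA T A ∧ ∃ a ∈ A, a ∉ Subgroup.centralizer (P : Set G) := by
    by_contra hcon
    push Not at hcon
    exact o.plane_moved hP (JT_le_of hcon)
  have haJ := hA.le_JT ha
  have haH := o.JT_le_hOf haJ
  have hδ2P : δ2 ∈ Subgroup.normalizer (P : Set G) := Subgroup.pow_mem _ tδ.normW _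
  have hcomm : ⁅K, JT T⁆ = K := by
    set M := ⁅K, JT T⁆ with hM
    have hMK : M ≤ K := Subgroup.le_normalizer_iff_commutator_le_left.mp hJK
    refine le_antisymm hMK ?_
    have hKM : K ≤ Subgroup.normalizer (M : Set G) := Subgroup.normalizer_commutator_ge_left K (JT T)
    have hnot : ⁅δ2, a⁆ ∉ Q := by
      intro hq
      refine haP ?_
      obtain ⟨w, hw, hw1, hfix⟩ := exists_fixed (PLocal.isPGroup_of_EA hPE) (PLocal.isPGroup_of_EA hA.2.1)
        (ne_bot_of_four hP.card) (hA.le_JT.trans (o.JT_le_hOf.trans hP.norm))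
      have hc := ((core_le_cOf L) hq).2
      have hδ2w : δ2 * w * δ2⁻¹ ∈ P := (Subgroup.mem_normalizer_iff.mp hδ2P w).mp hw
      refine centralizes_of_two_fixed hP.card hPE hw hδ2w hw1 (fun e => hw1 (conj_eq_one_iff.mp e)) ?_
        (hfix a ha) (mul_inv_eq_iff_eq_mul.mp ?_)
      · intro e
        refine hw1 (tδ.fpf w hw ?_)
        -- `δ` is a power of `δ2` modulo `C(P)`
        have h1 : δ2 * w = w * δ2 := mul_inv_eq_iff_eq_mul.mp e.symm
        have h2 : Commute (δ2 ^ m) w := (show Commute δ2 w from h1).pow_left m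
        have h3 : Commute (δ⁻¹ * δ2 ^ m) w := (Subgroup.mem_centralizer_iff.mp (hQP hm) w hw).symm
        have h4 := h2.mul_left h3.inv_left
        rwa [mul_inv_rev, inv_inv, mul_inv_cancel_left] at h4
      · have h1 : a * w * a⁻¹ = w := by rw [hfix a ha, mul_inv_cancel_right]
        calc a * (δ2 * w * δ2⁻¹) * a⁻¹ = ⁅δ2, a⁆⁻¹ * (δ2 * (a * w * a⁻¹) * δ2⁻¹) * ⁅δ2, a⁆ := by
              rw [commutatorElement_def]; group
          _ = ⁅δ2, a⁆⁻¹ * (δ2 * w * δ2⁻¹ * ⁅δ2, a⁆) := by rw [h1]; group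
          _ = _ := by rw [Subgroup.mem_centralizer_iff.mp hc _ (hP.le hδ2w), inv_mul_cancel_left]
    have hbM : ⁅δ2, a⁆ ∈ M := Subgroup.commutator_mem_commutator hδ2K haJ
    have hKMR : K ≤ M ⊔ pCoreOf 2 K := by
      intro k hk
      have hbK := hMK hbM
      rcases hcore.cases3 hbK (fun e => hnot (hR.le e).2) hk with h1 | h1 | h1
      · exact Subgroup.mem_sup_right h1
      · have := Subgroup.mul_mem _ (Subgroup.mem_sup_right h1 : k * ⁅δ2, a⁆⁻¹ ∈ M ⊔ pCoreOf 2 K)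
          (Subgroup.mem_sup_left hbM)
        rwa [inv_mul_cancel_right] at this
      · have := Subgroup.mul_mem _ (Subgroup.mem_sup_right h1 : k * ⁅δ2, a⁆ ∈ M ⊔ pCoreOf 2 K)
          (Subgroup.mem_sup_left (M.inv_mem hbM))
        rwa [mul_inv_cancel_right] at this
    exact le_of_odd_gen ((op_le K).trans hKM) (isPGroup_op K) hKMR hgen
  -- `P ≤ W_K`
  have hQK : Q ≤ Subgroup.normalizer (K : Set G) := le_sup_left.trans hN1K
  have hPQ : P ≤ Q := hP.le.trans (omegaCenter_le _)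
  have hPK : P ≤ K := by
    obtain ⟨p, hp, hne⟩ : ∃ p ∈ P, δ2 * p ≠ p * δ2 := by
      by_contra hcon
      push Not at hcon
      have h1 : δ2 ∈ Subgroup.centralizer (P : Set G) :=
        Subgroup.mem_centralizer_iff.mpr fun p hp => (hcon p hp).symm
      refine hδnc ?_
      rw [show δ = δ2 ^ m * (δ⁻¹ * δ2 ^ m)⁻¹ by group]
      exact Subgroup.mul_mem _ (Subgroup.pow_mem _ h1 m) (Subgroup.inv_mem _ (hQP hm))
    set w := ⁅p, δ2⁆
    have hwK : w ∈ K := by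
      show ⁅p, δ2⁆ ∈ K
      rw [commutatorElement_def]
      exact K.mul_mem ((Subgroup.mem_normalizer_iff.mp (hQK (hPQ hp)) δ2).mp hδ2K) (K.inv_mem hδ2K)
    have hwP : w ∈ P := by
      rw [show w = p * (δ2 * p⁻¹ * δ2⁻¹) by show ⁅p, δ2⁆ = _; rw [commutatorElement_def]; group]
      exact P.mul_mem hp ((Subgroup.mem_normalizer_iff.mp hδ2P _).mp (P.inv_mem hp))
    have hw1 : w ≠ 1 := fun e => hne (commutatorElement_eq_one_iff_mul_comm.mp e).symm
    have hδK : δ ∈ Subgroup.normalizer (K : Set G) := hN1K hδN1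
    intro v hv
    have h1 := (Subgroup.mem_normalizer_iff.mp hδK w).mp hwK
    rcases tδ.four hY hwP hw1 hv with rfl | rfl | rfl | rfl
    · exact one_mem _
    · exact hwK
    · exact h1
    · exact (Subgroup.mem_normalizer_iff.mp hδK _).mp h1
  have hPV : P ≤ omegaCenterOf (pCoreOf 2 K) := fun p hp =>
    mem_omegaCenter.mpr ⟨hR.ge ⟨hPK hp, hPQ hp⟩, Subgroup.mem_centralizer_iff.mpr fun r hr =>
      (Subgroup.mem_centralizer_iff.mp ((core_le_cOf L) (hR.le hr).2).2 p (hP.le hp)).symm, hPE.2 p hp⟩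
  have hPW : P ≤ wOf K := by
    intro p hp
    have hp' := (Subgroup.mem_normalizer_iff.mp tδ.normW p).mp hp
    have hx : δ * p * δ⁻¹ ∈ omegaCenterOf (pCoreOf 2 K) := hPV hp'
    rw [tδ.eq_comm hY hp]
    have hq := Subgroup.mem_centralizer_iff.mp (hQP (Q.inv_mem hm)) _ (P.inv_mem hp')
    have e : ⁅δ * p * δ⁻¹, δ⁆ = ⁅δ * p * δ⁻¹, δ2 ^ m⁆ := by
      set x := δ * p * δ⁻¹
      calc ⁅x, δ⁆ = x * (δ2 ^ m * ((δ⁻¹ * δ2 ^ m)⁻¹ * x⁻¹) * (δ⁻¹ * δ2 ^ m) * (δ2 ^ m)⁻¹) := by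
            simp only [commutatorElement_def]; group
        _ = x * (δ2 ^ m * (x⁻¹ * (δ⁻¹ * δ2 ^ m)⁻¹) * (δ⁻¹ * δ2 ^ m) * (δ2 ^ m)⁻¹) := by rw [hq]
        _ = _ := by simp only [commutatorElement_def]; group
    rw [e]
    exact Subgroup.commutator_mem_commutator hx (K.pow_mem hδ2K m)
  have hKP : K ≤ Subgroup.normalizer (P : Set G) :=
    hKN1.trans (sup_le (hQP.trans (Subgroup.centralizer_le_normalizer _)) (Subgroup.zpowers_le.mpr tδ.normW))
  have hW : wOf K = P := hcore.wOf_eq hRT hA (hA.le_JT.trans hJK) hPW hP.card hKP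
    (hA.le_JT.trans (o.JT_le_hOf.trans hP.norm)) ha haP
  refine ⟨K, ⟨hcore, hgen, hcomm, fun S hS hJS => ?_, by rw [hW]; exact hP.card,
    fun w hw => sq_self hPE (hW.le hw)⟩, hKL, hW⟩
  -- Sylow subgroups containing `J`
  have hnormR : K ⊔ JT T ≤ Subgroup.normalizer (pCoreOf 2 K : Set G) :=
    (sup_le Subgroup.le_normalizer hJK).trans (normalizer_le_normalizer_core K)
  have hRS : pCoreOf 2 K ≤ S :=
    (isSylowTwoIn_isMaxP hS).normal_le (isPGroup_op K) ((op_le K).trans le_sup_left) hnormR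
  have hST : S ≤ T := by
    intro s hs
    obtain ⟨k, hk, j, hj, hkj⟩ := Coprime.exists_mul_of_mem_sup hJK (hS.1 hs)
    rw [← hkj]
    refine T.mul_mem (hRT (hcore.le_R_of_pGroup hS.2.1 ⟨hk, ?_⟩)) (JT_le T hj)
    have := S.mul_mem hs (S.inv_mem (hJS hj))
    rwa [← hkj, mul_inv_cancel_right] at this
  exact JT_eq_of_between hST hJS

theorem exists_plane (o : Over T L) (hJ : ¬ JT T ≤ pCoreOf 2 L) : ∃ P, Plane L P := by
  by_contra hcon
  refine hJ (o.mem_Q_of_two (isPGroup_JT o.sylT.2.1) (le_inf ((JT_le T).trans o.sylT.1) ?_))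
  refine o.JT_le_hOf.trans (Subgroup.le_centralizer_iff.mp (o.cover.trans (sup_le inf_le_right ?_)))
  exact sSup_le fun P hP => absurd ⟨P, hP⟩ hcon

theorem exists_component (o : Over T L) (hJ : ¬ JT T ≤ pCoreOf 2 L) : ∃ K, JC (JT T) K ∧ K ≤ L := by
  obtain ⟨P, hP⟩ := o.exists_plane hJ
  obtain ⟨K, hK, hKL, -⟩ := o.component_of_plane hP
  exact ⟨K, hK, hKL⟩

end Over

end Cfsg.Agent.LocalEven.JComp
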