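import Cfsg.Agent.LocalEven.JCompStraddle

/-! If all components of `L` lie in `M` then so does `L`. -/

set_option autoImplicit false
set_option linter.style.haveILetI false
set_option linter.unusedSectionVars false

open scoped commutatorElement

namespace Cfsg.Agent.LocalEven.JComp

open Cfsg

universe u

variable {G : Type u} [Group G] [Finite G]

namespace Over

variable {T L : Subgroup G}

/-- Elements of odd order of `⟨J(T)^L⟩` lie in its derived group. -/
theorem odd_mem_H' (o : Over T L) {h : G} (hh : h ∈ hOf L) (ho : Odd (orderOf h)) :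
    h ∈ ⁅hOf L, hOf L⁆ := by
  set f : ↥(hOf L) →* Abelianization ↥(hOf L) := (powMonoidHom 2).comp Abelianization.of with hf
  set X := f.ker.map (hOf L).subtype with hX
  have hle : hOf L ≤ X := by
    refine o.hOf_le_of fun g hg => ?_
    rw [← JT_cj]
    refine JT_le_of fun A hA a ha => ?_
    have haH : a ∈ hOf L := o.JT_conj_le_hOf hg ((JT_cj g T).le (hA.le_JT ha))
    refine ⟨⟨a, haH⟩, ?_, rfl⟩
    show Abelianization.of (⟨a, haH⟩ : ↥(hOf L)) ^ 2 = 1
    rw [← map_pow, show (⟨a, haH⟩ : ↥(hOf L)) ^ 2 = 1 from Subtype.ext (hA.2.1.2 a ha), map_one]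
  obtain ⟨⟨h', hh'⟩, hk, rfl⟩ := hle hh
  have h1 : (⟨h', hh'⟩ : ↥(hOf L)) ^ 2 ∈ commutator ↥(hOf L) := by
    rw [← Abelianization.ker_of (↥(hOf L)), MonoidHom.mem_ker, map_pow]
    exact hk
  have h2 : h' ^ 2 ∈ ⁅hOf L, hOf L⁆ := by
    have := Subgroup.mem_map_of_mem (hOf L).subtype h1
    rw [commutator_def, Subgroup.map_commutator, ← MonoidHom.range_eq_map, Subgroup.range_subtype] at this
    exact this
  obtain ⟨m, hm⟩ := ho
  have hm' : orderOf h' = 2 * m + 1 := hm
  have h3 : h' = (h' ^ 2) ^ (m + 1) := by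
    rw [← pow_mul, show 2 * (m + 1) = orderOf h' + 1 by omega, pow_succ, pow_orderOf_eq_one, one_mul]
  show h' ∈ _
  rw [h3]
  exact Subgroup.pow_mem _ h2 _

/-- Elements of odd order of `H` are products of elements of components and of `C_L(Y)`. -/
theorem odd_mem_sup (o : Over T L) {h : G} (hh : h ∈ hOf L) (ho : Odd (orderOf h)) :
    h ∈ sSup {K | JC (JT T) K ∧ K ≤ L} ⊔ cOf L := by
  classical
  haveI : Fact (Nat.Prime 2) := ⟨Nat.prime_two⟩
  set KK := sSup {K | JC (JT T) K ∧ K ≤ L} with hKK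
  have hKH : KK ≤ ⁅hOf L, hOf L⁆ := sSup_le fun K hK => o.K_le_H' hK.1 hK.2
  have hh' := o.odd_mem_H' hh ho
  have hY : IsElementaryAbelian 2 (yOf L) := omegaCenter_isEA _
  haveI : Fintype (Subgroup G) := Fintype.ofFinite _
  suffices hs : ∀ s : Finset (Subgroup G), (∀ P ∈ s, Plane L P) →
      ∃ k ∈ KK, ∀ P ∈ s, k * h ∈ Subgroup.centralizer (P : Set G) by
    obtain ⟨k, hk, hc⟩ := hs (Finset.univ.filter fun P => Plane L P)
      fun P hP => (Finset.mem_filter.mp hP).2
    have hkH : k * h ∈ hOf L := (hOf L).mul_mem (Subgroup.commutator_le_self _ (hKH hk)) hh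
    have hC : k * h ∈ cOf L := by
      refine ⟨hOf_le L hkH, Subgroup.mem_centralizer_iff.mpr fun y hy => ?_⟩
      suffices hs : yOf L ≤ Subgroup.centralizer ({k * h} : Set G) from
        Subgroup.mem_centralizer_singleton_iff.mp (hs hy)
      refine o.cover.trans (sup_le (fun u hu => ?_) (sSup_le fun P hP u hu => ?_))
      · rw [Subgroup.mem_centralizer_singleton_iff]
        exact (Subgroup.mem_centralizer_iff.mp hu.2 _ hkH).symm
      · rw [Subgroup.mem_centralizer_singleton_iff]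
        exact Subgroup.mem_centralizer_iff.mp
          (hc P (Finset.mem_filter.mpr ⟨Finset.mem_univ _, hP⟩)) u hu
    rw [show h = k⁻¹ * (k * h) by group]
    exact Subgroup.mul_mem_sup (KK.inv_mem hk) hC
  intro s
  induction s using Finset.induction_on with
  | empty => exact fun _ => ⟨1, one_mem _, by simp⟩
  | insert P s hPs ih =>
    intro hs
    obtain ⟨k, hk, hc⟩ := ih fun Q hQ => hs Q (Finset.mem_insert_of_mem hQ)
    have hP := hs P (Finset.mem_insert_self P s)
    obtain ⟨K, hK, hKL, hW⟩ := o.component_of_plane hP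
    subst hW
    obtain ⟨d, hd, hdR⟩ := hK.exists_d
    have hdH := o.K_le_H' hK hKL hd
    have hdY := o.K_normalizes_Y hKL hd
    have td : Typ (yOf L) (wOf K) d := ⟨hP.le, hK.card4, hdY, fun y hy => o.comm_Y_mem_W hK hKL hy hd,
      fun w hw => hK.fpf hd hdR hw, ((o.R_le_cOf hK hKL) (hK.cube_mem hd)).2⟩
    have hdK : d ∈ KK := Subgroup.mem_sSup_of_mem (show K ∈ {K | JC (JT T) K ∧ K ≤ L} from ⟨hK, hKL⟩) hd
    have huH : k * h ∈ ⁅hOf L, hOf L⁆ := Subgroup.mul_mem _ (hKH hk) hh'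
    obtain ⟨z, hz, hz1⟩ : ∃ z ∈ wOf K, z ≠ 1 := by
      by_contra hcon
      push Not at hcon
      exact hK.W_ne_bot ((Subgroup.eq_bot_iff_forall _).mpr hcon)
    obtain ⟨e, he, hez⟩ : ∃ e ∈ ({1, d, d * d} : Set G), k * h * z * (k * h)⁻¹ = e * z * e⁻¹ := by
      rcases td.four hY hz hz1 ((Subgroup.mem_normalizer_iff.mp
        (hP.norm (Subgroup.commutator_le_self _ huH)) z).mp hz) with e | e | e | e
      · exact absurd (conj_eq_one_iff.mp e) hz1
      · exact ⟨1, Set.mem_insert _ _, by rw [e]; group⟩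
      · exact ⟨d, Or.inr (Or.inl rfl), e⟩
      · exact ⟨d * d, Or.inr (Or.inr rfl), e.trans (by group)⟩
    have heK : e ∈ KK := by
      rcases he with rfl | rfl | rfl
      exacts [one_mem _, hdK, KK.mul_mem hdK hdK]
    refine ⟨e⁻¹ * k, KK.mul_mem (KK.inv_mem heK) hk, fun Q hQ => ?_⟩
    have hu' : e⁻¹ * (k * h) ∈ ⁅hOf L, hOf L⁆ := Subgroup.mul_mem _ (Subgroup.inv_mem _ (hKH heK)) huH
    have hfix : e⁻¹ * (k * h) * z = z * (e⁻¹ * (k * h)) := by
      refine mul_inv_eq_iff_eq_mul.mp ?_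
      rw [show e⁻¹ * (k * h) * z * (e⁻¹ * (k * h))⁻¹ = e⁻¹ * (k * h * z * (k * h)⁻¹) * e by group, hez]
      group
    rw [mul_assoc]
    by_cases hQW : Q = wOf K
    · subst hQW
      exact td.centralizes_of_comm hY (le_normalizer_yOf L (hOf_le L (Subgroup.commutator_le_self _ hu')))
        (o.derived_derived_le (Subgroup.commutator_mem_commutator hdH hu')).2 hz hz1 hfix
    · have hQs : Q ∈ s := (Finset.mem_insert.mp hQ).resolve_left hQW
      have hQP := hs Q hQ
      have hdQ : d ∈ Subgroup.normalizer (Q : Set G) := hQP.norm (Subgroup.commutator_le_self _ hdH)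
      have hdis : wOf K ⊓ Q = ⊥ :=
        (td.eq_or_disjoint hY hQP.le hQP.card hdQ).resolve_left (Ne.symm hQW)
      have hdc : d ∈ Subgroup.centralizer (Q : Set G) :=
        Subgroup.mem_centralizer_iff.mpr fun w hw => (td.centralizes_of_disjoint hQP.le hdQ hdis hw).symm
      refine Subgroup.mul_mem _ (Subgroup.inv_mem _ ?_) (hc Q hQs)
      rcases he with rfl | rfl | rfl
      exacts [one_mem _, hdc, Subgroup.mul_mem _ hdc hdc]

/-- If `M` contains `T`, `N(J(T))` and the components of `L` then it contains `L`. -/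
theorem le_of_components_le (o : Over T L) {M : Subgroup G} (hTM : T ≤ M)
    (hN : Subgroup.normalizer (JT T : Set G) ≤ M) (hcomp : ∀ K, JC (JT T) K → K ≤ L → K ≤ M) :
    L ≤ M := by
  haveI : Fact (Nat.Prime 2) := ⟨Nat.prime_two⟩
  have hodd : ∀ h ∈ hOf L, Odd (orderOf h) → h ∈ M := fun h hh ho =>
    (sup_le (sSup_le fun K hK => hcomp K hK.1 hK.2) (o.cOf_normalizes_J.trans hN)) (o.odd_mem_sup hh ho)
  set H := hOf L with hH
  have hS : IsMaxP 2 T L := isSylowTwoIn_isMaxP o.sylT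
  have hidx : (M ⊓ H).relIndex H = 1 := by
    rw [Subgroup.relIndex, Nat.eq_one_iff_not_exists_prime_dvd]
    intro q hq hdvd
    haveI : Fact q.Prime := ⟨hq⟩
    obtain ⟨Q⟩ := (inferInstance : Nonempty (Sylow q ↥H))
    by_cases hq2 : q = 2
    · subst hq2
      set S0 := (Q : Subgroup ↥H).map H.subtype with hS0
      obtain ⟨g, hg, hle⟩ := IsSylowTwoIn.exists_conj_le o.sylT (Q.isPGroup'.map _)
        ((Subgroup.map_subtype_le _).trans (hOf_le L))
      have hle2 : LocalEven.cj g⁻¹ S0 ≤ T ⊓ H := by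
        refine le_inf ?_ ((cj_mono (Subgroup.map_subtype_le _)).trans
          (cj_eq_self_iff.mpr (le_normalizer_hOf L (L.inv_mem hg))).le)
        have := cj_mono (g := g⁻¹) hle
        rwa [cj_cj, inv_mul_cancel, cj_one] at this
      refine Q.not_dvd_index (hdvd.trans ?_)
      have hcard : (((LocalEven.cj g⁻¹ S0).subgroupOf H)).index = (Q : Subgroup ↥H).index := by
        have h1 := ((LocalEven.cj g⁻¹ S0).subgroupOf H).card_mul_index
        have h2 := (Q : Subgroup ↥H).card_mul_index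
        rw [Nat.card_congr (Subgroup.subgroupOfEquivOfLe (hle2.trans inf_le_right)).toEquiv, card_cj,
          hS0, Subgroup.card_map_of_injective H.subtype_injective] at h1
        exact Nat.eq_of_mul_eq_mul_left Nat.card_pos (h1.trans h2.symm)
      rw [← hcard]
      refine Subgroup.index_dvd_of_le (Subgroup.comap_mono (le_inf ?_ (hle2.trans inf_le_right)))
      exact hle2.trans (inf_le_left.trans hTM)
    · refine Q.not_dvd_index (hdvd.trans (Subgroup.index_dvd_of_le fun x hx => ?_))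
      refine ⟨hodd x x.2 ?_, x.2⟩
      obtain ⟨j, hj⟩ := IsPGroup.iff_orderOf.mp Q.isPGroup' ⟨x, hx⟩
      rw [Subgroup.orderOf_coe]
      rw [← Subgroup.orderOf_coe] at hj
      rw [show orderOf x = q ^ j from hj]
      exact (hq.odd_of_ne_two hq2).pow
  have hHM : H ≤ M := (Subgroup.relIndex_eq_one.mp hidx).trans inf_le_left
  intro g hg
  obtain ⟨a, ha, n, -, hn, rfl⟩ := o.exists_mul_normalizer_J hg
  exact M.mul_mem (hHM ha) (hN hn)

end Over

/-- A maximal straddling `T` has a component outside `M`. -/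
theorem straddle_outside (hL : IsCharacteristicTwoType G)
    (hN : ∀ N : Subgroup G, IsTwoLocal N → Group.IsSolvable ↥N)
    (hZ : ∀ S : Sylow 2 G, Subgroup.centralizer (omegaCenterOf (S : Subgroup G) : Set G) ≤
      Subgroup.normalizer ((S : Subgroup G) : Set G))
    (S : Sylow 2 G) {M T : Subgroup G}
    (hMJ : Subgroup.normalizer (JT (S : Subgroup G) : Set G) ≤ M)
    (hT : T ∈ maxStraddlingTwoSubgroups M) : (jComponentsOutside M T).Nonempty := by
  haveI : Fact (Nat.Prime 2) := ⟨Nat.prime_two⟩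
  obtain ⟨hT2, hT1, hTM, L, hL2, hTL, hLM⟩ := hT.1
  obtain ⟨T1, hS1, hle⟩ := exists_sylowTwoIn_ge hT2 hTL
  obtain ⟨-, hstr, hov⟩ := straddle_local hL S hMJ hT hL2 hLM hS1 ((JT_le T).trans hle)
  have heq : T = T1 := Subgroup.eq_of_le_of_card_ge hle (straddle_ge hT hstr ((JT_le T).trans hle)).2
  rw [← heq] at hov
  have o := over_of hN hZ hT1 hov
  obtain ⟨K, hK, hKL, hKM⟩ : ∃ K, JC (JT T) K ∧ K ≤ L ∧ ¬ K ≤ M := by
    by_contra hcon
    push Not at hcon
    exact hLM (o.le_of_components_le hTM (straddle_normalizer_le S hMJ hT) hcon)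
  refine ⟨K, ⟨jc_iff.mpr hK, fun S' hJS hS' => ?_⟩, hKM, fun e => ?_⟩
  · exact (straddle_local hL S hMJ hT ⟨wOf K, JC.W_pGroup, hK.W_ne_bot, rfl⟩
      (fun h => hKM (JC.K_normalizes_W.trans h)) hS' hJS).1
  · have hle : pCoreOf 2 L ≤ pCoreOf 2 (K ⊔ T) := le_op (o.Q_le_T.trans le_sup_right)
      ((sup_le hKL hTL).trans (map_pCore_normalized L)) (isPGroup_op L)
    rw [e, le_bot_iff] at hle
    refine hT1 ((Subgroup.eq_bot_iff_forall T).mpr fun t _ => ?_)
    have h1 := o.char2 (show t ∈ Subgroup.centralizer (pCoreOf 2 L : Set G) from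
      Subgroup.mem_centralizer_iff.mpr fun x hx => by
        rw [hle] at hx; rw [Subgroup.mem_bot.mp hx, one_mul, mul_one])
    rw [hle] at h1
    exact Subgroup.mem_bot.mp h1

end Cfsg.Agent.LocalEven.JComp
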