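import Cfsg.Agent.LocalEven.JCompMember
import Cfsg.Agent.LocalEven.JCompOutside

/-! Families of components with distinguished overgroups. -/

set_option autoImplicit false
set_option linter.style.haveILetI false
set_option linter.unusedSectionVars false

open scoped commutatorElement

namespace Cfsg.Agent.LocalEven.JComp

open Cfsg

universe u

variable {G : Type u} [Group G] [Finite G]

/-- `C`, `C'` centralize each other's `Ω₁(Z(J)) ∩ W` and their planes commute. -/
def Mutual (T C C' : Subgroup G) : Prop :=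
  zJ T ⊓ wOf C' ≤ Subgroup.centralizer (C : Set G) ∧ zJ T ⊓ wOf C ≤ Subgroup.centralizer (C' : Set G) ∧
    wOf C' ≤ Subgroup.centralizer (wOf C : Set G)

/-- No nontrivial 2-subgroup is normalized by `U`, `C` and `C'`. -/
def NoNorm (U C C' : Subgroup G) : Prop :=
  ∀ V : Subgroup G, IsPGroup 2 V → V ≠ ⊥ → U ≤ Subgroup.normalizer (V : Set G) →
    C ≤ Subgroup.normalizer (V : Set G) → C' ≤ Subgroup.normalizer (V : Set G) → False

theorem NoNorm.symm {U C C' : Subgroup G} (h : NoNorm U C C') : NoNorm U C' C :=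
  fun V a b c d e => h V a b c e d

theorem NoNorm.ne {U C C' : Subgroup G} (h : NoNorm U C C') (m : Member U C) : C ≠ C' := fun e =>
  h (wOf C) JC.W_pGroup m.jc.W_ne_bot m.ovW.sylT.1 JC.K_normalizes_W (e ▸ JC.K_normalizes_W)

theorem eq_of_card_le_two {H : Subgroup G} (hH : Nat.card H ≤ 2) {a b : G} (ha : a ∈ H) (hb : b ∈ H)
    (ha1 : a ≠ 1) (hb1 : b ≠ 1) : a = b := by
  classical
  by_contra hne
  have hsub : ({1, a, b} : Finset G) ⊆ (H : Set G).toFinite.toFinset := fun x hx => by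
    rw [Set.Finite.mem_toFinset, SetLike.mem_coe]
    simp only [Finset.mem_insert, Finset.mem_singleton] at hx
    rcases hx with rfl | rfl | rfl
    exacts [one_mem _, ha, hb]
  have h2 := Finset.card_le_card hsub
  rw [← Nat.card_eq_card_finite_toFinset, Finset.card_insert_of_notMem, Finset.card_insert_of_notMem,
    Finset.card_singleton] at h2
  · change _ ≤ Nat.card ↥(H : Set G) at h2
    have : Nat.card ↥(H : Set G) ≤ 2 := hH
    omega
  · simp only [Finset.mem_singleton]; exact hne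
  · simp only [Finset.mem_insert, Finset.mem_singleton, not_or]
    exact ⟨Ne.symm ha1, Ne.symm hb1⟩

theorem oddgen_cj {K : Subgroup G} (h : Subgroup.closure {x : G | x ∈ K ∧ Odd (orderOf x)} = K) (g : G) :
    Subgroup.closure {x : G | x ∈ LocalEven.cj g K ∧ Odd (orderOf x)} = LocalEven.cj g K := by
  refine le_antisymm ((Subgroup.closure_le _).mpr fun x hx => hx.1) ?_
  refine Subgroup.map_le_iff_le_comap.mpr ?_
  conv_lhs => rw [← h]
  rw [Subgroup.closure_le]
  rintro x ⟨hx, hxo⟩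
  exact Subgroup.subset_closure ⟨⟨x, hx, rfl⟩,
    (show orderOf ((MulAut.conj g) x) = orderOf x from (MulAut.conj g).orderOf_eq x) ▸ hxo⟩

theorem cj_centralizer_singleton (g u : G) :
    LocalEven.cj g (Subgroup.centralizer ({u} : Set G)) = Subgroup.centralizer ({g * u * g⁻¹} : Set G) := by
  rw [cj_centralizer, Set.image_singleton]

/-- A conjugation-invariant family of components, `P U C` meaning that `C` is one at `U`. -/
structure Fam (T : Subgroup G) (P : Subgroup G → Subgroup G → Prop) : Prop where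
  mem : ∀ {U C}, P U C → Member U C
  conj : ∀ (g : G) {U C}, P U C → P (LocalEven.cj g U) (LocalEven.cj g C)
  base : ∀ {U C}, P U C → ∃ g, U = LocalEven.cj g T
  uOver : ∀ u ∈ zJ T, u ≠ 1 → ∀ K' B : Subgroup G,
    Subgroup.closure {g : G | g ∈ K' ∧ Odd (orderOf g)} = K' → K' ≠ ⊥ → B ≤ JT T → ⁅K', B⁆ = K' →
    K' ≤ Subgroup.centralizer ({u} : Set G) → Over T (Subgroup.centralizer ({u} : Set G)) ∧
      ∀ K, JC (JT T) K → K ≤ Subgroup.centralizer ({u} : Set G) → P T K
  link : ∀ {C C'}, P T C → P T C' → ∀ V : Subgroup G, IsPGroup 2 V → V ≠ ⊥ →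
    T ≤ Subgroup.normalizer (V : Set G) → C ≤ Subgroup.normalizer (V : Set G) →
    C' ≤ Subgroup.normalizer (V : Set G) → C = C' ∨ Mutual T C C'
  pair : ∃ K₁ K₂, P T K₁ ∧ P T K₂ ∧ NoNorm T K₁ K₂

namespace Fam

variable {T : Subgroup G} {P : Subgroup G → Subgroup G → Prop}

theorem translate (F : Fam T P) (g : G) : Fam (LocalEven.cj g T) P where
  mem := F.mem
  conj := F.conj
  base := fun {U C} h => by
    obtain ⟨a, rfl⟩ := F.base h
    exact ⟨a * g⁻¹, by rw [cj_cj, inv_mul_cancel_right]⟩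
  uOver := fun u hu hu1 K' B hgen hK' hB hcomm hle => by
    have hu' : g⁻¹ * u * g ∈ zJ T := by
      rw [← cj_zJ] at hu; exact mem_cj.mp hu
    have hB' : LocalEven.cj g⁻¹ B ≤ JT T := by
      rw [JT_cj] at hB
      have := cj_mono (g := g⁻¹) hB
      rwa [cj_cj, inv_mul_cancel, cj_one] at this
    have hcomm' : ⁅LocalEven.cj g⁻¹ K', LocalEven.cj g⁻¹ B⁆ = LocalEven.cj g⁻¹ K' := by
      show ⁅K'.map _, B.map _⁆ = _
      rw [← Subgroup.map_commutator, hcomm]
    have hK'' : LocalEven.cj g⁻¹ K' ≠ ⊥ := fun e => hK' (by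
      have h1 := congrArg (LocalEven.cj g) e
      rw [cj_cj, mul_inv_cancel, cj_one] at h1
      rw [h1]; exact Subgroup.map_bot _)
    have hle' : LocalEven.cj g⁻¹ K' ≤ Subgroup.centralizer ({g⁻¹ * u * g} : Set G) := by
      have := cj_mono (g := g⁻¹) hle
      rwa [cj_centralizer_singleton, inv_inv] at this
    obtain ⟨o, hall⟩ := F.uOver _ hu' (fun e => hu1 (by
      calc u = g * (g⁻¹ * u * g) * g⁻¹ := by group
        _ = 1 := by rw [e]; group)) _ _ (oddgen_cj hgen g⁻¹) hK'' hB' hcomm' hle'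
    have e : LocalEven.cj g (Subgroup.centralizer ({g⁻¹ * u * g} : Set G)) = Subgroup.centralizer ({u} : Set G) := by
      rw [cj_centralizer_singleton, show g * (g⁻¹ * u * g) * g⁻¹ = u by group]
    refine ⟨e ▸ o.cj g, fun K hK hKu => ?_⟩
    have h1 := hK.cj g⁻¹
    rw [← JT_cj, cj_cj, inv_mul_cancel, cj_one] at h1
    have h2 : LocalEven.cj g⁻¹ K ≤ Subgroup.centralizer ({g⁻¹ * u * g} : Set G) := by
      have := cj_mono (g := g⁻¹) hKu
      rwa [cj_centralizer_singleton, inv_inv] at this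
    have := F.conj g (hall _ h1 h2)
    rwa [cj_cj g g⁻¹, mul_inv_cancel, cj_one] at this
  link := fun {C C'} h h' V hV hV1 hU hC hC' => by
    have t := fun {X : Subgroup G} (hX : X ≤ Subgroup.normalizer (V : Set G)) => show
        LocalEven.cj g⁻¹ X ≤ Subgroup.normalizer (LocalEven.cj g⁻¹ V : Set G) from by
      rw [← cj_normalizer]; exact cj_mono hX
    have h1 := F.conj g⁻¹ h
    have h1' := F.conj g⁻¹ h'
    rw [cj_cj, inv_mul_cancel, cj_one] at h1 h1'
    have hT' := t hU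
    rw [cj_cj, inv_mul_cancel, cj_one] at hT'
    have hne : LocalEven.cj g⁻¹ V ≠ ⊥ := fun e => hV1 (by
      have h1 := congrArg (LocalEven.cj g) e
      rw [cj_cj, mul_inv_cancel, cj_one] at h1
      rw [h1]; exact Subgroup.map_bot _)
    rcases F.link h1 h1' _ (isPGroup_cj hV) hne hT' (t hC) (t hC') with e | ⟨m1, m2, m3⟩
    · refine Or.inl ?_
      have := congrArg (LocalEven.cj g) e
      rwa [cj_cj, cj_cj, mul_inv_cancel, cj_one, cj_one] at this
    · have f1 := cj_mono (g := g) m1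
      have f2 := cj_mono (g := g) m2
      have f3 := cj_mono (g := g) m3
      rw [cj_inf, cj_zJ, cj_wOf, cj_centralizer_sub] at f1 f2
      rw [cj_wOf, cj_centralizer_sub, cj_wOf] at f3
      rw [cj_cj g g⁻¹, cj_cj g g⁻¹, mul_inv_cancel, cj_one, cj_one] at f1 f2 f3
      exact Or.inr ⟨f1, f2, f3⟩
  pair := by
    obtain ⟨K₁, K₂, h1, h2, hn⟩ := F.pair
    refine ⟨_, _, F.conj g h1, F.conj g h2, fun V hV hV1 hU hC hC' => ?_⟩
    have t := fun {X : Subgroup G} (hX : LocalEven.cj g X ≤ Subgroup.normalizer (V : Set G)) => show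
        X ≤ Subgroup.normalizer (LocalEven.cj g⁻¹ V : Set G) from by
      rw [← cj_normalizer]
      have := cj_mono (g := g⁻¹) hX
      rwa [cj_cj, inv_mul_cancel, cj_one] at this
    refine hn _ (isPGroup_cj hV) (fun e => hV1 ?_) (t hU) (t hC) (t hC')
    have h1 := congrArg (LocalEven.cj g) e
    rw [cj_cj, mul_inv_cancel, cj_one] at h1
    rw [h1]; exact Subgroup.map_bot _

theorem at_of (F : Fam T P) {U C : Subgroup G} (h : P U C) : Fam U P := by
  obtain ⟨g, rfl⟩ := F.base h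
  exact F.translate g

/-- At most one member centralizes a given involution. -/
theorem uniq (F : Fam T P) {C C' : Subgroup G} (h : P T C) (h' : P T C') {u : G} (hu1 : u ≠ 1)
    (hu : u ∈ hK T C) (hu' : u ∈ hK T C') : C = C' := by
  have m := F.mem h
  have m' := F.mem h'
  have hCu : ∀ {D : Subgroup G}, u ∈ hK T D → D ≤ Subgroup.centralizer ({u} : Set G) :=
    fun {D} hD d hd => Subgroup.mem_centralizer_singleton_iff.mpr (Subgroup.mem_centralizer_iff.mp hD.2 d hd)
  obtain ⟨o, -⟩ := F.uOver u hu.1 hu1 C (JT T) m.jc.gen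
    (fun e => m.jc.K_not_pGroup (e ▸ IsPGroup.of_bot)) le_rfl m.jc.comm (hCu hu)
  by_contra hne
  obtain ⟨-, h2⟩ := o.two_comps m.jc (hCu hu) m'.jc (hCu hu')
  obtain ⟨hc, -⟩ := h2.resolve_left hne
  obtain ⟨z, hz, hzW, hz1, -⟩ := m'.jc.exists_z m.hT
  have hzH : z ∈ hK T C := ⟨hz, Subgroup.le_centralizer_iff.mp hc hzW⟩
  have := eq_of_card_le_two (m.jc.card_hK_le m.hT m.small) hu hzH hu1 hz1
  subst this
  exact hu1 (m'.jc.eq_one_of_fixed hzW hu'.2)

/-- All components in the centralizer of `u` coincide, and contain such a `K'`. -/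
theorem comp_in (F : Fam T P) {u : G} (hu : u ∈ zJ T) (hu1 : u ≠ 1) {K' B : Subgroup G}
    (hgen : Subgroup.closure {g : G | g ∈ K' ∧ Odd (orderOf g)} = K') (hK' : K' ≠ ⊥) (hB : B ≤ JT T)
    (hcomm : ⁅K', B⁆ = K') (hle : K' ≤ Subgroup.centralizer ({u} : Set G)) :
    ∃ Ks, P T Ks ∧ u ∈ hK T Ks ∧ K' ≤ Ks := by
  haveI : Fact (Nat.Prime 2) := ⟨Nat.prime_two⟩
  obtain ⟨o, hall⟩ := F.uOver u hu hu1 K' B hgen hK' hB hcomm hle
  set X := Subgroup.centralizer ({u} : Set G) with hX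
  have hmemh : ∀ {K : Subgroup G}, K ≤ X → u ∈ hK T K := fun {K} hK => ⟨hu,
    Subgroup.mem_centralizer_iff.mpr fun k hk => Subgroup.mem_centralizer_singleton_iff.mp (hK hk)⟩
  have hK'H : K' ≤ hOf X := hcomm ▸
    (Subgroup.commutator_mono le_rfl (hB.trans o.JT_le_hOf)).trans
      (Subgroup.le_normalizer_iff_commutator_le_right.mp (hle.trans (le_normalizer_hOf X)))
  by_cases hex : ∃ K, JC (JT T) K ∧ K ≤ X
  · obtain ⟨Ks, hKs, hKsX⟩ := hex
    refine ⟨Ks, hall Ks hKs hKsX, hmemh hKsX, ?_⟩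
    have h1 : sSup {K | JC (JT T) K ∧ K ≤ X} ≤ Ks :=
      sSup_le fun K hK => (F.uniq (hall K hK.1 hK.2) (hall Ks hKs hKsX) hu1 (hmemh hK.2) (hmemh hKsX)).le
    have h2 : K' ≤ Ks ⊔ cOf X := by
      rw [← hgen, Subgroup.closure_le]
      exact fun x hx => sup_le_sup_right h1 _ (o.odd_mem_sup (hK'H hx.1) hx.2)
    have h3 : K' ≤ Ks ⊔ pCoreOf 2 X := by
      conv_lhs => rw [← hcomm]
      refine Subgroup.commutator_le.mpr fun b hb j hj => ?_
      obtain ⟨k, hk, c, hc, rfl⟩ := Coprime.exists_mul_of_mem_sup (o.C_normalizes_K hKs hKsX) (h2 hb)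
      have hjA : j * k⁻¹ * j⁻¹ ∈ Ks :=
        (Subgroup.mem_normalizer_iff.mp (hKs.J_normalizes (hB hj)) _).mp (Ks.inv_mem hk)
      rw [show ⁅k * c, j⁆ = k * ⁅c, j⁆ * (j * k⁻¹ * j⁻¹) by simp only [commutatorElement_def]; group]
      exact Subgroup.mul_mem _ (Subgroup.mul_mem _ (Subgroup.mem_sup_left hk)
        (Subgroup.mem_sup_right (o.C_comm_H hc (o.JT_le_hOf (hB hj))))) (Subgroup.mem_sup_left hjA)
    exact le_of_odd_gen (o.Q_normalizes_K hKs hKsX) (isPGroup_op X) h3 hgen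
  · exfalso
    have h0 : sSup {K | JC (JT T) K ∧ K ≤ X} = ⊥ :=
      le_bot_iff.mp (sSup_le fun K hK => absurd ⟨K, hK⟩ hex)
    have h2 : K' ≤ cOf X := by
      rw [← hgen, Subgroup.closure_le]
      intro x hx
      have := o.odd_mem_sup (hK'H hx.1) hx.2
      rwa [h0, bot_sup_eq] at this
    have h3 : K' ≤ pCoreOf 2 X := hcomm ▸ Subgroup.commutator_le.mpr fun b hb j hj =>
      o.C_comm_H (h2 hb) (o.JT_le_hOf (hB hj))
    refine hK' (le_bot_iff.mp (le_of_odd_gen (fun x _ => ?_) (isPGroup_op X)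
      (h3.trans le_sup_right) hgen))
    exact Subgroup.mem_normalizer_iff.mpr fun y => by simp

theorem partner (F : Fam T P) {C : Subgroup G} (h : P T C) : ∃ D, P T D ∧ NoNorm T C D := by
  obtain ⟨K₁, K₂, h1, h2, hn⟩ := F.pair
  by_contra hcon
  push Not at hcon
  have key : ∀ {D : Subgroup G}, P T D → C = D ∨ Mutual T C D := by
    intro D hD
    have hh : ¬ ∀ V : Subgroup G, IsPGroup 2 V → V ≠ ⊥ → T ≤ Subgroup.normalizer (V : Set G) →
        C ≤ Subgroup.normalizer (V : Set G) → D ≤ Subgroup.normalizer (V : Set G) → False := hcon D hD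
    push Not at hh
    obtain ⟨V, a, b, c, d, e, -⟩ := hh
    exact F.link h hD V a b c d e
  rcases key h1 with rfl | m1
  · exact hcon K₂ h2 hn
  rcases key h2 with rfl | m2
  · exact hcon K₁ h1 hn.symm
  obtain ⟨z, hz, hzW, hz1, -⟩ := (F.mem h).jc.exists_z (F.mem h).hT
  exact hn.ne (F.mem h1) (F.uniq h1 h2 hz1 ⟨hz, m1.2.1 ⟨hz, hzW⟩⟩ ⟨hz, m2.2.1 ⟨hz, hzW⟩⟩)

end Fam

end Cfsg.Agent.LocalEven.JComp
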