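import Cfsg.Agent.LocalEven.JCompBasic

/-! How `J(T)` acts on a `J(T)`-component. -/

set_option autoImplicit false
set_option linter.style.haveILetI false
set_option linter.unusedSectionVars false

open scoped commutatorElement

namespace Cfsg.Agent.LocalEven.JComp

open Cfsg

variable {G : Type*} [Group G] [Finite G]

theorem commutator_le_of_mem_normalizer {A B C : Subgroup G}
    (h : ∀ a ∈ A, ∀ b ∈ B, ⁅a, b⁆ ∈ C) : ⁅A, B⁆ ≤ C := Subgroup.commutator_le.mpr h

theorem sylowTwoIn_of_relIndex_three {S P : Subgroup G} (hSP : S ≤ P) (hS : IsPGroup 2 S)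
    (h : S.relIndex P = 3) : IsSylowTwoIn S P :=
  ⟨hSP, hS, by rw [h]; decide⟩

namespace JC

variable {T K : Subgroup G}

theorem R_normalizes_sup (h : JC (JT T) K) : JT T ≤ Subgroup.normalizer (pCoreOf 2 K : Set G) :=
  h.J_normalizes.trans (normalizer_le_normalizer_core K)

theorem S_pGroup (hT : IsPGroup 2 T) (h : JC (JT T) K) : IsPGroup 2 ↥(pCoreOf 2 K ⊔ JT T) :=
  IsPGroup.to_sup_of_normal_left' R_pGroup (isPGroup_JT hT) h.R_normalizes_sup

theorem S_sylow (hT : IsPGroup 2 T) (h : JC (JT T) K) :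
    IsSylowTwoIn (pCoreOf 2 K ⊔ JT T) (K ⊔ JT T) := by
  set S := pCoreOf 2 K ⊔ JT T with hS
  refine sylowTwoIn_of_relIndex_three (sup_le_sup_right R_le _) (h.S_pGroup hT) ?_
  have hKS : K ⊔ JT T = S ⊔ K := by
    rw [hS, sup_comm, sup_assoc, sup_comm (JT T) K, ← sup_assoc, sup_of_le_right R_le, sup_comm]
  have hinf : S ⊓ K = pCoreOf 2 K :=
    le_antisymm (by rw [inf_comm]; exact h.le_R_of_pGroup (h.S_pGroup hT)) (le_inf le_sup_left R_le)
  have hc := PLocal.card_sup_mul_card_inf (A := S) (B := K)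
    (sup_le (R_le.trans Subgroup.le_normalizer) h.J_normalizes)
  rw [← hKS, hinf] at hc
  have e1 : ∀ A B : Subgroup G, A ≤ B → Nat.card A * A.relIndex B = Nat.card B := fun A B hAB => by
    rw [← Nat.card_congr (Subgroup.subgroupOfEquivOfLe hAB).toEquiv]
    exact Subgroup.card_mul_index _
  have h1 := e1 S (K ⊔ JT T) (sup_le_sup_right R_le _)
  have h2 := e1 (pCoreOf 2 K) K R_le
  rw [h.idx] at h2
  rw [← h1, ← h2] at hc
  have h4 : S.relIndex (K ⊔ JT T) * (Nat.card S * Nat.card ↥(pCoreOf 2 K)) =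
      3 * (Nat.card S * Nat.card ↥(pCoreOf 2 K)) := by linarith [hc]
  exact Nat.eq_of_mul_eq_mul_right (Nat.mul_pos Nat.card_pos Nat.card_pos) h4

theorem JT_S (hT : IsPGroup 2 T) (h : JC (JT T) K) : JT (pCoreOf 2 K ⊔ JT T) = JT T :=
  h.syl _ (h.S_sylow hT) le_sup_right

theorem R_normalizes_J (hT : IsPGroup 2 T) (h : JC (JT T) K) :
    pCoreOf 2 K ≤ Subgroup.normalizer (JT T : Set G) := by
  have h1 : pCoreOf 2 K ≤ Subgroup.normalizer ((pCoreOf 2 K ⊔ JT T : Subgroup G) : Set G) :=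
    le_sup_left.trans Subgroup.le_normalizer
  have h2 := h1.trans (normalizer_le_normalizer_JT _)
  rwa [h.JT_S hT] at h2

/-- `⟨K, J⟩ = ⟨J, d⟩`. -/
theorem K_le_sup_zpowers (hT : IsPGroup 2 T) (h : JC (JT T) K) {d : G} (hd : d ∈ K)
    (hdR : d ∉ pCoreOf 2 K) : K ≤ JT T ⊔ Subgroup.zpowers d := by
  set D := JT T ⊔ Subgroup.zpowers d with hD
  conv_lhs => rw [← h.comm]
  refine Subgroup.commutator_le.mpr fun k hk j hj => ?_
  have hj' : j⁻¹ ∈ D := D.inv_mem (Subgroup.mem_sup_left hj)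
  have hd' : d ∈ D := Subgroup.mem_sup_right (Subgroup.mem_zpowers d)
  have hkj : k * j * k⁻¹ ∈ D := by
    rcases h.cases3 hd hdR hk with h1 | h1 | h1
    · exact Subgroup.mem_sup_left ((Subgroup.mem_normalizer_iff.mp (h.R_normalizes_J hT h1) j).mp hj)
    · -- `k = r d = d (d⁻¹ r d)`
      have h2 : d⁻¹ * (k * d⁻¹) * d ∈ pCoreOf 2 K := by
        have := (Subgroup.mem_normalizer_iff.mp (Subgroup.inv_mem _ (K_normalizes_R hd)) _).mp h1
        rwa [inv_inv] at this
      have h3 := (Subgroup.mem_normalizer_iff.mp (h.R_normalizes_J hT h2) j).mp hj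
      have := D.mul_mem (D.mul_mem hd' (Subgroup.mem_sup_left h3)) (D.inv_mem hd')
      simpa [mul_assoc] using this
    · -- `k = r d⁻¹ = d⁻¹ (d r d⁻¹)`
      have h2 : d * (k * d) * d⁻¹ ∈ pCoreOf 2 K :=
        (Subgroup.mem_normalizer_iff.mp (K_normalizes_R hd) _).mp h1
      have h3 := (Subgroup.mem_normalizer_iff.mp (h.R_normalizes_J hT h2) j).mp hj
      have := D.mul_mem (D.mul_mem (D.inv_mem hd') (Subgroup.mem_sup_left h3)) hd'
      simpa [mul_assoc] using this
  rw [commutatorElement_def]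
  exact D.mul_mem hkj hj'

theorem comm_R_of_centralizes_W (h : JC (JT T) K) {x : G} (hx : x ∈ Subgroup.normalizer (K : Set G))
    (hxc : x ∈ Subgroup.centralizer (wOf K : Set G)) {k : G} (hk : k ∈ K) : ⁅k, x⁆ ∈ pCoreOf 2 K :=
  h.comm_mem_R_of_centralizes hk hx hxc

/-- Some largest elementary abelian subgroup of `T` moves `W`. -/
theorem exists_moving (h : JC (JT T) K) :
    ∃ A, IsMaxEA T A ∧ ∃ a ∈ A, a ∉ Subgroup.centralizer (wOf K : Set G) := by
  by_contra hcon
  push Not at hcon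
  have hJ : JT T ≤ Subgroup.centralizer (wOf K : Set G) := JT_le_of hcon
  obtain ⟨d, hd, hdR⟩ := h.exists_d
  refine hdR ?_
  have : K ≤ pCoreOf 2 K := by
    conv_lhs => rw [← h.comm]
    exact Subgroup.commutator_le.mpr fun k hk j hj =>
      h.comm_R_of_centralizes_W (h.J_normalizes hj) (hJ hj) hk
  exact this hd

theorem A_normalizes_W (h : JC (JT T) K) {A : Subgroup G} (hA : IsMaxEA T A) :
    A ≤ Subgroup.normalizer (wOf K : Set G) :=
  hA.le_JT.trans (h.J_normalizes.trans (normalizer_le_normalizer_wOf K))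

/-- Elements of `A` fixing the same involution differ by an element centralizing `W`. -/
theorem mul_mem_centralizer (h : JC (JT T) K) {A : Subgroup G} (hA : IsMaxEA T A) {a b : G}
    (ha : a ∈ A) (hb : b ∈ A) (haW : a ∉ Subgroup.centralizer (wOf K : Set G))
    (hbW : b ∉ Subgroup.centralizer (wOf K : Set G)) :
    a * b ∈ Subgroup.centralizer (wOf K : Set G) := by
  obtain ⟨z, hz, hz1, hfix⟩ := exists_fixed W_pGroup (PLocal.isPGroup_of_EA hA.2.1) h.W_ne_bot
    (h.A_normalizes_W hA)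
  obtain ⟨d, hd, hdR⟩ := h.exists_d
  have hdN := K_normalizes_W hd
  set u := d * z * d⁻¹ with hud
  set v := d * u * d⁻¹ with hvd
  have hu : u ∈ wOf K := (Subgroup.mem_normalizer_iff.mp hdN z).mp hz
  have hv : v ∈ wOf K := (Subgroup.mem_normalizer_iff.mp hdN u).mp hu
  have hswap : ∀ c ∈ A, c ∉ Subgroup.centralizer (wOf K : Set G) → c * u * c⁻¹ = v ∧ c * v * c⁻¹ = u := by
    intro c hc hcW
    have hcN := h.A_normalizes_W hA hc
    have hzc : c * z * c⁻¹ = z := by rw [hfix c hc, mul_inv_cancel_right]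
    have hcu : c * u * c⁻¹ ∈ wOf K := (Subgroup.mem_normalizer_iff.mp hcN u).mp hu
    have hcc : ∀ t, c * (c * t * c⁻¹) * c⁻¹ = t := fun t => by
      have e : c * c = 1 := sq_self hA.2.1 hc
      calc c * (c * t * c⁻¹) * c⁻¹ = (c * c) * t * (c * c)⁻¹ := by group
        _ = t := by rw [e]; group
    have hne : c * u * c⁻¹ ≠ u := fun e => hcW (by
      have e1 := mul_inv_eq_iff_eq_mul.mp e
      rw [Subgroup.mem_centralizer_iff]
      intro t ht
      rcases h.four hd hdR hz hz1 ht with rfl | rfl | rfl | rfl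
      · simp
      · exact (hfix c hc).symm
      · exact e1.symm
      · -- the product of the three involutions is trivial
        have hn := h.norm3_W hd hdR hz
        have hv' : v = (z * u)⁻¹ := eq_inv_of_mul_eq_one_right hn
        have hcc' : Commute c (z * u) := Commute.mul_right (hfix c hc) e1
        show v * c = c * v
        rw [hv']
        exact (hcc'.inv_right).eq.symm)
    have h1 : c * u * c⁻¹ = v := by
      rcases h.four hd hdR hz hz1 hcu with e | e | e | e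
      · exact absurd e fun e => hz1 (by
          have e' : u = 1 := by
            have := congrArg (fun t => c⁻¹ * t * c) e; simpa [mul_assoc] using this
          have := congrArg (fun t => d⁻¹ * t * d) e'; simpa [hud, mul_assoc] using this)
      · exfalso
        have e' : u = z := by
          have := congrArg (fun t => c * t * c⁻¹) e
          rw [hcc, hzc] at this; exact this
        exact hz1 (h.fpf hd hdR hz (mul_inv_eq_iff_eq_mul.mp e'))
      · exact absurd e hne
      · exact e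
    exact ⟨h1, by rw [← h1, hcc]⟩
  rw [Subgroup.mem_centralizer_iff]
  intro t ht
  refine (mul_inv_eq_iff_eq_mul.mp ?_).symm
  rw [show a * b * t * (a * b)⁻¹ = a * (b * t * b⁻¹) * a⁻¹ by group]
  rcases h.four hd hdR hz hz1 ht with rfl | rfl | rfl | rfl
  · simp
  · rw [hfix b hb, mul_inv_cancel_right, hfix a ha, mul_inv_cancel_right]
  · show a * (b * u * b⁻¹) * a⁻¹ = u
    rw [(hswap b hb hbW).1, (hswap a ha haW).2]
  · show a * (b * v * b⁻¹) * a⁻¹ = v
    rw [(hswap b hb hbW).2, (hswap a ha haW).1]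

theorem card_le_two_mul (h : JC (JT T) K) {A : Subgroup G} (hA : IsMaxEA T A) :
    Nat.card A ≤ 2 * Nat.card ↥(A ⊓ Subgroup.centralizer (wOf K : Set G)) := by
  set C := Subgroup.centralizer (wOf K : Set G)
  by_cases hAC : A ≤ C
  · rw [inf_of_le_left hAC]; omega
  obtain ⟨a, ha, haC⟩ := SetLike.not_le_iff_exists.mp hAC
  have hidx : (C.subgroupOf A).index ≤ 2 := by
    refine le_of_eq (Subgroup.index_eq_two_iff.mpr ⟨⟨a, ha⟩, fun b => ?_⟩)
    have hb := b.2
    show Xor (((b : G) * a) ∈ C) ((b : G) ∈ C)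
    by_cases hbC : (b : G) ∈ C
    · exact Or.inr ⟨hbC, fun hm => haC (by simpa using C.mul_mem (C.inv_mem hbC) hm)⟩
    · exact Or.inl ⟨h.mul_mem_centralizer hA hb ha hbC haC, hbC⟩
  have hmul := (C.subgroupOf A).index_mul_card
  have e : Nat.card ↥(C.subgroupOf A) = Nat.card ↥(A ⊓ C) := by
    rw [← Nat.card_congr (Subgroup.subgroupOfEquivOfLe (inf_le_left : A ⊓ C ≤ A)).toEquiv,
      inf_comm, Subgroup.inf_subgroupOf_right]
  rw [e] at hmul
  rw [← hmul]
  exact Nat.mul_le_mul_right _ hidx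

/-- `C_A(W) W` is again elementary abelian of largest order. -/
theorem A0W_isMax (hT : IsPGroup 2 T) (h : JC (JT T) K) {A : Subgroup G} (hA : IsMaxEA T A) {a : G}
    (ha : a ∈ A) (haW : a ∉ Subgroup.centralizer (wOf K : Set G)) :
    IsMaxEA T (A ⊓ Subgroup.centralizer (wOf K : Set G) ⊔ wOf K) := by
  set A0 := A ⊓ Subgroup.centralizer (wOf K : Set G) with hA0
  have hEA : IsElementaryAbelian 2 (A0 ⊔ wOf K) :=
    PLocal.isEA_sup (PLocal.isEA_mono hA.2.1 inf_le_left) W_EA inf_le_right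
  have hc := PLocal.card_sup_mul_card_inf
    ((inf_le_left.trans (h.A_normalizes_W hA)) : A0 ≤ Subgroup.normalizer (wOf K : Set G))
  rw [h.card4] at hc
  have hinf : Nat.card ↥(A0 ⊓ wOf K) ≤ 2 := by
    obtain ⟨z, hz, hz1, hfix⟩ := exists_fixed W_pGroup (PLocal.isPGroup_of_EA hA.2.1) h.W_ne_bot
      (h.A_normalizes_W hA)
    have hne : A0 ⊓ wOf K ≠ wOf K := fun e => haW (by
      rw [Subgroup.mem_centralizer_iff]
      intro w hw
      rw [← e] at hw
      exact PLocal.comm_of_EA hA.2.1 hw.1.1 ha)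
    have hd : Nat.card ↥(A0 ⊓ wOf K) ∣ 4 := h.card4 ▸ Subgroup.card_dvd_of_le inf_le_right
    have h4 : Nat.card ↥(A0 ⊓ wOf K) ≠ 4 := fun e =>
      hne (Subgroup.eq_of_le_of_card_ge inf_le_right (by rw [h.card4, e]))
    have := Nat.le_of_dvd (by norm_num) hd
    by_contra hlt
    have h3 : Nat.card ↥(A0 ⊓ wOf K) = 3 := by omega
    rw [h3] at hd
    exact absurd hd (by decide)
  have hA2 := h.card_le_two_mul hA
  have hcard : Nat.card A ≤ Nat.card ↥(A0 ⊔ wOf K) := by nlinarith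
  have hS : A0 ⊔ wOf K ≤ pCoreOf 2 K ⊔ JT T :=
    sup_le (inf_le_left.trans (hA.le_JT.trans le_sup_right)) (W_le_R.trans le_sup_left)
  have hAS : IsMaxEA (pCoreOf 2 K ⊔ JT T) A := hA.transfer (h.JT_S hT).symm
  exact (hAS.of_card hS hEA hcard).transfer (h.JT_S hT)

theorem W_le_J (hT : IsPGroup 2 T) (h : JC (JT T) K) : wOf K ≤ JT T := by
  obtain ⟨A, hA, a, ha, haW⟩ := h.exists_moving
  exact le_sup_right.trans (h.A0W_isMax hT hA ha haW).le_JT

theorem mem_omegaCenter_J {T : Subgroup G} {x : G} :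
    x ∈ omegaCenterOf (JT T) ↔ x ∈ JT T ∧ x ∈ Subgroup.centralizer (JT T : Set G) ∧ x ^ 2 = 1 :=
  mem_omegaCenter

/-- `Ω₁(Z(J)) ∩ W` has order 2. -/
theorem card_inf_W (hT : IsPGroup 2 T) (h : JC (JT T) K) :
    Nat.card ↥(omegaCenterOf (JT T) ⊓ wOf K) = 2 := by
  set Z := omegaCenterOf (JT T) ⊓ wOf K with hZ
  have hd : Nat.card Z ∣ 4 := h.card4 ▸ Subgroup.card_dvd_of_le inf_le_right
  obtain ⟨z, hz, hz1, hfix⟩ := exists_fixed W_pGroup (isPGroup_JT hT) h.W_ne_bot
    (h.J_normalizes.trans (normalizer_le_normalizer_wOf K))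
  have hzZ : z ∈ Z := ⟨mem_omegaCenter.mpr ⟨h.W_le_J hT hz,
    Subgroup.mem_centralizer_iff.mpr fun j hj => hfix j hj, W_EA.2 z hz⟩, hz⟩
  have h1 : Nat.card Z ≠ 1 := fun e => hz1 (Subgroup.mem_bot.mp (Subgroup.card_eq_one.mp e ▸ hzZ))
  have h4 : Nat.card Z ≠ 4 := fun e => by
    obtain ⟨A, hA, a, ha, haW⟩ := h.exists_moving
    have hZW : Z = wOf K := Subgroup.eq_of_le_of_card_ge inf_le_right (by rw [h.card4, e])
    refine haW (Subgroup.mem_centralizer_iff.mpr fun w hw => ?_)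
    rw [← hZW] at hw
    exact (Subgroup.mem_centralizer_iff.mp (mem_omegaCenter.mp hw.1).2.1 a (hA.le_JT ha)).symm
  have := Nat.le_of_dvd (by norm_num) hd
  have h0 := Nat.card_pos (α := Z)
  by_contra h2
  have h3 : Nat.card Z = 3 := by omega
  rw [h3] at hd
  exact absurd hd (by decide)

end JC

end Cfsg.Agent.LocalEven.JComp
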