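import Cfsg.Agent.LocalEven.JCompTyp
import Cfsg.Agent.LocalEven.JCompJ

/-! Four-groups: counting lemmas, and the order of `W_K`. -/

set_option autoImplicit false
set_option linter.style.haveILetI false
set_option linter.unusedSectionVars false

open scoped commutatorElement

namespace Cfsg.Agent.LocalEven.JComp

open Cfsg

variable {G : Type*} [Group G] [Finite G]

/-- The elements of a four-group. -/
theorem four_elems {P : Subgroup G} (hP : Nat.card P = 4) (hE : IsElementaryAbelian 2 P) {z v : G}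
    (hz : z ∈ P) (hv : v ∈ P) (hz1 : z ≠ 1) (hv1 : v ≠ 1) (hne : z ≠ v) {x : G} (hx : x ∈ P) :
    x = 1 ∨ x = z ∨ x = v ∨ x = z * v := by
  classical
  by_contra hcon
  push Not at hcon
  obtain ⟨n1, n2, n3, n4⟩ := hcon
  have hzv : z * v ≠ 1 := fun e => hne (by rw [eq_inv_of_mul_eq_one_left e, inv_self hE hv])
  have hsub : ({1, z, v, z * v, x} : Finset G) ⊆ ((P : Set G).toFinite.toFinset) := by
    intro t ht
    rw [Set.Finite.mem_toFinset, SetLike.mem_coe]
    simp only [Finset.mem_insert, Finset.mem_singleton] at ht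
    rcases ht with rfl | rfl | rfl | rfl | rfl
    exacts [one_mem _, hz, hv, P.mul_mem hz hv, hx]
  have hcard := Finset.card_le_card hsub
  rw [← Nat.card_eq_card_finite_toFinset, show Nat.card ↥(P : Set G) = 4 from hP,
    Finset.card_insert_of_notMem, Finset.card_insert_of_notMem, Finset.card_insert_of_notMem,
    Finset.card_insert_of_notMem, Finset.card_singleton] at hcard
  · omega
  · simpa using Ne.symm n4
  · simp only [Finset.mem_insert, Finset.mem_singleton, not_or]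
    exact ⟨fun e => hz1 (mul_eq_right.mp e.symm), Ne.symm n3⟩
  · simp only [Finset.mem_insert, Finset.mem_singleton, not_or]
    exact ⟨hne, fun e => hv1 (mul_eq_left.mp e.symm), Ne.symm n2⟩
  · simp only [Finset.mem_insert, Finset.mem_singleton, not_or]
    exact ⟨Ne.symm hz1, Ne.symm hv1, Ne.symm hzv, Ne.symm n1⟩

theorem exists_ne_of_four {P : Subgroup G} (hP : Nat.card P = 4) (z : G) :
    ∃ v ∈ P, v ≠ 1 ∧ z ≠ v := by
  classical
  by_contra hcon
  push Not at hcon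
  have hsub : (P : Set G).toFinite.toFinset ⊆ ({1, z} : Finset G) := fun x hx => by
    rw [Set.Finite.mem_toFinset] at hx
    simp only [Finset.mem_insert, Finset.mem_singleton]
    by_cases h1 : x = 1
    · exact Or.inl h1
    · exact Or.inr (hcon x hx h1).symm
  have h2 := (Finset.card_le_card hsub).trans Finset.card_le_two
  rw [← Nat.card_eq_card_finite_toFinset, show Nat.card ↥(P : Set G) = 4 from hP] at h2
  omega

/-- An element fixing two involutions of a four-group centralizes it. -/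
theorem centralizes_of_two_fixed {P : Subgroup G} (hP : Nat.card P = 4) (hE : IsElementaryAbelian 2 P)
    {z v x : G} (hz : z ∈ P) (hv : v ∈ P) (hz1 : z ≠ 1) (hv1 : v ≠ 1) (hne : z ≠ v)
    (h1 : x * z = z * x) (h2 : x * v = v * x) : x ∈ Subgroup.centralizer (P : Set G) := by
  rw [Subgroup.mem_centralizer_iff]
  intro t ht
  rcases four_elems hP hE hz hv hz1 hv1 hne ht with rfl | rfl | rfl | rfl
  · simp
  · exact h1.symm
  · exact h2.symm
  · exact (Commute.mul_right (h1 : Commute x z) h2).eq.symm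

/-- An element fixing an involution of a four-group and moving another one. -/
theorem image_of_fixed {P : Subgroup G} (hP : Nat.card P = 4) (hE : IsElementaryAbelian 2 P)
    {z v x : G} (hz : z ∈ P) (hv : v ∈ P) (hz1 : z ≠ 1) (hv1 : v ≠ 1) (hne : z ≠ v)
    (hx : x ∈ Subgroup.normalizer (P : Set G)) (h1 : x * z = z * x)
    (hxc : x ∉ Subgroup.centralizer (P : Set G)) : x * v * x⁻¹ = z * v := by
  rcases four_elems hP hE hz hv hz1 hv1 hne ((Subgroup.mem_normalizer_iff.mp hx v).mp hv) with e | e | e | e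
  · exact absurd (conj_eq_one_iff.mp e) hv1
  · exact absurd ((MulAut.conj x).injective (a₁ := v) (a₂ := z) (by
      show x * v * x⁻¹ = x * z * x⁻¹
      rw [e, h1, mul_inv_cancel_right])).symm hne
  · exact absurd (centralizes_of_two_fixed hP hE hz hv hz1 hv1 hne h1 (mul_inv_eq_iff_eq_mul.mp e)) hxc
  · exact e

theorem ne_bot_of_four {P : Subgroup G} (hP : Nat.card P = 4) : P ≠ ⊥ := fun e => by
  rw [e, Subgroup.card_bot] at hP; exact absurd hP (by norm_num)

/-- Elementary abelian groups normalizing a four-group centralize it up to index 2. -/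
theorem card_le_two_mul_of_four {P A : Subgroup G} (hP : Nat.card P = 4) (hE : IsElementaryAbelian 2 P)
    (hA : IsElementaryAbelian 2 A) (hAP : A ≤ Subgroup.normalizer (P : Set G)) :
    Nat.card A ≤ 2 * Nat.card ↥(A ⊓ Subgroup.centralizer (P : Set G)) := by
  set C := Subgroup.centralizer (P : Set G)
  by_cases hAC : A ≤ C
  · rw [inf_of_le_left hAC]; omega
  obtain ⟨a, ha, haC⟩ := SetLike.not_le_iff_exists.mp hAC
  obtain ⟨z, hz, hz1, hfix⟩ := exists_fixed (PLocal.isPGroup_of_EA hE) (PLocal.isPGroup_of_EA hA)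
    (ne_bot_of_four hP) hAP
  obtain ⟨v, hv, hv1, hne⟩ := exists_ne_of_four hP z
  have hidx : (C.subgroupOf A).index ≤ 2 := by
    refine le_of_eq (Subgroup.index_eq_two_iff.mpr ⟨⟨a, ha⟩, fun b => ?_⟩)
    show Xor (((b : G) * a) ∈ C) ((b : G) ∈ C)
    by_cases hbC : (b : G) ∈ C
    · exact Or.inr ⟨hbC, fun hm => haC (by simpa using C.mul_mem (C.inv_mem hbC) hm)⟩
    · refine Or.inl ⟨centralizes_of_two_fixed hP hE hz hv hz1 hv1 hne
        ((show Commute (b : G) z from hfix b b.2).mul_left (show Commute a z from hfix a ha)).eq ?_, hbC⟩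
      refine mul_inv_eq_iff_eq_mul.mp ?_
      have h1 := image_of_fixed hP hE hz hv hz1 hv1 hne (hAP ha) (hfix a ha) haC
      have h2 := image_of_fixed hP hE hz hv hz1 hv1 hne (hAP b.2) (hfix b b.2) hbC
      calc (b : G) * a * v * ((b : G) * a)⁻¹ = (b : G) * (a * v * a⁻¹) * (b : G)⁻¹ := by group
        _ = ((b : G) * z * (b : G)⁻¹) * ((b : G) * v * (b : G)⁻¹) := by rw [h1]; group
        _ = z * (z * v) := by rw [hfix b b.2, mul_inv_cancel_right, h2]
        _ = v := by rw [← mul_assoc, sq_self hE hz, one_mul]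
  have hcm := (C.subgroupOf A).index_mul_card
  have e : Nat.card ↥(C.subgroupOf A) = Nat.card ↥(A ⊓ C) := by
    rw [← Nat.card_congr (Subgroup.subgroupOfEquivOfLe (inf_le_left : A ⊓ C ≤ A)).toEquiv,
      inf_comm, Subgroup.inf_subgroupOf_right]
  rw [← hcm, e]
  exact Nat.mul_le_mul_right _ hidx

theorem Typ.four {Y W : Subgroup G} {e w : G} (h : Typ Y W e) (hY : IsElementaryAbelian 2 Y)
    (hw : w ∈ W) (hw1 : w ≠ 1) {v : G} (hv : v ∈ W) :
    v = 1 ∨ v = w ∨ v = e * w * e⁻¹ ∨ v = e * (e * w * e⁻¹) * e⁻¹ := by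
  have hE := PLocal.isEA_mono hY h.le
  have hx := (Subgroup.mem_normalizer_iff.mp h.normW w).mp hw
  set x := e * w * e⁻¹ with hxdef
  have hy := (Subgroup.mem_normalizer_iff.mp h.normW x).mp hx
  have hx1 : x ≠ 1 := fun e1 => hw1 (conj_eq_one_iff.mp e1)
  have hne : w ≠ x := fun e1 => hw1 (h.fpf w hw (mul_inv_eq_iff_eq_mul.mp e1.symm))
  rcases four_elems h.card hE hw hx hw1 hx1 hne hv with e1 | e1 | e1 | e1
  · exact Or.inl e1
  · exact Or.inr (Or.inl e1)
  · exact Or.inr (Or.inr (Or.inl e1))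
  · refine Or.inr (Or.inr (Or.inr ?_))
    rcases four_elems h.card hE hw hx hw1 hx1 hne hy with e2 | e2 | e2 | e2
    · exact absurd (conj_eq_one_iff.mp e2) hx1
    · exfalso
      refine hne (?_ : w = x)
      have hcube : e * (e * x * e⁻¹) * e⁻¹ = w := by
        calc e * (e * x * e⁻¹) * e⁻¹ = (e ^ 3 * w) * (e ^ 3)⁻¹ := by
              simp only [hxdef, pow_succ, pow_zero, one_mul, mul_inv_rev, mul_assoc]
          _ = w := by rw [← Subgroup.mem_centralizer_iff.mp h.cube w (h.le hw)]; group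
      rw [e2, ← hxdef] at hcube
      exact hcube.symm
    · exact absurd (h.fpf x hx (mul_inv_eq_iff_eq_mul.mp e2)) hx1
    · exact e1.trans e2.symm

theorem Typ.centralizes_of_comm {Y W : Subgroup G} {e u w : G} (h : Typ Y W e) (hY : IsElementaryAbelian 2 Y)
    (hu : u ∈ Subgroup.normalizer (Y : Set G)) (hc : ⁅e, u⁆ ∈ Subgroup.centralizer (Y : Set G))
    (hw : w ∈ W) (hw1 : w ≠ 1) (huw : u * w = w * u) : u ∈ Subgroup.centralizer (W : Set G) := by
  have hx := (Subgroup.mem_normalizer_iff.mp h.normW w).mp hw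
  refine centralizes_of_two_fixed h.card (PLocal.isEA_mono hY h.le) hw hx hw1
    (fun e1 => hw1 (conj_eq_one_iff.mp e1)) (fun e1 => hw1 (h.fpf w hw (mul_inv_eq_iff_eq_mul.mp e1.symm)))
    huw (mul_inv_eq_iff_eq_mul.mp ?_)
  have h1 : u * w * u⁻¹ = w := by rw [huw, mul_inv_cancel_right]
  calc u * (e * w * e⁻¹) * u⁻¹ = ⁅e, u⁆⁻¹ * (e * (u * w * u⁻¹) * e⁻¹) * ⁅e, u⁆ := by
        rw [commutatorElement_def]; group
    _ = ⁅e, u⁆⁻¹ * (e * w * e⁻¹ * ⁅e, u⁆) := by rw [h1, mul_assoc]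
    _ = _ := by rw [Subgroup.mem_centralizer_iff.mp hc _ (h.le hx), inv_mul_cancel_left]

/-- An element fixing `W`, moving `Y` into `W` and commuting with `e` on `Y` centralizes `Y`. -/
theorem Typ.mem_centralizer_of_fix {Y W : Subgroup G} {e u : G} (h : Typ Y W e) (hY : IsElementaryAbelian 2 Y)
    (hu : u ∈ Subgroup.normalizer (Y : Set G)) (huW : u ∈ Subgroup.centralizer (W : Set G))
    (hmove : ∀ y ∈ Y, ⁅y, u⁆ ∈ W) (hc : ⁅e, u⁆ ∈ Subgroup.centralizer (Y : Set G)) :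
    u ∈ Subgroup.centralizer (Y : Set G) := by
  rw [Subgroup.mem_centralizer_iff]
  intro y hy
  set w0 := ⁅y, u⁆⁻¹ with hw0
  set w1 := ⁅y, e⁆⁻¹ with hw1
  have hw0W : w0 ∈ W := W.inv_mem (hmove y hy)
  have hw1W : w1 ∈ W := W.inv_mem (h.move y hy)
  have e0 : u * y * u⁻¹ = w0 * y := by rw [hw0, commutatorElement_def]; group
  have e1 : e * y * e⁻¹ = w1 * y := by rw [hw1, commutatorElement_def]; group
  have hey : u * (e * y * e⁻¹) * u⁻¹ ∈ Y :=
    (Subgroup.mem_normalizer_iff.mp hu _).mp ((Subgroup.mem_normalizer_iff.mp h.norm y).mp hy)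
  have hswap : e * (u * y * u⁻¹) * e⁻¹ = u * (e * y * e⁻¹) * u⁻¹ := by
    calc e * (u * y * u⁻¹) * e⁻¹ = ⁅e, u⁆ * (u * (e * y * e⁻¹) * u⁻¹) * ⁅e, u⁆⁻¹ := by
          rw [commutatorElement_def]; group
      _ = _ := by rw [← Subgroup.mem_centralizer_iff.mp hc _ hey, mul_inv_cancel_right]
  have hL : e * (u * y * u⁻¹) * e⁻¹ = (e * w0 * e⁻¹) * w1 * y := by
    rw [e0, show e * (w0 * y) * e⁻¹ = (e * w0 * e⁻¹) * (e * y * e⁻¹) by group, e1, ← mul_assoc]
  have hR : u * (e * y * e⁻¹) * u⁻¹ = w0 * w1 * y := by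
    rw [e1, show u * (w1 * y) * u⁻¹ = (u * w1 * u⁻¹) * (u * y * u⁻¹) by group, e0,
      ← Subgroup.mem_centralizer_iff.mp huW w1 hw1W, mul_inv_cancel_right, ← mul_assoc,
      sq_self_comm hY (h.le hw1W) (h.le hw0W)]
  rw [hL, hR] at hswap
  have h0 := h.fpf w0 hw0W (mul_inv_eq_iff_eq_mul.mp (mul_right_cancel (mul_right_cancel hswap)))
  exact commutatorElement_eq_one_iff_mul_comm.mp (inv_eq_one.mp h0)

/-- `[Ω₁(Z(R)), K]` is a four-group when some elementary abelian subgroup of largest order moves a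
four-group inside it. -/
theorem JCore.wOf_eq {T K P A : Subgroup G} (hcK : JCore K)
    (hR : pCoreOf 2 K ≤ T) (hA : IsMaxEA T A) (hAK : A ≤ Subgroup.normalizer (K : Set G))
    (hP : P ≤ wOf K) (hP4 : Nat.card P = 4) (hKP : K ≤ Subgroup.normalizer (P : Set G))
    (hAP : A ≤ Subgroup.normalizer (P : Set G)) {a : G} (ha : a ∈ A)
    (haP : a ∉ Subgroup.centralizer (P : Set G)) : wOf K = P := by
  by_contra hUP
  set U := wOf K with hU
  have hUV : U ≤ omegaCenterOf (pCoreOf 2 K) := JC.W_le_omega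
  have hUE : IsElementaryAbelian 2 U := JC.W_EA
  have hPE := PLocal.isEA_mono hUE hP
  have hAU : A ≤ Subgroup.normalizer (U : Set G) := hAK.trans (normalizer_le_normalizer_wOf K)
  have hRU : ∀ r ∈ pCoreOf 2 K, ∀ u ∈ U, r * u = u * r := fun r hr u hu => JC.W_R_comm hr hu
  obtain ⟨d, hd, hdR⟩ := hcK.exists_d
  have hdU : d ∈ Subgroup.normalizer (U : Set G) := JC.K_normalizes_W hd
  obtain ⟨z, hz, hz1, hfix⟩ := exists_fixed (PLocal.isPGroup_of_EA hPE) (PLocal.isPGroup_of_EA hA.2.1)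
    (ne_bot_of_four hP4) hAP
  have hdz : d * z * d⁻¹ ∈ P := (Subgroup.mem_normalizer_iff.mp (hKP hd) z).mp hz
  have hdz1 : d * z * d⁻¹ ≠ 1 := fun e => hz1 (conj_eq_one_iff.mp e)
  have hzne : z ≠ d * z * d⁻¹ := fun e => hz1 (hcK.fpf hd hdR (hP hz) (mul_inv_eq_iff_eq_mul.mp e.symm))
  set A0 := A ⊓ Subgroup.centralizer (P : Set G) with hA0
  have hA0R : ∀ x ∈ A0, ⁅d, x⁆ ∈ pCoreOf 2 K := by
    intro x hx
    by_contra hR'
    have hmem : ⁅d, x⁆ ∈ K := by
      rw [show ⁅d, x⁆ = d * (x * d⁻¹ * x⁻¹) by rw [commutatorElement_def]; group]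
      exact K.mul_mem hd ((Subgroup.mem_normalizer_iff.mp (hAK hx.1) _).mp (K.inv_mem hd))
    have hc : ⁅d, x⁆ ∈ Subgroup.centralizer (P : Set G) := by
      rw [commutatorElement_def]
      exact Subgroup.mul_mem _ ((Subgroup.mem_normalizer_iff.mp
        (normalizer_le_normalizer_cent _ (hKP hd)) x).mp hx.2) (Subgroup.inv_mem _ hx.2)
    exact hz1 (hcK.fpf hmem hR' (hP hz) (Subgroup.mem_centralizer_iff.mp hc z hz).symm)
  -- `a` inverts `d` modulo `R`
  have hinv : a * d * a⁻¹ * d ∈ pCoreOf 2 K := by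
    have hk : a * d * a⁻¹ ∈ K := (Subgroup.mem_normalizer_iff.mp (hAK ha) d).mp hd
    rcases hcK.cases3 hd hdR hk with h1 | h1 | h1
    · exfalso
      refine hdR ?_
      have := (Subgroup.mem_normalizer_iff.mp
        (Subgroup.inv_mem _ ((normalizer_le_normalizer_core K) (hAK ha))) _).mp h1
      simpa [mul_assoc] using this
    · exfalso
      refine haP (centralizes_of_two_fixed hP4 hPE hz hdz hz1 hdz1 hzne (hfix a ha) (mul_inv_eq_iff_eq_mul.mp ?_))
      have h2 : a * z * a⁻¹ = z := by rw [hfix a ha, mul_inv_cancel_right]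
      calc a * (d * z * d⁻¹) * a⁻¹ = (a * d * a⁻¹ * d⁻¹) * (d * (a * z * a⁻¹) * d⁻¹) * (a * d * a⁻¹ * d⁻¹)⁻¹ := by
            group
        _ = _ := by rw [h2, hRU _ h1 _ (hP hdz), mul_inv_cancel_right]
    · exact h1
  have hA0d : ∀ x ∈ A0, ∀ u ∈ U, x * (d * u * d⁻¹) * x⁻¹ = d * (x * u * x⁻¹) * d⁻¹ := by
    intro x hx u hu
    have hxu := (Subgroup.mem_normalizer_iff.mp hdU _).mp ((Subgroup.mem_normalizer_iff.mp (hAU hx.1) u).mp hu)
    calc x * (d * u * d⁻¹) * x⁻¹ = ⁅d, x⁆⁻¹ * (d * (x * u * x⁻¹) * d⁻¹) * ⁅d, x⁆ := by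
          rw [commutatorElement_def]; group
      _ = _ := by rw [mul_assoc _ _ ⁅d, x⁆, ← hRU _ (hA0R x hx) _ hxu, inv_mul_cancel_left]
  have had : ∀ u ∈ U, a * (d * u * d⁻¹) * a⁻¹ = d⁻¹ * (a * u * a⁻¹) * d := by
    intro u hu
    have hau : d⁻¹ * (a * u * a⁻¹) * d ∈ U := by
      have := (Subgroup.mem_normalizer_iff.mp (Subgroup.inv_mem _ hdU) _).mp
        ((Subgroup.mem_normalizer_iff.mp (hAU ha) u).mp hu)
      rwa [inv_inv] at this
    calc a * (d * u * d⁻¹) * a⁻¹ = (a * d * a⁻¹ * d) * (d⁻¹ * (a * u * a⁻¹) * d) * (a * d * a⁻¹ * d)⁻¹ := by group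
      _ = _ := by rw [hRU _ hinv _ hau, mul_inv_cancel_right]
  set C0 := U ⊓ Subgroup.centralizer (A0 : Set G) with hC0
  set F0 := C0 ⊓ Subgroup.centralizer ({a} : Set G) with hF0
  have hA2 := card_le_two_mul_of_four hP4 hPE hA.2.1 hAP
  rw [← hA0] at hA2
  have hPC0 : P ≤ C0 := le_inf hP (Subgroup.le_centralizer_iff.mp inf_le_right)
  have hdC0 : ∀ u ∈ C0, d * u * d⁻¹ ∈ C0 := fun u hu => ⟨(Subgroup.mem_normalizer_iff.mp hdU u).mp hu.1,
    Subgroup.mem_centralizer_iff.mpr fun x hx => mul_inv_eq_iff_eq_mul.mp (by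
      rw [hA0d x hx u hu.1, Subgroup.mem_centralizer_iff.mp hu.2 x hx, mul_inv_cancel_right])⟩
  have hFF : F0 ⊓ LocalEven.cj d F0 = ⊥ := by
    rw [Subgroup.eq_bot_iff_forall]
    rintro x ⟨hx, y, hy, rfl⟩
    have hya : a * y * a⁻¹ = y := by
      rw [← Subgroup.mem_centralizer_singleton_iff.mp hy.2, mul_inv_cancel_right]
    have hxa : a * (d * y * d⁻¹) * a⁻¹ = d * y * d⁻¹ := by
      rw [show d * y * d⁻¹ = (MulAut.conj d).toMonoidHom y from rfl,
        ← Subgroup.mem_centralizer_singleton_iff.mp hx.2, mul_inv_cancel_right]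
    rw [had y hy.1.1, hya] at hxa
    have h2 : d * (d * y * d⁻¹) * d⁻¹ = y := by rw [← hxa]; group
    have h3 := hcK.d_cube_fix hd fun r hr => hRU r hr y hy.1.1
    rw [h2] at h3
    have hy1 : y = 1 := hcK.fpf hd hdR hy.1.1 (mul_inv_eq_iff_eq_mul.mp h3)
    show d * y * d⁻¹ = 1
    rw [hy1]; group
  have hUab : ∀ {X Z : Subgroup G}, X ≤ U → Z ≤ U → X ≤ Subgroup.normalizer (Z : Set G) := fun hX hZ =>
    (hX.trans ((Subgroup.le_centralizer_iff_isMulCommutative.mpr hUE.1).trans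
      (Subgroup.centralizer_le hZ))).trans (Subgroup.centralizer_le_normalizer _)
  have hFU : F0 ≤ U := inf_le_left.trans inf_le_left
  have hdF : LocalEven.cj d F0 ≤ C0 := by
    rintro _ ⟨y, hy, rfl⟩
    exact hdC0 y hy.1
  have hFsq : Nat.card F0 * Nat.card F0 ≤ Nat.card C0 := by
    have h1 := PLocal.card_sup_mul_card_inf (hUab hFU (hdF.trans inf_le_left))
    rw [hFF, Subgroup.card_bot, mul_one, card_cj] at h1
    rw [← h1]
    exact Subgroup.card_le_of_le (sup_le inf_le_left hdF)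
  have hA0E := PLocal.isEA_mono hA.2.1 (inf_le_left : A0 ≤ A)
  have hUT : U ≤ T := JC.W_le_R.trans hR
  have hC0le : Nat.card C0 ≤ 2 * Nat.card F0 := by
    have h1 := hA.2.2 (A0 ⊔ C0) (sup_le (inf_le_left.trans hA.1) (inf_le_left.trans hUT))
      (PLocal.isEA_sup hA0E (PLocal.isEA_mono hUE inf_le_left) (Subgroup.le_centralizer_iff.mp inf_le_right))
    have h2 := PLocal.card_sup_mul_card_inf
      ((Subgroup.le_centralizer_iff.mp (inf_le_right : C0 ≤ Subgroup.centralizer (A0 : Set G))).trans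
        (Subgroup.centralizer_le_normalizer _))
    have h3 : A0 ⊓ C0 ≤ F0 := fun x hx =>
      ⟨hx.2, Subgroup.mem_centralizer_singleton_iff.mpr (PLocal.comm_of_EA hA.2.1 hx.1.1 ha)⟩
    refine Nat.le_of_mul_le_mul_left ?_ (Nat.card_pos (α := A0))
    calc Nat.card A0 * Nat.card C0 = Nat.card ↥(A0 ⊔ C0) * Nat.card ↥(A0 ⊓ C0) := h2.symm
      _ ≤ (2 * Nat.card A0) * Nat.card F0 := Nat.mul_le_mul (h1.trans hA2) (Subgroup.card_le_of_le h3)
      _ = _ := by ring
  have hF2 : Nat.card F0 ≤ 2 := Nat.le_of_mul_le_mul_right (hFsq.trans hC0le) Nat.card_pos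
  have hC0P : C0 = P := (Subgroup.eq_of_le_of_card_ge hPC0 (by rw [hP4]; omega)).symm
  -- an element of `U` outside `P` moved by `A` only into `P`
  have hPlt : P ≤ U := hP
  obtain ⟨u, hu, huP, huA⟩ : ∃ u ∈ U, u ∉ P ∧ ∀ x ∈ A, ⁅u, x⁆ ∈ P := by
    set X := U ⊔ A
    have hXP : X ≤ Subgroup.normalizer (P : Set G) := sup_le (hUab le_rfl hP) hAP
    haveI : (P.subgroupOf X).Normal := Subgroup.normal_subgroupOf_of_le_normalizer hXP
    set π := QuotientGroup.mk' (P.subgroupOf X)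
    have hne : (U.subgroupOf X).map π ≠ ⊥ := fun e => hUP (le_antisymm (fun w hw => by
      have h1 := (Subgroup.map_eq_bot_iff _).mp e (show (⟨w, Subgroup.mem_sup_left hw⟩ : ↥X) ∈ U.subgroupOf X from hw)
      rw [QuotientGroup.ker_mk'] at h1
      exact h1) hP)
    have hn : (A.subgroupOf X).map π ≤ Subgroup.normalizer (((U.subgroupOf X).map π : Subgroup _) : Set _) := by
      refine le_trans (Subgroup.map_mono ?_) (Subgroup.le_normalizer_map π)
      intro x hx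
      rw [← cj_eq_self_iff]
      refine Subgroup.eq_of_le_of_card_ge ?_ (card_cj x _).ge
      rintro _ ⟨w, hw, rfl⟩
      exact (Subgroup.mem_normalizer_iff.mp (hAU hx) (w : G)).mp hw
    obtain ⟨w, ⟨⟨u, huX⟩, hu, rfl⟩, hw1, hwfix⟩ := exists_fixed
      (((PLocal.isPGroup_of_EA hUE).comap_of_injective X.subtype X.subtype_injective).map π)
      (((PLocal.isPGroup_of_EA hA.2.1).comap_of_injective X.subtype X.subtype_injective).map π) hne hn
    refine ⟨u, hu, fun huP => hw1 ((QuotientGroup.eq_one_iff (⟨u, huX⟩ : ↥X)).mpr huP), fun x hx => ?_⟩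
    have h1 := hwfix (π ⟨x, Subgroup.mem_sup_right hx⟩) ⟨_, hx, rfl⟩
    have h2 : π ⁅(⟨u, huX⟩ : ↥X), ⟨x, Subgroup.mem_sup_right hx⟩⁆ = 1 := by
      rw [map_commutatorElement]; exact commutatorElement_eq_one_iff_mul_comm.mpr h1.symm
    exact (QuotientGroup.eq_one_iff ⁅(⟨u, huX⟩ : ↥X), (⟨x, Subgroup.mem_sup_right hx⟩ : ↥X)⁆).mp h2
  have hu1 : u ≠ 1 := fun e => huP (e ▸ P.one_mem)
  have hq : ∀ b ∈ A0, b * u * b⁻¹ * u⁻¹ ∈ F0 := by
    intro b hb
    set q := b * u * b⁻¹ * u⁻¹ with hqd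
    have hqP : q ∈ P := by
      rw [show q = ⁅u, b⁆⁻¹ by rw [hqd, commutatorElement_def]; group]
      exact P.inv_mem (huA b hb.1)
    refine ⟨hC0P.ge hqP, Subgroup.mem_centralizer_singleton_iff.mpr (mul_inv_eq_iff_eq_mul.mp ?_).symm⟩
    set p := a * u * a⁻¹ * u⁻¹ with hpd
    have hpP : p ∈ P := by
      rw [show p = ⁅u, a⁆⁻¹ by rw [hpd, commutatorElement_def]; group]
      exact P.inv_mem (huA a ha)
    have hab : Commute a b := PLocal.comm_of_EA hA.2.1 ha hb.1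
    have e1 : a * (b * u * b⁻¹) * a⁻¹ = b * (a * u * a⁻¹) * b⁻¹ := by
      calc a * (b * u * b⁻¹) * a⁻¹ = (a * b) * u * (a * b)⁻¹ := by group
        _ = (b * a) * u * (b * a)⁻¹ := by rw [hab.eq]
        _ = _ := by group
    have e2 : b * (a * u * a⁻¹) * b⁻¹ = p * (b * u * b⁻¹) := by
      rw [show a * u * a⁻¹ = p * u by rw [hpd, inv_mul_cancel_right],
        show b * (p * u) * b⁻¹ = (b * p * b⁻¹) * (b * u * b⁻¹) by group,
        ← Subgroup.mem_centralizer_iff.mp hb.2 p hpP, mul_inv_cancel_right]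
    calc a * q * a⁻¹ = a * (b * u * b⁻¹) * a⁻¹ * (a * u * a⁻¹)⁻¹ := by rw [hqd]; group
      _ = p * (b * u * b⁻¹) * (p * u)⁻¹ := by rw [e1, e2, hpd, inv_mul_cancel_right]
      _ = p * q * p⁻¹ := by rw [hqd]; group
      _ = q := by rw [PLocal.comm_of_EA hPE hpP hqP, mul_inv_cancel_right]
  let φ : ↥A0 →* ↥F0 := MonoidHom.mk' (fun b => ⟨(b : G) * u * (b : G)⁻¹ * u⁻¹, hq b b.2⟩) fun b c => Subtype.ext <| by
    show ((b : G) * c) * u * ((b : G) * c)⁻¹ * u⁻¹ = (b * u * (b : G)⁻¹ * u⁻¹) * (c * u * (c : G)⁻¹ * u⁻¹)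
    have hc := hq c c.2
    have hb := hq b b.2
    have hcP : (c : G) * u * (c : G)⁻¹ * u⁻¹ ∈ P := hC0P.le hc.1
    have hbP : (b : G) * u * (b : G)⁻¹ * u⁻¹ ∈ P := hC0P.le hb.1
    rw [PLocal.comm_of_EA hPE hbP hcP]
    set qc := (c : G) * u * (c : G)⁻¹ * u⁻¹ with hqc
    calc ((b : G) * c) * u * ((b : G) * c)⁻¹ * u⁻¹ = ((b : G) * qc * (b : G)⁻¹) * ((b : G) * u * (b : G)⁻¹ * u⁻¹) := by
          rw [hqc]; group
      _ = _ := by rw [← Subgroup.mem_centralizer_iff.mp b.2.2 qc hcP, mul_inv_cancel_right]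
  set A2 := A0 ⊓ Subgroup.centralizer ({u} : Set G) with hA2d
  have hA2card : Nat.card A0 ≤ 2 * Nat.card A2 := by
    have h1 := φ.ker.index_mul_card
    rw [Subgroup.index_ker] at h1
    have h2 : Nat.card φ.ker ≤ Nat.card A2 := by
      refine Nat.card_le_card_of_injective (fun b => (⟨(b : ↥A0), (b : ↥A0).2,
        Subgroup.mem_centralizer_singleton_iff.mpr ?_⟩ : ↥A2)) fun b c e => ?_
      · have hb : ((b : ↥A0) : G) * u * ((b : ↥A0) : G)⁻¹ * u⁻¹ = 1 := congrArg Subtype.val (MonoidHom.mem_ker.mp b.2)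
        exact (mul_inv_eq_iff_eq_mul.mp (mul_inv_eq_one.mp hb))
      · exact Subtype.ext (Subtype.ext (congrArg (fun t : ↥A2 => (t : G)) e))
    rw [← h1]
    exact Nat.mul_le_mul ((Subgroup.card_le_card_group φ.range).trans hF2) h2
  set u2 := d * u * d⁻¹ with hu2
  have hu2U : u2 ∈ U := (Subgroup.mem_normalizer_iff.mp hdU u).mp hu
  set U3 := P ⊔ Subgroup.zpowers u with hU3
  set U4 := U3 ⊔ Subgroup.zpowers u2 with hU4
  have hU3U : U3 ≤ U := sup_le hP (Subgroup.zpowers_le.mpr hu)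
  have hU4U : U4 ≤ U := sup_le hU3U (Subgroup.zpowers_le.mpr hu2U)
  have hzu : ∀ {w : G}, w ∈ U → ∀ {x : G}, x ∈ Subgroup.zpowers w → x = 1 ∨ x = w := by
    intro w hw x hx
    obtain ⟨k, rfl⟩ := Subgroup.mem_zpowers_iff.mp hx
    have hw2 : w ^ (2 : ℤ) = 1 := by rw [show (2 : ℤ) = ((2 : ℕ) : ℤ) from rfl, zpow_natCast]; exact hUE.2 w hw
    rcases Int.even_or_odd k with ⟨m, rfl⟩ | ⟨m, rfl⟩
    · left; rw [← two_mul, zpow_mul, hw2, one_zpow]
    · right; rw [zpow_add_one, zpow_mul, hw2, one_zpow, one_mul]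
  have hu2n : u2 ∉ U3 := by
    intro hmem
    obtain ⟨p, hp, x, hx, hpx⟩ := Coprime.exists_mul_of_mem_sup (hUab (Subgroup.zpowers_le.mpr hu) hP) hmem
    have hdp : d⁻¹ * p * d ∈ P := by
      have := (Subgroup.mem_normalizer_iff.mp (Subgroup.inv_mem _ (hKP hd)) p).mp hp
      rwa [inv_inv] at this
    rcases hzu hu hx with rfl | hxu
    · refine huP ?_
      rw [show u = d⁻¹ * u2 * d by rw [hu2]; group, ← hpx, mul_one]
      exact hdp
    · rw [hxu] at hpx
      have hdpP : d * p * d⁻¹ ∈ P := (Subgroup.mem_normalizer_iff.mp (hKP hd) p).mp hp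
      have hn := hcK.norm3_W hd hdR hu
      have e2 : d * (d * u * d⁻¹) * d⁻¹ = (d * p * d⁻¹) * (p * u) := by
        calc d * (d * u * d⁻¹) * d⁻¹ = d * (p * u) * d⁻¹ := by rw [← hu2, hpx]
          _ = (d * p * d⁻¹) * (d * u * d⁻¹) := by group
          _ = _ := by rw [← hu2, hpx]
      rw [norm3, e2, ← hu2, ← hpx] at hn
      refine huP ?_
      have huU := hu
      have hpU := hP hp
      have hdU' := hP hdpP
      have e3 : u * (p * u) * (d * p * d⁻¹ * (p * u)) = u * (d * p * d⁻¹) := by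
        calc u * (p * u) * (d * p * d⁻¹ * (p * u))
            = u * ((p * u) * (d * p * d⁻¹)) * (p * u) := by group
          _ = u * ((d * p * d⁻¹) * (p * u)) * (p * u) := by rw [PLocal.comm_of_EA hUE (U.mul_mem hpU huU) hdU']
          _ = u * (d * p * d⁻¹) * ((p * u) * (p * u)) := by group
          _ = _ := by rw [sq_self hUE (U.mul_mem hpU huU), mul_one]
      rw [e3] at hn
      rw [eq_inv_of_mul_eq_one_left hn]
      exact P.inv_mem hdpP
  have hU4card : 16 ≤ Nat.card U4 := by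
    have inf1 : P ⊓ Subgroup.zpowers u = ⊥ := (Subgroup.eq_bot_iff_forall _).mpr fun x hx =>
      (hzu hu hx.2).resolve_right fun e => huP (e ▸ hx.1)
    have inf2 : U3 ⊓ Subgroup.zpowers u2 = ⊥ := (Subgroup.eq_bot_iff_forall _).mpr fun x hx =>
      (hzu hu2U hx.2).resolve_right fun e => hu2n (e ▸ hx.1)
    have c1 := PLocal.card_sup_mul_card_inf (hUab hP (Subgroup.zpowers_le.mpr hu))
    have c2 := PLocal.card_sup_mul_card_inf (hUab hU3U (Subgroup.zpowers_le.mpr hu2U))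
    rw [inf1, Subgroup.card_bot, mul_one, hP4] at c1
    rw [inf2, Subgroup.card_bot, mul_one, c1] at c2
    rw [c2]
    have hu21 : u2 ≠ 1 := fun e => hu1 (conj_eq_one_iff.mp e)
    have o1 : ∀ w : G, w ≠ 1 → 2 ≤ Nat.card (Subgroup.zpowers w) := fun w hw => by
      have h0 := Nat.card_pos (α := Subgroup.zpowers w)
      by_contra hlt
      exact hw (Subgroup.zpowers_eq_bot.mp (Subgroup.card_eq_one.mp (by omega)))
    exact Nat.mul_le_mul (Nat.mul_le_mul_left 4 (o1 u hu1)) (o1 u2 hu21)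
  have hA2U4 : A2 ≤ Subgroup.centralizer (U4 : Set G) := by
    refine Subgroup.le_centralizer_iff.mp (sup_le (sup_le ?_ (Subgroup.zpowers_le.mpr ?_)) (Subgroup.zpowers_le.mpr ?_))
    · exact Subgroup.le_centralizer_iff.mp (inf_le_left.trans inf_le_right)
    · exact Subgroup.mem_centralizer_iff.mpr fun b hb => Subgroup.mem_centralizer_singleton_iff.mp hb.2
    · refine Subgroup.mem_centralizer_iff.mpr fun b hb => mul_inv_eq_iff_eq_mul.mp ?_
      rw [hA0d b hb.1 u hu, Subgroup.mem_centralizer_singleton_iff.mp hb.2, mul_inv_cancel_right]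
  have h1 := hA.2.2 (A2 ⊔ U4) (sup_le ((inf_le_left.trans inf_le_left).trans hA.1) (hU4U.trans hUT))
    (PLocal.isEA_sup (PLocal.isEA_mono hA0E inf_le_left) (PLocal.isEA_mono hUE hU4U) hA2U4)
  have h2 := PLocal.card_sup_mul_card_inf (hA2U4.trans (Subgroup.centralizer_le_normalizer _))
  have h3 : A2 ⊓ U4 ≤ F0 := fun x hx =>
    ⟨⟨hU4U hx.2, Subgroup.le_centralizer_iff_isMulCommutative.mpr hA0E.1 hx.1.1⟩,
      Subgroup.mem_centralizer_singleton_iff.mpr (PLocal.comm_of_EA hA.2.1 hx.1.1.1 ha)⟩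
  have h4 : Nat.card A2 * 16 ≤ Nat.card A2 * 8 := by
    calc Nat.card A2 * 16 ≤ Nat.card A2 * Nat.card U4 := Nat.mul_le_mul_left _ hU4card
      _ = Nat.card ↥(A2 ⊔ U4) * Nat.card ↥(A2 ⊓ U4) := h2.symm
      _ ≤ Nat.card A * 2 := Nat.mul_le_mul h1 ((Subgroup.card_le_of_le h3).trans hF2)
      _ ≤ 2 * (2 * Nat.card A2) * 2 := Nat.mul_le_mul_right _ (hA2.trans (Nat.mul_le_mul_left 2 hA2card))
      _ = _ := by ring
  have := Nat.card_pos (α := A2)
  omega

end Cfsg.Agent.LocalEven.JComp
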