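import Cfsg.Agent.LocalEven.JCompDichotomy

/-! The global case does not occur. -/

set_option autoImplicit false
set_option linter.style.haveILetI false
set_option linter.unusedSectionVars false

open scoped commutatorElement

namespace Cfsg.Agent.LocalEven.JComp

open Cfsg

universe u

variable {G : Type u} [Group G] [Finite G]

/-- A 2-local subgroup containing every 2-local overgroup of `J(S)`, and a component. -/
structure Covers (L : Subgroup G) (S : Sylow 2 G) : Prop where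
  local2 : IsTwoLocal L
  all : ∀ X : Subgroup G, IsTwoLocal X → JT (S : Subgroup G) ≤ X → X ≤ L
  comp : ∃ K, JC (JT (S : Subgroup G)) K ∧ K ≤ L

theorem IsTop.sylow {T : Subgroup G} (ht : IsTop T) (hT : IsPGroup 2 T) :
    ∃ S : Sylow 2 G, (S : Subgroup G) = T := by
  haveI : Fact (Nat.Prime 2) := ⟨Nat.prime_two⟩
  obtain ⟨P, hP⟩ := hT.exists_le_sylow
  exact ⟨P, ht _ P.isPGroup' hP⟩

namespace Ctx

variable {M T : Subgroup G}

/-- The global case gives a covering subgroup. -/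
theorem covers_of_glob (c : Ctx M T) (hG : Glob M T) :
    IsTop T ∧ ∃ (L : Subgroup G) (S : Sylow 2 G), (S : Subgroup G) = T ∧ Covers L S := by
  haveI : Fact (Nat.Prime 2) := ⟨Nat.prime_two⟩
  obtain ⟨K₀, hK₀⟩ := c.exists_outside
  have h0 := jc_iff.mp hK₀.1.1
  have h0M := hK₀.2.1
  set Ω : Set (Subgroup G) := {K | JC (JT T) K ∧ ¬ K ≤ M} with hΩ
  set V := sSup (wOf '' Ω) with hV
  have hmem0 : K₀ ∈ Ω := ⟨h0, h0M⟩
  have hnormV : ∀ {g : G}, (∀ K ∈ Ω, LocalEven.cj g (wOf K) ≤ V) → g ∈ Subgroup.normalizer (V : Set G) := by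
    intro g hg
    rw [← cj_eq_self_iff]
    refine Subgroup.eq_of_le_of_card_ge ?_ (card_cj g V).ge
    rw [LocalEven.cj, Subgroup.map_le_iff_le_comap]
    refine sSup_le ?_
    rintro _ ⟨K, hK, rfl⟩
    rw [← Subgroup.map_le_iff_le_comap]
    exact hg K hK
  have hcompV : ∀ K', JC (JT T) K' → K' ≤ Subgroup.normalizer (V : Set G) := fun K' h' g hg =>
    hnormV fun K hK => (cj_eq_self_iff.mpr (hG K K' hK.1 h' hK.2 hg)).le.trans (le_sSup ⟨K, hK, rfl⟩)
  have hV2 : IsPGroup 2 V := by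
    refine (isPGroup_op V).to_le (sSup_le ?_)
    rintro _ ⟨K, hK, rfl⟩
    refine le_op (le_sSup ⟨K, hK, rfl⟩) ?_ JC.W_pGroup
    refine sSup_le ?_
    rintro _ ⟨K', hK', rfl⟩
    exact (JC.W_le_R.trans JC.R_le).trans (hG K K' hK.1 hK'.1 hK.2)
  have hV1 : V ≠ ⊥ := fun e => h0.W_ne_bot (le_bot_iff.mp (e ▸ le_sSup ⟨K₀, hmem0, rfl⟩))
  set L := Subgroup.normalizer (V : Set G) with hL
  have hL2 : IsTwoLocal L := ⟨V, hV2, hV1, rfl⟩
  have hNJ : Subgroup.normalizer (JT T : Set G) ≤ L := by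
    intro g hg
    refine hnormV fun K hK => ?_
    rw [cj_wOf]
    refine le_sSup ⟨LocalEven.cj g K, ⟨?_, c.cj_out (c.normJ hg) hK.2⟩, rfl⟩
    have := hK.1.cj g
    rwa [cj_eq_self_iff.mpr hg] at this
  have hLM : ¬ L ≤ M := fun hle => h0M ((hcompV K₀ h0).trans hle)
  have hTN : Subgroup.normalizer (T : Set G) ≤ L := (normalizer_le_normalizer_JT T).trans hNJ
  have htop : IsTop T := by
    obtain ⟨S, hTS, hSM⟩ := c.exists_sylow
    have heq : T = (S : Subgroup G) := by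
      by_contra hne
      obtain ⟨x, hx, hxN, hxT⟩ := exists_between S.isPGroup' hTS hne
      have := c.eq_T hL2 hLM (sup_le (Subgroup.le_normalizer.trans hTN) (Subgroup.zpowers_le.mpr (hTN hxN)))
        (sup_le c.T_le (Subgroup.zpowers_le.mpr (hSM hx)))
        (S.isPGroup'.to_le (sup_le hTS (Subgroup.zpowers_le.mpr hx))) le_sup_left
      exact hxT (this ▸ Subgroup.mem_sup_right (Subgroup.mem_zpowers x))
    exact fun U hU hle => (S.3 hU (heq ▸ hle)).trans heq.symm
  obtain ⟨S, hS⟩ := htop.sylow c.T_pGroup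
  refine ⟨htop, L, S, hS, hL2, fun X hX hJX => ?_, K₀, hS.symm ▸ h0, hcompV K₀ h0⟩
  rw [hS] at hJX
  obtain ⟨T₀, hJ, o⟩ := c.overJ hX (Or.inr htop) hJX
  exact o.le_of_components_le
    ((Subgroup.le_normalizer.trans (normalizer_le_normalizer_JT T₀)).trans (hJ.symm ▸ hNJ)) (hJ.symm ▸ hNJ)
    fun K hK _ => hcompV K (hJ ▸ hK)

end Ctx

theorem exists_maxStraddling {M : Subgroup G} (h : (straddlingTwoSubgroups M).Nonempty) :
    (maxStraddlingTwoSubgroups M).Nonempty := by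
  classical
  set N := Nat.card G + 1 with hN
  let f : Subgroup G → ℕ := fun U =>
    (maxElemAbelianOrder U * N + Nat.card (JT U)) * N + Nat.card U
  obtain ⟨T, hT, hmax⟩ := Set.exists_max_image (straddlingTwoSubgroups M) f (Set.toFinite _) h
  refine ⟨T, hT, fun U hU => ?_⟩
  have hbound : ∀ V : Subgroup G, maxElemAbelianOrder V < N ∧ Nat.card (JT V) < N ∧ Nat.card V < N := by
    intro V
    obtain ⟨A, hA⟩ := exists_isMaxEA V
    have h1 := Subgroup.card_le_card_group A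
    have h2 := Subgroup.card_le_card_group (JT V)
    have h3 := Subgroup.card_le_card_group V
    rw [maxElemAbelianOrder_eq hA]
    omega
  obtain ⟨a1, b1, c1⟩ := hbound U
  obtain ⟨a2, b2, c2⟩ := hbound T
  have key : ∀ {p q r s : ℕ}, q < N → s < N → p * N + q ≤ r * N + s → p ≤ r ∧ (p = r → q ≤ s) := by
    intro p q r s hq hs hle
    refine ⟨Nat.lt_succ_iff.mp (Nat.lt_of_mul_lt_mul_right (a := N) ?_), fun e => by subst e; omega⟩
    rw [Nat.succ_mul]; omega
  obtain ⟨h1, h2⟩ := key c1 c2 (hmax U hU)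
  obtain ⟨h3, h4⟩ := key b1 b2 h1
  exact ⟨h3, fun e => ⟨h4 e, fun e' => h2 (by
    show maxElemAbelianOrder U * N + Nat.card (JT U) = maxElemAbelianOrder T * N + Nat.card (JT T)
    rw [e, show Nat.card (JT U) = Nat.card (JT T) from e'])⟩⟩

/-- Without straddling groups an involution of `L` is moved out of `L` by elements outside `L`. -/
theorem mem_of_conj_mem {L : Subgroup G} {S : Sylow 2 G} (hL : IsTwoLocal L) (hcov : Covers L S)
    (hno : ¬ (straddlingTwoSubgroups L).Nonempty) {s g : G} (hs : s ∈ L) (hs2 : s ^ 2 = 1) (hs1 : s ≠ 1)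
    (hgs : g * s * g⁻¹ ∈ L) : g ∈ L := by
  haveI : Fact (Nat.Prime 2) := ⟨Nat.prime_two⟩
  have hnorm : ∀ U : Subgroup G, IsPGroup 2 U → U ≠ ⊥ → U ≤ L → Subgroup.normalizer (U : Set G) ≤ L := by
    intro U hU hU1 hUL
    by_contra hcon
    exact hno ⟨U, hU, hU1, hUL, _, ⟨U, hU, hU1, rfl⟩, Subgroup.le_normalizer, hcon⟩
  have hNS : Subgroup.normalizer ((S : Subgroup G) : Set G) ≤ L := by
    have hS1 : (S : Subgroup G) ≠ ⊥ := fun e => by
      obtain ⟨K, hK, -⟩ := hcov.comp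
      refine hK.ne_bot (le_bot_iff.mp ?_)
      have hJ : JT (S : Subgroup G) = ⊥ := le_bot_iff.mp (e ▸ JT_le (S : Subgroup G))
      rw [← hK.comm, hJ, Subgroup.commutator_bot_right]
    exact (normalizer_le_normalizer_JT _).trans (hcov.all _
      ⟨_, isPGroup_JT S.isPGroup', JT_ne_bot S.isPGroup' hS1, rfl⟩ Subgroup.le_normalizer)
  set u := g * s * g⁻¹ with hu
  have hu2 : u ^ 2 = 1 := by
    rw [hu, pow_two, show g * s * g⁻¹ * (g * s * g⁻¹) = g * (s * s) * g⁻¹ by group, ← pow_two, hs2,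
      mul_one, mul_inv_cancel]
  have hu1 : u ≠ 1 := fun e => hs1 (conj_eq_one_iff.mp e)
  have huD : u ∈ L ⊓ LocalEven.cj g L := ⟨hgs, ⟨s, hs, rfl⟩⟩
  obtain ⟨U, hU, huU⟩ := exists_sylowTwoIn_ge (PLocal.isPGroup_of_EA (PLocal.isEA_zpowers hu2))
    (Subgroup.zpowers_le.mpr huD)
  have hU1 : U ≠ ⊥ := fun e => hu1 (Subgroup.mem_bot.mp (e ▸ huU (Subgroup.mem_zpowers u)))
  have hNU : Subgroup.normalizer (U : Set G) ≤ L ⊓ LocalEven.cj g L := by
    refine le_inf (hnorm U hU.2.1 hU1 (hU.1.trans inf_le_left)) ?_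
    have h1 : LocalEven.cj g⁻¹ U ≤ L := by
      have := cj_mono (g := g⁻¹) (hU.1.trans inf_le_right)
      rwa [cj_cj, inv_mul_cancel, cj_one] at this
    have hne : LocalEven.cj g⁻¹ U ≠ ⊥ := fun e => hU1 (by
      have h2 := congrArg (LocalEven.cj g) e
      rw [cj_cj, mul_inv_cancel, cj_one] at h2
      rw [h2]; exact Subgroup.map_bot _)
    have h3 := cj_mono (g := g) (hnorm _ (isPGroup_cj hU.2.1) hne h1)
    rwa [cj_normalizer, cj_cj, mul_inv_cancel, cj_one] at h3
  obtain ⟨P, hP⟩ := hU.2.1.exists_le_sylow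
  have hUP : U = (P : Subgroup G) := by
    by_contra hne
    obtain ⟨x, hx, hxN, hxU⟩ := exists_between P.isPGroup' hP hne
    have h4 : U ⊔ Subgroup.zpowers x = U := (isSylowTwoIn_isMaxP hU).2.2 _
      (P.isPGroup'.to_le (sup_le hP (Subgroup.zpowers_le.mpr hx)))
      (sup_le hU.1 (Subgroup.zpowers_le.mpr (hNU hxN))) le_sup_left
    exact hxU (h4 ▸ Subgroup.mem_sup_right (Subgroup.mem_zpowers x))
  have hSL : IsSylowTwoIn (S : Subgroup G) L := by
    obtain ⟨S', hS', hle⟩ := exists_sylowTwoIn_ge S.isPGroup' (Subgroup.le_normalizer.trans hNS)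
    rwa [S.3 hS'.2.1 hle] at hS'
  obtain ⟨a, ha, hla⟩ := IsSylowTwoIn.exists_conj_le hSL hU.2.1 (hU.1.trans inf_le_left)
  have hUg : LocalEven.cj g⁻¹ U ≤ L := by
    have := cj_mono (g := g⁻¹) (hU.1.trans inf_le_right)
    rwa [cj_cj, inv_mul_cancel, cj_one] at this
  obtain ⟨b, hb, hlb⟩ := IsSylowTwoIn.exists_conj_le hSL (isPGroup_cj hU.2.1) hUg
  have hcard : Nat.card U = Nat.card (S : Subgroup G) := by
    rw [hUP, P.card_eq_multiplicity, ← S.card_eq_multiplicity]
  have e1 : U = LocalEven.cj a (S : Subgroup G) :=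
    Subgroup.eq_of_le_of_card_ge hla (by rw [card_cj, hcard])
  have e2 : LocalEven.cj g⁻¹ U = LocalEven.cj b (S : Subgroup G) :=
    Subgroup.eq_of_le_of_card_ge hlb (by rw [card_cj, card_cj, hcard])
  have h5 : a⁻¹ * g * b ∈ Subgroup.normalizer ((S : Subgroup G) : Set G) := by
    rw [← cj_eq_self_iff, mul_assoc, ← cj_cj, ← cj_cj, ← e2, cj_cj g, mul_inv_cancel, cj_one, e1, cj_cj,
      inv_mul_cancel, cj_one]
  have h6 := L.mul_mem (L.mul_mem ha (hNS h5)) (L.inv_mem hb)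
  rwa [show a * (a⁻¹ * g * b) * b⁻¹ = g by group] at h6

/-- There is no covering 2-local subgroup. -/
theorem no_covers (hchar : IsCharacteristicTwoType G)
    (hN : ∀ N : Subgroup G, IsTwoLocal N → Group.IsSolvable ↥N)
    (hZ : ∀ S : Sylow 2 G, Subgroup.centralizer (omegaCenterOf (S : Subgroup G) : Set G) ≤
      Subgroup.normalizer ((S : Subgroup G) : Set G))
    (hO : pCore 2 G = ⊥) {L : Subgroup G} {S : Sylow 2 G} (hcov : Covers L S) : False := by
  haveI : Fact (Nat.Prime 2) := ⟨Nat.prime_two⟩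
  obtain ⟨K, hKc, hKL⟩ := hcov.comp
  have hS1 : (S : Subgroup G) ≠ ⊥ := fun e => by
    refine hKc.ne_bot (le_bot_iff.mp ?_)
    have hJ : JT (S : Subgroup G) = ⊥ := le_bot_iff.mp (e ▸ JT_le (S : Subgroup G))
    rw [← hKc.comm, hJ, Subgroup.commutator_bot_right]
  have hNJ : Subgroup.normalizer (JT (S : Subgroup G) : Set G) ≤ L :=
    hcov.all _ ⟨_, isPGroup_JT S.isPGroup', JT_ne_bot S.isPGroup' hS1, rfl⟩ Subgroup.le_normalizer
  have hSL : (S : Subgroup G) ≤ L :=
    (Subgroup.le_normalizer.trans (normalizer_le_normalizer_JT _)).trans hNJ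
  have hL2 := hcov.local2
  have hnJQ : ¬ JT (S : Subgroup G) ≤ pCoreOf 2 L := fun hle => by
    refine hKc.K_not_pGroup ((isPGroup_op L).to_le ?_)
    rw [← hKc.comm]
    exact (Subgroup.commutator_mono le_rfl hle).trans
      (Subgroup.le_normalizer_iff_commutator_le_right.mp (hKL.trans (map_pCore_normalized L)))
  have overS : ∀ S₁ : Sylow 2 G, (S₁ : Subgroup G) ≤ L → Over (S₁ : Subgroup G) L := by
    intro S₁ h1
    obtain ⟨U, hU, hle⟩ := exists_sylowTwoIn_ge S₁.isPGroup' h1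
    rw [S₁.3 hU.2.1 hle] at hU
    have hs := hN L hL2
    obtain ⟨W, hW, hW1, rfl⟩ := hL2
    exact ⟨hU, charTwo_normalizer hchar hW hW1, hs, hZ⟩
  have o := overS S hSL
  by_cases hstr : (straddlingTwoSubgroups L).Nonempty
  · obtain ⟨T, hT⟩ := exists_maxStraddling hstr
    have c : Ctx L T := ⟨hchar, hN, hZ, ⟨S, hNJ⟩, hT⟩
    obtain ⟨S₁, hTS, hS₁L⟩ := c.exists_sylow
    obtain ⟨l, hl, hle⟩ := IsSylowTwoIn.exists_conj_le o.sylT S₁.isPGroup' hS₁L
    have hS₁ : (S₁ : Subgroup G) = LocalEven.cj l (S : Subgroup G) :=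
      Subgroup.eq_of_le_of_card_ge hle (by rw [card_cj, S.card_eq_multiplicity, ← S₁.card_eq_multiplicity])
    have hall : ∀ X : Subgroup G, IsTwoLocal X → JT (S₁ : Subgroup G) ≤ X → X ≤ L := by
      intro X hX hJX
      obtain ⟨W, hW, hW1, rfl⟩ := hX
      have h1 : JT (S : Subgroup G) ≤ Subgroup.normalizer (LocalEven.cj l⁻¹ W : Set G) := by
        have := cj_mono (g := l⁻¹) hJX
        rwa [← JT_cj, hS₁, cj_cj, inv_mul_cancel, cj_one, cj_normalizer] at this
      have hne : LocalEven.cj l⁻¹ W ≠ ⊥ := fun e => hW1 (by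
        have h2 := congrArg (LocalEven.cj l) e
        rw [cj_cj, mul_inv_cancel, cj_one] at h2
        rw [h2]; exact Subgroup.map_bot _)
      have h3 := cj_mono (g := l) (hcov.all _ ⟨_, isPGroup_cj hW, hne, rfl⟩ h1)
      rwa [cj_normalizer, cj_cj, mul_inv_cancel, cj_one, cj_eq_self_iff.mpr (Subgroup.le_normalizer hl)] at h3
    have hne : T ≠ (S₁ : Subgroup G) := fun e => by
      obtain ⟨-, -, -, X, hX, hTX, hXL⟩ := hT.1
      exact hXL (hall X hX ((e ▸ JT_le _ : JT (S₁ : Subgroup G) ≤ T).trans hTX))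
    have hB : ¬ Glob L T := fun hG => hne ((c.covers_of_glob hG).1 _ S₁.isPGroup' hTS).symm
    have F := c.fam hB
    obtain ⟨K₁, hK₁o⟩ := c.exists_outside
    have hK₁ := c.outside_mem hB hK₁o
    have m := c.mem0_member (c.small hB) hK₁
    have hP₁ := c.famP_self hK₁
    obtain ⟨x, hx, hxN, hxT⟩ := exists_between S₁.isPGroup' hTS hne
    have hK₂ : famP L T T (LocalEven.cj x K₁) := by
      have := F.conj x hP₁
      rwa [cj_eq_self_iff.mpr hxN] at this
    have hne2 : K₁ ≠ LocalEven.cj x K₁ := fun e => hxT (by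
      have hxW : x ∈ Subgroup.normalizer (wOf K₁ : Set G) :=
        normalizer_le_normalizer_wOf K₁ (cj_eq_self_iff.mp e.symm)
      have := c.eq_T (normalizer_isTwoLocal m.jc) (fun hle => hK₁o.2.1 (JC.K_normalizes_W.trans hle))
        (sup_le m.ovW.sylT.1 (Subgroup.zpowers_le.mpr hxW))
        (sup_le c.T_le (Subgroup.zpowers_le.mpr (hS₁L hx)))
        (S₁.isPGroup'.to_le (sup_le hTS (Subgroup.zpowers_le.mpr hx))) le_sup_left
      exact this ▸ Subgroup.mem_sup_right (Subgroup.mem_zpowers x))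
    obtain ⟨C, D, cd⟩ := F.core
    set Q₁ := pCoreOf 2 (lK T K₁) with hQ₁
    have hQ2 : LocalEven.cj x Q₁ = pCoreOf 2 (lK T (LocalEven.cj x K₁)) := by
      rw [hQ₁, cj_core, cj_lK, cj_eq_self_iff.mpr hxN]
    -- the two `O₂`s are those of `C` and `D`
    have hpair : ∀ A : Subgroup G, (A ≤ pCoreOf 2 (lK T C) ∨ A ≤ pCoreOf 2 (lK T D)) →
        A ≤ Q₁ ∨ A ≤ LocalEven.cj x Q₁ := by
      intro A hA
      rcases cd.only _ hP₁ with e | e <;> rcases cd.only _ hK₂ with e' | e'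
      · exact absurd (e.trans e'.symm) hne2
      · rw [hQ2, hQ₁, e', e]; exact hA
      · rw [hQ2, hQ₁, e', e]; exact hA.symm
      · exact absurd (e.trans e'.symm) hne2
    have hinf : Q₁ ⊓ LocalEven.cj x Q₁ ≤ zJ T := by
      rw [← cd.inf_eq]
      rcases cd.only _ hP₁ with e | e <;> rcases cd.only _ hK₂ with e' | e'
      · exact absurd (e.trans e'.symm) hne2
      · rw [hQ2, hQ₁, e', e]
      · rw [hQ2, hQ₁, e', e, inf_comm]
      · exact absurd (e.trans e'.symm) hne2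
    have o₁ := overS S₁ hS₁L
    set Y := yOf L with hY
    have hYS : Y ≤ (S₁ : Subgroup G) := (omegaCenter_le _).trans o₁.Q_le_T
    have hLY : L ≤ Subgroup.normalizer (Y : Set G) := le_normalizer_yOf L
    have hTL : T ≤ L := c.T_le
    have hxY : LocalEven.cj x (Y ⊓ T) = Y ⊓ T := by
      rw [cj_inf, cj_eq_self_iff.mpr (hLY (hS₁L hx)), cj_eq_self_iff.mpr hxN]
    have hYTz : Y ⊓ T ≤ zJ T := by
      rcases hpair _ (cd.ea _ inf_le_right (PLocal.isEA_mono (omegaCenter_isEA _) inf_le_left)) with h | h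
      · refine le_trans (le_inf h ?_) hinf
        rw [← hxY]; exact cj_mono h
      · refine le_trans (le_inf ?_ h) hinf
        have := cj_mono (g := x⁻¹) (hxY.le.trans h |> fun _ => h)
        rw [cj_cj, inv_mul_cancel, cj_one] at this
        refine le_trans (le_of_eq ?_) this
        conv_rhs => rw [← hxY, cj_cj, inv_mul_cancel, cj_one]
    have hL1 : ¬ lK T K₁ ≤ L := fun hle => hK₁o.2.1 (m.K_le.trans hle)
    have hQ1ne : Q₁ ≠ ⊥ := fun e => m.jc.W_ne_bot (le_bot_iff.mp (e ▸ m.W_le_Y.trans m.Y_le_Q))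
    have hYN : Y ⊓ Subgroup.normalizer (T : Set G) ≤ T := by
      rintro y ⟨hy, hyN⟩
      have hyQ : y ∈ Subgroup.normalizer (Q₁ : Set G) := by
        rw [← cj_eq_self_iff]
        refine Subgroup.eq_of_le_of_card_ge ?_ (card_cj y Q₁).ge
        rintro _ ⟨q, hq, rfl⟩
        show y * q * y⁻¹ ∈ Q₁
        have hqT : q ∈ T := m.Q_le hq
        have h1 : ⁅y, q⁆ ∈ Y ⊓ T := by
          rw [commutatorElement_def]
          refine ⟨?_, T.mul_mem ((Subgroup.mem_normalizer_iff.mp hyN q).mp hqT) (T.inv_mem hqT)⟩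
          rw [show y * q * y⁻¹ * q⁻¹ = y * (q * y⁻¹ * q⁻¹) by group]
          exact Y.mul_mem hy ((Subgroup.mem_normalizer_iff.mp (hLY (hTL hqT)) _).mp (Y.inv_mem hy))
        have h2 : ⁅y, q⁆ ∈ Q₁ := (m.zJ_le_Y.trans m.Y_le_Q) (hYTz h1)
        rw [show y * q * y⁻¹ = ⁅y, q⁆ * q by rw [commutatorElement_def]; group]
        exact Q₁.mul_mem h2 hq
      have hNQ : ¬ Subgroup.normalizer (Q₁ : Set G) ≤ L := fun hle => hL1 (m.lK_le_norm_Q.trans hle)
      have := c.eq_T ⟨Q₁, isPGroup_op _, hQ1ne, rfl⟩ hNQ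
        (sup_le (m.T_le.trans m.lK_le_norm_Q) (Subgroup.zpowers_le.mpr hyQ))
        (sup_le hTL (Subgroup.zpowers_le.mpr (yOf_le L hy)))
        (S₁.isPGroup'.to_le (sup_le hTS (Subgroup.zpowers_le.mpr (hYS hy)))) le_sup_left
      exact this ▸ Subgroup.mem_sup_right (Subgroup.mem_zpowers y)
    have hYT : Y ≤ T := by
      by_contra hcon
      obtain ⟨w, hw, hwN, hwT⟩ := exists_between
        (S₁.isPGroup'.to_le (sup_le hYS hTS) : IsPGroup 2 ↥(Y ⊔ T)) le_sup_right
        (fun e => hcon (le_sup_left.trans e.ge))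
      obtain ⟨y, hy, t, ht, rfl⟩ := Coprime.exists_mul_of_mem_sup (hTL.trans hLY) hw
      have := Subgroup.mul_mem _ hwN (Subgroup.le_normalizer (T.inv_mem ht))
      rw [mul_inv_cancel_right] at this
      exact hwT (T.mul_mem (hYN ⟨hy, this⟩) ht)
    have hYz : Y ≤ zJ T := (le_inf le_rfl hYT).trans hYTz
    have hnJ₁ : ¬ JT (S₁ : Subgroup G) ≤ pCoreOf 2 L := fun hle => hnJQ (by
      have := cj_mono (g := l⁻¹) hle
      rw [← JT_cj, hS₁, cj_cj, inv_mul_cancel, cj_one, cj_core,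
        cj_eq_self_iff.mpr (Subgroup.le_normalizer (L.inv_mem hl))] at this
      exact this)
    obtain ⟨P, hP⟩ := o₁.exists_plane hnJ₁
    have hP4 := hP.card
    have hz4 := c.small hB
    have hPz : P = zJ T := Subgroup.eq_of_le_of_card_ge (hP.le.trans hYz) (by omega)
    have hhK : hK T K₁ ≠ ⊥ := fun e => by
      have := m.jc.card_zJ c.T_pGroup
      rw [e, Subgroup.card_bot, ← hPz, hP4] at this
      omega
    obtain ⟨⟨u, hu⟩, hu1⟩ := Subgroup.ne_bot_iff_exists_ne_one.mp hhK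
    have hu1' : u ≠ 1 := fun e => hu1 (Subtype.ext e)
    obtain ⟨p, hp, hp1⟩ := c.exists_central S₁ hTS
    have hpY : p ∈ Y := by
      obtain ⟨-, hpC, hp2⟩ := mem_omegaCenter.mp hp
      have hpC' := Subgroup.centralizer_le (SetLike.coe_subset_coe.mpr o₁.Q_le_T) hpC
      exact mem_omegaCenter.mpr ⟨o₁.char2 hpC', hpC', hp2⟩
    have hpP : p ∈ P := hPz ▸ hYz hpY
    have huP : u ∈ P := hPz ▸ hu.1
    obtain ⟨k, hk, hku⟩ : ∃ k ∈ L, u = k * p * k⁻¹ := by
      obtain ⟨d, hd, hdm, hdf, hd3⟩ := hP.rot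
      have hdL : d ∈ L := hOf_le L (Subgroup.commutator_le_self _ hd)
      have td : Typ (yOf L) P d := ⟨hP.le, hP.card, le_normalizer_yOf L hdL, hdm, hdf, hd3.2⟩
      rcases td.four (omegaCenter_isEA _) hpP hp1 huP with e | e | e | e
      · exact absurd e hu1'
      · exact ⟨1, L.one_mem, by rw [e]; group⟩
      · exact ⟨d, hdL, e⟩
      · exact ⟨d * d, L.mul_mem hdL hdL, e.trans (by group)⟩
    have hCp : Subgroup.centralizer ({p} : Set G) ≤ L := hall _
      (centralizer_isTwoLocal (mem_omegaCenter.mp hp).2.2 hp1) (fun j hj =>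
        Subgroup.mem_centralizer_singleton_iff.mpr
          (Subgroup.mem_centralizer_iff.mp (mem_omegaCenter.mp hp).2.1 j (JT_le _ hj)))
    refine hK₁o.2.1 ((mem_singleton_centralizer hu.2).trans ?_)
    have := cj_mono (g := k) hCp
    rwa [cj_centralizer_singleton, ← hku, cj_eq_self_iff.mpr (Subgroup.le_normalizer hk)] at this
  · -- strongly embedded
    have hS2 : IsPGroup 2 (S : Subgroup G) := S.isPGroup'
    obtain ⟨t, htJ, ht2, htQ⟩ : ∃ t ∈ JT (S : Subgroup G), t ^ 2 = 1 ∧ t ∉ pCoreOf 2 L := by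
      by_contra hcon
      push Not at hcon
      exact hnJQ (JT_le_of fun A hA a ha => hcon a (hA.le_JT ha) (hA.2.1.2 a ha))
    have ht1 : t ≠ 1 := fun e => htQ (e ▸ one_mem _)
    have htL : t ∈ L := hSL (JT_le _ htJ)
    have hQ1 : pCoreOf 2 L ≠ ⊥ := fun e => hS1 ((Subgroup.eq_bot_iff_forall _).mpr fun w _ => by
      have h1 := o.char2 (show w ∈ Subgroup.centralizer (pCoreOf 2 L : Set G) from
        Subgroup.mem_centralizer_iff.mpr fun x hx => by
          rw [e] at hx; rw [Subgroup.mem_bot.mp hx, one_mul, mul_one])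
      rw [e] at h1
      exact Subgroup.mem_bot.mp h1)
    obtain ⟨s, hsQ, hso⟩ := exists_orderOf_eq (p := 2) (isPGroup_op (p := 2) L) hQ1
    have hs2 : s ^ 2 = 1 := hso ▸ pow_orderOf_eq_one s
    have hs1 : s ≠ 1 := fun e => by
      rw [e, orderOf_one] at hso
      exact absurd hso (by norm_num)
    have hsL : s ∈ L := op_le L hsQ
    obtain ⟨g, hg⟩ : ∃ g : G, g ∉ L := by
      by_contra hcon
      push Not at hcon
      obtain ⟨V, hV, hV1, rfl⟩ := hL2
      haveI : V.Normal := Subgroup.normalizer_eq_top_iff.mp (eq_top_iff.mpr fun x _ => hcon x)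
      exact hV1 (le_bot_iff.mp (hO ▸ Core.le_pCore ‹V.Normal› hV))
    set v := g * t * g⁻¹ with hv
    have hv2 : v * v = 1 := by
      rw [hv, show g * t * g⁻¹ * (g * t * g⁻¹) = g * (t * t) * g⁻¹ by group, ← pow_two, ht2, mul_one,
        mul_inv_cancel]
    have hvL : v ∉ L := fun h => hg (mem_of_conj_mem hL2 hcov hstr htL ht2 ht1 h)
    have hss : s * s = 1 := by rwa [pow_two] at hs2
    have hsi : s⁻¹ = s := inv_eq_of_mul_eq_one_right hss
    have hvi : v⁻¹ = v := inv_eq_of_mul_eq_one_right hv2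
    have hcentL : ∀ {w : G}, w ∈ L → w ^ 2 = 1 → w ≠ 1 → Subgroup.centralizer ({w} : Set G) ≤ L := by
      intro w hw hw2 hw1 x hx
      refine mem_of_conj_mem hL2 hcov hstr hw hw2 hw1 ?_
      rw [Subgroup.mem_centralizer_singleton_iff.mp hx, mul_inv_cancel_right]
      exact hw
    have hinvs : ∀ n : ℕ, s * (s * v) ^ n * s⁻¹ = ((s * v) ^ n)⁻¹ := fun n => by
      rw [← conj_pow, ← inv_pow]
      congr 1
      rw [mul_inv_rev, hsi, hvi, ← mul_assoc, hss, one_mul]
    rcases Nat.even_or_odd (orderOf (s * v)) with ⟨m, hm⟩ | ⟨m, hm⟩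
    · set w := (s * v) ^ m with hw
      have hm0 : m ≠ 0 := fun e => by
        have := orderOf_pos (s * v); omega
      have hw1 : w ≠ 1 := fun e => by
        have := orderOf_le_of_pow_eq_one (Nat.pos_of_ne_zero hm0) e
        omega
      have hw2 : w ^ 2 = 1 := by
        rw [hw, ← pow_mul, show m * 2 = orderOf (s * v) by omega, pow_orderOf_eq_one]
      have hwi : w⁻¹ = w := inv_eq_of_mul_eq_one_right (by rwa [pow_two] at hw2)
      have hsw : s * w = w * s := mul_inv_eq_iff_eq_mul.mp ((hinvs m).trans hwi)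
      have hwL : w ∈ L := hcentL hsL hs2 hs1 (Subgroup.mem_centralizer_singleton_iff.mpr hsw.symm)
      have hvw : v * w = w * v := by
        have h1 : Commute (s * v) w := (Commute.refl (s * v)).pow_right m
        have h2 : Commute s w := hsw
        have h3 := h2.inv_left.mul_left h1
        rwa [inv_mul_cancel_left] at h3
      exact hvL (hcentL hwL hw2 hw1 (Subgroup.mem_centralizer_singleton_iff.mpr hvw))
    · set h := (s * v) ^ m with hh
      have h1 : h * s * h⁻¹ = v := by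
        have h2 : s * h = h⁻¹ * s := mul_inv_eq_iff_eq_mul.mp (hinvs m)
        have h3 : h * (h * (s * v)) = 1 := by
          rw [← pow_succ, hh, ← pow_add, show m + (m + 1) = orderOf (s * v) by omega, pow_orderOf_eq_one]
        have h4 : s * h⁻¹ = h * s := by
          calc s * h⁻¹ = h * (h⁻¹ * s) * h⁻¹ := by group
            _ = h * (s * h) * h⁻¹ := by rw [h2]
            _ = h * s := by group
        calc h * s * h⁻¹ = h * (s * h⁻¹) := mul_assoc _ _ _
          _ = h * h * s := by rw [h4, ← mul_assoc]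
          _ = h * (h * (s * v)) * (v⁻¹ * s⁻¹) * s := by group
          _ = v := by rw [h3, one_mul, mul_assoc, inv_mul_cancel, mul_one, hvi]
      have h5 : (g⁻¹ * h) * s * (g⁻¹ * h)⁻¹ = t := by
        rw [show (g⁻¹ * h) * s * (g⁻¹ * h)⁻¹ = g⁻¹ * (h * s * h⁻¹) * g by group, h1, hv]
        group
      have h6 := mem_of_conj_mem hL2 hcov hstr hsL hs2 hs1 (g := g⁻¹ * h) (h5.symm ▸ htL)
      exact htQ (h5 ▸ (Subgroup.mem_normalizer_iff.mp (map_pCore_normalized L h6) s).mp hsQ)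

/-- The global case is impossible. -/
theorem Ctx.not_glob {M T : Subgroup G} (c : Ctx M T) (hO : pCore 2 G = ⊥) : ¬ Glob M T := fun hG => by
  obtain ⟨-, L, S, -, hcov⟩ := c.covers_of_glob hG
  exact no_covers c.hL c.hN c.hZ hO hcov

end Cfsg.Agent.LocalEven.JComp
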