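import Cfsg.Agent.LocalEven.JCompOver

/-! A `J(T)`-component of a member of `jOvergroups T`: subnormality and control by `N(W)`. -/

set_option autoImplicit false
set_option linter.style.haveILetI false
set_option linter.unusedSectionVars false

open scoped commutatorElement

namespace Cfsg.Agent.LocalEven.JComp

open Cfsg

universe u

variable {G : Type u} [Group G] [Finite G]

/-- A subgroup generated by elements of odd order in a 2-power extension of `K` lies in `K`. -/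
theorem le_of_odd_gen {K Q X : Subgroup G} (hQK : Q ≤ Subgroup.normalizer (K : Set G))
    (hQ : IsPGroup 2 Q) (hX : X ≤ K ⊔ Q)
    (hgen : Subgroup.closure {g : G | g ∈ X ∧ Odd (orderOf g)} = X) : X ≤ K := by
  rw [← hgen, Subgroup.closure_le]
  rintro x ⟨hx, hxo⟩
  obtain ⟨k, hk, q, hq, he⟩ := Coprime.exists_mul_of_mem_sup hQK (hX hx)
  set M := K ⊔ Q
  haveI : (K.subgroupOf M).Normal :=
    Subgroup.normal_subgroupOf_of_le_normalizer (sup_le Subgroup.le_normalizer hQK)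
  have h1 : (QuotientGroup.mk (⟨x, hX hx⟩ : ↥M) : ↥M ⧸ K.subgroupOf M) =
      QuotientGroup.mk (⟨q, Subgroup.mem_sup_right hq⟩ : ↥M) := by
    refine QuotientGroup.eq.mpr ?_
    show x⁻¹ * q ∈ K
    rw [← he, mul_inv_rev]
    simpa [mul_assoc] using (Subgroup.mem_normalizer_iff.mp
      (Subgroup.inv_mem _ (hQK hq)) _).mp (K.inv_mem hk)
  obtain ⟨n, hn⟩ := hQ ⟨q, hq⟩
  have h2 : orderOf (QuotientGroup.mk (⟨x, hX hx⟩ : ↥M) : ↥M ⧸ K.subgroupOf M) ∣ 2 ^ n := by
    refine orderOf_dvd_of_pow_eq_one ?_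
    rw [h1, ← QuotientGroup.mk_pow, show (⟨q, Subgroup.mem_sup_right hq⟩ : ↥M) ^ 2 ^ n = 1 from
      Subtype.ext (congrArg Subtype.val hn :), QuotientGroup.mk_one]
  have h3 : orderOf (QuotientGroup.mk (⟨x, hX hx⟩ : ↥M) : ↥M ⧸ K.subgroupOf M) ∣ orderOf x :=
    (orderOf_map_dvd (QuotientGroup.mk' (K.subgroupOf M)) (⟨x, hX hx⟩ : ↥M)).trans
      (dvd_of_eq (Subgroup.orderOf_mk _ _))
  exact (QuotientGroup.eq_one_iff (⟨x, hX hx⟩ : ↥M)).mp (orderOf_eq_one_iff.mp
    (Nat.eq_one_of_dvd_coprimes ((Nat.coprime_two_left.mpr hxo).pow_left n) h2 h3))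

theorem commutator_mem_conj {x a b : G} : x * ⁅a, b⁆ * x⁻¹ = ⁅x * a * x⁻¹, x * b * x⁻¹⁆ := by
  simp only [commutatorElement_def]; group

namespace Over

variable {T L K : Subgroup G}

theorem K_le_H (o : Over T L) (h : JC (JT T) K) (hKL : K ≤ L) : K ≤ hOf L := by
  conv_lhs => rw [← h.comm]
  exact (Subgroup.commutator_mono hKL o.JT_le_hOf).trans
    (Subgroup.le_normalizer_iff_commutator_le_right.mp (le_normalizer_hOf L))

theorem K_le_H' (o : Over T L) (h : JC (JT T) K) (hKL : K ≤ L) : K ≤ ⁅hOf L, hOf L⁆ := by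
  conv_lhs => rw [← h.comm]
  exact Subgroup.commutator_mono (o.K_le_H h hKL) o.JT_le_hOf

theorem R_le_cOf (o : Over T L) (h : JC (JT T) K) (hKL : K ≤ L) : pCoreOf 2 K ≤ cOf L := by
  refine le_trans ?_ (((Subgroup.commutator_mono (o.K_le_H' h hKL) (o.K_le_H' h hKL))).trans
    o.derived_derived_le)
  intro r hr
  have hrK : r ∈ K := JC.R_le hr
  -- `K / [K, K]` is generated by elements of odd order and abelian
  set N := (⁅K, K⁆).subgroupOf K
  have hN : N = commutator ↥K := by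
    rw [commutator_def]
    refine Subgroup.map_injective K.subtype_injective ?_
    rw [Subgroup.map_subgroupOf_eq_of_le (Subgroup.commutator_le_self K), Subgroup.map_commutator,
      ← MonoidHom.range_eq_map, Subgroup.range_subtype]
  let f : ↥K →* Abelianization ↥K := Abelianization.of
  have hodd : ∀ x : Abelianization ↥K, Odd (orderOf x) := by
    intro x
    obtain ⟨⟨k, hk⟩, rfl⟩ : ∃ k, f k = x := QuotientGroup.mk_surjective x
    have hk' : k ∈ Subgroup.closure {g : G | g ∈ K ∧ Odd (orderOf g)} := by rw [h.gen]; exact hk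
    suffices hsuf : ∀ hk : k ∈ K, Odd (orderOf (f ⟨k, hk⟩)) from hsuf hk
    refine (Subgroup.closure_induction (p := fun g _ => g ∈ K ∧ ∀ hk : g ∈ K, Odd (orderOf (f ⟨g, hk⟩)))
      ?_ ?_ ?_ ?_ hk').2
    · rintro g ⟨hg, hgo⟩
      refine ⟨hg, fun _ => Odd.of_dvd_nat hgo ?_⟩
      exact (orderOf_map_dvd f _).trans (dvd_of_eq (Subgroup.orderOf_mk _ _))
    · exact ⟨one_mem _, fun h1 => by
        rw [show (⟨1, h1⟩ : ↥K) = 1 from rfl, map_one, orderOf_one]; exact odd_one⟩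
    · rintro a b - - ⟨ha, ha'⟩ ⟨hb, hb'⟩
      refine ⟨K.mul_mem ha hb, fun hab => ?_⟩
      rw [show (⟨a * b, hab⟩ : ↥K) = ⟨a, ha⟩ * ⟨b, hb⟩ from rfl, map_mul]
      exact Odd.of_dvd_nat ((ha' ha).mul (hb' hb))
        ((Commute.all _ _).orderOf_mul_dvd_mul_orderOf)
    · rintro a - ⟨ha, ha'⟩
      refine ⟨K.inv_mem ha, fun hia => ?_⟩
      rw [show (⟨a⁻¹, hia⟩ : ↥K) = (⟨a, ha⟩)⁻¹ from rfl, map_inv, orderOf_inv]
      exact ha' ha
  obtain ⟨n, hn⟩ := (JC.R_pGroup (K := K)) ⟨r, hr⟩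
  have h1 : orderOf (f ⟨r, hrK⟩) ∣ 2 ^ n := orderOf_dvd_of_pow_eq_one (by
    rw [← map_pow, show (⟨r, hrK⟩ : ↥K) ^ 2 ^ n = 1 from Subtype.ext (congrArg Subtype.val hn :), map_one])
  have h2 : f ⟨r, hrK⟩ = 1 := orderOf_eq_one_iff.mp (Nat.eq_one_of_dvd_coprimes
    ((Nat.coprime_two_left.mpr (hodd _)).pow_left n) h1 dvd_rfl)
  have h3 : (⟨r, hrK⟩ : ↥K) ∈ commutator ↥K := (QuotientGroup.eq_one_iff (⟨r, hrK⟩ : ↥K)).mp h2
  rw [← hN] at h3
  exact h3

theorem R_le_Q (o : Over T L) (h : JC (JT T) K) (hKL : K ≤ L) : pCoreOf 2 K ≤ pCoreOf 2 L :=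
  o.mem_Q_of_two JC.R_pGroup (o.R_le_cOf h hKL)

theorem Q_normalizes_K (o : Over T L) (h : JC (JT T) K) (hKL : K ≤ L) :
    pCoreOf 2 L ≤ Subgroup.normalizer (K : Set G) :=
  S2941.normalizes_of_commutator h.gen h.comm (isPGroup_JT o.sylT.2.1)
    ((sup_le hKL ((JT_le T).trans o.sylT.1)).trans (map_pCore_normalized L))
    (o.Q_le_T.trans (Subgroup.le_normalizer.trans (normalizer_le_normalizer_JT T)))

theorem C_normalizes_K (o : Over T L) (h : JC (JT T) K) (hKL : K ≤ L) :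
    cOf L ≤ Subgroup.normalizer (K : Set G) :=
  S2941.normalizes_of_commutator h.gen h.comm (isPGroup_JT o.sylT.2.1)
    ((sup_le hKL ((JT_le T).trans o.sylT.1)).trans (le_normalizer_cOf L)) o.cOf_normalizes_J

theorem d_not_mem_C (o : Over T L) (h : JC (JT T) K) (hKL : K ≤ L) {d : G} (hd : d ∈ K)
    (hdR : d ∉ pCoreOf 2 K) : d ∉ cOf L := fun hdC => by
  refine h.K_not_pGroup ?_
  have hKC : K ≤ cOf L := by
    conv_lhs => rw [h.K_eq_sup hd hdR]
    exact sup_le (o.R_le_cOf h hKL) (Subgroup.zpowers_le.mpr hdC)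
  refine (isPGroup_op (p := 2) L).to_le ?_
  conv_lhs => rw [← h.comm]
  exact (Subgroup.commutator_mono hKC le_rfl).trans o.J_commutator_le

theorem K_normalizes_Y (o : Over T L) (hKL : K ≤ L) : K ≤ Subgroup.normalizer (yOf L : Set G) :=
  hKL.trans (le_normalizer_yOf L)

/-- `[Y, K] ⊆ W`. -/
theorem comm_Y_mem_W (o : Over T L) (h : JC (JT T) K) (hKL : K ≤ L) {y k : G} (hy : y ∈ yOf L)
    (hk : k ∈ K) : ⁅y, k⁆ ∈ wOf K :=
  h.commutator_mem_W (omegaCenter_isEA _) (hKL.trans (le_normalizer_yOf L))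
    ((omegaCenter_le _).trans (o.Q_normalizes_K h hKL))
    ((o.R_le_cOf h hKL).trans inf_le_right) hy hk

theorem W_le_Y (o : Over T L) (h : JC (JT T) K) (hKL : K ≤ L) : wOf K ≤ yOf L := by
  obtain ⟨d, hd, hdR⟩ := h.exists_d
  obtain ⟨y, hy, hne⟩ : ∃ y ∈ yOf L, d * y ≠ y * d := by
    by_contra hcon
    push Not at hcon
    exact o.d_not_mem_C h hKL hd hdR ⟨hKL hd, Subgroup.mem_centralizer_iff.mpr fun y hy => (hcon y hy).symm⟩
  have hdN := o.K_normalizes_Y hKL hd
  set w := ⁅y, d⁆ with hwd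
  have hw : w ∈ wOf K := o.comm_Y_mem_W h hKL hy hd
  have hwY : w ∈ yOf L := by
    rw [hwd, show ⁅y, d⁆ = y * (d * y⁻¹ * d⁻¹) by rw [commutatorElement_def]; group]
    exact (yOf L).mul_mem hy ((Subgroup.mem_normalizer_iff.mp hdN _).mp ((yOf L).inv_mem hy))
  have hw1 : w ≠ 1 := fun e => hne (commutatorElement_eq_one_iff_mul_comm.mp e).symm
  intro v hv
  have h1 := (Subgroup.mem_normalizer_iff.mp hdN w).mp hwY
  rcases h.four hd hdR hw hw1 hv with rfl | rfl | rfl | rfl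
  · exact one_mem _
  · exact hwY
  · exact h1
  · exact (Subgroup.mem_normalizer_iff.mp hdN _).mp h1

/-- `W` is a plane. -/
theorem W_plane (o : Over T L) (h : JC (JT T) K) (hKL : K ≤ L) : Plane L (wOf K) := by
  obtain ⟨d, hd, hdR⟩ := h.exists_d
  have hdH := o.K_le_H h hKL hd
  obtain ⟨P, hP, p, hp, hne⟩ : ∃ P, Plane L P ∧ ∃ p ∈ P, d * p ≠ p * d := by
    by_contra hcon
    push Not at hcon
    refine o.d_not_mem_C h hKL hd hdR ⟨hKL hd, Subgroup.mem_centralizer_iff.mpr fun y hy => ?_⟩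
    suffices hs : yOf L ≤ Subgroup.centralizer ({d} : Set G) from
      Subgroup.mem_centralizer_singleton_iff.mp (hs hy)
    refine o.cover.trans (sup_le (fun u hu => ?_) (sSup_le fun P hP u hu => ?_))
    · rw [Subgroup.mem_centralizer_singleton_iff]
      exact (Subgroup.mem_centralizer_iff.mp hu.2 d hdH).symm
    · rw [Subgroup.mem_centralizer_singleton_iff]
      exact (hcon P hP u hu).symm
  set w := ⁅p, d⁆ with hwd
  have hw : w ∈ wOf K := o.comm_Y_mem_W h hKL (hP.le hp) hd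
  have hwP : w ∈ P := by
    rw [hwd, show ⁅p, d⁆ = p * (d * p⁻¹ * d⁻¹) by rw [commutatorElement_def]; group]
    exact P.mul_mem hp ((Subgroup.mem_normalizer_iff.mp (hP.norm hdH) _).mp (P.inv_mem hp))
  have hw1 : w ≠ 1 := fun e => hne (commutatorElement_eq_one_iff_mul_comm.mp e).symm
  have hle : wOf K ≤ P := by
    intro v hv
    have h1 := (Subgroup.mem_normalizer_iff.mp (hP.norm hdH) w).mp hwP
    rcases h.four hd hdR hw hw1 hv with rfl | rfl | rfl | rfl
    · exact one_mem _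
    · exact hwP
    · exact h1
    · exact (Subgroup.mem_normalizer_iff.mp (hP.norm hdH) _).mp h1
  rwa [Subgroup.eq_of_le_of_card_ge hle (le_of_eq (hP.card.trans h.card4.symm))]

/-- A component of `L` is subnormal. -/
theorem subnormal (o : Over T L) (h : JC (JT T) K) (hKL : K ≤ L) : (K.subgroupOf L).IsSubnormal := by
  set D := ⁅hOf L, hOf L⁆ with hD
  have hDL : D ≤ L := (Subgroup.commutator_le_self _).trans (hOf_le L)
  have hLD : L ≤ Subgroup.normalizer (D : Set G) :=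
    le_normalizer_comm (le_normalizer_hOf L) (le_normalizer_hOf L)
  set A := K ⊔ cOf L
  set B := D ⊔ cOf L
  have hAL : A ≤ L := sup_le hKL inf_le_left
  have hBL : B ≤ L := sup_le hDL inf_le_left
  have hAB : A ≤ B := sup_le_sup_right (o.K_le_H' h hKL) _
  have hLB : L ≤ Subgroup.normalizer (B : Set G) :=
    (le_inf hLD (le_normalizer_cOf L)).trans (Subgroup.normalizer_inf_normalizer_le_normalizer_sup _ _)
  have hBA : B ≤ Subgroup.normalizer (A : Set G) := by
    refine sup_le ?_ (le_sup_right.trans Subgroup.le_normalizer)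
    rw [Subgroup.le_normalizer_iff_commutator_le_left]
    refine (Subgroup.commutator_mono (sup_le_sup_right (o.K_le_H' h hKL) _) le_rfl).trans ?_
    refine (Subgroup.commutator_le.mpr fun x hx e he => ?_ : ⁅D ⊔ cOf L, D⁆ ≤ cOf L).trans le_sup_right
    obtain ⟨f, hf, c, hc, rfl⟩ := Coprime.exists_mul_of_mem_sup
      ((inf_le_left : cOf L ≤ L).trans hLD) hx
    rw [show ⁅f * c, e⁆ = f * (c * (e * c⁻¹ * e⁻¹)) * f⁻¹ * ⁅f, e⁆ by
      simp only [commutatorElement_def]; group]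
    refine (cOf L).mul_mem ?_ (o.derived_derived_le (Subgroup.commutator_mem_commutator hf he))
    refine (Subgroup.mem_normalizer_iff.mp (le_normalizer_cOf L (hDL hf)) _).mp ((cOf L).mul_mem hc ?_)
    exact (Subgroup.mem_normalizer_iff.mp (le_normalizer_cOf L (hDL he)) _).mp ((cOf L).inv_mem hc)
  have hBsn : (B.subgroupOf L).IsSubnormal :=
    Subgroup.Normal.isSubnormal (Subgroup.normal_subgroupOf_of_le_normalizer hLB)
  have hAsn : (A.subgroupOf L).IsSubnormal :=
    Subgroup.IsSubnormal.step _ _ (Subgroup.comap_mono hAB) hBsn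
      (Subgroup.normal_subgroupOf_of_le_normalizer fun x hx =>
      (show _ from by
        rw [← cj_eq_self_iff]
        refine Subgroup.eq_of_le_of_card_ge ?_ (card_cj x _).ge
        rintro _ ⟨y, hy, rfl⟩
        exact (Subgroup.mem_normalizer_iff.mp (hBA hx) y).mp hy))
  exact Subgroup.IsSubnormal.step _ _ (Subgroup.comap_mono le_sup_left) hAsn
    (Subgroup.normal_subgroupOf_of_le_normalizer fun x hx =>
    (show _ from by
      rw [← cj_eq_self_iff]
      refine Subgroup.eq_of_le_of_card_ge ?_ (card_cj x _).ge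
      rintro _ ⟨y, hy, rfl⟩
      exact (Subgroup.mem_normalizer_iff.mp
        ((sup_le Subgroup.le_normalizer (o.C_normalizes_K h hKL)) hx) y).mp hy))

end Over

end Cfsg.Agent.LocalEven.JComp
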