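import Cfsg.Agent.LocalEven.JCompInOver

/-! `N_L(W) ≤ N(K)` for a component `K` of a member `L` of `jOvergroups T`. -/

set_option autoImplicit false
set_option linter.style.haveILetI false
set_option linter.unusedSectionVars false

open scoped commutatorElement

namespace Cfsg.Agent.LocalEven.JComp

open Cfsg

universe u

variable {G : Type u} [Group G] [Finite G]

namespace JC

variable {J K : Subgroup G}

/-- Fixing two involutions of `W` means centralizing it. -/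
theorem centralizes_of_fix_two (h : JC J K) {d z x : G} (hd : d ∈ K) (hdR : d ∉ pCoreOf 2 K)
    (hz : z ∈ wOf K) (hz1 : z ≠ 1) (h1 : x * z = z * x)
    (h2 : x * (d * z * d⁻¹) = d * z * d⁻¹ * x) : x ∈ Subgroup.centralizer (wOf K : Set G) := by
  rw [Subgroup.mem_centralizer_iff]
  intro t ht
  rcases h.four hd hdR hz hz1 ht with rfl | rfl | rfl | rfl
  · simp
  · exact h1.symm
  · exact h2.symm
  · have hn := h.norm3_W hd hdR hz
    rw [norm3] at hn
    rw [eq_inv_of_mul_eq_one_right hn]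
    exact ((Commute.mul_right (h1 : Commute x z) h2).inv_right).eq.symm

/-- An element fixing `z` centralizes `W` or swaps the two other involutions. -/
theorem fix_or_swap (h : JC J K) {d z x : G} (hd : d ∈ K) (hdR : d ∉ pCoreOf 2 K)
    (hz : z ∈ wOf K) (hz1 : z ≠ 1) (hx : x ∈ Subgroup.normalizer (wOf K : Set G)) (h1 : x * z = z * x) :
    x ∈ Subgroup.centralizer (wOf K : Set G) ∨
      x * (d * z * d⁻¹) * x⁻¹ = d * (d * z * d⁻¹) * d⁻¹ := by
  have hdz := (Subgroup.mem_normalizer_iff.mp (K_normalizes_W hd) z).mp hz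
  rcases h.four hd hdR hz hz1 ((Subgroup.mem_normalizer_iff.mp hx _).mp hdz) with e | e | e | e
  · exact absurd (conj_eq_one_iff.mp (conj_eq_one_iff.mp e)) hz1
  · exfalso
    have e2 : x * z * x⁻¹ = z := by rw [h1, mul_inv_cancel_right]
    have e3 := (MulAut.conj x).injective (a₁ := d * z * d⁻¹) (a₂ := z) (by
      show x * (d * z * d⁻¹) * x⁻¹ = x * z * x⁻¹
      rw [e, e2])
    exact hz1 (h.fpf hd hdR hz (mul_inv_eq_iff_eq_mul.mp e3))
  · exact Or.inl (h.centralizes_of_fix_two hd hdR hz hz1 h1 (mul_inv_eq_iff_eq_mul.mp e))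
  · exact Or.inr e

end JC

namespace Over

variable {T L K : Subgroup G}

/-- `[C_L(Y), ⟨J^L⟩] ≤ O₂(L)`. -/
theorem C_comm_H (o : Over T L) {c h : G} (hc : c ∈ cOf L) (hh : h ∈ hOf L) : ⁅c, h⁆ ∈ pCoreOf 2 L := by
  suffices hs : ⁅cOf L, hOf L⁆ ≤ pCoreOf 2 L from hs (Subgroup.commutator_mem_commutator hc hh)
  haveI : ((pCoreOf 2 L).subgroupOf L).Normal :=
    Subgroup.normal_subgroupOf_of_le_normalizer (map_pCore_normalized L)
  set π := QuotientGroup.mk' ((pCoreOf 2 L).subgroupOf L) with hπ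
  have key : thompsonSubgroup 2 ↥L ≤ (Subgroup.centralizer
      ((((cOf L).subgroupOf L).map π : Subgroup _) : Set (↥L ⧸ (pCoreOf 2 L).subgroupOf L))).comap π := by
    refine sSup_le fun A hA => ?_
    obtain ⟨g, hg, hle⟩ := IsSylowTwoIn.exists_conj_le o.sylT
      ((PLocal.isPGroup_of_EA hA.1).map L.subtype) (Subgroup.map_subtype_le A)
    have hmax : IsMaxEA T (LocalEven.cj g⁻¹ (A.map L.subtype)) := by
      refine ⟨?_, PLocal.isEA_map (PLocal.isEA_map hA.1 _) _, fun B hB hBe => ?_⟩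
      · have := cj_mono (g := g⁻¹) hle
        rwa [cj_cj, inv_mul_cancel, cj_one] at this
      · rw [card_cj, Subgroup.card_map_of_injective L.subtype_injective,
          ← Nat.card_congr (Subgroup.subgroupOfEquivOfLe (hB.trans o.sylT.1)).toEquiv]
        exact hA.2 _ (PLocal.isEA_comap hBe _ L.subtype_injective)
    have hAJ : A.map L.subtype ≤ LocalEven.cj g (JT T) := by
      have := cj_mono (g := g) hmax.le_JT
      rwa [cj_cj, mul_inv_cancel, cj_one] at this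
    intro a ha
    rw [Subgroup.mem_comap, Subgroup.mem_centralizer_iff]
    rintro _ ⟨c, hc, rfl⟩
    rw [← map_mul, ← map_mul]
    refine QuotientGroup.eq.mpr ?_
    show ((c : G) * a)⁻¹ * (a * c) ∈ pCoreOf 2 L
    have ha' : g⁻¹ * (a : G)⁻¹ * g ∈ JT T :=
      mem_cj.mp (Subgroup.inv_mem _ (hAJ ⟨a, ha, rfl⟩))
    have hc' : g⁻¹ * (c : G)⁻¹ * g ∈ cOf L := by
      have := (Subgroup.mem_normalizer_iff.mp (Subgroup.inv_mem _ (le_normalizer_cOf L hg)) _).mp
        ((cOf L).inv_mem hc)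
      rwa [inv_inv] at this
    have h1 := o.J_commutator_le (Subgroup.commutator_mem_commutator hc' ha')
    have h2 := (Subgroup.mem_normalizer_iff.mp (map_pCore_normalized L hg) _).mp ((pCoreOf 2 L).inv_mem h1)
    have e : ((c : G) * a)⁻¹ * (a * c) = g * ⁅g⁻¹ * (c : G)⁻¹ * g, g⁻¹ * (a : G)⁻¹ * g⁆⁻¹ * g⁻¹ := by
      simp only [commutatorElement_def]; group
    rw [e]
    exact h2
  rw [Subgroup.commutator_le]
  rintro c hc _ ⟨h', hh', rfl⟩
  have h1 := Subgroup.mem_centralizer_iff.mp (key hh') _ ⟨⟨c, hc.1⟩, hc, rfl⟩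
  rw [← map_mul, ← map_mul] at h1
  have h2 := QuotientGroup.eq.mp h1
  have h3 : (c * (h' : G))⁻¹ * (h' * c) ∈ pCoreOf 2 L := h2
  have h4 : L.subtype h' * c ∈ L := L.mul_mem h'.2 hc.1
  have h5 := (Subgroup.mem_normalizer_iff.mp (map_pCore_normalized L h4) _).mp ((pCoreOf 2 L).inv_mem h3)
  rw [show ⁅c, L.subtype h'⁆ = L.subtype h' * c * ((c * (h' : G))⁻¹ * ((h' : G) * c))⁻¹ * (L.subtype h' * c)⁻¹ by
    simp only [Subgroup.subtype_apply, commutatorElement_def]; group]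
  exact h5

/-- `[K, C_L(Y)] ≤ O₂(L)`. -/
theorem C_comm_K (o : Over T L) (h : JC (JT T) K) (hKL : K ≤ L) {c k : G} (hc : c ∈ cOf L) (hk : k ∈ K) :
    ⁅c, k⁆ ∈ pCoreOf 2 L :=
  o.C_comm_H hc (o.K_le_H h hKL hk)

/-- An element of `[H,H]` moving `Y` only inside `W` and fixing `W` centralizes `Y`. -/
theorem mem_C_of_fix (o : Over T L) (h : JC (JT T) K) (hKL : K ≤ L) {u : G}
    (hu : u ∈ ⁅hOf L, hOf L⁆) (huW : u ∈ Subgroup.centralizer (wOf K : Set G))
    (hmove : ∀ y ∈ yOf L, ⁅y, u⁆ ∈ wOf K) : u ∈ cOf L := by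
  have huL : u ∈ L := hOf_le L (Subgroup.commutator_le_self _ hu)
  refine ⟨huL, Subgroup.mem_centralizer_iff.mpr fun y hy => ?_⟩
  obtain ⟨d, hd, hdR⟩ := h.exists_d
  have hY : IsElementaryAbelian 2 (yOf L) := omegaCenter_isEA _
  have hdY := o.K_normalizes_Y hKL hd
  have h1 := (Subgroup.mem_normalizer_iff.mp hdY y).mp hy
  have h2 := (Subgroup.mem_normalizer_iff.mp hdY _).mp h1
  set f := norm3 d y with hf
  have hfY : f ∈ yOf L := (yOf L).mul_mem ((yOf L).mul_mem hy h1) h2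
  have hfd : d * f * d⁻¹ = f := norm3_fixed hY hdY hy
    (h.d_cube_fix hd fun r hr => (Subgroup.mem_centralizer_iff.mp (o.R_le_cOf h hKL hr).2 y hy).symm)
  set w := ⁅y, d⁆ * ⁅y, d * d⁆ with hwdef
  have hw : w ∈ wOf K := (wOf K).mul_mem (o.comm_Y_mem_W h hKL hy hd) (o.comm_Y_mem_W h hKL hy (K.mul_mem hd hd))
  have hdec : y = w * f := by
    rw [hwdef, hf, norm3]
    set x := d * y * d⁻¹ with hx
    set x2 := d * x * d⁻¹ with hx2
    have e1 : ⁅y, d⁆ = y * x⁻¹ := by rw [commutatorElement_def, hx]; group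
    have e2 : ⁅y, d * d⁆ = y * x2⁻¹ := by
      rw [commutatorElement_def, hx2, hx]; simp only [mul_inv_rev, inv_inv, mul_assoc]
    rw [e1, e2, inv_self hY h1, inv_self hY h2,
      show y * x * (y * x2) = y * (x * y) * x2 by group, sq_self_comm hY h1 hy,
      show y * (y * x) * x2 = (y * y) * (x * x2) by group, sq_self hY hy, one_mul,
      show y * x * x2 = y * (x * x2) by group,
      sq_self_comm hY hy ((yOf L).mul_mem h1 h2), ← mul_assoc,
      sq_self hY ((yOf L).mul_mem h1 h2), one_mul]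
  -- `u` fixes `f`
  have hfu : f * u = u * f := by
    refine (commutatorElement_eq_one_iff_mul_comm.mp (h.fpf hd hdR (hmove f hfY) ?_) : f * u = u * f)
    have hc : ⁅d, u⁆ ∈ Subgroup.centralizer (yOf L : Set G) :=
      (o.derived_derived_le (Subgroup.commutator_mem_commutator (o.K_le_H' h hKL hd) hu)).2
    have huY := le_normalizer_yOf L huL
    have hg : u * f * u⁻¹ ∈ yOf L := (Subgroup.mem_normalizer_iff.mp huY f).mp hfY
    have e3 : d * (u * f * u⁻¹) * d⁻¹ = u * f * u⁻¹ := by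
      calc d * (u * f * u⁻¹) * d⁻¹ = ⁅d, u⁆ * (u * (d * f * d⁻¹) * u⁻¹) * ⁅d, u⁆⁻¹ := by
            rw [commutatorElement_def]; group
        _ = ⁅d, u⁆ * (u * f * u⁻¹) * ⁅d, u⁆⁻¹ := by rw [hfd]
        _ = _ := by rw [← Subgroup.mem_centralizer_iff.mp hc _ hg, mul_inv_cancel_right]
    rw [commutatorElement_def, show f * u * f⁻¹ * u⁻¹ = f * (u * f⁻¹ * u⁻¹) by group, inv_self hY hfY]
    refine mul_inv_eq_iff_eq_mul.mp ?_
    calc d * (f * (u * f * u⁻¹)) * d⁻¹ = (d * f * d⁻¹) * (d * (u * f * u⁻¹) * d⁻¹) := by group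
      _ = _ := by rw [hfd, e3]
  rw [hdec, mul_assoc, hfu, ← mul_assoc, Subgroup.mem_centralizer_iff.mp huW w hw, mul_assoc]

theorem comm_W_of_conj (o : Over T L) (h : JC (JT T) K) (hKL : K ≤ L) {x k : G} (hx : x ∈ L)
    (hxW : x ∈ Subgroup.normalizer (wOf K : Set G)) (hk : k ∈ K) {y : G} (hy : y ∈ yOf L) :
    ⁅y, x * k * x⁻¹⁆ ∈ wOf K := by
  have hy' : x⁻¹ * y * x ∈ yOf L := by
    have := (Subgroup.mem_normalizer_iff.mp (Subgroup.inv_mem _ (le_normalizer_yOf L hx)) y).mp hy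
    rwa [inv_inv] at this
  rw [show ⁅y, x * k * x⁻¹⁆ = x * ⁅x⁻¹ * y * x, k⁆ * x⁻¹ by simp only [commutatorElement_def]; group]
  exact (Subgroup.mem_normalizer_iff.mp hxW _).mp (o.comm_Y_mem_W h hKL hy' hk)

theorem comm_W_mul (o : Over T L) {a b : G} (ha : a ∈ Subgroup.normalizer (wOf K : Set G))
    (h1 : ∀ y ∈ yOf L, ⁅y, a⁆ ∈ wOf K) (h2 : ∀ y ∈ yOf L, ⁅y, b⁆ ∈ wOf K) {y : G} (hy : y ∈ yOf L) :
    ⁅y, a * b⁆ ∈ wOf K := by
  rw [show ⁅y, a * b⁆ = ⁅y, a⁆ * (a * ⁅y, b⁆ * a⁻¹) by simp only [commutatorElement_def]; group]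
  exact (wOf K).mul_mem (h1 y hy) ((Subgroup.mem_normalizer_iff.mp ha _).mp (h2 y hy))

/-- Two elements of `[H, H]` moving `Y` only inside `W` which agree at one involution of `W`
differ by an element of `C_L(Y)`. -/
theorem inv_mul_mem_C (o : Over T L) (h : JC (JT T) K) (hKL : K ≤ L) {d k e z : G} (hd : d ∈ K)
    (hdR : d ∉ pCoreOf 2 K) (hk : k ∈ K) (he : e ∈ ⁅hOf L, hOf L⁆)
    (hmove : ∀ y ∈ yOf L, ⁅y, e⁆ ∈ wOf K) (hz : z ∈ wOf K) (hz1 : z ≠ 1)
    (heq : e * z * e⁻¹ = k * z * k⁻¹) : k⁻¹ * e ∈ cOf L := by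
  set u := k⁻¹ * e with hu
  have hu' : u ∈ ⁅hOf L, hOf L⁆ := Subgroup.mul_mem _ (Subgroup.inv_mem _ (o.K_le_H' h hKL hk)) he
  have huz : u * z = z * u := by
    refine mul_inv_eq_iff_eq_mul.mp ?_
    rw [hu, show k⁻¹ * e * z * (k⁻¹ * e)⁻¹ = k⁻¹ * (e * z * e⁻¹) * k by group, heq]; group
  have huW : u ∈ Subgroup.centralizer (wOf K : Set G) := by
    refine h.centralizes_of_fix_two hd hdR hz hz1 huz ?_
    have hc := (o.derived_derived_le (Subgroup.commutator_mem_commutator (o.K_le_H' h hKL hd) hu')).2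
    have hdz := (Subgroup.mem_normalizer_iff.mp (JC.K_normalizes_W hd) z).mp hz
    refine mul_inv_eq_iff_eq_mul.mp ?_
    have huz' : u * z * u⁻¹ = z := by rw [huz, mul_inv_cancel_right]
    calc u * (d * z * d⁻¹) * u⁻¹ = ⁅d, u⁆⁻¹ * (d * (u * z * u⁻¹) * d⁻¹) * ⁅d, u⁆ := by
          rw [commutatorElement_def]; group
      _ = ⁅d, u⁆⁻¹ * (d * z * d⁻¹ * ⁅d, u⁆) := by rw [huz', mul_assoc]
      _ = _ := by rw [Subgroup.mem_centralizer_iff.mp hc _ (o.W_le_Y h hKL hdz), inv_mul_cancel_left]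
  exact o.mem_C_of_fix h hKL hu' huW fun y hy => comm_W_mul o (JC.K_normalizes_W (K.inv_mem hk))
    (fun y hy => o.comm_Y_mem_W h hKL hy (K.inv_mem hk)) hmove hy

theorem conj_mem_H' {x k : G} (hx : x ∈ L) (hk : k ∈ ⁅hOf L, hOf L⁆) : x * k * x⁻¹ ∈ ⁅hOf L, hOf L⁆ :=
  (Subgroup.mem_normalizer_iff.mp
    (le_normalizer_comm (le_normalizer_hOf L) (le_normalizer_hOf L) hx) k).mp hk

/-- `N_L(W)` normalizes `K C_L(Y)`. -/
theorem conj_mem_KC (o : Over T L) (h : JC (JT T) K) (hKL : K ≤ L) {x k : G} (hx : x ∈ L)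
    (hxW : x ∈ Subgroup.normalizer (wOf K : Set G)) (hk : k ∈ K) : x * k * x⁻¹ ∈ K ⊔ cOf L := by
  obtain ⟨d, hd, hdR⟩ := h.exists_d
  obtain ⟨⟨z, hz⟩, hz1'⟩ := Subgroup.ne_bot_iff_exists_ne_one.mp h.W_ne_bot
  have hz1 : z ≠ 1 := fun e => hz1' (Subtype.ext e)
  set e := x * k * x⁻¹
  have he := conj_mem_H' hx (o.K_le_H' h hKL hk)
  have heW : e ∈ Subgroup.normalizer (wOf K : Set G) :=
    Subgroup.mul_mem _ (Subgroup.mul_mem _ hxW (JC.K_normalizes_W hk)) (Subgroup.inv_mem _ hxW)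
  have hmove : ∀ y ∈ yOf L, ⁅y, e⁆ ∈ wOf K := fun y hy => o.comm_W_of_conj h hKL hx hxW hk hy
  have fin : ∀ k' ∈ K, e * z * e⁻¹ = k' * z * k'⁻¹ → e ∈ K ⊔ cOf L := fun k' hk' heq => by
    have := Subgroup.mul_mem_sup hk' (o.inv_mul_mem_C h hKL hd hdR hk' he hmove hz hz1 heq)
    rwa [mul_inv_cancel_left] at this
  rcases h.four hd hdR hz hz1 ((Subgroup.mem_normalizer_iff.mp heW z).mp hz) with e1 | e1 | e1 | e1
  · exact absurd (conj_eq_one_iff.mp e1) hz1
  · exact fin 1 K.one_mem (by rw [e1]; group)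
  · exact fin d hd e1
  · exact fin (d * d) (K.mul_mem hd hd) (e1.trans (by group))

/-- Elements of `H` centralizing `W` centralize `K` modulo `O₂(L)`. -/
theorem comm_d_mem_Q (o : Over T L) (h : JC (JT T) K) (hKL : K ≤ L) {d x : G} (hd : d ∈ K)
    (hdR : d ∉ pCoreOf 2 K) (hx : x ∈ hOf L) (hxW : x ∈ Subgroup.centralizer (wOf K : Set G)) :
    ⁅x, d⁆ ∈ pCoreOf 2 L := by
  obtain ⟨t, ht, ⟨z, hz, hz1, htz⟩, htc, -, htcomm⟩ := (o.W_plane h hKL).axis
  have htW : t ∈ Subgroup.normalizer (wOf K : Set G) := (o.W_plane h hKL).norm ht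
  have hxN : x ∈ Subgroup.normalizer (wOf K : Set G) := Subgroup.centralizer_le_normalizer _ hxW
  have hdz := (Subgroup.mem_normalizer_iff.mp (JC.K_normalizes_W hd) z).mp hz
  have hfix : ∀ w ∈ wOf K, x * w * x⁻¹ = w := fun w hw => by
    rw [← Subgroup.mem_centralizer_iff.mp hxW w hw, mul_inv_cancel_right]
  -- `γ`
  have hγ : d⁻¹ * (x * d * x⁻¹) ∈ cOf L := by
    refine o.inv_mul_mem_C h hKL hd hdR hd (conj_mem_H' (hOf_le L hx) (o.K_le_H' h hKL hd))
      (fun y hy => o.comm_W_of_conj h hKL (hOf_le L hx) hxN hd hy) hz hz1 ?_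
    have hzi : x⁻¹ * z * x = z := by
      have := hfix z hz
      calc x⁻¹ * z * x = x⁻¹ * (x * z * x⁻¹) * x := by rw [this]
        _ = z := by group
    calc x * d * x⁻¹ * z * (x * d * x⁻¹)⁻¹ = x * (d * (x⁻¹ * z * x) * d⁻¹) * x⁻¹ := by group
      _ = _ := by rw [hzi, hfix _ hdz]
  -- `γ'`
  have hγ' : d * (t * d * t⁻¹) ∈ cOf L := by
    have hswap := (h.fix_or_swap hd hdR hz hz1 htW htz).resolve_left htc
    have := o.inv_mul_mem_C h hKL hd hdR (K.inv_mem hd)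
      (conj_mem_H' (hOf_le L ht) (o.K_le_H' h hKL hd))
      (fun y hy => o.comm_W_of_conj h hKL (hOf_le L ht) htW hd hy) hz hz1 ?_
    · rwa [inv_inv] at this
    · have hti : t⁻¹ * z * t = z := by rw [mul_assoc, ← htz, inv_mul_cancel_left]
      calc t * d * t⁻¹ * z * (t * d * t⁻¹)⁻¹ = t * (d * (t⁻¹ * z * t) * d⁻¹) * t⁻¹ := by group
        _ = d * (d * z * d⁻¹) * d⁻¹ := by rw [hti, hswap]
        _ = d⁻¹ * (d * (d * (d * z * d⁻¹) * d⁻¹) * d⁻¹) * d := by group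
        _ = _ := by rw [h.d_cube_fix hd fun r hr => JC.W_R_comm hr hz, inv_inv]
  have hκ : ⁅t, x⁆ ∈ cOf L := htcomm x hx hxW
  haveI : ((pCoreOf 2 L).subgroupOf L).Normal :=
    Subgroup.normal_subgroupOf_of_le_normalizer (map_pCore_normalized L)
  set π := QuotientGroup.mk' ((pCoreOf 2 L).subgroupOf L) with hπ
  have hdH := o.K_le_H h hKL hd
  have hdL : d ∈ L := hKL hd
  have hcommπ : ∀ (c g : ↥L), (c : G) ∈ cOf L → (g : G) ∈ hOf L → π c * π g = π g * π c := by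
    intro c g hc hg
    have : π ⁅c, g⁆ = 1 := (QuotientGroup.eq_one_iff _).mpr (o.C_comm_H hc hg)
    rw [map_commutatorElement] at this
    exact commutatorElement_eq_one_iff_mul_comm.mp this
  let D : ↥L := ⟨d, hdL⟩
  let X : ↥L := ⟨x, hOf_le L hx⟩
  let T' : ↥L := ⟨t, hOf_le L ht⟩
  let g1 : ↥L := D⁻¹ * (X * D * X⁻¹)
  let g2 : ↥L := D * (T' * D * T'⁻¹)
  let kk : ↥L := ⁅T', X⁆
  have hg1H : (g1 : G) ∈ hOf L := (hOf L).mul_mem ((hOf L).inv_mem hdH)
    ((hOf L).mul_mem ((hOf L).mul_mem hx hdH) ((hOf L).inv_mem hx))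
  have hkH : (kk : G) ∈ hOf L := by
    show ⁅t, x⁆ ∈ hOf L
    rw [commutatorElement_def]
    exact (hOf L).mul_mem ((hOf L).mul_mem ((hOf L).mul_mem ht hx) ((hOf L).inv_mem ht)) ((hOf L).inv_mem hx)
  have e1 : π X * π D * (π X)⁻¹ = π D * π g1 := by
    simp only [g1, map_mul, map_inv]; group
  have e2 : π T' * π D * (π T')⁻¹ = (π D)⁻¹ * π g2 := by
    simp only [g2, map_mul, map_inv]; group
  have e3 : π T' * π X = π kk * (π X * π T') := by
    rw [show π kk = ⁅π T', π X⁆ from map_commutatorElement π T' X, commutatorElement_def]; group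
  have c1 : π g1 * π T' = π T' * π g1 := hcommπ g1 T' hγ ht
  have c2 : π g2 * π X = π X * π g2 := hcommπ g2 X hγ' hx
  have c3 : π g1 * π D = π D * π g1 := hcommπ g1 D hγ hdH
  have c4 : π kk * π D = π D * π kk := hcommπ kk D hκ hdH
  have c5 : π g2 * π kk = π kk * π g2 := hcommπ g2 kk hγ' hkH
  have c6 : π g2 * π g1 = π g1 * π g2 := hcommπ g2 g1 hγ' hg1H
  have c7 : π kk * π g1 = π g1 * π kk := hcommπ kk g1 hκ hg1H
  have L1 : π T' * π X * π D * (π T' * π X)⁻¹ = (π D)⁻¹ * π g2 * π g1 := by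
    calc π T' * π X * π D * (π T' * π X)⁻¹ = π T' * (π X * π D * (π X)⁻¹) * (π T')⁻¹ := by group
      _ = π T' * π D * (π g1 * (π T')⁻¹) := by rw [e1]; group
      _ = π T' * π D * ((π T')⁻¹ * π g1) := by rw [((show Commute (π g1) (π T') from c1).inv_right).eq]
      _ = (π T' * π D * (π T')⁻¹) * π g1 := by group
      _ = _ := by rw [e2]
  have L2 : π X * π T' * π D * (π X * π T')⁻¹ = (π D)⁻¹ * (π g1)⁻¹ * π g2 := by
    calc π X * π T' * π D * (π X * π T')⁻¹ = π X * (π T' * π D * (π T')⁻¹) * (π X)⁻¹ := by group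
      _ = π X * (π D)⁻¹ * (π g2 * (π X)⁻¹) := by rw [e2]; group
      _ = π X * (π D)⁻¹ * ((π X)⁻¹ * π g2) := by rw [((show Commute (π g2) (π X) from c2).inv_right).eq]
      _ = (π X * π D * (π X)⁻¹)⁻¹ * π g2 := by group
      _ = (π g1)⁻¹ * (π D)⁻¹ * π g2 := by rw [e1]; group
      _ = _ := by rw [((show Commute (π g1) (π D) from c3).inv_inv).eq]
  have hkc : Commute (π kk) ((π D)⁻¹ * (π g1)⁻¹ * π g2) :=
    ((Commute.inv_right (show Commute (π kk) (π D) from c4)).mul_right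
      (Commute.inv_right (show Commute (π kk) (π g1) from c7))).mul_right
      (show Commute (π g2) (π kk) from c5).symm
  have hEq : (π D)⁻¹ * π g2 * π g1 = (π D)⁻¹ * (π g1)⁻¹ * π g2 := by
    rw [← L1, e3]
    calc π kk * (π X * π T') * π D * (π kk * (π X * π T'))⁻¹
        = π kk * (π X * π T' * π D * (π X * π T')⁻¹) * (π kk)⁻¹ := by group
      _ = _ := by rw [L2, hkc.eq, mul_inv_cancel_right]
  have hsq : π g1 * π g1 = 1 := by
    rw [mul_assoc, mul_assoc] at hEq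
    have h5 := mul_left_cancel hEq
    rw [c6] at h5
    have h6 := mul_right_cancel h5
    calc π g1 * π g1 = π g1 * (π g1)⁻¹ := by rw [← h6]
      _ = 1 := mul_inv_cancel _
  have hsqQ : (g1 : G) * g1 ∈ pCoreOf 2 L := by
    have : π (g1 * g1) = 1 := by rw [map_mul]; exact hsq
    exact (QuotientGroup.eq_one_iff (g1 * g1)).mp this
  have hg1Q : (g1 : G) ∈ pCoreOf 2 L := by
    obtain ⟨n, hn⟩ := isPGroup_op (p := 2) L ⟨_, hsqQ⟩
    have h2 : IsPGroup 2 (Subgroup.zpowers (g1 : G)) := by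
      refine isPGroup_zpowers_of_orderOf ?_
      have h3 : (g1 : G) ^ 2 ^ (n + 1) = 1 := by
        rw [pow_succ', pow_mul, pow_two]
        exact congrArg Subtype.val hn
      obtain ⟨j, -, hj⟩ := (Nat.dvd_prime_pow Nat.prime_two).mp (orderOf_dvd_of_pow_eq_one h3)
      exact ⟨j, hj⟩
    exact o.mem_Q_of_two h2 (Subgroup.zpowers_le.mpr hγ) (Subgroup.mem_zpowers _)
  have := (Subgroup.mem_normalizer_iff.mp (map_pCore_normalized L hdL) _).mp hg1Q
  rw [show ⁅x, d⁆ = d * (d⁻¹ * (x * d * x⁻¹)) * d⁻¹ by rw [commutatorElement_def]; group]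
  exact this

/-- `H` normalizes `K O₂(L)`. -/
theorem H_normalizes_KQ (o : Over T L) (h : JC (JT T) K) (hKL : K ≤ L) :
    hOf L ≤ Subgroup.normalizer ((K ⊔ pCoreOf 2 L : Subgroup G) : Set G) := by
  obtain ⟨d, hd, hdR⟩ := h.exists_d
  obtain ⟨A, hA, a, ha, haW⟩ := h.exists_moving
  obtain ⟨z, hz, hz1, hfix⟩ := exists_fixed JC.W_pGroup (PLocal.isPGroup_of_EA hA.2.1) h.W_ne_bot
    (h.A_normalizes_W hA)
  set M := K ⊔ pCoreOf 2 L with hM
  set N := Subgroup.normalizer (M : Set G) with hN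
  set C := Subgroup.centralizer (wOf K : Set G) with hC
  have hdN : d ∈ N := Subgroup.le_normalizer (Subgroup.mem_sup_left hd)
  have haN : a ∈ N := by
    refine Subgroup.normalizer_inf_normalizer_le_normalizer_sup _ _
      ⟨h.J_normalizes (hA.le_JT ha), map_pCore_normalized L (o.sylT.1 (hA.1 ha))⟩
  have hcent : ∀ x ∈ hOf L, x ∈ C → x ∈ N := by
    intro x hx hxW
    rw [hN, ← cj_eq_self_iff]
    refine Subgroup.eq_of_le_of_card_ge ?_ (card_cj x M).ge
    have hxL := hOf_le L hx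
    have hM' : M = pCoreOf 2 L ⊔ Subgroup.zpowers d := by
      rw [hM]
      refine le_antisymm (sup_le ?_ le_sup_left) (sup_le le_sup_right
        ((Subgroup.zpowers_le.mpr hd).trans le_sup_left))
      conv_lhs => rw [h.K_eq_sup hd hdR]
      exact sup_le_sup_right (o.R_le_Q h hKL) _
    rw [cj, Subgroup.map_le_iff_le_comap, hM']
    refine sup_le (fun q hq => Subgroup.mem_sup_left
      ((Subgroup.mem_normalizer_iff.mp (map_pCore_normalized L hxL) q).mp hq))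
      (Subgroup.zpowers_le.mpr ?_)
    show x * d * x⁻¹ ∈ pCoreOf 2 L ⊔ Subgroup.zpowers d
    rw [show x * d * x⁻¹ = ⁅x, d⁆ * d by rw [commutatorElement_def]; group]
    exact Subgroup.mul_mem_sup (o.comm_d_mem_Q h hKL hd hdR hx hxW) (Subgroup.mem_zpowers d)
  intro x hx
  have hxW : x ∈ Subgroup.normalizer (wOf K : Set G) := (o.W_plane h hKL).norm hx
  have fixcase : ∀ y ∈ hOf L, y * z = z * y → y ∈ N := by
    intro y hy hyz
    have hyW : y ∈ Subgroup.normalizer (wOf K : Set G) := (o.W_plane h hKL).norm hy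
    rcases h.fix_or_swap hd hdR hz hz1 hyW hyz with h1 | h1
    · exact hcent y hy h1
    · have haH : a ∈ hOf L := o.JT_le_hOf (hA.le_JT ha)
      have h2 : a⁻¹ * y ∈ C := by
        refine h.centralizes_of_fix_two hd hdR hz hz1
          ((Commute.inv_left (show Commute a z from hfix a ha)).mul_left (show Commute y z from hyz)).eq ?_
        have h3 := (h.fix_or_swap hd hdR hz hz1 (h.A_normalizes_W hA ha) (hfix a ha)).resolve_left haW
        refine mul_inv_eq_iff_eq_mul.mp ?_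
        calc a⁻¹ * y * (d * z * d⁻¹) * (a⁻¹ * y)⁻¹ = a⁻¹ * (y * (d * z * d⁻¹) * y⁻¹) * a := by group
          _ = a⁻¹ * (a * (d * z * d⁻¹) * a⁻¹) * a := by rw [h1, h3]
          _ = _ := by group
      have := N.mul_mem haN (hcent _ ((hOf L).mul_mem ((hOf L).inv_mem haH) hy) h2)
      rwa [mul_inv_cancel_left] at this
  have hdH := o.K_le_H h hKL hd
  rcases h.four hd hdR hz hz1 ((Subgroup.mem_normalizer_iff.mp hxW z).mp hz) with e | e | e | e
  · exact absurd (conj_eq_one_iff.mp e) hz1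
  · exact fixcase x hx (mul_inv_eq_iff_eq_mul.mp e)
  · have h1 := fixcase (d⁻¹ * x) ((hOf L).mul_mem ((hOf L).inv_mem hdH) hx) (mul_inv_eq_iff_eq_mul.mp (by
      rw [show d⁻¹ * x * z * (d⁻¹ * x)⁻¹ = d⁻¹ * (x * z * x⁻¹) * d by group, e]; group))
    have := N.mul_mem hdN h1
    rwa [mul_inv_cancel_left] at this
  · have h1 := fixcase (d⁻¹ * d⁻¹ * x) ((hOf L).mul_mem ((hOf L).mul_mem ((hOf L).inv_mem hdH)
      ((hOf L).inv_mem hdH)) hx) (mul_inv_eq_iff_eq_mul.mp (by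
      rw [show d⁻¹ * d⁻¹ * x * z * (d⁻¹ * d⁻¹ * x)⁻¹ = d⁻¹ * (d⁻¹ * (x * z * x⁻¹) * d) * d by
        simp only [mul_inv_rev, inv_inv, mul_assoc], e]; group))
    have := N.mul_mem (N.mul_mem hdN hdN) h1
    rwa [show d * d * (d⁻¹ * d⁻¹ * x) = x by group] at this

/-- `N_L(W) ≤ N(K)`. -/
theorem normalizes_of_normalizes_W (o : Over T L) (h : JC (JT T) K) (hKL : K ≤ L) :
    L ⊓ Subgroup.normalizer (wOf K : Set G) ≤ Subgroup.normalizer (K : Set G) := by
  rintro x ⟨hxL, hxW⟩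
  rw [← cj_eq_self_iff]
  refine Subgroup.eq_of_le_of_card_ge ?_ (card_cj x K).ge
  set M := K ⊔ pCoreOf 2 L with hM
  have h1 : LocalEven.cj x K ≤ K ⊔ cOf L := by
    rintro _ ⟨k, hk, rfl⟩
    exact o.conj_mem_KC h hKL hxL hxW hk
  have h2 : LocalEven.cj x K ≤ M := by
    calc LocalEven.cj x K = LocalEven.cj x ⁅K, JT T⁆ := by rw [h.comm]
      _ = ⁅LocalEven.cj x K, LocalEven.cj x (JT T)⁆ := Subgroup.map_commutator _ _ _
      _ ≤ ⁅K ⊔ cOf L, hOf L⁆ := Subgroup.commutator_mono h1 (o.JT_conj_le_hOf hxL)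
      _ ≤ M := Subgroup.commutator_le.mpr fun m hm g hg => by
        obtain ⟨k, hk, c, hc, rfl⟩ := Coprime.exists_mul_of_mem_sup (o.C_normalizes_K h hKL) hm
        have hkM : k ∈ M := Subgroup.mem_sup_left hk
        have hg' : g * k⁻¹ * g⁻¹ ∈ M :=
          (Subgroup.mem_normalizer_iff.mp (o.H_normalizes_KQ h hKL hg) _).mp (M.inv_mem hkM)
        rw [show ⁅k * c, g⁆ = k * ⁅c, g⁆ * (g * k⁻¹ * g⁻¹) by simp only [commutatorElement_def]; group]
        exact M.mul_mem (M.mul_mem hkM (Subgroup.mem_sup_right (o.C_comm_H hc hg))) hg'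
  refine le_of_odd_gen (o.Q_normalizes_K h hKL) (isPGroup_op L) h2 (le_antisymm ((Subgroup.closure_le _).mpr fun g hg => hg.1) ?_)
  refine Subgroup.map_le_iff_le_comap.mpr ?_
  conv_lhs => rw [← h.gen]
  rw [Subgroup.closure_le]
  rintro g ⟨hg, hgo⟩
  exact Subgroup.subset_closure ⟨⟨g, hg, rfl⟩,
    (show orderOf ((MulAut.conj x) g) = orderOf g from (MulAut.conj x).orderOf_eq g) ▸ hgo⟩

/-- `Z(T) ∩ W ≠ 1` forces `T ≤ N(K)`. -/
theorem T_normalizes (o : Over T L) (h : JC (JT T) K) (hKL : K ≤ L) {z : G} (hzW : z ∈ wOf K)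
    (hz1 : z ≠ 1) (hzT : z ∈ Subgroup.centralizer (T : Set G)) : T ≤ Subgroup.normalizer (K : Set G) := by
  intro t ht
  have htL := o.sylT.1 ht
  suffices hW : t ∈ Subgroup.normalizer (wOf K : Set G) from o.normalizes_of_normalizes_W h hKL ⟨htL, hW⟩
  obtain ⟨d, hd, hdR⟩ := h.exists_d
  have hdH := o.K_le_H h hKL hd
  rw [← cj_eq_self_iff]
  refine (Subgroup.eq_of_le_of_card_ge ?_ (card_cj t (wOf K)).le).symm
  set V := LocalEven.cj t (wOf K)
  have hdV : d ∈ Subgroup.normalizer (V : Set G) := by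
    rw [← cj_normalizer, mem_cj]
    refine (o.W_plane h hKL).norm ?_
    have := (Subgroup.mem_normalizer_iff.mp (Subgroup.inv_mem _ (le_normalizer_hOf L htL)) d).mp hdH
    rwa [inv_inv] at this
  have hzV : z ∈ V := mem_cj.mpr (by
    rw [mul_assoc, ← Subgroup.mem_centralizer_iff.mp hzT t ht, inv_mul_cancel_left]; exact hzW)
  intro v hv
  have hdz := (Subgroup.mem_normalizer_iff.mp hdV z).mp hzV
  rcases h.four hd hdR hzW hz1 hv with rfl | rfl | rfl | rfl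
  · exact one_mem _
  · exact hzV
  · exact hdz
  · exact (Subgroup.mem_normalizer_iff.mp hdV _).mp hdz

end Over

end Cfsg.Agent.LocalEven.JComp
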