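import Cfsg.Agent.LocalEven.JCompStraddle
import Cfsg.Agent.LocalEven.JCompCenter

/-! A component together with a distinguished overgroup in which it is the only component. -/

set_option autoImplicit false
set_option linter.style.haveILetI false
set_option linter.unusedSectionVars false

open scoped commutatorElement

namespace Cfsg.Agent.LocalEven.JComp

open Cfsg

universe u

variable {G : Type u} [Group G] [Finite G]

/-- `Ω₁(Z(J(T)))`. -/
abbrev zJ (T : Subgroup G) : Subgroup G := omegaCenterOf (JT T)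

/-- The part of `Ω₁(Z(J(T)))` centralized by `K`. -/
abbrev hK (T K : Subgroup G) : Subgroup G := zJ T ⊓ Subgroup.centralizer (K : Set G)

/-- An overgroup of `⟨K, T⟩` in which `K` is the only component. -/
abbrev lK (T K : Subgroup G) : Subgroup G :=
  Subgroup.normalizer (wOf K : Set G) ⊓ Subgroup.centralizer (hK T K : Set G)

theorem cj_inf (g : G) (A B : Subgroup G) :
    LocalEven.cj g (A ⊓ B) = LocalEven.cj g A ⊓ LocalEven.cj g B :=
  Subgroup.map_inf _ _ _ (MulAut.conj g).injective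

theorem cj_centralizer_sub (g : G) (A : Subgroup G) :
    LocalEven.cj g (Subgroup.centralizer (A : Set G)) = Subgroup.centralizer (LocalEven.cj g A : Set G) := by
  rw [cj_centralizer]; rfl

theorem cj_zJ (g : G) (T : Subgroup G) : LocalEven.cj g (zJ T) = zJ (LocalEven.cj g T) := by
  rw [zJ, zJ, cj_omegaCenter, JT_cj]

theorem cj_hK (g : G) (T K : Subgroup G) :
    LocalEven.cj g (hK T K) = hK (LocalEven.cj g T) (LocalEven.cj g K) := by
  rw [hK, hK, cj_inf, cj_zJ, cj_centralizer_sub]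

theorem cj_lK (g : G) (T K : Subgroup G) :
    LocalEven.cj g (lK T K) = lK (LocalEven.cj g T) (LocalEven.cj g K) := by
  rw [lK, lK, cj_inf, cj_normalizer, cj_centralizer_sub, cj_wOf, cj_hK]

theorem zJ_le (T : Subgroup G) : zJ T ≤ T := (omegaCenter_le _).trans (JT_le T)

theorem mem_zJ_of {T : Subgroup G} {x : G} (hxT : x ∈ T)
    (hxC : x ∈ Subgroup.centralizer (JT T : Set G)) (hx2 : x ^ 2 = 1) : x ∈ zJ T := by
  obtain ⟨A, hA⟩ := exists_isMaxEA T
  have hmax : IsMaxEA T (A ⊔ Subgroup.zpowers x) :=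
    hA.of_card (sup_le hA.1 (Subgroup.zpowers_le.mpr hxT))
      (PLocal.isEA_sup hA.2.1 (PLocal.isEA_zpowers hx2)
        (Subgroup.le_centralizer_iff.mp (Subgroup.zpowers_le.mpr (Subgroup.centralizer_le hA.le_JT hxC))))
      (Subgroup.card_le_of_le le_sup_left)
  exact mem_omegaCenter.mpr
    ⟨hmax.le_JT (Subgroup.mem_sup_right (Subgroup.mem_zpowers x)), hxC, hx2⟩

theorem omegaCenter_le_zJ (T : Subgroup G) : omegaCenterOf T ≤ zJ T := fun x hx => by
  obtain ⟨h1, h2, h3⟩ := mem_omegaCenter.mp hx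
  exact mem_zJ_of h1 (Subgroup.centralizer_le (JT_le T) h2) h3

theorem normalizer_le_normalizer_zJ (T : Subgroup G) :
    Subgroup.normalizer (T : Set G) ≤ Subgroup.normalizer (zJ T : Set G) :=
  (normalizer_le_normalizer_JT T).trans (normalizer_le_normalizer_omegaCenter _)

/-- A 2-group normalizing a group of order at most 2 centralizes it. -/
theorem centralizes_of_card_le_two {H T : Subgroup G} (hH : Nat.card H ≤ 2)
    (hTH : T ≤ Subgroup.normalizer (H : Set G)) : T ≤ Subgroup.centralizer (H : Set G) := by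
  classical
  intro t ht
  rw [Subgroup.mem_centralizer_iff]
  intro w hw
  by_cases hw1 : w = 1
  · subst hw1; simp
  by_contra hne
  have h1 : t * w * t⁻¹ ∈ H := (Subgroup.mem_normalizer_iff.mp (hTH ht) w).mp hw
  have hsub : ({1, w, t * w * t⁻¹} : Finset G) ⊆ (H : Set G).toFinite.toFinset := fun x hx => by
    rw [Set.Finite.mem_toFinset, SetLike.mem_coe]
    simp only [Finset.mem_insert, Finset.mem_singleton] at hx
    rcases hx with rfl | rfl | rfl
    exacts [one_mem _, hw, h1]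
  have h2 := Finset.card_le_card hsub
  rw [← Nat.card_eq_card_finite_toFinset] at h2
  rw [Finset.card_insert_of_notMem, Finset.card_insert_of_notMem, Finset.card_singleton] at h2
  · change _ ≤ Nat.card ↥(H : Set G) at h2
    have : Nat.card ↥(H : Set G) ≤ 2 := hH
    omega
  · simp only [Finset.mem_singleton]
    exact fun e => hne (mul_inv_eq_iff_eq_mul.mp e.symm).symm
  · simp only [Finset.mem_insert, Finset.mem_singleton, not_or]
    exact ⟨Ne.symm hw1, fun e => hw1 (conj_eq_one_iff.mp e.symm)⟩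

namespace JC

variable {T K : Subgroup G}

theorem exists_z (hT : IsPGroup 2 T) (h : JC (JT T) K) :
    ∃ z, z ∈ zJ T ∧ z ∈ wOf K ∧ z ≠ 1 ∧ ∀ y ∈ zJ T, y ∈ wOf K → y = 1 ∨ y = z := by
  classical
  have hc := h.card_inf_W hT
  obtain ⟨⟨z, hz⟩, hz1⟩ := Subgroup.ne_bot_iff_exists_ne_one.mp
    (show zJ T ⊓ wOf K ≠ ⊥ from fun e => by rw [e, Subgroup.card_bot] at hc; exact absurd hc (by norm_num))
  refine ⟨z, hz.1, hz.2, fun e => hz1 (Subtype.ext e), fun y hy hyW => ?_⟩
  by_contra hcon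
  push Not at hcon
  have hsub : ({1, z, y} : Finset G) ⊆ ((zJ T ⊓ wOf K : Subgroup G) : Set G).toFinite.toFinset := fun x hx => by
    rw [Set.Finite.mem_toFinset, SetLike.mem_coe]
    simp only [Finset.mem_insert, Finset.mem_singleton] at hx
    rcases hx with rfl | rfl | rfl
    exacts [one_mem _, hz, ⟨hy, hyW⟩]
  have h2 := Finset.card_le_card hsub
  rw [← Nat.card_eq_card_finite_toFinset, Finset.card_insert_of_notMem, Finset.card_insert_of_notMem,
    Finset.card_singleton] at h2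
  · change _ ≤ Nat.card ↥((zJ T ⊓ wOf K : Subgroup G) : Set G) at h2
    have : Nat.card ↥((zJ T ⊓ wOf K : Subgroup G) : Set G) = 2 := hc
    omega
  · simp only [Finset.mem_singleton]
    exact Ne.symm hcon.2
  · simp only [Finset.mem_insert, Finset.mem_singleton, not_or]
    exact ⟨Ne.symm (fun e => hz1 (Subtype.ext e)), Ne.symm hcon.1⟩

theorem eq_one_of_fixed (h : JC (JT T) K) {y : G} (hy : y ∈ wOf K)
    (hc : y ∈ Subgroup.centralizer (K : Set G)) : y = 1 := by
  obtain ⟨d, hd, hdR⟩ := h.exists_d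
  exact h.fpf hd hdR hy (Subgroup.mem_centralizer_iff.mp hc d hd)

theorem hK_inf_W (h : JC (JT T) K) : hK T K ⊓ wOf K = ⊥ :=
  (Subgroup.eq_bot_iff_forall _).mpr fun _ hy => h.eq_one_of_fixed hy.2 hy.1.2

theorem zJ_eq (hT : IsPGroup 2 T) (h : JC (JT T) K) : hK T K ⊔ (zJ T ⊓ wOf K) = zJ T := by
  refine le_antisymm (sup_le inf_le_left inf_le_left) ?_
  calc zJ T = _ := (h.decomp hT).symm
    _ ≤ _ := sup_le_sup_right (le_inf inf_le_left (inf_le_right.trans (inf_le_right.trans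
      (Subgroup.centralizer_le (SetLike.coe_subset_coe.mpr le_sup_left))))) _

theorem card_zJ (hT : IsPGroup 2 T) (h : JC (JT T) K) :
    Nat.card (zJ T) = 2 * Nat.card (hK T K) := by
  have hc := PLocal.card_sup_mul_card_inf (A := hK T K) (B := zJ T ⊓ wOf K)
    (fun x hx => Subgroup.centralizer_le_normalizer _ (Subgroup.mem_centralizer_iff.mpr fun y hy =>
      PLocal.comm_of_EA (omegaCenter_isEA (JT T)) hy.1 hx.1))
  rw [h.zJ_eq hT, h.card_inf_W hT] at hc
  have h2 : hK T K ⊓ (zJ T ⊓ wOf K) = ⊥ :=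
    le_bot_iff.mp ((inf_le_inf_left _ inf_le_right).trans h.hK_inf_W.le)
  rw [h2, Subgroup.card_bot, mul_one] at hc
  rw [hc, mul_comm]

theorem card_hK_le (hT : IsPGroup 2 T) (h : JC (JT T) K) (h4 : Nat.card (zJ T) ≤ 4) :
    Nat.card (hK T K) ≤ 2 := by
  have := h.card_zJ hT; omega

/-- Two hyperplanes meet unless `Ω₁(Z(J))` is small. -/
theorem exists_common (hT : IsPGroup 2 T) (h : JC (JT T) K) {K' : Subgroup G}
    (h' : JC (JT T) K') (h4 : 4 < Nat.card (zJ T)) :
    ∃ u, u ∈ hK T K ∧ u ∈ hK T K' ∧ u ≠ 1 := by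
  by_contra hcon
  push Not at hcon
  have hb : hK T K ⊓ hK T K' = ⊥ :=
    (Subgroup.eq_bot_iff_forall _).mpr fun u hu => hcon u hu.1 hu.2
  have hc := PLocal.card_sup_mul_card_inf (A := hK T K) (B := hK T K')
    (fun x hx => Subgroup.centralizer_le_normalizer _ (Subgroup.mem_centralizer_iff.mpr fun y hy =>
      PLocal.comm_of_EA (omegaCenter_isEA (JT T)) hy.1 hx.1))
  rw [hb, Subgroup.card_bot, mul_one] at hc
  have h1 := Subgroup.card_le_of_le (sup_le inf_le_left inf_le_left : hK T K ⊔ hK T K' ≤ zJ T)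
  have h2 := h.card_zJ hT
  have h3 := h'.card_zJ hT
  nlinarith

end JC

namespace Over

variable {T L : Subgroup G}

theorem sub (o : Over T L) {L' : Subgroup G} (hT : T ≤ L') (hL : L' ≤ L) : Over T L' := by
  haveI : Fact (Nat.Prime 2) := ⟨Nat.prime_two⟩
  have hQ : pCoreOf 2 L ≤ pCoreOf 2 L' :=
    le_op (o.Q_le_T.trans hT) (hL.trans (map_pCore_normalized L)) (isPGroup_op L)
  refine ⟨⟨hT, o.sylT.2.1, o.sylT.2.2.of_dvd_nat (Dvd.intro _ (Subgroup.relIndex_mul_relIndex T L' L hT hL))⟩,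
    (Subgroup.centralizer_le hQ).trans (o.char2.trans hQ), ?_, o.hZ⟩
  haveI := o.solv
  exact Group.isSolvable_of_isSolvable_injective (f := Subgroup.inclusion hL)
    (Subgroup.inclusion_injective _)

theorem cj (o : Over T L) (g : G) : Over (LocalEven.cj g T) (LocalEven.cj g L) := by
  refine ⟨cj_isSylowTwoIn o.sylT g, ?_, ?_, o.hZ⟩
  · rw [← cj_core, ← cj_centralizer_sub]
    exact cj_mono o.char2
  · haveI := o.solv
    exact Group.isSolvable_of_surjective (f := (L.equivMapOfInjective _ (MulAut.conj g).injective).toMonoidHom)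
      (L.equivMapOfInjective _ (MulAut.conj g).injective).surjective

/-- Two components of one overgroup. -/
theorem two_comps (o : Over T L) {K K' : Subgroup G} (h : JC (JT T) K) (hKL : K ≤ L)
    (h' : JC (JT T) K') (hKL' : K' ≤ L) :
    K' ≤ Subgroup.normalizer (K : Set G) ∧ (K = K' ∨
      (K ≤ Subgroup.centralizer (wOf K' : Set G) ∧ wOf K' ≤ Subgroup.centralizer (wOf K : Set G))) := by
  have hnorm : ∀ {A B : Subgroup G}, JC (JT T) A → A ≤ L → JC (JT T) B → B ≤ L →
      B ≤ Subgroup.normalizer (A : Set G) := fun {A B} hA hAL hB hBL x hx =>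
    o.normalizes_of_normalizes_W hA hAL ⟨hBL hx, (o.W_plane hA hAL).norm (o.K_le_H hB hBL hx)⟩
  refine ⟨hnorm h hKL h' hKL', ?_⟩
  have hY : IsElementaryAbelian 2 (yOf L) := omegaCenter_isEA _
  obtain ⟨d, hd, hdR⟩ := h.exists_d
  have td : Typ (yOf L) (wOf K) d :=
    ⟨o.W_le_Y h hKL, h.card4, o.K_normalizes_Y hKL hd, fun y hy => o.comm_Y_mem_W h hKL hy hd,
      fun w hw => h.fpf hd hdR hw, ((o.R_le_cOf h hKL) (h.cube_mem hd)).2⟩
  have hW' := o.W_le_Y h' hKL'
  have hdW' : d ∈ Subgroup.normalizer (wOf K' : Set G) := (o.W_plane h' hKL').norm (o.K_le_H h hKL hd)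
  rcases td.eq_or_disjoint hY hW' h'.card4 hdW' with e | e
  · -- equal planes
    refine Or.inl ?_
    have key : ∀ {A B : Subgroup G}, JC (JT T) A → A ≤ L → JC (JT T) B → B ≤ L → wOf A = wOf B →
        B ≤ A := by
      intro A B hA hAL hB hBL eW
      obtain ⟨a, ha, haR⟩ := hA.exists_d
      have hB' : B ≤ A ⊔ cOf L := by
        intro b hb
        obtain ⟨z, hz, hz1⟩ : ∃ z ∈ wOf A, z ≠ 1 := by
          by_contra hcon
          push Not at hcon
          exact hA.W_ne_bot ((Subgroup.eq_bot_iff_forall _).mpr hcon)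
        have hbz : b * z * b⁻¹ ∈ wOf A :=
          (Subgroup.mem_normalizer_iff.mp (eW ▸ JC.K_normalizes_W hb) z).mp hz
        obtain ⟨k, hk, hkz⟩ : ∃ k ∈ A, b * z * b⁻¹ = k * z * k⁻¹ := by
          rcases hA.four ha haR hz hz1 hbz with e | e | e | e
          · exact absurd (conj_eq_one_iff.mp e) hz1
          · exact ⟨1, one_mem _, by rw [e]; group⟩
          · exact ⟨a, ha, e⟩
          · exact ⟨a * a, A.mul_mem ha ha, e.trans (by group)⟩
        have := o.inv_mul_mem_C hA hAL ha haR hk (o.K_le_H' hB hBL hb)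
          (fun y hy => eW.ge (o.comm_Y_mem_W hB hBL hy hb)) hz hz1 hkz
        rw [show b = k * (k⁻¹ * b) by group]
        exact Subgroup.mul_mem_sup hk this
      have hB2 : B ≤ A ⊔ pCoreOf 2 L := by
        conv_lhs => rw [← hB.comm]
        refine Subgroup.commutator_le.mpr fun b hb j hj => ?_
        obtain ⟨k, hk, c, hc, rfl⟩ := Coprime.exists_mul_of_mem_sup (o.C_normalizes_K hA hAL) (hB' hb)
        have hjA : j * k⁻¹ * j⁻¹ ∈ A :=
          (Subgroup.mem_normalizer_iff.mp (hA.J_normalizes hj) _).mp (A.inv_mem hk)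
        rw [show ⁅k * c, j⁆ = k * ⁅c, j⁆ * (j * k⁻¹ * j⁻¹) by simp only [commutatorElement_def]; group]
        exact Subgroup.mul_mem _ (Subgroup.mul_mem _ (Subgroup.mem_sup_left hk)
          (Subgroup.mem_sup_right (o.C_comm_H hc (o.JT_le_hOf hj)))) (Subgroup.mem_sup_left hjA)
      exact le_of_odd_gen (o.Q_normalizes_K hA hAL) (isPGroup_op L) hB2 hB.gen
    exact le_antisymm (key h' hKL' h hKL e.symm) (key h hKL h' hKL' e)
  · refine Or.inr ⟨?_, fun w hw => ?_⟩
    · rw [h.K_eq_sup hd hdR]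
      refine sup_le ((o.R_le_cOf h hKL).trans (inf_le_right.trans (Subgroup.centralizer_le hW'))) ?_
      rw [Subgroup.zpowers_le, Subgroup.mem_centralizer_iff]
      exact fun w hw => (td.centralizes_of_disjoint hW' hdW' e hw).symm
    · exact Subgroup.mem_centralizer_iff.mpr fun v hv =>
        PLocal.comm_of_EA hY (o.W_le_Y h hKL hv) (hW' hw)

end Over

/-- A component with small `Ω₁(Z(J))` and a suitable overgroup. -/
structure Member (T K : Subgroup G) : Prop where
  jc : JC (JT T) K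
  ovW : Over T (Subgroup.normalizer (wOf K : Set G))
  small : Nat.card (zJ T) ≤ 4

namespace Member

variable {T K : Subgroup G}

theorem hT (m : Member T K) : IsPGroup 2 T := m.ovW.sylT.2.1

theorem T_norm (m : Member T K) : T ≤ Subgroup.normalizer (K : Set G) := fun _ ht =>
  m.ovW.normalizes_of_normalizes_W m.jc JC.K_normalizes_W ⟨m.ovW.sylT.1 ht, m.ovW.sylT.1 ht⟩

theorem norm_eq (m : Member T K) :
    Subgroup.normalizer (wOf K : Set G) ≤ Subgroup.normalizer (K : Set G) := fun _ hx =>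
  m.ovW.normalizes_of_normalizes_W m.jc JC.K_normalizes_W ⟨hx, hx⟩

theorem T_cent_hK (m : Member T K) : T ≤ Subgroup.centralizer (hK T K : Set G) :=
  centralizes_of_card_le_two (m.jc.card_hK_le m.hT m.small)
    ((le_inf (Subgroup.le_normalizer.trans (normalizer_le_normalizer_zJ T))
      (m.T_norm.trans (normalizer_le_normalizer_cent _))).trans
      Subgroup.inf_normalizer_le_normalizer_inf)

theorem T_cent_zJ (m : Member T K) : T ≤ Subgroup.centralizer (zJ T : Set G) := by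
  have h2 : T ≤ Subgroup.centralizer ((zJ T ⊓ wOf K : Subgroup G) : Set G) :=
    centralizes_of_card_le_two (m.jc.card_inf_W m.hT).le
      ((le_inf (Subgroup.le_normalizer.trans (normalizer_le_normalizer_zJ T)) m.ovW.sylT.1).trans
        Subgroup.inf_normalizer_le_normalizer_inf)
  rw [← m.jc.zJ_eq m.hT]
  refine Subgroup.le_centralizer_iff.mpr (sup_le ?_ ?_)
  · exact Subgroup.le_centralizer_iff.mp m.T_cent_hK
  · exact Subgroup.le_centralizer_iff.mp h2

theorem zJ_le_omega (m : Member T K) : zJ T ≤ omegaCenterOf T := fun x hx =>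
  mem_omegaCenter.mpr ⟨zJ_le T hx, Subgroup.le_centralizer_iff.mp m.T_cent_zJ hx,
    (mem_omegaCenter.mp hx).2.2⟩

theorem T_le (m : Member T K) : T ≤ lK T K := le_inf m.ovW.sylT.1 m.T_cent_hK

theorem K_le (m : Member T K) : K ≤ lK T K :=
  le_inf JC.K_normalizes_W (Subgroup.le_centralizer_iff.mp inf_le_right)

theorem overL (m : Member T K) : Over T (lK T K) := m.ovW.sub m.T_le inf_le_left

theorem lK_norm (m : Member T K) : lK T K ≤ Subgroup.normalizer (K : Set G) :=
  inf_le_left.trans m.norm_eq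

theorem uniq (m : Member T K) {C : Subgroup G} (hC : JC (JT T) C) (hCL : C ≤ lK T K) : C = K := by
  by_contra hne
  obtain ⟨-, h⟩ := m.overL.two_comps m.jc m.K_le hC hCL
  obtain ⟨hc, -⟩ := h.resolve_left (Ne.symm hne)
  obtain ⟨z, hz, hzW, hz1, -⟩ := hC.exists_z m.hT
  have hzH : z ∈ hK T K := ⟨hz, Subgroup.le_centralizer_iff.mp hc hzW⟩
  exact hz1 (hC.eq_one_of_fixed hzW (Subgroup.le_centralizer_iff.mp (hCL.trans inf_le_right) hzH))

theorem hK_le_core (m : Member T K) : hK T K ≤ pCoreOf 2 (lK T K) :=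
  le_op (inf_le_left.trans ((zJ_le T).trans m.T_le)) (inf_le_right.trans (Subgroup.centralizer_le_normalizer _))
    (m.hT.to_le (inf_le_left.trans (zJ_le T)))

theorem hK_le_Y (m : Member T K) : hK T K ≤ yOf (lK T K) := fun x hx =>
  mem_omegaCenter.mpr ⟨m.hK_le_core hx,
    Subgroup.le_centralizer_iff.mp ((op_le (lK T K)).trans inf_le_right) hx, (mem_omegaCenter.mp hx.1).2.2⟩

theorem W_le_Y (m : Member T K) : wOf K ≤ yOf (lK T K) := m.overL.W_le_Y m.jc m.K_le

theorem Y_eq (m : Member T K) : yOf (lK T K) = wOf K ⊔ hK T K := by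
  refine le_antisymm (m.overL.cover.trans (sup_le (fun y hy => ?_) (sSup_le fun P hP => ?_)))
    (sup_le m.W_le_Y m.hK_le_Y)
  · have hyC : y ∈ Subgroup.centralizer (hOf (lK T K) : Set G) := hy.2
    refine Subgroup.mem_sup_right ⟨mem_zJ_of (m.overL.Q_le_T (omegaCenter_le _ hy.1))
      (Subgroup.centralizer_le m.overL.JT_le_hOf hyC) ((omegaCenter_isEA _).2 y hy.1), ?_⟩
    exact Subgroup.centralizer_le (m.overL.K_le_H m.jc m.K_le) hyC
  · obtain ⟨C, hC, hCL, rfl⟩ := m.overL.component_of_plane hP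
    rw [m.uniq hC hCL]
    exact le_sup_left

theorem zJ_le_Y (m : Member T K) : zJ T ≤ yOf (lK T K) := by
  rw [← m.jc.zJ_eq m.hT, m.Y_eq]
  exact sup_le le_sup_right (inf_le_right.trans le_sup_left)

theorem card_Y_le (m : Member T K) : Nat.card (yOf (lK T K)) ≤ 8 := by
  have hc := PLocal.card_sup_mul_card_inf (A := hK T K) (B := wOf K)
    (fun x hx => Subgroup.centralizer_le_normalizer _ (Subgroup.mem_centralizer_iff.mpr fun y hy =>
      PLocal.comm_of_EA (omegaCenter_isEA _) (m.W_le_Y hy) (m.hK_le_Y hx)))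
  rw [m.jc.hK_inf_W, Subgroup.card_bot, mul_one, m.jc.card4, sup_comm, ← m.Y_eq] at hc
  have := m.jc.card_hK_le m.hT m.small
  omega

theorem cent_Y (m : Member T K) {x : G} (hxW : x ∈ Subgroup.centralizer (wOf K : Set G))
    (hxH : x ∈ Subgroup.centralizer (hK T K : Set G)) :
    x ∈ Subgroup.centralizer (yOf (lK T K) : Set G) := by
  suffices h : yOf (lK T K) ≤ Subgroup.centralizer ({x} : Set G) from
    Subgroup.mem_centralizer_iff.mpr fun y hy => Subgroup.mem_centralizer_singleton_iff.mp (h hy)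
  rw [m.Y_eq]
  exact sup_le (fun y hy => Subgroup.mem_centralizer_singleton_iff.mpr (Subgroup.mem_centralizer_iff.mp hxW y hy))
    (fun y hy => Subgroup.mem_centralizer_singleton_iff.mpr (Subgroup.mem_centralizer_iff.mp hxH y hy))

theorem mem_Q (m : Member T K) {x : G} (hx : x ∈ T) (hxW : x ∈ Subgroup.centralizer (wOf K : Set G)) :
    x ∈ pCoreOf 2 (lK T K) :=
  m.overL.mem_Q_of_two (m.hT.to_le (Subgroup.zpowers_le.mpr hx))
    (Subgroup.zpowers_le.mpr ⟨m.T_le hx, m.cent_Y hxW (m.T_cent_hK hx)⟩) (Subgroup.mem_zpowers x)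

theorem Q_cent_W (m : Member T K) : pCoreOf 2 (lK T K) ≤ Subgroup.centralizer (wOf K : Set G) :=
  (core_le_cOf _).trans (inf_le_right.trans (Subgroup.centralizer_le m.W_le_Y))

theorem exists_moving (m : Member T K) : ∃ a ∈ JT T, a ∉ pCoreOf 2 (lK T K) := by
  obtain ⟨A, hA, a, ha, haW⟩ := m.jc.exists_moving
  exact ⟨a, hA.le_JT ha, fun h => haW (m.Q_cent_W h)⟩

/-- A 2-element outside `O₂` induces the transvection with centre `z`. -/
theorem swap (m : Member T K) {x z v : G} (hx : x ∈ T) (hxQ : x ∉ pCoreOf 2 (lK T K))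
    (hz : z ∈ zJ T) (hzW : z ∈ wOf K) (hz1 : z ≠ 1) (hv : v ∈ wOf K) (hv1 : v ≠ 1) (hne : z ≠ v) :
    x * v * x⁻¹ = z * v :=
  image_of_fixed m.jc.card4 JC.W_EA hzW hv hz1 hv1 hne (m.ovW.sylT.1 hx)
    (Subgroup.mem_centralizer_iff.mp (m.T_cent_zJ hx) z hz).symm fun hc => hxQ (m.mem_Q hx hc)

/-- `[Y, x] ≤ Ω₁(Z(J)) ∩ W` for `x` in `T`. -/
theorem comm_mem (m : Member T K) {x y : G} (hx : x ∈ T) (hy : y ∈ yOf (lK T K)) :
    ⁅y, x⁆ ∈ zJ T ⊓ wOf K := by
  by_cases hxQ : x ∈ pCoreOf 2 (lK T K)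
  · rw [show ⁅y, x⁆ = 1 from commutatorElement_eq_one_iff_mul_comm.mpr
      (Subgroup.mem_centralizer_iff.mp ((core_le_cOf _) hxQ).2 y hy)]
    exact one_mem _
  rw [m.Y_eq] at hy
  obtain ⟨w, hw, h, hh, rfl⟩ := Coprime.exists_mul_of_mem_sup
    (fun x hx => Subgroup.centralizer_le_normalizer _ (Subgroup.mem_centralizer_iff.mpr fun y hy =>
      PLocal.comm_of_EA (omegaCenter_isEA _) (m.W_le_Y hy) (m.hK_le_Y hx))) hy
  have e : ⁅w * h, x⁆ = ⁅w, x⁆ := by
    have h1 : h * x = x * h := Subgroup.mem_centralizer_iff.mp (m.T_cent_hK hx) h hh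
    rw [commutatorElement_def, commutatorElement_def, mul_assoc w h x, h1, mul_inv_rev]; group
  rw [e]
  obtain ⟨z, hz, hzW, hz1, -⟩ := m.jc.exists_z m.hT
  obtain ⟨v, hv, hv1, hne⟩ := exists_ne_of_four m.jc.card4 z
  have hxz : ⁅z, x⁆ = 1 := commutatorElement_eq_one_iff_mul_comm.mpr
    (Subgroup.mem_centralizer_iff.mp (m.T_cent_zJ hx) z hz)
  have hxv : ⁅v, x⁆ = z := by
    rw [commutatorElement_def, show v * x * v⁻¹ * x⁻¹ = v * (x * v * x⁻¹)⁻¹ by group,
      m.swap hx hxQ hz hzW hz1 hv hv1 hne, mul_inv_rev, mul_inv_cancel_left, inv_self JC.W_EA hzW]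
  have hzc : ⁅z * v, x⁆ = z := by
    rw [show ⁅z * v, x⁆ = z * ⁅v, x⁆ * z⁻¹ * ⁅z, x⁆ by simp only [commutatorElement_def]; group,
      hxv, hxz, mul_one, mul_inv_cancel_right]
  rcases four_elems m.jc.card4 JC.W_EA hzW hv hz1 hv1 hne hw with rfl | rfl | rfl | rfl
  · simp
  · rw [hxz]; exact one_mem _
  · rw [hxv]; exact ⟨hz, hzW⟩
  · rw [hzc]; exact ⟨hz, hzW⟩

/-- The fixed points on `Y` of an element outside `O₂`. -/
theorem fixed_mem (m : Member T K) {x y : G} (hx : x ∈ T) (hxQ : x ∉ pCoreOf 2 (lK T K))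
    (hy : y ∈ yOf (lK T K)) (hxy : x * y = y * x) : y ∈ zJ T := by
  rw [m.Y_eq] at hy
  obtain ⟨w, hw, h, hh, rfl⟩ := Coprime.exists_mul_of_mem_sup
    (fun x hx => Subgroup.centralizer_le_normalizer _ (Subgroup.mem_centralizer_iff.mpr fun y hy =>
      PLocal.comm_of_EA (omegaCenter_isEA _) (m.W_le_Y hy) (m.hK_le_Y hx))) hy
  refine (zJ T).mul_mem ?_ hh.1
  have h1 : h * x = x * h := Subgroup.mem_centralizer_iff.mp (m.T_cent_hK hx) h hh
  have hxw : x * w = w * x := mul_right_cancel (b := h) (by rw [mul_assoc, hxy, mul_assoc, h1, mul_assoc])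
  obtain ⟨z, hz, hzW, hz1, -⟩ := m.jc.exists_z m.hT
  obtain ⟨v, hv, hv1, hne⟩ := exists_ne_of_four m.jc.card4 z
  rcases four_elems m.jc.card4 JC.W_EA hzW hv hz1 hv1 hne hw with rfl | rfl | rfl | rfl
  · exact one_mem _
  · exact hz
  · exfalso
    have e := m.swap hx hxQ hz hzW hz1 hv hv1 hne
    rw [hxw, mul_inv_cancel_right] at e
    exact hz1 (mul_eq_right.mp e.symm)
  · exfalso
    have e := m.swap hx hxQ hz hzW hz1 ((wOf K).mul_mem hzW hv)
      (fun e => hne (by rw [eq_inv_of_mul_eq_one_left e, inv_self JC.W_EA hv]))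
      (fun e => hv1 (mul_eq_left.mp e.symm))
    rw [hxw, mul_inv_cancel_right] at e
    exact hz1 (mul_eq_right.mp e.symm)

/-- `O₂` has index at most two in `T`. -/
theorem inv_mul_mem_Q (m : Member T K) {x x' : G} (hx : x ∈ T) (hx' : x' ∈ T)
    (hxQ : x ∉ pCoreOf 2 (lK T K)) (hxQ' : x' ∉ pCoreOf 2 (lK T K)) :
    x'⁻¹ * x ∈ pCoreOf 2 (lK T K) := by
  refine m.mem_Q (T.mul_mem (T.inv_mem hx') hx) ?_
  obtain ⟨z, hz, hzW, hz1, -⟩ := m.jc.exists_z m.hT
  obtain ⟨v, hv, hv1, hne⟩ := exists_ne_of_four m.jc.card4 z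
  refine centralizes_of_two_fixed m.jc.card4 JC.W_EA hzW hv hz1 hv1 hne
    (Subgroup.mem_centralizer_iff.mp (m.T_cent_zJ (T.mul_mem (T.inv_mem hx') hx)) z hz).symm
    (mul_inv_eq_iff_eq_mul.mp ?_)
  rw [show x'⁻¹ * x * v * (x'⁻¹ * x)⁻¹ = x'⁻¹ * (x * v * x⁻¹) * x' by group,
    m.swap hx hxQ hz hzW hz1 hv hv1 hne, ← m.swap hx' hxQ' hz hzW hz1 hv hv1 hne]
  group

/-- Elements of the overgroup fixing `z` normalize `T`. -/
theorem normalizes_of_fix (m : Member T K) {l z : G} (hl : l ∈ lK T K) (hz : z ∈ zJ T)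
    (hzW : z ∈ wOf K) (hz1 : z ≠ 1) (hlz : l * z = z * l) : l ∈ Subgroup.normalizer (T : Set G) := by
  by_cases hlW : l ∈ Subgroup.centralizer (wOf K : Set G)
  · exact m.overL.cOf_normalizes_T ⟨hl, m.cent_Y hlW hl.2⟩
  obtain ⟨a, ha, haQ⟩ := m.exists_moving
  obtain ⟨v, hv, hv1, hne⟩ := exists_ne_of_four m.jc.card4 z
  have haT := JT_le T ha
  have haz : a * z = z * a := (Subgroup.mem_centralizer_iff.mp (m.T_cent_zJ haT) z hz).symm
  have h1 := image_of_fixed m.jc.card4 JC.W_EA hzW hv hz1 hv1 hne hl.1 hlz hlW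
  have h2 := m.swap haT haQ hz hzW hz1 hv hv1 hne
  have h3 : a⁻¹ * l ∈ Subgroup.centralizer (wOf K : Set G) := by
    refine centralizes_of_two_fixed m.jc.card4 JC.W_EA hzW hv hz1 hv1 hne
      ((Commute.inv_left (show Commute a z from haz)).mul_left (show Commute l z from hlz)).eq
      (mul_inv_eq_iff_eq_mul.mp ?_)
    rw [show a⁻¹ * l * v * (a⁻¹ * l)⁻¹ = a⁻¹ * (l * v * l⁻¹) * a by group, h1, ← h2]
    group
  have hal : a⁻¹ * l ∈ lK T K := (lK T K).mul_mem ((lK T K).inv_mem (m.T_le haT)) hl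
  have := Subgroup.mul_mem _ (Subgroup.le_normalizer haT) (m.overL.cOf_normalizes_T ⟨hal, m.cent_Y h3 hal.2⟩)
  rwa [mul_inv_cancel_left] at this

theorem cj (m : Member T K) (g : G) : Member (LocalEven.cj g T) (LocalEven.cj g K) where
  jc := by rw [JT_cj]; exact m.jc.cj g
  ovW := by rw [← cj_wOf, ← cj_normalizer]; exact m.ovW.cj g
  small := by rw [← cj_zJ, card_cj]; exact m.small

end Member

end Cfsg.Agent.LocalEven.JComp
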