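import Cfsg.Agent.LocalEven.JCompTyp
import Cfsg.Agent.LocalEven.JCompLocal

/-! A subnormal component of a conjugate of `T` is a component of `T`. -/

set_option autoImplicit false
set_option linter.style.haveILetI false
set_option linter.unusedSectionVars false

open scoped commutatorElement

namespace Cfsg.Agent.LocalEven.JComp

open Cfsg

universe u

variable {G : Type u} [Group G] [Finite G]

/-- Elements of odd order in a group in which `K` is subnormal of 2-power index lie in `K`. -/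
theorem mem_of_odd {U : Type u} [Group U] [Finite U] {S : Subgroup U} (hS : S.IsSubnormal) {n : ℕ}
    (hn : S.index ∣ 2 ^ n) {x : U} (hx : Odd (orderOf x)) : x ∈ S := by
  induction hS with
  | top => trivial
  | step A B hAB _ hnorm ih =>
    haveI := hnorm
    have hxB : x ∈ B := ih ((Subgroup.index_dvd_of_le hAB).trans hn)
    have h1 : orderOf (QuotientGroup.mk (⟨x, hxB⟩ : ↥B) : ↥B ⧸ A.subgroupOf B) ∣ 2 ^ n := by
      refine ((orderOf_dvd_natCard _).trans ?_).trans hn
      show A.relIndex B ∣ _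
      exact Subgroup.relIndex_dvd_index_of_le hAB
    have h2 : orderOf (QuotientGroup.mk (⟨x, hxB⟩ : ↥B) : ↥B ⧸ A.subgroupOf B) ∣ orderOf x :=
      (orderOf_map_dvd (QuotientGroup.mk' (A.subgroupOf B)) (⟨x, hxB⟩ : ↥B)).trans
        (dvd_of_eq (Subgroup.orderOf_mk _ _))
    exact (QuotientGroup.eq_one_iff (⟨x, hxB⟩ : ↥B)).mp (orderOf_eq_one_iff.mp
      (Nat.eq_one_of_dvd_coprimes ((Nat.coprime_two_left.mpr hx).pow_left n) h1 h2))

/-- A normal 2-subgroup normalizes a subnormal subgroup generated by elements of odd order. -/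
theorem normalizes_subnormal {K X Q : Subgroup G} (hKX : K ≤ X) (hsn : (K.subgroupOf X).IsSubnormal)
    (hgen : Subgroup.closure {g : G | g ∈ K ∧ Odd (orderOf g)} = K) (hQX : Q ≤ X)
    (hQ : IsPGroup 2 Q) (hQn : X ≤ Subgroup.normalizer (Q : Set G)) :
    Q ≤ Subgroup.normalizer (K : Set G) := by
  set U := K ⊔ Q with hU
  have hUX : U ≤ X := sup_le hKX hQX
  have hsnU : (K.subgroupOf U).IsSubnormal := hsn.comap (Subgroup.inclusion hUX)
  obtain ⟨n, hn⟩ := IsPGroup.iff_card.mp hQ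
  have hidx : (K.subgroupOf U).index ∣ 2 ^ n := by
    have h1 := PLocal.card_sup_mul_card_inf (A := K) (B := Q) (hKX.trans hQn)
    rw [← hU, hn] at h1
    have h2 : Nat.card K * K.relIndex U = Nat.card U := by
      rw [← Nat.card_congr (Subgroup.subgroupOfEquivOfLe (le_sup_left : K ≤ U)).toEquiv]
      exact Subgroup.card_mul_index _
    rw [← h2, mul_assoc] at h1
    exact ⟨_, (Nat.eq_of_mul_eq_mul_left Nat.card_pos h1).symm⟩
  intro q hq
  rw [← cj_eq_self_iff]
  refine Subgroup.eq_of_le_of_card_ge ?_ (card_cj q K).ge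
  refine Subgroup.map_le_iff_le_comap.mpr ?_
  conv_lhs => rw [← hgen]
  rw [Subgroup.closure_le]
  rintro g ⟨hg, hgo⟩
  have hm : q * g * q⁻¹ ∈ U := U.mul_mem (U.mul_mem (Subgroup.mem_sup_right hq) (Subgroup.mem_sup_left hg))
    (U.inv_mem (Subgroup.mem_sup_right hq))
  exact mem_of_odd hsnU hidx (x := (⟨q * g * q⁻¹, hm⟩ : ↥U)) (by
    rw [Subgroup.orderOf_mk]
    exact (show orderOf ((MulAut.conj q) g) = orderOf g from (MulAut.conj q).orderOf_eq g) ▸ hgo)

theorem exists_maximal_normal {p : ℕ} [Fact p.Prime] {H : Type u} [Group H] [Finite H] (hH : IsPGroup p H)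
    {U : Subgroup H} (hU : U ≠ ⊤) : ∃ N : Subgroup H, N.Normal ∧ U ≤ N ∧ N ≠ ⊤ := by
  obtain ⟨N, hN, hUN⟩ := (eq_top_or_exists_le_coatom U).resolve_left hU
  haveI := hH.isNilpotent
  exact ⟨N, Subgroup.NormalizerCondition.normal_of_coatom N Group.normalizerCondition_of_isNilpotent hN, hUN, hN.1⟩

/-- The conjugates of `e` commute on `Y`. -/
theorem typ_conj_comm {X Y W : Subgroup G} {e : G} (hY : IsElementaryAbelian 2 Y) (hW : Typ Y W e)
    (hXY : X ≤ Subgroup.normalizer (Y : Set G)) (Q : Subgroup G) (hQ : Q ≤ Subgroup.centralizer (Y : Set G)) :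
    ∀ M : Subgroup G, M ≤ X → Q ≤ M → M ≤ Subgroup.normalizer (Q : Set G) →
      (∀ m ∈ M, ∃ n : ℕ, m ^ 3 ^ n ∈ Q) →
      ∀ b ∈ X, ∀ c ∈ X, b * e * b⁻¹ ∈ M → c * e * c⁻¹ ∈ M →
        ⁅b * e * b⁻¹, c * e * c⁻¹⁆ ∈ Subgroup.centralizer (Y : Set G) := by
  suffices h : ∀ k : ℕ, ∀ M : Subgroup G, Nat.card M = k → M ≤ X → Q ≤ M →
      M ≤ Subgroup.normalizer (Q : Set G) → (∀ m ∈ M, ∃ n : ℕ, m ^ 3 ^ n ∈ Q) →
      ∀ b ∈ X, ∀ c ∈ X, b * e * b⁻¹ ∈ M → c * e * c⁻¹ ∈ M →
        ⁅b * e * b⁻¹, c * e * c⁻¹⁆ ∈ Subgroup.centralizer (Y : Set G) from fun M => h _ M rfl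
  intro k
  induction k using Nat.strong_induction_on with
  | _ k ih =>
  intro M hk hMX hQM hMQ h3 b hb c hc hbM hcM
  haveI : Fact (Nat.Prime 3) := ⟨Nat.prime_three⟩
  set e1 := b * e * b⁻¹ with he1
  set e2 := c * e * c⁻¹ with he2
  have t1 := hW.conj (hXY hb)
  have t2 := hW.conj (hXY hc)
  rw [← he1] at t1
  rw [← he2] at t2
  haveI : (Q.subgroupOf M).Normal := Subgroup.normal_subgroupOf_of_le_normalizer hMQ
  set π := QuotientGroup.mk' (Q.subgroupOf M) with hπ
  have hp : IsPGroup 3 (↥M ⧸ Q.subgroupOf M) := by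
    intro x
    obtain ⟨⟨m, hm⟩, rfl⟩ := QuotientGroup.mk_surjective x
    obtain ⟨n, hn⟩ := h3 m hm
    exact ⟨n, (QuotientGroup.eq_one_iff ((⟨m, hm⟩ : ↥M) ^ 3 ^ n)).mpr hn⟩
  -- conjugates of `f` commute with it, unless `f` generates
  have step : ∀ f, f ∈ ({e1, e2} : Set G) → ∀ (hf : f ∈ M),
      Subgroup.zpowers (π ⟨f, hf⟩) = ⊤ ∨
        ∀ g ∈ M, ⁅f, g * f * g⁻¹⁆ ∈ Subgroup.centralizer (Y : Set G) := by
    intro f hf' hf
    by_cases htop : Subgroup.zpowers (π ⟨f, hf⟩) = ⊤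
    · exact Or.inl htop
    right
    obtain ⟨N, hNn, hfN, hN⟩ := exists_maximal_normal hp htop
    haveI := hNn
    set M' := (N.comap π).map M.subtype with hM'
    have hM'M : M' ≤ M := Subgroup.map_subtype_le _
    have hlt : Nat.card M' < k := by
      rw [← hk]
      refine lt_of_le_of_ne (Subgroup.card_le_of_le hM'M) fun he => hN ?_
      have h1 : N.comap π = ⊤ := Subgroup.eq_top_of_card_eq _ (by
        rw [← Subgroup.card_map_of_injective M.subtype_injective (K := N.comap π)]; exact he)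
      rw [← Subgroup.map_comap_eq_self_of_surjective (QuotientGroup.mk'_surjective (Q.subgroupOf M)) N]
      show (N.comap π).map π = ⊤
      rw [h1, Subgroup.map_top_of_surjective π (QuotientGroup.mk'_surjective _)]
    have hQM' : Q ≤ M' := fun q hq => ⟨⟨q, hQM hq⟩, by
      show π ⟨q, hQM hq⟩ ∈ N
      rw [show π ⟨q, hQM hq⟩ = 1 from (QuotientGroup.eq_one_iff (⟨q, hQM hq⟩ : ↥M)).mpr hq]
      exact one_mem N, rfl⟩
    have hfM' : f ∈ M' := ⟨⟨f, hf⟩, hfN (Subgroup.mem_zpowers _), rfl⟩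
    intro g hg
    have hgfM' : g * f * g⁻¹ ∈ M' := ⟨⟨g, hg⟩ * ⟨f, hf⟩ * ⟨g, hg⟩⁻¹, by
      show π _ ∈ N
      rw [map_mul, map_mul, map_inv]
      exact hNn.conj_mem _ (hfN (Subgroup.mem_zpowers _)) _, rfl⟩
    obtain ⟨x, hx, hfx⟩ : ∃ x ∈ X, f = x * e * x⁻¹ := by
      rcases hf' with rfl | rfl
      exacts [⟨b, hb, rfl⟩, ⟨c, hc, rfl⟩]
    have hgf : g * f * g⁻¹ = g * x * e * (g * x)⁻¹ := by rw [hfx]; group
    rw [hgf, hfx]
    exact ih _ hlt M' rfl (hM'M.trans hMX) hQM' (hM'M.trans hMQ) (fun m hm => h3 m (hM'M hm)) x hx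
      (g * x) (X.mul_mem (hMX hg) hx) (hfx ▸ hfM') (hgf ▸ hgfM')
  -- if one of them generates, they commute
  have gencase : ∀ f f' (hf : f ∈ M) (hf' : f' ∈ M), Subgroup.zpowers (π ⟨f, hf⟩) = ⊤ →
      ⁅f, f'⁆ ∈ Subgroup.centralizer (Y : Set G) := by
    intro f f' hf hf' htop
    obtain ⟨n, hn⟩ := Subgroup.mem_zpowers_iff.mp (htop ▸ Subgroup.mem_top (π ⟨f', hf'⟩))
    have h1 : π ⁅(⟨f, hf⟩ : ↥M), ⟨f', hf'⟩⁆ = 1 := by
      rw [map_commutatorElement, ← hn]
      exact commutatorElement_eq_one_iff_mul_comm.mpr ((Commute.refl _).zpow_right n).eq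
    exact hQ ((QuotientGroup.eq_one_iff ⁅(⟨f, hf⟩ : ↥M), (⟨f', hf'⟩ : ↥M)⁆).mp h1)
  rcases step e1 (Set.mem_insert _ _) hbM with h1 | h1
  · exact gencase e1 e2 hbM hcM h1
  rcases step e2 (Set.mem_insert_of_mem _ rfl) hcM with h2 | h2
  · have h4 := Subgroup.inv_mem _ (gencase e2 e1 hcM hbM h2)
    rwa [commutatorElement_inv] at h4
  have n21 : e2 ∈ Subgroup.normalizer (LocalEven.cj b W : Set G) := t1.norm_of_conj_comm t2 hY fun g hg => h1 g (by
    rcases hg with rfl | rfl
    exacts [hcM, M.mul_mem hcM hcM])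
  have n12 : e1 ∈ Subgroup.normalizer (LocalEven.cj c W : Set G) := t2.norm_of_conj_comm t1 hY fun g hg => h2 g (by
    rcases hg with rfl | rfl
    exacts [hbM, M.mul_mem hbM hbM])
  rcases t1.eq_or_disjoint hY t2.le t2.card n12 with hEq | hd
  · -- same plane: they agree up to inverse on it
    rw [← hEq] at t2
    obtain ⟨⟨w, hw⟩, hw1⟩ := Subgroup.ne_bot_iff_exists_ne_one.mp
      (show LocalEven.cj b W ≠ ⊥ from fun h0 => by
        have h4 := t1.card; rw [h0, Subgroup.card_bot] at h4; exact absurd h4 (by norm_num))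
    have hw1' : w ≠ 1 := fun h0 => hw1 (Subtype.ext h0)
    have hfour : ∀ (f : G), Typ Y (LocalEven.cj b W) f → ∀ v ∈ LocalEven.cj b W,
        v = 1 ∨ v = w ∨ v = f * w * f⁻¹ ∨ v = w * (f * w * f⁻¹) := by
      intro f tf v hv
      classical
      by_contra hcon
      push Not at hcon
      obtain ⟨q1, q2, q3, q4⟩ := hcon
      have hx := (Subgroup.mem_normalizer_iff.mp tf.normW w).mp hw
      have hne : f * w * f⁻¹ ≠ w := fun e1 => hw1' (tf.fpf w hw (mul_inv_eq_iff_eq_mul.mp e1))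
      have p1 : f * w * f⁻¹ ≠ 1 := fun e1 => hw1' (conj_eq_one_iff.mp e1)
      have p2 : w * (f * w * f⁻¹) ≠ 1 := fun e1 => hne (by
        rw [eq_inv_of_mul_eq_one_right e1, inv_self hY (t1.le hw)])
      have hsub : ({1, w, f * w * f⁻¹, w * (f * w * f⁻¹), v} : Finset G) ⊆
          ((LocalEven.cj b W : Subgroup G) : Set G).toFinite.toFinset := by
        intro t ht
        rw [Set.Finite.mem_toFinset, SetLike.mem_coe]
        simp only [Finset.mem_insert, Finset.mem_singleton] at ht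
        rcases ht with rfl | rfl | rfl | rfl | rfl
        exacts [one_mem _, hw, hx, Subgroup.mul_mem _ hw hx, hv]
      have hcard := Finset.card_le_card hsub
      rw [← Nat.card_eq_card_finite_toFinset,
        show Nat.card ↥((LocalEven.cj b W : Subgroup G) : Set G) = 4 from t1.card,
        Finset.card_insert_of_notMem, Finset.card_insert_of_notMem, Finset.card_insert_of_notMem,
        Finset.card_insert_of_notMem, Finset.card_singleton] at hcard
      · omega
      · simpa using Ne.symm q4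
      · simp only [Finset.mem_insert, Finset.mem_singleton, not_or]
        exact ⟨fun e1 => hw1' (mul_eq_right.mp e1.symm), Ne.symm q3⟩
      · simp only [Finset.mem_insert, Finset.mem_singleton, not_or]
        exact ⟨Ne.symm hne, fun e1 => p1 (mul_eq_left.mp e1.symm), Ne.symm q2⟩
      · simp only [Finset.mem_insert, Finset.mem_singleton, not_or]
        exact ⟨Ne.symm hw1', Ne.symm p1, Ne.symm p2, Ne.symm q1⟩
    -- a power of `e1` agreeing with `e2` at `w`
    obtain ⟨k, hk, hkw⟩ : ∃ k ∈ ({e1, e1 * e1} : Set G), e2 * w * e2⁻¹ = k * w * k⁻¹ := by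
      rcases hfour e1 t1 _ ((Subgroup.mem_normalizer_iff.mp t2.normW w).mp hw) with h0 | h0 | h0 | h0
      · exact absurd (conj_eq_one_iff.mp h0) hw1'
      · exact absurd (t2.fpf w hw (mul_inv_eq_iff_eq_mul.mp h0)) hw1'
      · exact ⟨e1, Set.mem_insert _ _, h0⟩
      · refine ⟨e1 * e1, Set.mem_insert_of_mem _ rfl, h0.trans ?_⟩
        have hz : e1 * (e1 * w * e1⁻¹) * e1⁻¹ ∈ LocalEven.cj b W :=
          (Subgroup.mem_normalizer_iff.mp t1.normW _).mp ((Subgroup.mem_normalizer_iff.mp t1.normW w).mp hw)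
        rcases hfour e1 t1 _ hz with h5 | h5 | h5 | h5
        · exact absurd (conj_eq_one_iff.mp (conj_eq_one_iff.mp h5)) hw1'
        · exfalso
          -- order two and three together
          have hc3 := Subgroup.mem_centralizer_iff.mp t1.cube w (t1.le hw)
          have h6 : e1 * w * e1⁻¹ = w := by
            calc e1 * w * e1⁻¹ = e1 * (e1 * (e1 * w * e1⁻¹) * e1⁻¹) * e1⁻¹ := by rw [h5]
              _ = (e1 ^ 3 * w) * (e1 ^ 3)⁻¹ := by
                simp only [pow_succ, pow_zero, one_mul, mul_inv_rev, mul_assoc]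
              _ = w := by rw [← hc3]; group
          exact hw1' (t1.fpf w hw (mul_inv_eq_iff_eq_mul.mp h6))
        · exact absurd (t1.fpf w hw (mul_inv_eq_iff_eq_mul.mp
            ((MulAut.conj e1).injective (a₁ := e1 * w * e1⁻¹) (a₂ := w) h5))) hw1'
        · rw [← h5]; group
    have hkM : k ∈ M := by rcases hk with rfl | rfl; exacts [hbM, M.mul_mem hbM hbM]
    have hkmove : ∀ y ∈ Y, ⁅y, k⁻¹⁆ ∈ LocalEven.cj b W := by
      intro y hy
      have one : ∀ z ∈ Y, ⁅z, e1⁻¹⁆ ∈ LocalEven.cj b W := fun z hz => by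
        rw [show ⁅z, e1⁻¹⁆ = e1⁻¹ * ⁅z, e1⁆⁻¹ * e1 by simp only [commutatorElement_def]; group]
        have := (Subgroup.mem_normalizer_iff.mp (Subgroup.inv_mem _ t1.normW) _).mp
          ((LocalEven.cj b W).inv_mem (t1.move _ hz))
        rwa [inv_inv] at this
      rcases hk with rfl | rfl
      · exact one y hy
      · have h7 := (Subgroup.mem_normalizer_iff.mp (Subgroup.inv_mem _ t1.normW) _).mp (one y hy)
        rw [inv_inv] at h7
        rw [show ⁅y, (e1 * e1)⁻¹⁆ = ⁅y, e1⁻¹⁆ * (e1⁻¹ * ⁅y, e1⁻¹⁆ * e1) by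
          simp only [commutatorElement_def, mul_inv_rev]; group]
        exact (LocalEven.cj b W).mul_mem (one y hy) h7
    have hkN : k ∈ Subgroup.normalizer (LocalEven.cj b W : Set G) := by
      rcases hk with rfl | rfl; exacts [t1.normW, Subgroup.mul_mem _ t1.normW t1.normW]
    set u := k⁻¹ * e2 with hu
    have huM : u ∈ M := M.mul_mem (M.inv_mem hkM) hcM
    have hun : u ∈ Subgroup.normalizer (LocalEven.cj b W : Set G) :=
      Subgroup.mul_mem _ (Subgroup.inv_mem _ hkN) t2.normW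
    obtain ⟨n, hn⟩ := h3 u huM
    have huw : u * w = w * u := by
      refine mul_inv_eq_iff_eq_mul.mp ?_
      rw [hu, show k⁻¹ * e2 * w * (k⁻¹ * e2)⁻¹ = k⁻¹ * (e2 * w * e2⁻¹) * k by group, hkw]; group
    have hufix : ∀ v ∈ LocalEven.cj b W, u * v = v * u := by
      intro v hv
      set x := e1 * w * e1⁻¹
      have hx := (Subgroup.mem_normalizer_iff.mp t1.normW w).mp hw
      -- `u` fixes `x` or swaps it with `w x`; the latter contradicts 3-torsion
      have hxfix : u * x = x * u := by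
        refine mul_inv_eq_iff_eq_mul.mp ?_
        rcases hfour e1 t1 _ ((Subgroup.mem_normalizer_iff.mp hun x).mp hx) with h8 | h8 | h8 | h8
        · exact absurd (conj_eq_one_iff.mp (conj_eq_one_iff.mp h8)) hw1'
        · exfalso
          have h9 : u * x * u⁻¹ = u * w * u⁻¹ := by rw [h8, huw, mul_inv_cancel_right]
          exact hw1' (t1.fpf w hw (mul_inv_eq_iff_eq_mul.mp ((MulAut.conj u).injective h9)))
        · exact h8
        · exfalso
          have hwc : u * w * u⁻¹ = w := by rw [huw, mul_inv_cancel_right]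
          have h10 : ∀ i : ℕ, u ^ i * x * (u ^ i)⁻¹ = w ^ i * x := PLocal.conj_pow_eq h8 huw
          have h11 := h10 (3 ^ n)
          rw [← Subgroup.mem_centralizer_iff.mp (hQ hn) x (t1.le hx), mul_inv_cancel_right] at h11
          have h12 : w ^ 3 ^ n = 1 := mul_eq_right.mp h11.symm
          exact hw1' (orderOf_eq_one_iff.mp (Nat.eq_one_of_dvd_coprimes
            ((by decide : Nat.Coprime 2 3).pow_right n)
            (orderOf_dvd_of_pow_eq_one (hY.2 w (t1.le hw))) (orderOf_dvd_of_pow_eq_one h12)))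
      rcases hfour e1 t1 v hv with rfl | rfl | rfl | rfl
      · simp
      · exact huw
      · exact hxfix
      · exact (Commute.mul_right (huw : Commute u w) hxfix).eq
    have humove : ∀ y ∈ Y, ⁅y, u⁆ ∈ LocalEven.cj b W := fun y hy => by
      rw [hu, show ⁅y, k⁻¹ * e2⁆ = ⁅y, k⁻¹⁆ * (k⁻¹ * ⁅y, e2⁆ * k) by simp only [commutatorElement_def]; group]
      have h13 := (Subgroup.mem_normalizer_iff.mp (Subgroup.inv_mem _ hkN) _).mp (t2.move y hy)
      rw [inv_inv] at h13
      exact (LocalEven.cj b W).mul_mem (hkmove y hy) h13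
    have huC := Typ.unipotent_trivial hY t1.le hufix humove (hQ hn)
    rw [show e2 = k * u by rw [hu, mul_inv_cancel_left]]
    have hk0 : Commute e1 k := by
      rcases hk with rfl | rfl
      exacts [Commute.refl _, (Commute.refl _).mul_right (Commute.refl _)]
    rw [show ⁅e1, k * u⁆ = ⁅e1, k⁆ * (k * ⁅e1, u⁆ * k⁻¹) by simp only [commutatorElement_def]; group,
      commutatorElement_eq_one_iff_mul_comm.mpr hk0.eq, one_mul]
    refine (Subgroup.mem_normalizer_iff.mp (normalizer_le_normalizer_cent _ (hXY (hMX hkM))) _).mp ?_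
    rw [commutatorElement_def]
    exact Subgroup.mul_mem _ ((Subgroup.mem_normalizer_iff.mp (normalizer_le_normalizer_cent _ t1.norm) u).mp huC)
      (Subgroup.inv_mem _ huC)
  · exact t1.disjoint_comm t2 hY n12 n21 hd

end Cfsg.Agent.LocalEven.JComp
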