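import Cfsg.Agent.LocalEven.JCompVertex

/-! The product of the two centres is not normalized by a component. -/

set_option autoImplicit false
set_option linter.style.haveILetI false
set_option linter.unusedSectionVars false

open scoped commutatorElement

namespace Cfsg.Agent.LocalEven.JComp

open Cfsg

universe u

variable {G : Type u} [Group G] [Finite G]

/-- A component is the commutator with any of its subgroups of `N(K)` not centralizing it modulo `R`. -/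
theorem JC.commutator_eq {J K A : Subgroup G} (h : JC J K) (hA : A ≤ Subgroup.normalizer (K : Set G))
    {k a : G} (hk : k ∈ K) (ha : a ∈ A) (hka : ⁅k, a⁆ ∉ pCoreOf 2 K) : ⁅K, A⁆ = K := by
  set M := ⁅K, A⁆
  have hMK : M ≤ K := Subgroup.le_normalizer_iff_commutator_le_left.mp hA
  refine le_antisymm hMK ?_
  have hb : ⁅k, a⁆ ∈ M := Subgroup.commutator_mem_commutator hk ha
  have hKMR : K ≤ M ⊔ pCoreOf 2 K := by
    intro x hx
    rcases h.cases3 (hMK hb) hka hx with h1 | h1 | h1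
    · exact Subgroup.mem_sup_right h1
    · have := Subgroup.mul_mem _ (Subgroup.mem_sup_right h1 : x * ⁅k, a⁆⁻¹ ∈ M ⊔ pCoreOf 2 K)
        (Subgroup.mem_sup_left hb)
      rwa [inv_mul_cancel_right] at this
    · have := Subgroup.mul_mem _ (Subgroup.mem_sup_right h1 : x * ⁅k, a⁆ ∈ M ⊔ pCoreOf 2 K)
        (Subgroup.mem_sup_left (M.inv_mem hb))
      rwa [mul_inv_cancel_right] at this
  exact le_of_odd_gen (R_le.trans (Subgroup.normalizer_commutator_ge_left K A)) R_pGroup hKMR h.gen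

/-- An element outside `O₂` moves `d` modulo `R`. -/
theorem Member.comm_not_mem_R {U C : Subgroup G} (m : Member U C) {d x : G} (hd : d ∈ C)
    (hdR : d ∉ pCoreOf 2 C) (hx : x ∈ U) (hxQ : x ∉ pCoreOf 2 (lK U C)) : ⁅d, x⁆ ∉ pCoreOf 2 C := by
  intro hc
  obtain ⟨z, hz, hzW, hz1, -⟩ := m.jc.exists_z m.hT
  exact hxQ (m.mem_Q hx (m.jc.centralizes_of_fix hd hdR hzW hz1
    (Subgroup.mem_centralizer_iff.mp (m.T_cent_zJ hx) z hz).symm hc))

theorem Member.R_le_Q {U C : Subgroup G} (m : Member U C) : pCoreOf 2 C ≤ pCoreOf 2 (lK U C) :=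
  m.overL.R_le_Q m.jc m.K_le

theorem Member.Q_le {U C : Subgroup G} (m : Member U C) : pCoreOf 2 (lK U C) ≤ U := m.overL.Q_le_T

theorem Member.lK_le_norm_Q {U C : Subgroup G} (_m : Member U C) :
    lK U C ≤ Subgroup.normalizer (pCoreOf 2 (lK U C) : Set G) := map_pCore_normalized _

theorem Member.Y_le_Q {U C : Subgroup G} (_m : Member U C) : yOf (lK U C) ≤ pCoreOf 2 (lK U C) :=
  omegaCenter_le _

theorem Member.Q_cent_Y {U C : Subgroup G} (_m : Member U C) :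
    pCoreOf 2 (lK U C) ≤ Subgroup.centralizer (yOf (lK U C) : Set G) :=
  (core_le_cOf _).trans inf_le_right

namespace Fam

variable {T : Subgroup G} {P : Subgroup G → Subgroup G → Prop}

/-- Key step. -/
theorem no_normal (F : Fam T P) {C D : Subgroup G} (hC : P T C) (hD : P T D) (hn : NoNorm T C D)
    (hCD : yOf (lK T C) ≤ pCoreOf 2 (lK T D)) (hDC : yOf (lK T D) ≤ pCoreOf 2 (lK T C))
    (hKV : C ≤ Subgroup.normalizer ((yOf (lK T C) ⊔ yOf (lK T D) : Subgroup G) : Set G)) : False := by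
  haveI : Fact (Nat.Prime 2) := ⟨Nat.prime_two⟩
  have mC := F.mem hC
  have mD := F.mem hD
  set YA := yOf (lK T C) with hYA
  set YB := yOf (lK T D) with hYB
  set QA := pCoreOf 2 (lK T C) with hQA
  set QB := pCoreOf 2 (lK T D) with hQB
  set V := YA ⊔ YB with hV
  have hAB : YA ≤ Subgroup.centralizer (YB : Set G) := hCD.trans mD.Q_cent_Y
  have hVE : IsElementaryAbelian 2 V :=
    PLocal.isEA_sup (omegaCenter_isEA _) (omegaCenter_isEA _) hAB
  have hTV : T ≤ Subgroup.normalizer (V : Set G) :=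
    (le_inf (mC.T_le.trans (le_normalizer_yOf _)) (mD.T_le.trans (le_normalizer_yOf _))).trans
      (Subgroup.normalizer_inf_normalizer_le_normalizer_sup _ _)
  have hQA_T : QA ≤ T := mC.Q_le
  have hQB_T : QB ≤ T := mD.Q_le
  -- `O₂`s are different
  have hQne : QA ≠ QB := fun e => hn QA (isPGroup_op _)
    (fun e' => mC.jc.W_ne_bot (le_bot_iff.mp (e' ▸ mC.W_le_Y.trans mC.Y_le_Q)))
    (mC.T_le.trans mC.lK_le_norm_Q) (mC.K_le.trans mC.lK_le_norm_Q)
    (e.symm ▸ mD.K_le.trans mD.lK_le_norm_Q)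
  obtain ⟨q, hq, hqA⟩ : ∃ q ∈ QB, q ∉ QA := by
    by_contra hcon
    push Not at hcon
    refine hQne (le_antisymm (fun x hx => ?_) hcon)
    by_contra hxB
    obtain ⟨a, ha, haA⟩ := mC.exists_moving
    have haT := JT_le T ha
    have haB : a ∉ QB := fun h => haA (hcon a h)
    refine haA ?_
    have := QA.mul_mem hx (hcon _ (mD.inv_mul_mem_Q haT (hQA_T hx) haB hxB))
    rwa [mul_inv_cancel_left] at this
  obtain ⟨q', hq', hqB⟩ : ∃ q ∈ QA, q ∉ QB := by
    by_contra hcon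
    push Not at hcon
    refine hQne (le_antisymm hcon (fun x hx => ?_))
    by_contra hxA
    obtain ⟨a, ha, haB⟩ := mD.exists_moving
    have haT := JT_le T ha
    have haA : a ∉ QA := fun h => haB (hcon a h)
    refine haB ?_
    have := QB.mul_mem hx (hcon _ (mC.inv_mul_mem_Q haT (hQB_T hx) haA hxA))
    rwa [mul_inv_cancel_left] at this
  obtain ⟨zA, hzA, hzAW, hzA1, huA⟩ := mC.jc.exists_z mC.hT
  obtain ⟨zB, hzB, hzBW, hzB1, huB⟩ := mD.jc.exists_z mD.hT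
  have hdec : ∀ v ∈ V, ∃ a ∈ YA, ∃ b ∈ YB, v = a * b := fun v hv => by
    obtain ⟨a, ha, b, hb, e⟩ := Coprime.exists_mul_of_mem_sup
      ((Subgroup.le_centralizer_iff.mp hAB).trans (Subgroup.centralizer_le_normalizer _)) hv
    exact ⟨a, ha, b, hb, e.symm⟩
  -- commutators with the two `O₂`s
  have hcA : ∀ v ∈ V, ∀ x ∈ QA, ⁅v, x⁆ ∈ zJ T ⊓ wOf D := by
    intro v hv x hx
    obtain ⟨a, ha, b, hb, rfl⟩ := hdec v hv
    have h1 : ⁅a, x⁆ = 1 := commutatorElement_eq_one_iff_mul_comm.mpr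
      (Subgroup.mem_centralizer_iff.mp (mC.Q_cent_Y hx) a ha)
    have h2 := mD.comm_mem (hQA_T hx) hb
    have h3 : a * ⁅b, x⁆ = ⁅b, x⁆ * a :=
      PLocal.comm_of_EA (omegaCenter_isEA (pCoreOf 2 (lK T C))) ha (mC.zJ_le_Y h2.1)
    rw [show ⁅a * b, x⁆ = a * ⁅b, x⁆ * a⁻¹ * ⁅a, x⁆ by simp only [commutatorElement_def]; group,
      h3, h1, mul_one, mul_inv_cancel_right]
    exact h2
  have hcB : ∀ v ∈ V, ∀ x ∈ QB, ⁅v, x⁆ ∈ zJ T ⊓ wOf C := by
    intro v hv x hx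
    obtain ⟨a, ha, b, hb, rfl⟩ := hdec v hv
    have h1 : ⁅b, x⁆ = 1 := commutatorElement_eq_one_iff_mul_comm.mpr
      (Subgroup.mem_centralizer_iff.mp (mD.Q_cent_Y hx) b hb)
    rw [show ⁅a * b, x⁆ = a * ⁅b, x⁆ * a⁻¹ * ⁅a, x⁆ by simp only [commutatorElement_def]; group,
      h1, mul_one, mul_inv_cancel, one_mul]
    exact mC.comm_mem (hQB_T hx) ha
  -- `zB` is centralized by `C`
  obtain ⟨y0, hy0, hy0c⟩ : ∃ y ∈ YB, ⁅y, q'⁆ ≠ 1 := by
    by_contra hcon
    push Not at hcon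
    refine hqB (mD.mem_Q (hQA_T hq') (Subgroup.mem_centralizer_iff.mpr fun w hw => ?_))
    exact commutatorElement_eq_one_iff_mul_comm.mp (hcon w (mD.W_le_Y hw))
  have hC1 : ∀ k ∈ C, k * zB * k⁻¹ = zB := by
    intro k hk
    have h0 := hcA y0 (Subgroup.mem_sup_right hy0) q' hq'
    have e0 : ⁅y0, q'⁆ = zB := (huB _ h0.1 h0.2).resolve_left hy0c
    have h1 := hcA (k * y0 * k⁻¹) ((Subgroup.mem_normalizer_iff.mp (hKV hk) y0).mp (Subgroup.mem_sup_right hy0))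
      (k * q' * k⁻¹) ((Subgroup.mem_normalizer_iff.mp (mC.lK_le_norm_Q (mC.K_le hk)) q').mp hq')
    rw [show ⁅k * y0 * k⁻¹, k * q' * k⁻¹⁆ = k * ⁅y0, q'⁆ * k⁻¹ by simp only [commutatorElement_def]; group,
      e0] at h1
    exact (huB _ h1.1 h1.2).resolve_left fun e => hzB1 (conj_eq_one_iff.mp e)
  have hzBH : zB ∈ hK T C := ⟨hzB, Subgroup.mem_centralizer_iff.mpr fun k hk =>
    mul_inv_eq_iff_eq_mul.mp (hC1 k hk)⟩
  -- `[V, C] ≤ W`
  let St : Subgroup G :=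
    { carrier := {g | g ∈ Subgroup.normalizer (V : Set G) ∧ g ∈ Subgroup.normalizer (wOf C : Set G) ∧
        ∀ v ∈ V, ⁅v, g⁆ ∈ wOf C}
      one_mem' := ⟨one_mem _, one_mem _, fun v _ => by simp⟩
      mul_mem' := fun {a b} ha hb => ⟨Subgroup.mul_mem _ ha.1 hb.1, Subgroup.mul_mem _ ha.2.1 hb.2.1,
        fun v hv => by
          rw [show ⁅v, a * b⁆ = ⁅v, a⁆ * (a * ⁅v, b⁆ * a⁻¹) by simp only [commutatorElement_def]; group]
          exact (wOf C).mul_mem (ha.2.2 v hv) ((Subgroup.mem_normalizer_iff.mp ha.2.1 _).mp (hb.2.2 v hv))⟩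
      inv_mem' := fun {a} ha => ⟨Subgroup.inv_mem _ ha.1, Subgroup.inv_mem _ ha.2.1, fun v hv => by
        rw [show ⁅v, a⁻¹⁆ = a⁻¹ * ⁅v, a⁆⁻¹ * a by simp only [commutatorElement_def]; group]
        have := (Subgroup.mem_normalizer_iff.mp (Subgroup.inv_mem _ ha.2.1) _).mp
          ((wOf C).inv_mem (ha.2.2 v hv))
        rwa [inv_inv] at this⟩ }
  have hStC : ∀ {k g : G}, k ∈ C → g ∈ St → k * g * k⁻¹ ∈ St := by
    intro k g hk hg
    refine ⟨Subgroup.mul_mem _ (Subgroup.mul_mem _ (hKV hk) hg.1) (Subgroup.inv_mem _ (hKV hk)),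
      Subgroup.mul_mem _ (Subgroup.mul_mem _ (JC.K_normalizes_W hk) hg.2.1)
        (Subgroup.inv_mem _ (JC.K_normalizes_W hk)), fun v hv => ?_⟩
    have hv' : k⁻¹ * v * k ∈ V := by
      have := (Subgroup.mem_normalizer_iff.mp (Subgroup.inv_mem _ (hKV hk)) v).mp hv
      rwa [inv_inv] at this
    rw [show ⁅v, k * g * k⁻¹⁆ = k * ⁅k⁻¹ * v * k, g⁆ * k⁻¹ by simp only [commutatorElement_def]; group]
    exact (Subgroup.mem_normalizer_iff.mp (JC.K_normalizes_W hk) _).mp (hg.2.2 _ hv')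
  have hqSt : q ∈ St :=
    ⟨hTV (hQB_T hq), mC.ovW.sylT.1 (hQB_T hq), fun v hv => (hcB v hv q hq).2⟩
  obtain ⟨d, hd, hdR⟩ := mC.jc.exists_d
  have hbR : ⁅d, q⁆ ∉ pCoreOf 2 C := mC.comm_not_mem_R hd hdR (hQB_T hq) hqA
  have hbC : ⁅d, q⁆ ∈ C :=
    Subgroup.le_normalizer_iff_commutator_le_left.mp le_rfl
      (Subgroup.commutator_mem_commutator hd (mC.T_norm (hQB_T hq)))
  have hbS : ⁅d, q⁆ ∈ St ⊓ C := ⟨by
    rw [commutatorElement_def]; exact St.mul_mem (hStC hd hqSt) (St.inv_mem hqSt), hbC⟩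
  have hCSt : C ≤ St ⊓ C := by
    refine le_of_odd_gen (Q := pCoreOf 2 C) (fun r hr => ?_) (JC.R_pGroup (K := C)) (fun x hx => ?_) mC.jc.gen
    · rw [← cj_eq_self_iff]
      refine Subgroup.eq_of_le_of_card_ge ?_ (card_cj r _).ge
      rintro _ ⟨g, ⟨hg, hgC⟩, rfl⟩
      exact ⟨hStC (JC.R_le hr) hg, C.mul_mem (C.mul_mem (JC.R_le hr) hgC) (C.inv_mem (JC.R_le hr))⟩
    · rcases mC.jc.cases3 hbC hbR hx with h1 | h1 | h1
      · exact Subgroup.mem_sup_right h1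
      · have := Subgroup.mul_mem _ (Subgroup.mem_sup_right h1 : x * ⁅d, q⁆⁻¹ ∈ (St ⊓ C) ⊔ pCoreOf 2 C)
          (Subgroup.mem_sup_left hbS)
        rwa [inv_mul_cancel_right] at this
      · have := Subgroup.mul_mem _ (Subgroup.mem_sup_right h1 : x * ⁅d, q⁆ ∈ (St ⊓ C) ⊔ pCoreOf 2 C)
          (Subgroup.mem_sup_left ((St ⊓ C).inv_mem hbS))
        rwa [mul_inv_cancel_right] at this
  have hVW : ∀ v ∈ V, ∀ k ∈ C, ⁅v, k⁆ ∈ wOf C := fun v hv k hk => (hCSt hk).1.2.2 v hv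
  have hRV : ∀ r ∈ pCoreOf 2 C, ∀ v ∈ V, r * v = v * r := by
    intro r hr v hv
    have h1 := hcA v hv r (mC.R_le_Q hr)
    have h2 := hVW v hv r (JC.R_le hr)
    rcases huB _ h1.1 h1.2 with e | e
    · exact (commutatorElement_eq_one_iff_mul_comm.mp e).symm
    · exact absurd (mC.jc.eq_one_of_fixed (e ▸ h2) hzBH.2) hzB1
  obtain ⟨y, hy, hyA⟩ : ∃ y ∈ YB, y ∉ YA := by
    by_contra hcon
    push Not at hcon
    exact hqB (mD.mem_Q (hQA_T hq') (Subgroup.mem_centralizer_iff.mpr fun w hw =>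
      Subgroup.mem_centralizer_iff.mp (mC.Q_cent_Y hq') w (hcon w (mD.W_le_Y hw))))
  have hyV : y ∈ V := Subgroup.mem_sup_right hy
  have hdV := hKV hd
  have hy1 := (Subgroup.mem_normalizer_iff.mp hdV y).mp hyV
  set c := norm3 d y with hc
  have hfix := mC.jc.d_cube_fix (v := y) hd fun r hr => hRV r hr y hyV
  have hdc : d * c * d⁻¹ = c := norm3_fixed hVE hdV hyV hfix
  have hcV : c ∈ V := V.mul_mem (V.mul_mem hyV hy1) ((Subgroup.mem_normalizer_iff.mp hdV _).mp hy1)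
  have hcC : c ∈ Subgroup.centralizer (C : Set G) := by
    have : C ≤ Subgroup.centralizer ({c} : Set G) := by
      rw [mC.jc.K_eq_sup hd hdR]
      refine sup_le (fun r hr => Subgroup.mem_centralizer_singleton_iff.mpr (hRV r hr c hcV)) ?_
      rw [Subgroup.zpowers_le]
      exact Subgroup.mem_centralizer_singleton_iff.mpr (mul_inv_eq_iff_eq_mul.mp hdc)
    exact Subgroup.mem_centralizer_iff.mpr fun k hk => Subgroup.mem_centralizer_singleton_iff.mp (this hk)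
  set w := y⁻¹ * c with hwdef
  have hwW : w ∈ wOf C := by
    have e : c = ⁅y, d⁆ * (y * ⁅y, d * d⁆) := by
      have hy' : y⁻¹ = y := inv_self hVE hyV
      rw [hc, norm3, commutatorElement_def, commutatorElement_def, mul_inv_rev, hy']
      calc y * (d * y * d⁻¹) * (d * (d * y * d⁻¹) * d⁻¹)
          = y * (d * y * d⁻¹) * ((y * y) * (d * (d * y * d⁻¹) * d⁻¹)) := by rw [sq_self hVE hyV, one_mul]
        _ = _ := by simp only [mul_assoc]
    have h1 := hVW y hyV d hd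
    have h2 := hVW y hyV (d * d) (C.mul_mem hd hd)
    have h1V : ⁅y, d⁆ ∈ V := Subgroup.mem_sup_left (mC.W_le_Y h1)
    rw [hwdef, e, ← mul_assoc, PLocal.comm_of_EA hVE (V.inv_mem hyV) h1V, mul_assoc,
      inv_mul_cancel_left]
    exact (wOf C).mul_mem h1 h2
  have hcq : ⁅c, q⁆ = 1 := by
    refine mC.jc.eq_one_of_fixed (hcB c hcV q hq).2 ?_
    have hqC : q ∈ Subgroup.normalizer (Subgroup.centralizer (C : Set G) : Set G) :=
      normalizer_le_normalizer_cent _ (mC.T_norm (hQB_T hq))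
    rw [show ⁅c, q⁆ = c * (q * c⁻¹ * q⁻¹) by rw [commutatorElement_def]; group]
    exact Subgroup.mul_mem _ hcC ((Subgroup.mem_normalizer_iff.mp hqC _).mp (Subgroup.inv_mem _ hcC))
  have hwz : w ∈ zJ T := by
    refine mC.fixed_mem (hQB_T hq) hqA (mC.W_le_Y hwW) ?_
    have h1 : Commute q y := (Subgroup.mem_centralizer_iff.mp (mD.Q_cent_Y hq) y hy).symm
    have h2 : Commute q c := (commutatorElement_eq_one_iff_mul_comm.mp hcq).symm
    exact (h1.inv_right.mul_right h2).eq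
  have hcy : c = y * w := by rw [hwdef, mul_inv_cancel_left]
  have hcB : c ∈ YB := hcy ▸ YB.mul_mem hy (mD.zJ_le_Y hwz)
  have hcA : c ∉ YA := fun h => hyA (by
    have := YA.mul_mem h (YA.inv_mem (mC.zJ_le_Y hwz))
    rwa [hcy, mul_inv_cancel_right] at this)
  have hcz : c ∉ zJ T := fun h => hcA (mC.zJ_le_Y h)
  -- a largest elementary abelian subgroup of `QB` not in `QA`
  obtain ⟨A0, hA0, hA0B, a, ha, haA⟩ :
      ∃ A, IsMaxEA T A ∧ A ≤ QB ∧ ∃ a ∈ A, a ∉ QA := by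
    by_contra hcon
    push Not at hcon
    obtain ⟨B0, hB0, b0, hb0, hb0W⟩ := mD.jc.exists_moving
    have hM := mD.jc.A0W_isMax mD.hT hB0 hb0 hb0W
    have hMB : B0 ⊓ Subgroup.centralizer (wOf D : Set G) ⊔ wOf D ≤ QB :=
      sup_le (fun x hx => mD.mem_Q (hB0.1 hx.1) hx.2) (mD.W_le_Y.trans mD.Y_le_Q)
    set E := QA ⊓ QB
    have hE : E = QA ⊓ Subgroup.centralizer (V : Set G) := by
      refine le_antisymm (fun x hx => ⟨hx.1, ?_⟩) (fun x hx => ⟨hx.1, mD.mem_Q (hQA_T hx.1)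
        (Subgroup.centralizer_le (SetLike.coe_subset_coe.mpr (mD.W_le_Y.trans le_sup_right)) hx.2)⟩)
      refine Subgroup.mem_centralizer_iff.mpr fun v hv => ?_
      obtain ⟨a, ha, b, hb, rfl⟩ := hdec v hv
      exact ((Commute.mul_left (Subgroup.mem_centralizer_iff.mp (mC.Q_cent_Y hx.1) a ha)
        (Subgroup.mem_centralizer_iff.mp (mD.Q_cent_Y hx.2) b hb))).eq
    have hMQ : ∀ A, IsMaxEA QB A → IsMaxEA T A := fun A hA =>
      hM.of_card (hA.1.trans hQB_T) hA.2.1 (hA.2.2 _ hMB hM.2.1)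
    have hle : JT QB ≤ E := JT_le_of fun A hA =>
      le_inf (fun x hx => hcon A (hMQ A hA) hA.1 x hx) hA.1
    have hJE : JT E = JT QB := JT_eq_of_between inf_le_right hle
    have hQB1 : QB ≠ ⊥ := fun e => mD.jc.W_ne_bot (le_bot_iff.mp (e ▸ mD.W_le_Y.trans mD.Y_le_Q))
    refine hn (JT QB) (isPGroup_JT (isPGroup_op _)) (JT_ne_bot (isPGroup_op _) hQB1)
      (mD.T_le.trans (mD.lK_le_norm_Q.trans (normalizer_le_normalizer_JT _))) ?_
      (mD.K_le.trans (mD.lK_le_norm_Q.trans (normalizer_le_normalizer_JT _)))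
    rw [← hJE]
    refine le_trans ?_ (normalizer_le_normalizer_JT E)
    rw [hE]
    exact (le_inf (mC.K_le.trans mC.lK_le_norm_Q) (hKV.trans (normalizer_le_normalizer_cent _))).trans
      Subgroup.inf_normalizer_le_normalizer_inf
  -- `c` is conjugate in `D` to some `u ∈ zJ`
  obtain ⟨wd, hwd, h, hh, hcd⟩ := Coprime.exists_mul_of_mem_sup
    (fun x hx => Subgroup.centralizer_le_normalizer _ (Subgroup.mem_centralizer_iff.mpr fun y hy =>
      PLocal.comm_of_EA (omegaCenter_isEA _) (mD.W_le_Y hy) (mD.hK_le_Y hx)))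
    (mD.Y_eq ▸ hcB : c ∈ wOf D ⊔ hK T D)
  obtain ⟨e, he, heR⟩ := mD.jc.exists_d
  have hwd1 : wd ∉ zJ T := fun h' => hcz (hcd ▸ (zJ T).mul_mem h' hh.1)
  obtain ⟨k, hk, hkR, hkz⟩ : ∃ k ∈ D, k ∉ pCoreOf 2 D ∧ wd = k * zB * k⁻¹ := by
    rcases mD.jc.four he heR hzBW hzB1 hwd with e' | e' | e' | e'
    · exact absurd (e' ▸ one_mem _) hwd1
    · exact absurd (e' ▸ hzB) hwd1
    · exact ⟨e, he, heR, e'⟩
    · refine ⟨e * e, D.mul_mem he he, fun h2 => heR ?_, e'.trans (by group)⟩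
      have := (pCoreOf 2 D).mul_mem (mD.jc.cube_mem he) ((pCoreOf 2 D).inv_mem h2)
      rwa [show e ^ 3 * (e * e)⁻¹ = e by rw [pow_succ', pow_two, mul_inv_cancel_right]] at this
  set u := zB * h with hu
  have hkh : k * h * k⁻¹ = h :=
    mul_inv_eq_iff_eq_mul.mpr (Subgroup.mem_centralizer_iff.mp hh.2 k hk)
  have hku : k * u * k⁻¹ = c := by
    rw [← hcd, hkz, hu]
    calc k * (zB * h) * k⁻¹ = k * zB * k⁻¹ * (k * h * k⁻¹) := by group
      _ = _ := by rw [hkh]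
  have hu1 : u ≠ 1 := fun e' => hcA (by rw [← hku, e', mul_one, mul_inv_cancel]; exact one_mem _)
  have hkN : k ∈ Subgroup.normalizer (QB : Set G) := mD.lK_le_norm_Q (mD.K_le hk)
  set B := LocalEven.cj k⁻¹ A0 with hB
  have hBQ : B ≤ QB :=
    (cj_mono hA0B).trans (cj_eq_self_iff.mpr (Subgroup.inv_mem _ hkN)).le
  have hBJ : B ≤ JT T :=
    (hA0.of_card (hBQ.trans hQB_T) (PLocal.isEA_map hA0.2.1 _) (card_cj _ _).ge).le_JT
  have hCA : ⁅C, A0⁆ = C := mC.jc.commutator_eq (hA0.1.trans mC.T_norm) hd ha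
    (mC.comm_not_mem_R hd hdR (hA0.1 ha) haA)
  set K' := LocalEven.cj k⁻¹ C with hK'
  have hcomm : ⁅K', B⁆ = K' := by
    show ⁅C.map _, A0.map _⁆ = _
    rw [← Subgroup.map_commutator, hCA]
  have hK'1 : K' ≠ ⊥ := fun e' => mC.jc.W_ne_bot (le_bot_iff.mp (by
    have h1 := congrArg (LocalEven.cj k) e'
    rw [cj_cj, mul_inv_cancel, cj_one] at h1
    exact JC.W_le_R.trans (JC.R_le.trans (h1.le.trans (Subgroup.map_bot _).le))))
  have hK'u : K' ≤ Subgroup.centralizer ({u} : Set G) := by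
    have h1 : C ≤ Subgroup.centralizer ({c} : Set G) := fun x hx =>
      Subgroup.mem_centralizer_singleton_iff.mpr (Subgroup.mem_centralizer_iff.mp hcC x hx)
    have := cj_mono (g := k⁻¹) h1
    rwa [cj_centralizer_singleton, inv_inv,
      show k⁻¹ * c * k = u by rw [← hku]; group] at this
  obtain ⟨Ks, hKs, -, hle⟩ := F.comp_in ((zJ T).mul_mem hzB hh.1) hu1 (oddgen_cj mC.jc.gen _) hK'1 hBJ hcomm hK'u
  have mS := F.mem hKs
  set Rs := pCoreOf 2 Ks
  have hRsT : Rs ≤ T := mS.R_le_Q.trans mS.Q_le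
  set S0 := Rs ⊓ Subgroup.normalizer (K' : Set G) with hS0
  have hRQ : Rs ⊓ QB ≤ S0 := fun r hr => ⟨hr.1, by
    rw [hK', ← cj_normalizer]
    refine mem_cj.mpr ?_
    rw [inv_inv]
    exact mC.T_norm (hQB_T ((Subgroup.mem_normalizer_iff.mp hkN r).mp hr.2))⟩
  have hRsN : Rs ≤ Subgroup.normalizer (K' : Set G) := by
    intro x hx
    by_cases hxS : x ∈ S0
    · exact hxS.2
    have hxB : x ∉ QB := fun h' => hxS (hRQ ⟨hx, h'⟩)
    have hkey : LocalEven.cj x K' ≤ K' ⊔ S0 := by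
      rintro _ ⟨o, ho, rfl⟩
      show x * o * x⁻¹ ∈ _
      have hoR : o ∈ Subgroup.normalizer (Rs : Set G) := JC.K_normalizes_R (hle ho)
      have h1 : o⁻¹ * x * o ∈ Rs := by
        have := (Subgroup.mem_normalizer_iff.mp (Subgroup.inv_mem _ hoR) x).mp hx
        rwa [inv_inv] at this
      have h2 : o⁻¹ * x * o ∉ S0 := fun h' => hxS ⟨hx, by
        have hoN : o ∈ Subgroup.normalizer (K' : Set G) := Subgroup.le_normalizer ho
        have := Subgroup.mul_mem _ (Subgroup.mul_mem _ hoN h'.2) (Subgroup.inv_mem _ hoN)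
        rwa [show o * (o⁻¹ * x * o) * o⁻¹ = x by group] at this⟩
      have h4 : o⁻¹ * x * o ∉ QB := fun h' => h2 (hRQ ⟨h1, h'⟩)
      have h5 : o⁻¹ * x * o * x⁻¹ ∈ S0 := by
        refine hRQ ⟨Rs.mul_mem h1 (Rs.inv_mem hx), ?_⟩
        have h7 := mD.inv_mul_mem_Q (T.inv_mem (hRsT hx)) (T.inv_mem (hRsT h1))
          (fun h' => hxB (QB.inv_mem_iff.mp h')) (fun h' => h4 (QB.inv_mem_iff.mp h'))
        rwa [inv_inv] at h7
      have := Subgroup.mul_mem_sup ho h5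
      rwa [show o * (o⁻¹ * x * o * x⁻¹) = x * o * x⁻¹ by group] at this
    rw [← cj_eq_self_iff]
    exact Subgroup.eq_of_le_of_card_ge (le_of_odd_gen inf_le_right (JC.R_pGroup.to_le inf_le_left) hkey
      (oddgen_cj (oddgen_cj mC.jc.gen _) x)) (card_cj x K').ge
  have hKsK' : Ks ≤ K' := by
    obtain ⟨o, ho, hoR⟩ : ∃ o ∈ K', o ∉ Rs := by
      by_contra hcon
      push Not at hcon
      exact hK'1 (le_bot_iff.mp (le_of_odd_gen (fun x _ => Subgroup.mem_normalizer_iff.mpr fun y => by simp)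
        JC.R_pGroup ((show K' ≤ Rs from hcon).trans le_sup_right) (oddgen_cj mC.jc.gen _)))
    refine le_of_odd_gen hRsN JC.R_pGroup ?_ mS.jc.gen
    rw [mS.jc.K_eq_sup (hle ho) hoR]
    exact sup_le le_sup_right (Subgroup.zpowers_le.mpr (Subgroup.mem_sup_left ho))
  have hP' : P T K' := by
    rw [show K' = Ks from le_antisymm hle hKsK']
    exact hKs
  have hPk : P (LocalEven.cj k T) C := by
    have := F.conj k hP'
    rwa [hK', cj_cj, mul_inv_cancel, cj_one] at this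
  have mk := F.mem hPk
  -- `D` normalizes `W_C`
  obtain ⟨t, ht, htQ⟩ := mD.exists_moving
  have htT := JT_le T ht
  have hc1R : ⁅k, t⁆ ∉ pCoreOf 2 D := mD.comm_not_mem_R hk hkR htT htQ
  have hc1D : ⁅k, t⁆ ∈ D :=
    Subgroup.le_normalizer_iff_commutator_le_left.mp le_rfl
      (Subgroup.commutator_mem_commutator hk (mD.T_norm htT))
  have hDW : D ≤ Subgroup.normalizer (wOf C : Set G) := by
    rw [mD.jc.K_eq_sup hc1D hc1R]
    refine sup_le ((mD.R_le_Q.trans mD.Q_le).trans mC.ovW.sylT.1) (Subgroup.zpowers_le.mpr ?_)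
    rw [commutatorElement_def]
    exact Subgroup.mul_mem _ (mk.ovW.sylT.1 ⟨t, htT, rfl⟩) (Subgroup.inv_mem _ (mC.ovW.sylT.1 htT))
  exact hn (wOf C) JC.W_pGroup mC.jc.W_ne_bot mC.ovW.sylT.1 JC.K_normalizes_W hDW

end Fam

end Cfsg.Agent.LocalEven.JComp
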