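import Cfsg.Agent.PLocal.OffenderQuotient
import Cfsg.Agent.LocalEven.Conj

/-! The planes moved by `J(L)` on a normal elementary abelian 2-subgroup. -/

set_option autoImplicit false
set_option linter.style.haveILetI false
set_option linter.unusedSectionVars false

open scoped commutatorElement

namespace Cfsg.Agent.LocalEven.JComp

open Cfsg Subgroup Cfsg.Agent.PLocal

universe u

variable {L : Type u} [Group L] [Finite L]

/-- A plane of `V` for `J(L)`. -/
structure IsPlane (V P : Subgroup L) : Prop where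
  le : P ≤ V
  card : Nat.card P = 4
  norm : thompsonSubgroup 2 L ≤ normalizer (P : Set L)
  axis : ∃ t ∈ thompsonSubgroup 2 L, (∃ w ∈ P, w ≠ 1 ∧ t * w = w * t) ∧ t ∉ centralizer (P : Set L) ∧
    t * t ∈ centralizer (V : Set L) ∧
    ∀ h ∈ thompsonSubgroup 2 L, h ∈ centralizer (P : Set L) → ⁅t, h⁆ ∈ centralizer (V : Set L)
  rot : ∃ d ∈ ⁅thompsonSubgroup 2 L, thompsonSubgroup 2 L⁆, (∀ y ∈ V, ⁅y, d⁆ ∈ P) ∧
    (∀ w ∈ P, d * w = w * d → w = 1) ∧ d ^ 3 ∈ centralizer (V : Set L)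

theorem planes_cover (V : Subgroup L) [V.Normal] (hsep : IsPSolvable 2 L) (hV : IsElementaryAbelian 2 V)
    (hO : pCore 2 (L ⧸ centralizer (V : Set L)) = ⊥) :
    V ≤ (V ⊓ centralizer (thompsonSubgroup 2 L : Set L)) ⊔ sSup {P | IsPlane V P} := by
  haveI : Fact (Nat.Prime 2) := ⟨Nat.prime_two⟩
  have hc := offCtx_amb V hsep hV hO
  have hgen := ambJ_gen V hV
  set inl : V →* Amb V := SemidirectProduct.inl with hinl
  have hinlinj : Function.Injective inl := SemidirectProduct.inl_injective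
  -- pull a subgroup of the module back into `L`
  set back : Subgroup (Amb V) → Subgroup L := fun X => (X.comap inl).map V.subtype with hback
  have hmem : ∀ X : Subgroup (Amb V), ∀ v : L, v ∈ back X ↔ ∃ hv : v ∈ V, inl ⟨v, hv⟩ ∈ X := by
    intro X v
    constructor
    · rintro ⟨⟨x, hx⟩, hxX, rfl⟩
      exact ⟨hx, hxX⟩
    · rintro ⟨hv, h⟩
      exact ⟨⟨v, hv⟩, h, rfl⟩
  have hplane : ∀ E : OffCtx.Factor 2 (ambV V) (ambJ V 2), IsPlane V (back ⁅ambV V, (E : Subgroup (Amb V))⁆) := by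
    intro E
    obtain ⟨A, hA, hTA, eA⟩ := hc.factor_spec E
    rw [eA]
    set U := ⁅ambV V, eOff 2 (ambJ V 2) A⁆ with hU
    have hUV : U ≤ ambV V := hc.plane_le hA
    have hUn : ambJ V 2 ≤ normalizer (U : Set (Amb V)) := by
      refine Subgroup.le_normalizer_iff_commutator_le_left.mpr ?_
      have h1 : ambJ V 2 ≤ normalizer ((⁅ambV V, eOff 2 (ambJ V 2) A⁆ : Subgroup (Amb V)) : Set (Amb V)) :=
        fun g hg => by
          have hgV := hc.act.norm hg
          have hgE := hc.H_normalizes hgen hA hTA hg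
          exact hc.norm_commutator hgV hgE
      exact Subgroup.le_normalizer_iff_commutator_le_left.mp h1
    refine ⟨fun v hv => ((hmem U v).mp hv).1, ?_, fun g hg => ?_, ?_, ?_⟩
    · rw [hback, Subgroup.card_map_of_injective V.subtype_injective]
      have h1 : (U.comap inl).map inl = U := Subgroup.map_comap_eq_self hUV
      rw [← Subgroup.card_map_of_injective hinlinj (K := U.comap inl), h1]
      exact (hc.eOff_decomp hA hTA).1
    · rw [← cj_eq_self_iff]
      refine Subgroup.eq_of_le_of_card_ge (fun v hv => ?_) (card_cj g (back U)).ge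
      obtain ⟨w, hw, rfl⟩ := hv
      obtain ⟨hwV, hwU⟩ := (hmem U w).mp hw
      refine (hmem U _).mpr ⟨(inferInstance : V.Normal).conj_mem w hwV g, ?_⟩
      have h1 := (Subgroup.mem_normalizer_iff.mp (hUn ⟨g, hg, rfl⟩) _).mp hwU
      rw [ambMap_conj] at h1
      exact h1
    · obtain ⟨a, ha, ha1, hza, hap⟩ := exists_zpowers_eq_of_card hTA.card
      obtain ⟨t, ht, rfl⟩ := hA ha
      refine ⟨t, ht, ?_, fun hcen => ?_, by
        rw [← ambMap_ker, MonoidHom.mem_ker, map_mul, ← pow_two]; exact hap, fun h hh hhc => ?_⟩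
      · have h2 : (1 : ℕ) < Nat.card (⁅ambV V, A⁆ : Subgroup (Amb V)) := by rw [hTA.cardP]; norm_num
        obtain ⟨x, hx, hx1⟩ := (⁅ambV V, A⁆ : Subgroup (Amb V)).bot_or_exists_ne_one.resolve_left
          fun e => by rw [e, Subgroup.card_bot] at h2; exact absurd h2 (lt_irrefl 1)
        have hxU : x ∈ U := commutator_mono le_rfl le_sup_right hx
        obtain ⟨v, rfl⟩ := hUV hxU
        refine ⟨v, (hmem U v).mpr ⟨v.2, hxU⟩, fun e => hx1 (by
          rw [show v = 1 from Subtype.ext e, map_one]), ?_⟩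
        exact (ambMap_commute_iff V t v).mp
          (Subgroup.mem_centralizer_iff.mp (hTA.le hx).2 _ ha).symm.symm
      · refine ha1 (hc.eq_one_of_fix_plane hA hTA ((le_sup_right : A ≤ eOff 2 (ambJ V 2) A) ha) fun u hu => ?_)
        obtain ⟨v, rfl⟩ := hUV hu
        exact (ambMap_commute_iff V t v).mpr
          (Subgroup.mem_centralizer_iff.mp hcen v ((hmem U v).mpr ⟨v.2, hu⟩)).symm
      · have hhU : ambMap V h ∈ ambJ V 2 ⊓ centralizer (U : Set (Amb V)) := by
          refine ⟨⟨h, hh, rfl⟩, Subgroup.mem_centralizer_iff.mpr fun u hu => ?_⟩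
          obtain ⟨v, rfl⟩ := hUV hu
          exact ((ambMap_commute_iff V h v).mpr
            (Subgroup.mem_centralizer_iff.mp hhc v ((hmem U v).mpr ⟨v.2, hu⟩)).symm).symm
        have h1 : ⁅ambMap V t, ambMap V h⁆ ∈ (⊥ : Subgroup (Amb V)) :=
          hc.eOff_comm_centralizer hgen hA hTA ▸
            Subgroup.commutator_mem_commutator ((le_sup_right : A ≤ eOff 2 (ambJ V 2) A) ha) hhU
        rw [← ambMap_ker, MonoidHom.mem_ker, map_commutatorElement]
        exact Subgroup.mem_bot.mp h1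
    · haveI : Fact (Nat.Prime 3) := ⟨Nat.prime_three⟩
      set C3 := (⁅oQ 2 (ambJ V 2), A⁆ : Subgroup (Amb V)) with hC3
      have hc3 : Nat.card C3 = 3 := by rw [hc.card_qA hA hTA]; norm_num
      have he1 : C3 ≠ ⊥ := fun e => by rw [e, Subgroup.card_bot] at hc3; exact absurd hc3 (by norm_num)
      obtain ⟨⟨e, he⟩, hene⟩ := Subgroup.ne_bot_iff_exists_ne_one.mp he1
      have hgen3 : C3 ≤ zpowers e := fun x hx => by
        obtain ⟨k, hk⟩ := Subgroup.mem_zpowers_iff.mp (mem_zpowers_of_prime_card (g := (⟨e, he⟩ : C3))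
          (g' := ⟨x, hx⟩) hc3 hene)
        exact ⟨k, congrArg Subtype.val hk⟩
      obtain ⟨d, hd, hde⟩ : e ∈ (⁅thompsonSubgroup 2 L, thompsonSubgroup 2 L⁆).map (ambMap V) := by
        rw [Subgroup.map_commutator]
        exact commutator_mono hc.Q_le hA he
      refine ⟨d, hd, fun y hy => (hmem U _).mpr ?_, fun w hw hdw => ?_, ?_⟩
      · have hy' : ⁅y, d⁆ ∈ V := by
          rw [show ⁅y, d⁆ = y * (d * y⁻¹ * d⁻¹) by rw [commutatorElement_def]; group]
          exact V.mul_mem hy ((inferInstance : V.Normal).conj_mem _ (V.inv_mem hy) d)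
        refine ⟨hy', ?_⟩
        have h1 : ⁅inl ⟨y, hy⟩, e⁆ ∈ U := commutator_mem_commutator ⟨_, rfl⟩ (hc.qA_le he)
        have e1 : inl ⟨⁅y, d⁆, hy'⟩ = ⁅inl ⟨y, hy⟩, e⁆ := by
          rw [show ⁅inl ⟨y, hy⟩, e⁆ = inl ⟨y, hy⟩ * (e * (inl ⟨y, hy⟩)⁻¹ * e⁻¹) by
              rw [commutatorElement_def]; group, ← map_inv inl, ← hde, ambMap_conj, ← map_mul]
          exact congrArg inl (Subtype.ext (show ⁅y, d⁆ = y * (d * y⁻¹ * d⁻¹) by
            rw [commutatorElement_def]; group))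
        rw [e1]; exact h1
      · obtain ⟨hwV, hwU⟩ := (hmem U w).mp hw
        have hfix : ambMap V d * inl ⟨w, hwV⟩ = inl ⟨w, hwV⟩ * ambMap V d :=
          (ambMap_commute_iff V d ⟨w, hwV⟩).mpr hdw
        have hcen : inl ⟨w, hwV⟩ ∈ ambV V ⊓ centralizer (C3 : Set (Amb V)) := by
          refine ⟨⟨_, rfl⟩, Subgroup.mem_centralizer_iff.mpr fun x hx => ?_⟩
          obtain ⟨k, rfl⟩ := hgen3 hx
          rw [← hde]
          exact (Commute.zpow_left (hfix : Commute (ambMap V d) (inl ⟨w, hwV⟩)) k).eq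
        have h2 := hc.centralizer_qA hA hTA hcen
        have h3 : inl ⟨w, hwV⟩ ∈ (⊥ : Subgroup (Amb V)) := (hc.eOff_decomp hA hTA).2.1 ▸ ⟨hwU, h2⟩
        have h4 : inl (⟨w, hwV⟩ : V) = inl 1 := by rw [map_one]; exact Subgroup.mem_bot.mp h3
        exact congrArg Subtype.val (hinlinj h4)
      · rw [← ambMap_ker, MonoidHom.mem_ker, map_pow, hde]
        have h4 : ((⟨e, he⟩ : C3) ^ Nat.card C3) = 1 := pow_card_eq_one'
        rw [hc3] at h4
        exact congrArg Subtype.val h4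
  intro v hv
  set Tgt := (V ⊓ centralizer (thompsonSubgroup 2 L : Set L)) ⊔ sSup {P | IsPlane V P} with hTgt
  have hle : ambV V ≤ (Tgt.comap V.subtype).map inl := by
    conv_lhs => rw [← hc.planes_iSup hgen]
    refine sup_le ?_ (iSup_le fun E x hx => ?_)
    · rintro x ⟨⟨w, rfl⟩, hx⟩
      refine ⟨w, Subgroup.mem_sup_left ⟨w.2, Subgroup.mem_centralizer_iff.mpr fun g hg => ?_⟩, rfl⟩
      exact (ambMap_commute_iff V g w).mp (Subgroup.mem_centralizer_iff.mp hx _ ⟨g, hg, rfl⟩)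
    · obtain ⟨w, rfl⟩ := hc.plane_le_V E hx
      exact ⟨w, Subgroup.mem_sup_right (le_sSup (hplane E : _ ∈ {P | IsPlane V P})
        ((hmem _ w).mpr ⟨w.2, hx⟩)), rfl⟩
  obtain ⟨w, hw, he⟩ := hle ⟨⟨v, hv⟩, rfl⟩
  rw [hinlinj he] at hw
  exact hw

end Cfsg.Agent.LocalEven.JComp
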