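import Cfsg.Agent.LocalEven.JCompJ
import Cfsg.Agent.LocalEven.JCompPlanes
import Cfsg.Agent.S2941

/-! `J(T)`-components inside a member of `jOvergroups T`. -/

set_option autoImplicit false
set_option linter.style.haveILetI false
set_option linter.unusedSectionVars false

open scoped commutatorElement

namespace Cfsg.Agent.LocalEven.JComp

open Cfsg

universe u

variable {G : Type u} [Group G] [Finite G]

/-- The data attached to a member of `jOvergroups T`. -/
structure Over (T L : Subgroup G) : Prop where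
  sylT : IsSylowTwoIn T L
  char2 : Subgroup.centralizer (pCoreOf 2 L : Set G) ≤ pCoreOf 2 L
  solv : Group.IsSolvable L
  hZ : ∀ S : Sylow 2 G, Subgroup.centralizer (omegaCenterOf (S : Subgroup G) : Set G) ≤
    Subgroup.normalizer ((S : Subgroup G) : Set G)

theorem over_of {T L : Subgroup G} (hN : ∀ N : Subgroup G, IsTwoLocal N → Group.IsSolvable ↥N)
    (hZ : ∀ S : Sylow 2 G, Subgroup.centralizer (omegaCenterOf (S : Subgroup G) : Set G) ≤
      Subgroup.normalizer ((S : Subgroup G) : Set G))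
    (hT1 : T ≠ ⊥) (hL : L ∈ jOvergroups T) : Over T L := by
  obtain ⟨hsyl, -, hc⟩ := hL
  refine ⟨hsyl, hc, ?_, hZ⟩
  have hQ : pCoreOf 2 L ≠ ⊥ := fun e => hT1 ((Subgroup.eq_bot_iff_forall T).mpr fun t _ => by
    have h1 := hc (show t ∈ Subgroup.centralizer (pCoreOf 2 L : Set G) from
      Subgroup.mem_centralizer_iff.mpr fun x hx => by
        rw [e] at hx; rw [Subgroup.mem_bot.mp hx, one_mul, mul_one])
    rw [e] at h1
    exact Subgroup.mem_bot.mp h1)
  haveI := hN _ ⟨pCoreOf 2 L, isPGroup_op L, hQ, rfl⟩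
  have hle : L ≤ Subgroup.normalizer (pCoreOf 2 L : Set G) := map_pCore_normalized L
  exact Group.isSolvable_of_isSolvable_injective (f := Subgroup.inclusion hle)
    (Subgroup.inclusion_injective _)

/-- `Y = Ω₁(Z(O₂(L)))`. -/
abbrev yOf (L : Subgroup G) : Subgroup G := omegaCenterOf (pCoreOf 2 L)

/-- `C_L(Y)`. -/
abbrev cOf (L : Subgroup G) : Subgroup G := L ⊓ Subgroup.centralizer (yOf L : Set G)

/-- `⟨J(T)^L⟩`, computed as the Thompson subgroup of `L`. -/
abbrev hOf (L : Subgroup G) : Subgroup G := (thompsonSubgroup 2 ↥L).map L.subtype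

theorem yOf_le (L : Subgroup G) : yOf L ≤ L := (omegaCenter_le _).trans (op_le L)

theorem le_normalizer_yOf (L : Subgroup G) : L ≤ Subgroup.normalizer (yOf L : Set G) :=
  (map_pCore_normalized L).trans (normalizer_le_normalizer_omegaCenter _)

theorem le_normalizer_cOf (L : Subgroup G) : L ≤ Subgroup.normalizer (cOf L : Set G) :=
  (le_inf Subgroup.le_normalizer ((le_normalizer_yOf L).trans (normalizer_le_normalizer_cent _))).trans
    Subgroup.inf_normalizer_le_normalizer_inf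

theorem hOf_le (L : Subgroup G) : hOf L ≤ L := Subgroup.map_subtype_le _

theorem le_normalizer_hOf (L : Subgroup G) : L ≤ Subgroup.normalizer (hOf L : Set G) :=
  Subgroup.le_normalizer.trans (OddLocal.normalizer_le_normalizer_map_char L _)

theorem core_le_cOf (L : Subgroup G) : pCoreOf 2 L ≤ cOf L :=
  le_inf (op_le L) (Subgroup.le_centralizer_iff.mp (omegaCenter_le_centralizer _))

theorem isEA_map_back {L : Subgroup G} {V : Subgroup G} (hV : IsElementaryAbelian 2 V) :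
    IsElementaryAbelian 2 (V.subgroupOf L) :=
  PLocal.isEA_comap hV _ L.subtype_injective

/-- A permutation action on three points has abelian derived action. -/
theorem perm_fin3 : ∀ a b : Equiv.Perm (Fin 3), Equiv.Perm.sign a = 1 → Equiv.Perm.sign b = 1 →
    a * b = b * a := by decide

theorem comm_mul_comm_of_plane {H P : Subgroup G} (hHP : H ≤ Subgroup.normalizer (P : Set G))
    (hP : Nat.card P = 4) {x y : G} (hx : x ∈ ⁅H, H⁆) (hy : y ∈ ⁅H, H⁆) {v : G} (hv : v ∈ P) :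
    x * y * v * (x * y)⁻¹ = y * x * v * (y * x)⁻¹ := by
  classical
  by_cases hv1 : v = 1
  · subst hv1; simp
  let S := {p : G // p ∈ P ∧ p ≠ 1}
  have hS : Nat.card S = 3 := by
    have h1 : Nat.card S = Nat.card {p : ↥P // p ≠ 1} :=
      Nat.card_congr ⟨fun p => ⟨⟨p.1, p.2.1⟩, fun e => p.2.2 (congrArg Subtype.val e)⟩,
        fun p => ⟨p.1.1, p.1.2, fun e => p.2 (Subtype.ext e)⟩, fun _ => rfl, fun _ => rfl⟩
    haveI := Fintype.ofFinite ↥P
    rw [h1, Nat.card_eq_fintype_card, Fintype.card_subtype_compl, Fintype.card_subtype_eq,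
      ← Nat.card_eq_fintype_card, hP]
  let e3 : S ≃ Fin 3 := Finite.equivFinOfCardEq hS
  let ψ : ↥H →* Equiv.Perm S :=
    MonoidHom.mk' (fun h => {
      toFun := fun p => ⟨(h : G) * p.1 * (h : G)⁻¹,
        (Subgroup.mem_normalizer_iff.mp (hHP h.2) p.1).mp p.2.1, fun e => p.2.2 (conj_eq_one_iff.mp e)⟩
      invFun := fun p => ⟨(h : G)⁻¹ * p.1 * (h : G), by
        have := (Subgroup.mem_normalizer_iff.mp (Subgroup.inv_mem _ (hHP h.2)) p.1).mp p.2.1
        rwa [inv_inv] at this, fun e => p.2.2 (by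
          have e' := congrArg (fun t => (h : G) * t * (h : G)⁻¹) e
          simpa [mul_assoc] using e')⟩
      left_inv := fun p => Subtype.ext (by simp [mul_assoc])
      right_inv := fun p => Subtype.ext (by simp [mul_assoc]) })
      (fun a b => Equiv.ext fun p => Subtype.ext (by simp [mul_assoc]))
  let f : ↥H →* Equiv.Perm (Fin 3) := e3.permCongrHom.toMonoidHom.comp ψ
  let sg : ↥H →* ℤˣ := Equiv.Perm.sign.comp f
  have hker : ⁅H, H⁆ ≤ sg.ker.map H.subtype := by
    rw [Subgroup.commutator_le]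
    intro a ha b hb
    refine ⟨⁅(⟨a, ha⟩ : ↥H), ⟨b, hb⟩⁆, MonoidHom.mem_ker.mpr ?_, rfl⟩
    rw [map_commutatorElement]
    exact commutatorElement_eq_one_iff_mul_comm.mpr (mul_comm _ _)
  obtain ⟨x', hx', rfl⟩ := hker hx
  obtain ⟨y', hy', rfl⟩ := hker hy
  have h1 := perm_fin3 (f x') (f y') (MonoidHom.mem_ker.mp hx') (MonoidHom.mem_ker.mp hy')
  rw [← map_mul, ← map_mul] at h1
  have h2 : ψ (x' * y') = ψ (y' * x') := e3.permCongrHom.injective h1
  exact congrArg Subtype.val (Equiv.ext_iff.mp h2 ⟨v, hv, hv1⟩)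

namespace Over

variable {T L : Subgroup G}

theorem Q_le_T (o : Over T L) : pCoreOf 2 L ≤ T := (isSylowTwoIn_isMaxP o.sylT).pCore_le

theorem cOf_normalizes_T (o : Over T L) : cOf L ≤ Subgroup.normalizer (T : Set G) := by
  haveI : Fact (Nat.Prime 2) := ⟨Nat.prime_two⟩
  obtain ⟨S, hS⟩ := o.sylT.2.1.exists_le_sylow
  have hle : omegaCenterOf (S : Subgroup G) ≤ yOf L := fun x hx => by
    obtain ⟨-, hxC, hx2⟩ := mem_omegaCenter.mp hx
    have hxC' : x ∈ Subgroup.centralizer (pCoreOf 2 L : Set G) :=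
      Subgroup.centralizer_le (SetLike.coe_subset_coe.mpr (o.Q_le_T.trans hS)) hxC
    exact mem_omegaCenter.mpr ⟨o.char2 hxC', hxC', hx2⟩
  have hLS : L ⊓ (S : Subgroup G) = T := (isSylowTwoIn_isMaxP o.sylT).2.2 _ (S.isPGroup'.to_le inf_le_right)
    inf_le_left (le_inf o.sylT.1 hS)
  intro c hc
  have hcS := o.hZ S (Subgroup.centralizer_le hle hc.2)
  rw [← hLS]
  exact Subgroup.inf_normalizer_le_normalizer_inf ⟨Subgroup.le_normalizer hc.1, hcS⟩

theorem cOf_normalizes_J (o : Over T L) : cOf L ≤ Subgroup.normalizer (JT T : Set G) :=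
  o.cOf_normalizes_T.trans (normalizer_le_normalizer_JT T)

theorem mem_Q_of_two (o : Over T L) {U : Subgroup G} (hU : IsPGroup 2 U) (hUC : U ≤ cOf L) :
    U ≤ pCoreOf 2 L := by
  -- `C_L(Y) ∩ T` is the set of 2-elements of `C_L(Y)`
  have key : ∀ V : Subgroup G, IsPGroup 2 V → V ≤ cOf L → V ≤ cOf L ⊓ T := by
    intro V hV hVC
    refine le_inf hVC ?_
    have h1 : IsPGroup 2 ↥(T ⊔ V) :=
      IsPGroup.to_sup_of_normal_left' o.sylT.2.1 hV (hVC.trans o.cOf_normalizes_T)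
    exact le_sup_right.trans ((isSylowTwoIn_isMaxP o.sylT).2.2 _ h1
      (sup_le o.sylT.1 (hVC.trans inf_le_left)) le_sup_left).le
  refine (key U hU hUC).trans (le_op (inf_le_right.trans o.sylT.1) ?_ (o.sylT.2.1.to_le inf_le_right))
  intro g hg
  rw [← cj_eq_self_iff]
  refine Subgroup.eq_of_le_of_card_ge (key _ ((o.sylT.2.1.to_le inf_le_right).map _) ?_) (card_cj _ _).ge
  exact (cj_mono inf_le_left).trans (cj_eq_self_iff.mpr (le_normalizer_cOf L hg)).le

theorem J_commutator_le (o : Over T L) : ⁅cOf L, JT T⁆ ≤ pCoreOf 2 L := by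
  refine o.mem_Q_of_two ((isPGroup_JT o.sylT.2.1).to_le ?_) ?_
  · exact Subgroup.le_normalizer_iff_commutator_le_right.mp o.cOf_normalizes_J
  · exact Subgroup.le_normalizer_iff_commutator_le_left.mp
      ((JT_le T).trans (o.sylT.1.trans (le_normalizer_cOf L)))

/-- `O₂(L / C_L(Y)) = 1`. -/
theorem le_cOf_of_normal (o : Over T L) {D : Subgroup G} (hDL : D ≤ L)
    (hLD : L ≤ Subgroup.normalizer (D : Set G)) (hCD : cOf L ≤ D) {n : ℕ}
    (hidx : (cOf L).relIndex D = 2 ^ n) : D ≤ cOf L := by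
  haveI : Fact (Nat.Prime 2) := ⟨Nat.prime_two⟩
  set X := T ⊓ D with hX
  have hX2 : IsPGroup 2 X := o.sylT.2.1.to_le inf_le_left
  -- `X` is a Sylow subgroup of `D`
  have hXD : IsSylowTwoIn X D := by
    obtain ⟨S, hS, hXS⟩ := exists_sylowTwoIn_ge hX2 (inf_le_right : X ≤ D)
    obtain ⟨g, hg, hle⟩ := IsSylowTwoIn.exists_conj_le o.sylT hS.2.1 (hS.1.trans hDL)
    have h1 : S ≤ LocalEven.cj g X := fun s hs => mem_cj.mpr ⟨mem_cj.mp (hle hs), by
      have h2 := (Subgroup.mem_normalizer_iff.mp (Subgroup.inv_mem _ (hLD hg)) s).mp (hS.1 hs)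
      rwa [inv_inv] at h2⟩
    rw [← Subgroup.eq_of_le_of_card_ge hXS ((Subgroup.card_le_of_le h1).trans (card_cj g X).le)] at hS
    exact hS
  have hgen : cOf L ⊔ X = D := by
    refine le_antisymm (sup_le hCD inf_le_right) (Subgroup.relIndex_eq_one.mp ?_)
    refine Nat.eq_one_of_dvd_coprimes (a := 2 ^ n) (b := X.relIndex D) ?_ ?_ ?_
    · exact ((Nat.coprime_two_left).mpr hXD.2.2).pow_left n
    · exact hidx ▸ Subgroup.relIndex_dvd_of_le_left D le_sup_left
    · exact Subgroup.relIndex_dvd_of_le_left D le_sup_right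
  have hDX : D ≤ Subgroup.normalizer (X : Set G) := by
    rw [← hgen]
    refine sup_le ?_ Subgroup.le_normalizer
    exact (le_inf o.cOf_normalizes_T (hCD.trans Subgroup.le_normalizer)).trans
      Subgroup.inf_normalizer_le_normalizer_inf
  have hXQ : X ≤ pCoreOf 2 L := by
    refine le_op (inf_le_left.trans o.sylT.1) (fun g hg => ?_) hX2
    rw [← cj_eq_self_iff]
    refine Subgroup.eq_of_le_of_card_ge ?_ (card_cj g X).ge
    have h2 : IsPGroup 2 (LocalEven.cj g X) := hX2.map _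
    have h3 : LocalEven.cj g X ≤ D := (cj_mono inf_le_right).trans (cj_eq_self_iff.mpr (hLD hg)).le
    exact le_sup_right.trans ((isSylowTwoIn_isMaxP hXD).2.2 _
      (IsPGroup.to_sup_of_normal_left' hX2 h2 (h3.trans hDX)) (sup_le inf_le_right h3) le_sup_left).le
  rw [← hgen]
  exact sup_le le_rfl (hXQ.trans (core_le_cOf L))

theorem JT_le_hOf (o : Over T L) : JT T ≤ hOf L := by
  refine JT_le_of fun A hA a ha => ?_
  have hAL : A ≤ L := hA.1.trans o.sylT.1
  refine ⟨⟨a, hAL ha⟩, PLocal.le_thompsonSubgroup (A := A.subgroupOf L) ⟨?_, fun B hB => ?_⟩ ha, rfl⟩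
  · exact PLocal.isEA_comap hA.2.1 _ L.subtype_injective
  · obtain ⟨g, -, hle⟩ := IsSylowTwoIn.exists_conj_le o.sylT ((PLocal.isPGroup_of_EA hB).map L.subtype)
      (Subgroup.map_subtype_le B)
    have h1 : LocalEven.cj g⁻¹ (B.map L.subtype) ≤ T := by
      have := cj_mono (g := g⁻¹) hle
      rwa [cj_cj, inv_mul_cancel, cj_one] at this
    have h2 := hA.2.2 _ h1 (PLocal.isEA_map (PLocal.isEA_map hB _) _)
    rwa [card_cj, Subgroup.card_map_of_injective L.subtype_injective,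
      ← Nat.card_congr (Subgroup.subgroupOfEquivOfLe hAL).toEquiv] at h2

theorem JT_conj_le_hOf (o : Over T L) {g : G} (hg : g ∈ L) : LocalEven.cj g (JT T) ≤ hOf L :=
  (cj_mono o.JT_le_hOf).trans (cj_eq_self_iff.mpr (le_normalizer_hOf L hg)).le

/-- A plane of `Y`. -/
structure Plane (L P : Subgroup G) : Prop where
  le : P ≤ yOf L
  card : Nat.card P = 4
  norm : hOf L ≤ Subgroup.normalizer (P : Set G)
  axis : ∃ t ∈ hOf L, (∃ w ∈ P, w ≠ 1 ∧ t * w = w * t) ∧ t ∉ Subgroup.centralizer (P : Set G) ∧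
    t * t ∈ cOf L ∧
    ∀ h ∈ hOf L, h ∈ Subgroup.centralizer (P : Set G) → ⁅t, h⁆ ∈ cOf L
  rot : ∃ d ∈ ⁅hOf L, hOf L⁆, (∀ y ∈ yOf L, ⁅y, d⁆ ∈ P) ∧
    (∀ w ∈ P, d * w = w * d → w = 1) ∧ d ^ 3 ∈ cOf L

theorem cover (o : Over T L) :
    yOf L ≤ (yOf L ⊓ Subgroup.centralizer (hOf L : Set G)) ⊔ sSup {P | Plane L P} := by
  haveI : Fact (Nat.Prime 2) := ⟨Nat.prime_two⟩
  haveI := o.solv
  haveI : ((yOf L).subgroupOf L).Normal := Subgroup.normal_subgroupOf_of_le_normalizer (le_normalizer_yOf L)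
  set V := (yOf L).subgroupOf L with hV
  have hcent : ∀ x : ↥L, x ∈ Subgroup.centralizer (V : Set ↥L) ↔ (x : G) ∈ cOf L := fun x => by
    constructor
    · intro h
      exact ⟨x.2, Subgroup.mem_centralizer_iff.mpr fun y hy =>
        congrArg Subtype.val (Subgroup.mem_centralizer_iff.mp h ⟨y, yOf_le L hy⟩ hy)⟩
    · intro h
      exact Subgroup.mem_centralizer_iff.mpr fun y hy =>
        Subtype.ext (Subgroup.mem_centralizer_iff.mp h.2 _ hy)
  have hCeq : Subgroup.centralizer (V : Set ↥L) = (cOf L).subgroupOf L := Subgroup.ext hcent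
  have hO : pCore 2 (↥L ⧸ Subgroup.centralizer (V : Set ↥L)) = ⊥ := by
    set C := Subgroup.centralizer (V : Set ↥L)
    set D := (pCore 2 (↥L ⧸ C)).comap (QuotientGroup.mk' C) with hD
    haveI : D.Normal := Subgroup.Normal.comap inferInstance _
    have hCD : C ≤ D := (QuotientGroup.ker_mk' C).ge.trans (MonoidHom.ker_le_comap _ _)
    obtain ⟨k, hk⟩ := IsPGroup.iff_card.mp (Core.isPGroup_pCore 2 (↥L ⧸ C))
    have hc' := Subgroup.relIndex_comap (⊥ : Subgroup (↥L ⧸ C)) (QuotientGroup.mk' C) D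
    rw [MonoidHom.comap_bot, QuotientGroup.ker_mk', hD,
      Subgroup.map_comap_eq_self_of_surjective (QuotientGroup.mk'_surjective C),
      Subgroup.relIndex_bot_left, hk] at hc'
    have hDle : D.map L.subtype ≤ cOf L := by
      refine o.le_cOf_of_normal (Subgroup.map_subtype_le _) ?_ ?_ (n := k) ?_
      · intro g hg
        rw [← cj_eq_self_iff]
        refine Subgroup.eq_of_le_of_card_ge ?_ (card_cj g _).ge
        rintro _ ⟨_, ⟨d, hd, rfl⟩, rfl⟩
        exact ⟨⟨g, hg⟩ * d * ⟨g, hg⟩⁻¹, (inferInstance : D.Normal).conj_mem d hd _, rfl⟩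
      · intro c hc
        exact ⟨⟨c, hc.1⟩, hCD ((hcent _).mpr hc), rfl⟩
      · rw [show cOf L = ((cOf L).subgroupOf L).map L.subtype from (Subgroup.map_subgroupOf_eq_of_le inf_le_left).symm, ← hCeq]
        rw [← Subgroup.relIndex_comap, Subgroup.comap_map_eq_self_of_injective L.subtype_injective]
        exact hc'
    have hDC : D = C := le_antisymm (fun d hd => (hcent d).mpr (hDle ⟨d, hd, rfl⟩)) hCD
    rw [← Subgroup.map_comap_eq_self_of_surjective (QuotientGroup.mk'_surjective C) (pCore 2 (↥L ⧸ C)),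
      ← hD, hDC, QuotientGroup.map_mk'_self]
  have h := planes_cover V Core.isPSolvable_of_isSolvable (isEA_map_back (omegaCenter_isEA _)) hO
  intro y hy
  have hy' : (⟨y, yOf_le L hy⟩ : ↥L) ∈ _ := h (show (⟨y, yOf_le L hy⟩ : ↥L) ∈ V from hy)
  have := Subgroup.mem_map_of_mem L.subtype hy'
  rw [Subgroup.map_sup] at this
  refine (sup_le_sup ?_ ?_ : _ ≤ (yOf L ⊓ Subgroup.centralizer (hOf L : Set G)) ⊔ sSup {P | Plane L P}) this
  · rintro _ ⟨v, ⟨hvV, hvC⟩, rfl⟩
    refine ⟨hvV, Subgroup.mem_centralizer_iff.mpr ?_⟩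
    rintro _ ⟨x, hx, rfl⟩
    exact congrArg Subtype.val (Subgroup.mem_centralizer_iff.mp hvC x hx)
  · rw [Subgroup.map_le_iff_le_comap]
    refine sSup_le fun P hP => Subgroup.map_le_iff_le_comap.mp (le_sSup ?_)
    obtain ⟨hle, hcard, hnorm, ⟨t, ht, ⟨w, hw, hw1, htw⟩, htc, htt, htcomm⟩, d, hd, hdm, hdf, hd3⟩ := hP
    refine ⟨fun x hx => ?_, by rw [Subgroup.card_map_of_injective L.subtype_injective]; exact hcard,
      fun g hg => ?_, ⟨t, ⟨t, ht, rfl⟩, ⟨w, ⟨w, hw, rfl⟩, fun e => hw1 (Subtype.ext e),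
      congrArg Subtype.val htw⟩, fun hc => htc ?_, (hcent _).mp htt, ?_⟩, d, ?_, ?_, ?_, (hcent _).mp hd3⟩
    · obtain ⟨x', hx', rfl⟩ := hx
      exact hle hx'
    · obtain ⟨g', hg', rfl⟩ := hg
      rw [← cj_eq_self_iff]
      refine Subgroup.eq_of_le_of_card_ge ?_ (card_cj _ _).ge
      rintro _ ⟨_, ⟨x, hx, rfl⟩, rfl⟩
      exact ⟨g' * x * g'⁻¹, (Subgroup.mem_normalizer_iff.mp (hnorm hg') x).mp hx, rfl⟩
    · exact Subgroup.mem_centralizer_iff.mpr fun x hx =>
        Subtype.ext (Subgroup.mem_centralizer_iff.mp hc _ ⟨x, hx, rfl⟩)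
    · rintro _ ⟨g', hg', rfl⟩ hgc
      exact (hcent _).mp (htcomm g' hg' (Subgroup.mem_centralizer_iff.mpr fun x hx =>
        Subtype.ext (Subgroup.mem_centralizer_iff.mp hgc _ ⟨x, hx, rfl⟩)))
    · rw [hOf, ← Subgroup.map_commutator]
      exact ⟨d, hd, rfl⟩
    · intro z hz
      exact ⟨⁅(⟨z, yOf_le L hz⟩ : ↥L), d⁆, hdm ⟨z, yOf_le L hz⟩ hz, rfl⟩
    · rintro _ ⟨z, hz, rfl⟩ hzc
      exact congrArg Subtype.val (hdf z hz (Subtype.ext hzc))

/-- The derived group of `H` acts on `Y` as an abelian group. -/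
theorem derived_derived_le (o : Over T L) : ⁅⁅hOf L, hOf L⁆, ⁅hOf L, hOf L⁆⁆ ≤ cOf L := by
  refine Subgroup.commutator_le.mpr fun x hx y hy => ?_
  have hxH : x ∈ hOf L := Subgroup.commutator_le_self _ hx
  have hyH : y ∈ hOf L := Subgroup.commutator_le_self _ hy
  refine ⟨?_, Subgroup.mem_centralizer_iff.mpr fun v hv => ?_⟩
  · rw [commutatorElement_def]
    exact L.mul_mem (L.mul_mem (L.mul_mem (hOf_le L hxH) (hOf_le L hyH)) (L.inv_mem (hOf_le L hxH)))
      (L.inv_mem (hOf_le L hyH))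
  set U := Subgroup.centralizer ({⁅x, y⁆} : Set G)
  suffices h : yOf L ≤ U from Subgroup.mem_centralizer_singleton_iff.mp (h hv)
  refine o.cover.trans (sup_le (fun u hu => ?_) (sSup_le fun P hP u hu => ?_))
  · rw [Subgroup.mem_centralizer_singleton_iff]
    exact (Subgroup.mem_centralizer_iff.mp hu.2 _
      ((hOf L).mul_mem ((hOf L).mul_mem ((hOf L).mul_mem hxH hyH) ((hOf L).inv_mem hxH))
        ((hOf L).inv_mem hyH))).symm
  · rw [Subgroup.mem_centralizer_singleton_iff]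
    have h1 := comm_mul_comm_of_plane hP.norm hP.card hx hy
      ((Subgroup.mem_normalizer_iff.mp (Subgroup.inv_mem _ (hP.norm ((hOf L).mul_mem hyH hxH))) u).mp hu)
    rw [inv_inv] at h1
    have h2 : ⁅x, y⁆ * u * ⁅x, y⁆⁻¹ = u := by
      calc ⁅x, y⁆ * u * ⁅x, y⁆⁻¹ = x * y * ((y * x)⁻¹ * u * (y * x)) * (x * y)⁻¹ := by
            rw [commutatorElement_def]; group
        _ = _ := h1
        _ = u := by group
    exact (mul_inv_eq_iff_eq_mul.mp h2).symm

end Over

end Cfsg.Agent.LocalEven.JComp
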