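import Cfsg.Agent.LocalEven.JCompUnique

/-! The centre cases and the two rank-one groups. -/

set_option autoImplicit false
set_option linter.style.haveILetI false
set_option linter.unusedSectionVars false

open scoped commutatorElement

namespace Cfsg.Agent.LocalEven.JComp

open Cfsg

universe u

variable {G : Type u} [Group G] [Finite G]

/-- The subgroup generated by a member and `T`. -/
theorem Member.rank_one {T K : Subgroup G} (m : Member T K) (hJ : JT T = T)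
    (hQ : Nat.card (pCoreOf 2 (lK T K)) = 2 * Nat.card (zJ T)) (hT : Nat.card T = 4 * Nat.card (zJ T)) :
    Over T (K ⊔ T) ∧ pCoreOf 2 (K ⊔ T) = pCoreOf 2 (lK T K) ∧ (pCoreOf 2 (K ⊔ T)).relIndex (K ⊔ T) = 6 ∧
      Nat.card ↥(K ⊔ T) = 3 * Nat.card T ∧
      ¬ ⁅K ⊔ T, K ⊔ T⁆ ≤ pCoreOf 2 (K ⊔ T) ∧ ⁅omegaCenterOf T, K ⊔ T⁆ ≠ ⊥ := by
  haveI : Fact (Nat.Prime 2) := ⟨Nat.prime_two⟩
  set P := K ⊔ T
  have hPL : P ≤ lK T K := sup_le m.K_le m.T_le
  have o : Over T P := m.overL.sub le_sup_right hPL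
  set Q := pCoreOf 2 (lK T K) with hQdef
  have hKpT : ¬ K ≤ Subgroup.normalizer (T : Set G) := fun hle => m.jc.K_not_pGroup (m.hT.to_le (by
    rw [← m.jc.comm, hJ]
    exact Subgroup.le_normalizer_iff_commutator_le_right.mp hle))
  have hPQ : pCoreOf 2 P = Q := by
    refine le_antisymm (fun x hx => ?_)
      (le_op (m.Q_le.trans le_sup_right) (hPL.trans m.lK_le_norm_Q) (isPGroup_op _))
    by_contra hxQ
    have hQP : Q ≤ pCoreOf 2 P :=
      le_op (m.Q_le.trans le_sup_right) (hPL.trans m.lK_le_norm_Q) (isPGroup_op _)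
    have heq : pCoreOf 2 P = T := le_antisymm o.Q_le_T fun t ht => by
      by_cases htQ : t ∈ Q
      · exact hQP htQ
      · have := (pCoreOf 2 P).mul_mem hx (hQP (m.inv_mul_mem_Q ht (o.Q_le_T hx) htQ hxQ))
        rwa [mul_inv_cancel_left] at this
    exact hKpT (le_sup_left.trans ((map_pCore_normalized P).trans
      (by rw [show (pCore 2 P).map P.subtype = T from heq])))
  have hKT : K ⊓ T = pCoreOf 2 K :=
    le_antisymm (m.jc.le_R_of_pGroup m.hT) (le_inf JC.R_le (m.R_le_Q.trans m.Q_le))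
  have hc := PLocal.card_sup_mul_card_inf (A := T) (B := K) m.T_norm
  have h3 := card_mul_relIndex (JC.R_le : pCoreOf 2 K ≤ K)
  rw [m.jc.idx] at h3
  rw [sup_comm, inf_comm T K, hKT, ← h3] at hc
  have hR : 0 < Nat.card (pCoreOf 2 K) := Nat.card_pos
  have hcard : Nat.card ↥P = 3 * Nat.card T := Nat.eq_of_mul_eq_mul_right hR (by rw [hc]; ring)
  refine ⟨o, hPQ, ?_, hcard, fun hle => ?_, fun hbot => ?_⟩
  · have h6 : Nat.card (pCoreOf 2 P) * (pCoreOf 2 P).relIndex P = Nat.card ↥P :=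
      card_mul_relIndex (op_le P : pCoreOf 2 P ≤ P)
    rw [hPQ] at h6 ⊢
    have hQ0 : 0 < Nat.card Q := Nat.card_pos
    exact Nat.eq_of_mul_eq_mul_left hQ0 (by rw [h6, hcard, hT, hQ]; ring)
  · refine m.jc.K_not_pGroup ((isPGroup_op (p := 2) P).to_le ?_)
    rw [← m.jc.comm]
    exact (Subgroup.commutator_mono le_sup_left ((JT_le T).trans le_sup_right)).trans hle
  · obtain ⟨z, hz, hzW, hz1, -⟩ := m.jc.exists_z m.hT
    exact hz1 (m.jc.eq_one_of_fixed hzW (Subgroup.centralizer_le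
      (SetLike.coe_subset_coe.mpr (le_sup_left : K ≤ P))
      (Subgroup.commutator_eq_bot_iff_le_centralizer.mp hbot (m.zJ_le_omega hz))))

namespace Ctx

variable {M T : Subgroup G}

theorem two_amalgam (c : Ctx M T) (hB : ¬ Glob M T) :
    ∃ K₁ K₂ : Subgroup G, K₁ ≠ K₂ ∧ IsJComponent T K₁ ∧ IsJComponent T K₂ ∧
      pCoreOf 2 ((K₁ ⊔ T) ⊔ (K₂ ⊔ T)) = ⊥ ∧
      ∀ P ∈ [K₁ ⊔ T, K₂ ⊔ T],
        Subgroup.centralizer (pCoreOf 2 P : Set G) ≤ pCoreOf 2 P ∧ IsSylowTwoIn T P ∧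
        (pCoreOf 2 P).relIndex P = 6 ∧ ¬ ⁅P, P⁆ ≤ pCoreOf 2 P ∧ ⁅omegaCenterOf T, P⁆ ≠ ⊥ ∧
        ∃ L : Subgroup G, IsMaximalTwoLocal L ∧ P ≤ L ∧ IsSylowTwoIn T L ∧
          ∀ L' : Subgroup G, IsMaximalTwoLocal L' → P ≤ L' → L' = L := by
  obtain ⟨C, D, cd⟩ := (c.fam hB).core
  have hC := c.mem0_self cd.pC
  have hD := c.mem0_self cd.pD
  have one : ∀ {K : Subgroup G}, Mem0 M T K → Nat.card (pCoreOf 2 (lK T K)) = 2 * Nat.card (zJ T) →
      Subgroup.centralizer (pCoreOf 2 (K ⊔ T) : Set G) ≤ pCoreOf 2 (K ⊔ T) ∧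
        IsSylowTwoIn T (K ⊔ T) ∧ (pCoreOf 2 (K ⊔ T)).relIndex (K ⊔ T) = 6 ∧
        ¬ ⁅K ⊔ T, K ⊔ T⁆ ≤ pCoreOf 2 (K ⊔ T) ∧ ⁅omegaCenterOf T, K ⊔ T⁆ ≠ ⊥ ∧
        ∃ L : Subgroup G, IsMaximalTwoLocal L ∧ K ⊔ T ≤ L ∧ IsSylowTwoIn T L ∧
          ∀ L' : Subgroup G, IsMaximalTwoLocal L' → K ⊔ T ≤ L' → L' = L := by
    intro K h hQ
    have m := c.mem0_member (c.small hB) h
    obtain ⟨o, -, h6, -, h7, h8⟩ := m.rank_one cd.J_eq hQ cd.card_T
    exact ⟨o.char2, o.sylT, h6, h7, h8, _, c.maximal hB h, sup_le JC.K_normalizes_W m.ovW.sylT.1,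
      m.ovW.sylT, fun L' hL' hle => c.eq_max hB h hL' (le_sup_left.trans hle)
        ((JT_le T).trans (le_sup_right.trans hle))⟩
  refine ⟨C, D, cd.ne, jc_iff.mpr hC.1, jc_iff.mpr hD.1, ?_, ?_⟩
  · by_contra hne
    refine cd.nonorm _ (isPGroup_op _) hne ?_ ?_ ?_
    · exact (le_sup_right.trans le_sup_left).trans (map_pCore_normalized _)
    · exact (le_sup_left.trans le_sup_left).trans (map_pCore_normalized _)
    · exact (le_sup_left.trans le_sup_right).trans (map_pCore_normalized _)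
  · intro P hP
    simp only [List.mem_cons, List.not_mem_nil, or_false] at hP
    rcases hP with rfl | rfl
    · exact one hC cd.card_C
    · exact one hD cd.card_D

/-- The three centre cases. -/
theorem center_cases (c : Ctx M T) (hB : ¬ Glob M T) (S : Sylow 2 G) (hTS : T ≤ S)
    (hSM : Subgroup.normalizer ((S : Subgroup G) : Set G) ≤ M) {K L : Subgroup G}
    (hKo : K ∈ jComponentsOutside M T) (hL : IsMaximalTwoLocal L) (hKL : K ⊔ JT T ≤ L) :
    zJ T ⊓ wOf K ≠ ⊥ ∧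
      ((omegaCenterOf (S : Subgroup G) = zJ T ∧ Nat.card ↥(zJ T) = 2) ∨
        (omegaCenterOf (S : Subgroup G) = zJ T ∧ Nat.card ↥(zJ T) = 4 ∧ T = (S : Subgroup G)) ∨
        (omegaCenterOf T = zJ T ∧ Nat.card ↥(zJ T) = 4 ∧
          (L ⊓ Subgroup.centralizer (zJ T : Set G)).relIndex (Subgroup.normalizer (zJ T : Set G)) = 2)) := by
  haveI : Fact (Nat.Prime 2) := ⟨Nat.prime_two⟩
  have h := c.outside_mem hB hKo
  have hKM := hKo.2.1
  have m := c.outside_member hB hKo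
  obtain ⟨z, hz, hzW, hz1, -⟩ := m.jc.exists_z m.hT
  refine ⟨fun e => hz1 (Subgroup.mem_bot.mp (e.le ⟨hz, hzW⟩)), ?_⟩
  have hZS := c.central_le_zJ S hTS m.ovW
  have hzT : omegaCenterOf T = zJ T := le_antisymm (omegaCenter_le_zJ T) m.zJ_le_omega
  have hc := m.jc.card_zJ m.hT
  have hle := m.jc.card_hK_le m.hT m.small
  have hpos : 0 < Nat.card (hK T K) := Nat.card_pos
  obtain ⟨p, hp, hp1⟩ := c.exists_central S hTS
  by_cases h2 : Nat.card (zJ T) = 2
  · refine Or.inl ⟨le_antisymm hZS fun y hy => ?_, h2⟩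
    by_cases hy1 : y = 1
    · rw [hy1]; exact one_mem _
    · rw [eq_of_card_le_two h2.le hy (hZS hp) hy1 hp1]; exact hp
  have h4 : Nat.card (zJ T) = 4 := by omega
  by_cases hTSe : T = (S : Subgroup G)
  · exact Or.inr (Or.inl ⟨by rw [← hTSe]; exact hzT, h4, hTSe⟩)
  refine Or.inr (Or.inr ⟨hzT, h4, ?_⟩)
  have hSM' : (S : Subgroup G) ≤ M := Subgroup.le_normalizer.trans hSM
  obtain ⟨x, hx, hxN, hxT⟩ := exists_between S.isPGroup' hTS hTSe
  have hxz := normalizer_le_normalizer_zJ T hxN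
  have hUT : ∀ {X : Subgroup G}, IsTwoLocal X → T ≤ X → x ∈ X → X ≤ M := fun {X} hX hTX hxX => by
    by_contra hXM
    have := c.eq_T hX hXM (sup_le hTX (Subgroup.zpowers_le.mpr hxX))
      (sup_le c.T_le (Subgroup.zpowers_le.mpr (hSM' hx)))
      (S.isPGroup'.to_le (sup_le hTS (Subgroup.zpowers_le.mpr hx))) le_sup_left
    exact hxT (this ▸ Subgroup.mem_sup_right (Subgroup.mem_zpowers x))
  have hK₂ : Mem0 M T (LocalEven.cj x K) := c.mem0_self ⟨x, K, h, (cj_eq_self_iff.mpr hxN).symm, rfl⟩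
  have hne : K ≠ LocalEven.cj x K := fun e => hKM (JC.K_normalizes_W.trans (hUT
    (normalizer_isTwoLocal m.jc) m.ovW.sylT.1
    (normalizer_le_normalizer_wOf K (cj_eq_self_iff.mp e.symm))))
  have hnb : hK T K ≠ ⊥ := fun e => by rw [e, Subgroup.card_bot] at hc; omega
  obtain ⟨⟨u, hu⟩, hu1⟩ := Subgroup.ne_bot_iff_exists_ne_one.mp hnb
  have hu1' : u ≠ 1 := fun e => hu1 (Subtype.ext e)
  set u' := x * u * x⁻¹ with hu'
  have hu'' : u' ∈ hK T (LocalEven.cj x K) := by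
    have h7 : u' ∈ LocalEven.cj x (hK T K) := ⟨u, hu, rfl⟩
    rwa [cj_hK, cj_eq_self_iff.mpr hxN] at h7
  have hu'1 : u' ≠ 1 := fun e => hu1' (conj_eq_one_iff.mp e)
  have hne' : u ≠ u' := fun e =>
    hne ((c.fam hB).uniq (c.famP_self h) (c.famP_self hK₂) hu1' hu (e.symm ▸ hu''))
  have hEA : IsElementaryAbelian 2 (zJ T) := omegaCenter_isEA _
  -- the central involution is the third one
  have hcentral : ∀ y ∈ omegaCenterOf (S : Subgroup G), y = 1 ∨ y = u * u' := by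
    intro y hy
    have hfix : x * y * x⁻¹ = y := mul_inv_eq_iff_eq_mul.mpr
      (Subgroup.mem_centralizer_iff.mp (mem_omegaCenter.mp hy).2.1 x hx)
    rcases four_elems h4 hEA hu.1 hu''.1 hu1' hu'1 hne' (hZS hy) with e | e | e | e
    · exact Or.inl e
    · subst e; exact absurd hfix.symm hne'
    · refine absurd (((MulAut.conj x).injective (a₁ := y) (a₂ := u) ?_).symm.trans e) hne'
      show x * y * x⁻¹ = x * u * x⁻¹
      exact hfix.trans e
    · exact Or.inr e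
  have hpuu : p = u * u' := (hcentral p hp).resolve_left hp1
  have hCp : Subgroup.centralizer ({u * u'} : Set G) ≤ M := (c.center_eq S hcentral).trans hSM
  have hL' := c.eq_max hB h hL (le_sup_left.trans hKL) (le_sup_right.trans hKL)
  have hCz : Subgroup.centralizer (zJ T : Set G) ≤ L := by
    rw [hL']
    refine le_trans ?_ (c.local_le hB h (centralizer_isTwoLocal (mem_omegaCenter.mp hu.1).2.2 hu1')
      (mem_singleton_centralizer hu.2) (mem_singleton_centralizer (mem_omegaCenter.mp hu.1).2.1))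
    exact fun g hg => Subgroup.mem_centralizer_singleton_iff.mpr
      (Subgroup.mem_centralizer_iff.mp hg u hu.1).symm
  rw [inf_eq_right.mpr hCz]
  -- `N(Z₀)` is in `M`, so fixes the central involution
  have hzne : zJ T ≠ ⊥ := fun e => by rw [e, Subgroup.card_bot] at h4; omega
  have hNz : Subgroup.normalizer (zJ T : Set G) ≤ M := hUT
    ⟨zJ T, PLocal.isPGroup_of_EA hEA, hzne, rfl⟩
    (Subgroup.le_normalizer.trans (normalizer_le_normalizer_zJ T)) hxz
  have hup : u * u' ≠ u ∧ u * u' ≠ u' := ⟨fun e => hu'1 (mul_eq_left.mp e), fun e => hu1' (mul_eq_right.mp e)⟩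
  have hfixp : ∀ g ∈ Subgroup.normalizer (zJ T : Set G), g * (u * u') * g⁻¹ = u * u' := by
    intro g hg
    have hmem : g * (u * u') * g⁻¹ ∈ zJ T :=
      (Subgroup.mem_normalizer_iff.mp hg _).mp ((zJ T).mul_mem hu.1 hu''.1)
    have bad : ∀ {C : Subgroup G}, ¬ C ≤ M → g * (u * u') * g⁻¹ ∈ hK T C → False := by
      intro C hC hg'
      refine hC ((mem_singleton_centralizer hg'.2).trans ?_)
      rw [← cj_centralizer_singleton]
      exact (cj_mono hCp).trans (cj_eq_self_iff.mpr (Subgroup.le_normalizer (hNz hg))).le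
    rcases four_elems h4 hEA hu.1 hu''.1 hu1' hu'1 hne' hmem with e | e | e | e
    · exact absurd (conj_eq_one_iff.mp e) (hpuu ▸ hp1)
    · exact (bad hKM (by rw [e]; exact hu)).elim
    · exact (bad (c.cj_out (hSM' hx) hKM) (by rw [e]; exact hu'')).elim
    · exact e
  have hxu' : x * u' * x⁻¹ = u := by
    have h8 : x * (u * u') * x⁻¹ = u * u' := hfixp x hxz
    rw [show x * (u * u') * x⁻¹ = u' * (x * u' * x⁻¹) by rw [hu']; group] at h8
    calc x * u' * x⁻¹ = u'⁻¹ * (u * u') := by rw [← h8, inv_mul_cancel_left]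
      _ = u' * (u * u') := by rw [inv_self hEA hu''.1]
      _ = u * (u' * u') := by
        rw [← mul_assoc, PLocal.comm_of_EA hEA hu''.1 hu.1, mul_assoc]
      _ = u := by rw [sq_self hEA hu''.1, mul_one]
  rw [Subgroup.relIndex, Subgroup.index_eq_two_iff]
  refine ⟨⟨x, hxz⟩, fun b => ?_⟩
  show Xor ((b : G) * x ∈ Subgroup.centralizer (zJ T : Set G)) ((b : G) ∈ Subgroup.centralizer (zJ T : Set G))
  have hcent : ∀ g ∈ Subgroup.normalizer (zJ T : Set G),
      (g ∈ Subgroup.centralizer (zJ T : Set G) ↔ g * u * g⁻¹ = u) := fun g hg =>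
    ⟨fun hc => mul_inv_eq_iff_eq_mul.mpr (Subgroup.mem_centralizer_iff.mp hc u hu.1).symm,
      fun e => centralizes_of_two_fixed h4 hEA hu.1 ((zJ T).mul_mem hu.1 hu''.1) hu1' (hpuu ▸ hp1)
        (Ne.symm hup.1) (mul_inv_eq_iff_eq_mul.mp e) (mul_inv_eq_iff_eq_mul.mp (hfixp g hg))⟩
  rw [hcent _ (Subgroup.mul_mem _ b.2 hxz), hcent _ b.2]
  have hbx : ((b : G) * x) * u * ((b : G) * x)⁻¹ = (b : G) * u' * (b : G)⁻¹ := by rw [hu']; group
  have hfb := hfixp b b.2
  rcases four_elems h4 hEA hu.1 hu''.1 hu1' hu'1 hne'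
      ((Subgroup.mem_normalizer_iff.mp b.2 u).mp hu.1) with e | e | e | e
  · exact absurd (conj_eq_one_iff.mp e) hu1'
  · refine Or.inr ⟨e, fun h9 => hne' ?_⟩
    rw [hbx] at h9
    exact (MulAut.conj (b : G)).injective (show (b : G) * u * (b : G)⁻¹ = (b : G) * u' * (b : G)⁻¹ from
      e.trans h9.symm)
  · refine Or.inl ⟨?_, fun h9 => hne' (h9.symm.trans e)⟩
    rw [hbx]
    calc (b : G) * u' * (b : G)⁻¹ = ((b : G) * u * (b : G)⁻¹)⁻¹ * ((b : G) * (u * u') * (b : G)⁻¹) := by group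
      _ = u'⁻¹ * (u * u') := by rw [e, hfb]
      _ = u' * (u * u') := by rw [inv_self hEA hu''.1]
      _ = u * (u' * u') := by
        rw [← mul_assoc, PLocal.comm_of_EA hEA hu''.1 hu.1, mul_assoc]
      _ = u := by rw [sq_self hEA hu''.1, mul_one]
  · refine absurd ((MulAut.conj (b : G)).injective (a₁ := u) (a₂ := u * u') ?_) (Ne.symm hup.1)
    show (b : G) * u * (b : G)⁻¹ = (b : G) * (u * u') * (b : G)⁻¹
    exact e.trans hfb.symm

end Ctx

end Cfsg.Agent.LocalEven.JComp
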