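import Cfsg.Agent.LocalEven.JCompNormal

/-! The graph parameter is one. -/

set_option autoImplicit false
set_option linter.style.haveILetI false
set_option linter.unusedSectionVars false

open scoped commutatorElement

namespace Cfsg.Agent.LocalEven.JComp

open Cfsg

universe u

variable {G : Type u} [Group G] [Finite G]

namespace Fam

variable {T : Subgroup G} {P : Subgroup G → Subgroup G → Prop}

theorem adj_ends (F : Fam T P) {A B : Subgroup G} (h : Ad P A B) :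
    ∃ U C D, P U C ∧ P U D ∧ A = lK U C ∧ B = lK U D ∧ C ≠ D := by
  obtain ⟨hne, U, C, D, hC, hD, eA, eB⟩ := h
  exact ⟨U, C, D, hC, hD, eA, eB, fun e => hne (by rw [eA, eB, e])⟩

/-- Two members with the same `Ω₁(Z(J)) ∩ W` point outside every hyperplane. -/
theorem third (F : Fam T P) {C D : Subgroup G} (hC : P T C) (hD : P T D) {y y' : G}
    (hy : y ∈ zJ T) (hyW : y ∈ wOf C) (hy1 : y ≠ 1) (hy' : y' ∈ zJ T) (hy1' : y' ≠ 1)
    (hno : ∀ X, P T X → y ∉ hK T X) (hno' : ∀ X, P T X → y' ∉ hK T X) (hne : C ≠ D) : y = y' := by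
  have mC := F.mem hC
  have mD := F.mem hD
  have hc := mC.jc.card_zJ mC.hT
  by_cases h2 : Nat.card (zJ T) ≤ 2
  · exact eq_of_card_le_two h2 hy hy' hy1 hy1'
  have h4 : Nat.card (zJ T) = 4 := by have := mC.small; omega
  have hEA : IsElementaryAbelian 2 (zJ T) := omegaCenter_isEA _
  have hexists : ∀ {X : Subgroup G}, P T X → ∃ x ∈ hK T X, x ≠ 1 := by
    intro X hX
    by_contra hcon
    push Not at hcon
    have e := (Subgroup.eq_bot_iff_forall _).mpr hcon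
    have := (F.mem hX).jc.card_zJ (F.mem hX).hT
    rw [e, Subgroup.card_bot] at this
    omega
  obtain ⟨a, ha, ha1⟩ := hexists hC
  obtain ⟨b, hb, hb1⟩ := hexists hD
  have hab : a ≠ b := fun e => hne (F.uniq hC hD ha1 ha (e ▸ hb))
  rcases four_elems h4 hEA ha.1 hb.1 ha1 hb1 hab hy with e | e | e | e
  · exact absurd e hy1
  · exact absurd (e ▸ ha) (hno C hC)
  · exact absurd (e ▸ hb) (hno D hD)
  rcases four_elems h4 hEA ha.1 hb.1 ha1 hb1 hab hy' with e' | e' | e' | e'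
  · exact absurd e' hy1'
  · exact absurd (e' ▸ ha) (hno' C hC)
  · exact absurd (e' ▸ hb) (hno' D hD)
  · rw [e, e']

/-- The data of a critical walk. -/
structure Crit (P : Subgroup G → Subgroup G → Prop) (m : ℕ) (U₀ CA CA1 U₁ CB CB1 : Subgroup G) (a v : G) :
    Prop where
  pA : P U₀ CA
  pA1 : P U₀ CA1
  pB : P U₁ CB
  pB1 : P U₁ CB1
  neA : CA ≠ CA1
  neB : CB ≠ CB1
  path : Dist P m (lK U₀ CA1) (lK U₁ CB1)
  ha : a ∈ yOf (lK U₀ CA)
  haU : a ∈ U₁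
  haQ : a ∉ pCoreOf 2 (lK U₁ CB)
  hv : v ∈ yOf (lK U₁ CB)
  hvU : v ∈ U₀
  hvQ : v ∉ pCoreOf 2 (lK U₀ CA)
  comm : ⁅a, v⁆ ≠ 1

variable {m : ℕ}

theorem crit_of (F : Fam T P) (hnear : ∀ k < m + 2, ∀ A B, Dist P k A B → yOf A ≤ pCoreOf 2 B)
    {A A1 B1 B : Subgroup G} (h1 : Ad P A A1) (h2 : Dist P m A1 B1) (h3 : Ad P B1 B)
    (hcr : ¬ yOf A ≤ pCoreOf 2 B) :
    ∃ U₀ CA CA1 U₁ CB CB1 a v, A = lK U₀ CA ∧ A1 = lK U₀ CA1 ∧ B = lK U₁ CB ∧ B1 = lK U₁ CB1 ∧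
      Crit P m U₀ CA CA1 U₁ CB CB1 a v := by
  obtain ⟨U₀, CA, CA1, hA, hA1, eA, eA1, neA⟩ := F.adj_ends h1
  obtain ⟨U₁, CB1, CB, hB1, hB, eB1, eB, neB⟩ := F.adj_ends h3
  have mA := F.mem hA
  have mA1 := F.mem hA1
  have mB := F.mem hB
  have mB1 := F.mem hB1
  have hAU : yOf A ≤ U₁ :=
    (hnear (1 + m) (by omega) _ _ ((Dist.one h1).trans h2)).trans (eB1 ▸ mB1.Q_le)
  have hBU : yOf B ≤ U₀ :=
    (hnear (m + 1) (by omega) _ _ (h2.trans (Dist.one h3)).symm).trans (eA1 ▸ mA1.Q_le)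
  obtain ⟨a, ha, haQ⟩ := SetLike.not_le_iff_exists.mp hcr
  obtain ⟨v, hv, hne⟩ : ∃ v ∈ yOf B, ⁅a, v⁆ ≠ 1 := by
    by_contra hcon
    push Not at hcon
    refine haQ ?_
    rw [eB]
    refine mB.mem_Q (hAU ha) (Subgroup.mem_centralizer_iff.mpr fun w hw => ?_)
    exact (commutatorElement_eq_one_iff_mul_comm.mp (hcon w (eB.symm ▸ mB.W_le_Y hw))).symm
  refine ⟨U₀, CA, CA1, U₁, CB, CB1, a, v, eA, eA1, eB, eB1,
    ⟨hA, hA1, hB, hB1, neA, neB.symm, eA1 ▸ eB1 ▸ h2, eA ▸ ha, hAU ha, eB ▸ haQ, eB ▸ hv, hBU hv,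
      fun h => hne (commutatorElement_eq_one_iff_mul_comm.mpr ?_), hne⟩⟩
  exact Subgroup.mem_centralizer_iff.mp (mA.Q_cent_Y h) a (eA ▸ ha)

namespace Crit

variable {U₀ CA CA1 U₁ CB CB1 : Subgroup G} {a v : G}

theorem adA (c : Crit P m U₀ CA CA1 U₁ CB CB1 a v) (F : Fam T P) :
    Ad P (lK U₀ CA) (lK U₀ CA1) := F.adj c.pA c.pA1 c.neA

theorem adB (c : Crit P m U₀ CA CA1 U₁ CB CB1 a v) (F : Fam T P) :
    Ad P (lK U₁ CB1) (lK U₁ CB) := F.adj c.pB1 c.pB c.neB.symm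

theorem comm_inv (c : Crit P m U₀ CA CA1 U₁ CB CB1 a v) (F : Fam T P) : ⁅v, a⁆ = ⁅a, v⁆ := by
  have h := ((F.mem c.pB).comm_mem c.haU c.hv).1
  rw [← commutatorElement_inv v a, inv_self (omegaCenter_isEA _) h]

theorem rA (c : Crit P m U₀ CA CA1 U₁ CB CB1 a v) (F : Fam T P) : ⁅a, v⁆ ∈ zJ U₀ ⊓ wOf CA :=
  (F.mem c.pA).comm_mem c.hvU c.ha

theorem rB (c : Crit P m U₀ CA CA1 U₁ CB CB1 a v) (F : Fam T P) : ⁅a, v⁆ ∈ zJ U₁ ⊓ wOf CB :=
  c.comm_inv F ▸ (F.mem c.pB).comm_mem c.haU c.hv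

theorem symm (c : Crit P m U₀ CA CA1 U₁ CB CB1 a v) (F : Fam T P) : Crit P m U₁ CB CB1 U₀ CA CA1 v a :=
  ⟨c.pB, c.pB1, c.pA, c.pA1, c.neB, c.neA, c.path.symm, c.hv, c.hvU, c.hvQ, c.ha, c.haU, c.haQ,
    c.comm_inv F ▸ c.comm⟩

/-- For long walks the common commutator lies in no hyperplane. -/
theorem notH (c : Crit P m U₀ CA CA1 U₁ CB CB1 a v) (F : Fam T P)
    (hnear : ∀ k < m + 2, ∀ A B, Dist P k A B → yOf A ≤ pCoreOf 2 B) (hm : 1 ≤ m) {X : Subgroup G}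
    (hX : P U₀ X) : ⁅a, v⁆ ∉ hK U₀ X := by
  intro hr
  obtain ⟨hX1, eX⟩ := F.fix_vertex hX c.pB c.comm hr (c.rB F).1
  have hneA : CA ≠ X := fun e =>
    c.comm ((F.mem c.pA).jc.eq_one_of_fixed (c.rA F).2 (e.symm ▸ hr.2))
  have hneB : X ≠ CB := fun e =>
    c.comm ((F.mem c.pB).jc.eq_one_of_fixed (c.rB F).2 (e ▸ hr.2))
  have h2 := F.adj hX1 c.pB hneB
  rw [eX] at h2
  exact c.haQ (hnear 2 (by omega) _ _ ((Dist.one (F.adj c.pA hX hneA)).trans (Dist.one h2)) c.ha)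

/-- The next critical walk. -/
theorem shift (c : Crit P m U₀ CA CA1 U₁ CB CB1 a v) (F : Fam T P)
    (hnear : ∀ k < m + 2, ∀ A B, Dist P k A B → yOf A ≤ pCoreOf 2 B) :
    ∃ Um CN x, x ∈ lK U₀ CA ∧ Um = LocalEven.cj x U₀ ∧ Um ≠ U₀ ∧ P Um CA ∧ lK Um CA = lK U₀ CA ∧
      P Um CN ∧ CA ≠ CN ∧ ¬ yOf (lK Um CN) ≤ pCoreOf 2 (lK U₁ CB1) := by
  have mA := F.mem c.pA
  obtain ⟨d, hd, hdR⟩ := mA.jc.exists_d
  have hne := mA.moves_end hd hdR
  obtain ⟨hUm, eUm⟩ := F.end_conj c.pA (mA.K_le hd)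
  set Um := LocalEven.cj d U₀ with hUmdef
  obtain ⟨CN, hN, hnn⟩ := (F.at_of hUm).partner hUm
  have mN := F.mem hN
  have mm := F.mem hUm
  refine ⟨Um, CN, d, mA.K_le hd, rfl, hne, hUm, eUm, hN, hnn.ne mm, fun hle => ?_⟩
  have h1 : Dist P 1 (lK Um CA) (lK Um CN) := Dist.one (F.adj hUm hN (hnn.ne mm))
  have hCD : yOf (lK Um CA) ≤ pCoreOf 2 (lK Um CN) := hnear 1 (by omega) _ _ h1
  have hDC : yOf (lK Um CN) ≤ pCoreOf 2 (lK Um CA) := hnear 1 (by omega) _ _ h1.symm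
  refine (F.at_of hUm).no_normal hUm hN hnn hCD hDC ?_
  set YA := yOf (lK Um CA) with hYA
  set YN := yOf (lK Um CN) with hYN
  set V := YA ⊔ YN with hV
  have hUV : Um ≤ Subgroup.normalizer (V : Set G) :=
    (le_inf (mm.T_le.trans (le_normalizer_yOf _)) (mN.T_le.trans (le_normalizer_yOf _))).trans
      (Subgroup.normalizer_inf_normalizer_le_normalizer_sup _ _)
  have hrV : ⁅a, v⁆ ∈ V :=
    Subgroup.mem_sup_left (show ⁅a, v⁆ ∈ YA from mm.W_le_Y (c.rA F).2)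
  have hvA : v ∈ Subgroup.normalizer (YA : Set G) := le_normalizer_yOf _ (eUm.symm ▸ mA.T_le c.hvU)
  have mB := F.mem c.pB
  have mB1 := F.mem c.pB1
  have hvV : v ∈ Subgroup.normalizer (V : Set G) := by
    rw [← cj_eq_self_iff]
    refine Subgroup.eq_of_le_of_card_ge ?_ (card_cj v V).ge
    rw [LocalEven.cj, Subgroup.map_le_iff_le_comap]
    refine sup_le (fun y hy => Subgroup.mem_sup_left ((Subgroup.mem_normalizer_iff.mp hvA y).mp hy))
      (fun y hy => ?_)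
    show v * y * v⁻¹ ∈ V
    rw [show v * y * v⁻¹ = ⁅v, y⁆ * y by rw [commutatorElement_def]; group]
    refine V.mul_mem ?_ (Subgroup.mem_sup_right hy)
    have h2 := mB.comm_mem (mB1.Q_le (hle hy)) c.hv
    obtain ⟨z, -, -, -, huniq⟩ := mB.jc.exists_z mB.hT
    rcases huniq _ h2.1 h2.2 with e | e
    · rw [e]; exact one_mem _
    · rw [e, ← (huniq _ (c.rB F).1 (c.rB F).2).resolve_left c.comm]; exact hrV
  set t := d * v * d⁻¹ with ht
  have htU : t ∈ Um := ⟨v, c.hvU, rfl⟩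
  have hvnQ : v ∉ Um := fun h =>
    c.hvQ (mA.ends_inter mm eUm.symm hne.symm c.hvU h)
  set k := d⁻¹ * (t * d * t⁻¹) with hk
  have hkC : k ∈ CA := CA.mul_mem (CA.inv_mem hd) ((Subgroup.mem_normalizer_iff.mp (mm.T_norm htU) d).mp hd)
  have hvk : v = k * t := by rw [hk, ht]; group
  have hkR : k ∉ pCoreOf 2 CA := fun h => hvnQ (hvk ▸ Um.mul_mem (mm.Q_le (mm.R_le_Q h)) htU)
  rw [mA.jc.K_eq_sup hkC hkR]
  refine sup_le ((mm.R_le_Q.trans mm.Q_le).trans hUV) (Subgroup.zpowers_le.mpr ?_)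
  rw [show k = v * t⁻¹ by rw [hvk, mul_inv_cancel_right]]
  exact Subgroup.mul_mem _ hvV (Subgroup.inv_mem _ (hUV htU))

/-- For walks of length two the middle point is central at the outer vertex. -/
theorem two_data (c : Crit P 0 U₀ CA CA1 U₁ CB CB1 a v) (F : Fam T P)
    (hnear : ∀ k < 2, ∀ A B, Dist P k A B → yOf A ≤ pCoreOf 2 B) :
    ∃ Um CN t, Um ≠ U₀ ∧ P Um CA ∧ lK Um CA = lK U₀ CA ∧ P Um CN ∧ CA ≠ CN ∧
      t ∈ yOf (lK Um CN) ∧ t ∈ pCoreOf 2 (lK U₀ CA) ∧ t ∉ pCoreOf 2 (lK U₀ CA1) ∧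
      ∃ z ∈ hK U₀ CA, z ≠ 1 ∧ z ∈ zJ U₀ ∧ z ∈ wOf CA1 := by
  obtain ⟨Um, CN, x, -, -, hne, hUm, eUm, hN, neN, hcr⟩ := c.shift F hnear
  have e11 : lK U₀ CA1 = lK U₁ CB1 := c.path
  rw [← e11] at hcr
  obtain ⟨t, ht, htQ⟩ := SetLike.not_le_iff_exists.mp hcr
  have mA := F.mem c.pA
  have mm := F.mem hUm
  have mA1 := F.mem c.pA1
  have mN := F.mem hN
  have htA : t ∈ pCoreOf 2 (lK U₀ CA) :=
    eUm ▸ hnear 1 (by omega) _ _ (Dist.one (F.adj hN hUm neN.symm)) ht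
  refine ⟨Um, CN, t, hne, hUm, eUm, hN, neN, ht, htA, htQ, ?_⟩
  obtain ⟨y, hy, hyne⟩ : ∃ y ∈ yOf (lK U₀ CA1), ⁅y, t⁆ ≠ 1 := by
    by_contra hcon
    push Not at hcon
    exact htQ (mA1.mem_Q (mA.Q_le htA) (Subgroup.mem_centralizer_iff.mpr fun w hw =>
      commutatorElement_eq_one_iff_mul_comm.mp (hcon w (mA1.W_le_Y hw))))
  have h1 := mA1.comm_mem (mA.Q_le htA) hy
  have hyU : y ∈ Um :=
    mm.Q_le (eUm.symm ▸ hnear 1 (by omega) _ _ (Dist.one (F.adj c.pA1 c.pA c.neA.symm)) hy)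
  have h2 : ⁅y, t⁆ ∈ zJ Um := by
    have h := (mN.comm_mem hyU ht).1
    rw [← commutatorElement_inv t y]
    exact (zJ Um).inv_mem h
  have hzY : ⁅y, t⁆ ∈ wOf CA ⊔ hK U₀ CA := mA.Y_eq ▸ mA.zJ_le_Y h1.1
  obtain ⟨w, hw, h, hh, he⟩ := Coprime.exists_mul_of_mem_sup
    (fun x hx => Subgroup.centralizer_le_normalizer _ (Subgroup.mem_centralizer_iff.mpr fun y hy =>
      PLocal.comm_of_EA (omegaCenter_isEA _) (mA.W_le_Y hy) (mA.hK_le_Y hx))) hzY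
  have hw1 : w ∈ zJ U₀ := by
    have := (zJ U₀).mul_mem h1.1 ((zJ U₀).inv_mem hh.1)
    rwa [← he, mul_inv_cancel_right] at this
  have hh' : h ∈ Subgroup.centralizer (Um : Set G) := by
    have h3 : h ∈ Subgroup.centralizer (lK U₀ CA : Set G) :=
      Subgroup.le_centralizer_iff.mp inf_le_right hh
    exact Subgroup.centralizer_le (SetLike.coe_subset_coe.mpr (eUm ▸ mm.T_le)) h3
  have hw2 : w ∈ Subgroup.centralizer (Um : Set G) := by
    have := Subgroup.mul_mem _ (Subgroup.le_centralizer_iff.mp mm.T_cent_zJ h2) (Subgroup.inv_mem _ hh')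
    rwa [← he, mul_inv_cancel_right] at this
  have : w = 1 := mA.two_ends mm eUm.symm hne.symm hw
    (Subgroup.le_centralizer_iff.mp mA.T_cent_zJ hw1) hw2
  refine ⟨⁅y, t⁆, ?_, hyne, h1.1, h1.2⟩
  rw [← he, this, one_mul]
  exact hh

end Crit

/-- No critical walk of length two. -/
theorem no_two (F : Fam T P) (hnear : ∀ k < 2, ∀ A B, Dist P k A B → yOf A ≤ pCoreOf 2 B)
    {U₀ CA CA1 U₁ CB CB1 : Subgroup G} {a v : G} (c : Crit P 0 U₀ CA CA1 U₁ CB CB1 a v) : False := by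
  haveI : Fact (Nat.Prime 2) := ⟨Nat.prime_two⟩
  obtain ⟨Um, CN, t, hUmne, hUm, eUm, hN, -, ht, htA, htQ, z0, hz0H, hz01, hz0, hz0W⟩ := c.two_data F hnear
  obtain ⟨-, -, -, -, -, -, -, -, -, -, -, z1, hz1H, hz11, hz1, hz1W⟩ := (c.symm F).two_data F hnear
  have mA := F.mem c.pA
  have mm := F.mem hUm
  have mβ := F.mem c.pA1
  have mB := F.mem c.pB
  have mB1 := F.mem c.pB1
  have e01 : lK U₀ CA1 = lK U₁ CB1 := c.path
  have eC : CA1 = CB1 := F.comp_eq c.pA1 c.pB1 e01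
  subst eC
  have hnear1 := fun {A B : Subgroup G} (h : Ad P A B) => hnear 1 (by omega) A B (Dist.one h)
  have htU : t ∈ U₀ := mA.Q_le htA
  have htt : t⁻¹ = t := inv_self (omegaCenter_isEA _) ht
  have hvv : v⁻¹ = v := inv_self (omegaCenter_isEA _) c.hv
  have hvβ : v ∈ pCoreOf 2 (lK U₀ CA1) := e01 ▸ hnear1 (c.adB F).symm c.hv
  set v' := t * v * t⁻¹ with hv'
  set t' := v * t * v⁻¹ with ht'
  have hv'β : v' ∈ pCoreOf 2 (lK U₀ CA1) :=
    (Subgroup.mem_normalizer_iff.mp (mβ.lK_le_norm_Q (mβ.T_le htU)) v).mp hvβ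
  have hv'U : v' ∈ U₁ := mB1.Q_le (e01 ▸ hv'β)
  have ht'U : t' ∈ Um := by
    refine mm.Q_le (eUm.symm ▸ ?_)
    exact (Subgroup.mem_normalizer_iff.mp (mA.lK_le_norm_Q (mA.T_le c.hvU)) t).mp htA
  -- both are the square of `[v, t]`
  have heq : ⁅v, v'⁆ = ⁅t', t⁆ := by
    rw [hv', ht']; simp only [commutatorElement_def, mul_inv_rev, inv_inv, htt, hvv, mul_assoc]
  obtain ⟨zB, hzB, hzBW, hzB1, huB⟩ := mB.jc.exists_z mB.hT
  by_cases hc : ⁅v, v'⁆ = 1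
  · -- `B` and `t B t⁻¹` would have commuting centres
    have hA1v : v ∉ zJ U₁ := fun h => c.comm (c.comm_inv F ▸ commutatorElement_eq_one_iff_mul_comm.mpr
      (Subgroup.mem_centralizer_iff.mp ((F.mem c.pB).T_cent_zJ c.haU) v h))
    have hv'B : v' ∈ pCoreOf 2 (lK U₁ CB) := by
      by_contra h
      exact hA1v (mB.fixed_mem hv'U h c.hv (commutatorElement_eq_one_iff_mul_comm.mp hc).symm)
    set U₂ := LocalEven.cj t U₁ with hU₂
    have hPB2 : P U₂ (LocalEven.cj t CB) := F.conj t c.pB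
    have mB2 := F.mem hPB2
    have htβ : t ∈ lK U₁ CA1 := e01 ▸ mβ.T_le htU
    obtain ⟨hβ2, eβ2⟩ := F.end_conj c.pB1 htβ
    have hU01 : U₀ ≠ U₁ := fun e => by
      subst e
      exact c.haQ (hnear1 (F.adj c.pA c.pB (fun e => c.haQ (e ▸ mA.Y_le_Q c.ha))) c.ha)
    have hne2 : CA1 ≠ LocalEven.cj t CB := fun e => c.neB (by
      have h3 := congrArg (LocalEven.cj t⁻¹) e
      rw [cj_cj t⁻¹ t, inv_mul_cancel, cj_one,
        cj_eq_self_iff.mpr (Subgroup.inv_mem _ (mB1.lK_norm htβ))] at h3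
      exact h3.symm)
    have hYB2 : yOf (lK U₁ CB) ≤ U₂ := fun y hy => by
      refine (F.mem hβ2).Q_le ?_
      rw [eβ2]
      exact hnear1 (c.adB F).symm hy
    have hv'Y : v' ∈ yOf (lK U₂ (LocalEven.cj t CB)) := by
      rw [hU₂, ← cj_lK, yOf, ← cj_core, ← cj_omegaCenter]
      exact ⟨v, c.hv, rfl⟩
    have hv'z : v' ∉ zJ U₂ := fun h => hA1v (by
      rw [hU₂, ← cj_zJ, mem_cj] at h
      rwa [hv', show t⁻¹ * (t * v * t⁻¹) * t = v by group] at h)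
    have hBB2 : yOf (lK U₁ CB) ≤ pCoreOf 2 (lK U₂ (LocalEven.cj t CB)) := by
      intro y hy
      by_contra h
      exact hv'z (mB2.fixed_mem (hYB2 hy) h hv'Y (Subgroup.mem_centralizer_iff.mp (mB.Q_cent_Y hv'B) y hy))
    -- an element of the middle component carrying `(A, B)` to `(B, t B t⁻¹)`
    obtain ⟨d, hd, hdR⟩ := mβ.jc.exists_d
    have hzz : z0 ≠ z1 := fun e => hz01 (mβ.two_ends mB1 e01 hU01 hz0W
      (Subgroup.le_centralizer_iff.mp mβ.T_cent_zJ hz0)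
      (Subgroup.le_centralizer_iff.mp mB1.T_cent_zJ (e ▸ hz1)))
    obtain ⟨k, hk, hkR, hkz⟩ : ∃ k ∈ CA1, k ∉ pCoreOf 2 CA1 ∧ k * z0 * k⁻¹ = z1 := by
      rcases mβ.jc.four hd hdR hz0W hz01 hz1W with e | e | e | e
      · exact absurd e hz11
      · exact absurd e.symm hzz
      · exact ⟨d, hd, hdR, e.symm⟩
      · refine ⟨d * d, CA1.mul_mem hd hd, fun h2 => hdR ?_, (e.trans (by group)).symm⟩
        have := (pCoreOf 2 CA1).mul_mem (mβ.jc.cube_mem hd) ((pCoreOf 2 CA1).inv_mem h2)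
        rwa [show d ^ 3 * (d * d)⁻¹ = d by rw [pow_succ', pow_two, mul_inv_cancel_right]] at this
    have hkN := mβ.K_le hk
    have hswap : t * z1 * t⁻¹ = z0 * z1 := mβ.swap htU htQ hz0 hz0W hz01 hz1W hz11 hzz
    have hkz1 : k * z1 * k⁻¹ = z0 * z1 := by
      have hmem := (Subgroup.mem_normalizer_iff.mp hkN.1 z1).mp hz1W
      rcases four_elems mβ.jc.card4 JC.W_EA hz0W hz1W hz01 hz11 hzz hmem with e | e | e | e
      · exact absurd (conj_eq_one_iff.mp e) hz11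
      · exfalso
        have h2 : k * k * z0 = z0 * (k * k) := mul_inv_eq_iff_eq_mul.mp (by
          rw [show k * k * z0 * (k * k)⁻¹ = k * (k * z0 * k⁻¹) * k⁻¹ by group, hkz, e])
        refine hz01 (mβ.jc.fpf (CA1.mul_mem hk hk) (fun h2R => hkR ?_) hz0W h2)
        have := (pCoreOf 2 CA1).mul_mem (mβ.jc.cube_mem hk) ((pCoreOf 2 CA1).inv_mem h2R)
        rwa [show k ^ 3 * (k * k)⁻¹ = k by rw [pow_succ', pow_two, mul_inv_cancel_right]] at this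
      · exact absurd (mβ.jc.fpf hk hkR hz1W (mul_inv_eq_iff_eq_mul.mp e)) hz11
      · exact e
    have hends : ∀ {U U' : Subgroup G}, P U CA1 → P U' CA1 → lK U CA1 = lK U' CA1 →
        ∀ z ∈ wOf CA1, z ≠ 1 → z ∈ zJ U → z ∈ zJ U' → U = U' := by
      intro U U' hU hU' e z hzW hz1' hz hz'
      by_contra hne
      exact hz1' ((F.mem hU).two_ends (F.mem hU') e hne hzW
        (Subgroup.le_centralizer_iff.mp (F.mem hU).T_cent_zJ hz)
        (Subgroup.le_centralizer_iff.mp (F.mem hU').T_cent_zJ hz'))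
    obtain ⟨hk0, ek0⟩ := F.end_conj c.pA1 hkN
    have hkU0 : LocalEven.cj k U₀ = U₁ := hends hk0 c.pB1 (ek0.trans e01) z1 hz1W hz11
      (by rw [← cj_zJ, ← hkz]; exact ⟨z0, hz0, rfl⟩) hz1
    have hkN1 : k ∈ lK U₁ CA1 := e01 ▸ hkN
    obtain ⟨hk1, ek1⟩ := F.end_conj c.pB1 hkN1
    have hz01W : z0 * z1 ∈ wOf CA1 := (wOf CA1).mul_mem hz0W hz1W
    have hz01ne : z0 * z1 ≠ 1 := fun e => hzz (by rw [eq_inv_of_mul_eq_one_left e, inv_self JC.W_EA hz1W])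
    have hkU1 : LocalEven.cj k U₁ = U₂ := hends hk1 hβ2 (ek1.trans eβ2.symm) _ hz01W hz01ne
      (by rw [← cj_zJ, ← hkz1]; exact ⟨z1, hz1, rfl⟩) (by rw [← cj_zJ, ← hswap]; exact ⟨z1, hz1, rfl⟩)
    have hPkA : P U₁ (LocalEven.cj k CA) := by
      have := F.conj k c.pA
      rwa [hkU0] at this
    have hkA : LocalEven.cj k CA = CB := by
      refine (F.at_of c.pB).uniq hPkA c.pB hz11 ?_ hz1H
      rw [← hkU0, ← cj_hK, ← hkz]
      exact ⟨z0, hz0H, rfl⟩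
    have hPkB : P U₂ (LocalEven.cj k CB) := by
      have := F.conj k c.pB
      rwa [hkU1] at this
    have hkB : LocalEven.cj k CB = LocalEven.cj t CB := by
      refine (F.at_of hPB2).uniq hPkB hPB2 hz01ne ?_ ?_
      · rw [← hkU1, ← cj_hK, ← hkz1]
        exact ⟨z1, hz1H, rfl⟩
      · rw [hU₂, ← cj_hK, ← hswap]
        exact ⟨z1, hz1H, rfl⟩
    have hA' : LocalEven.cj k (lK U₀ CA) = lK U₁ CB := by rw [cj_lK, hkU0, hkA]
    have hB' : LocalEven.cj k (lK U₁ CB) = lK U₂ (LocalEven.cj t CB) := by rw [cj_lK, hkU1, hkB]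
    refine c.haQ ?_
    rw [← hA', ← hB', yOf, ← cj_core, ← cj_core, ← cj_omegaCenter] at hBB2
    exact (cj_le_iff.mp hBB2) c.ha
  · have h1 : ⁅v, v'⁆ ∈ zJ U₁ ⊓ wOf CB := mB.comm_mem hv'U c.hv
    have h2 : ⁅t', t⁆ ∈ zJ Um := by
      rw [← commutatorElement_inv t t']
      exact (zJ Um).inv_mem ((F.mem hN).comm_mem ht'U ht).1
    have e : ⁅v, v'⁆ = ⁅a, v⁆ := by
      rw [(huB _ h1.1 h1.2).resolve_left hc, (huB _ (c.rB F).1 (c.rB F).2).resolve_left c.comm]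
    exact c.comm (mA.two_ends mm eUm.symm hUmne.symm (c.rA F).2
      (Subgroup.le_centralizer_iff.mp mA.T_cent_zJ (c.rA F).1)
      (Subgroup.le_centralizer_iff.mp mm.T_cent_zJ (e ▸ heq ▸ h2)))

/-- The parameter is one. -/
theorem exists_crossing (F : Fam T P) :
    ∃ C D, P T C ∧ P T D ∧ C ≠ D ∧ ¬ yOf (lK T C) ≤ pCoreOf 2 (lK T D) := by
  classical
  have hex : ∃ n, ∃ A B, Dist P n A B ∧ ¬ yOf A ≤ pCoreOf 2 B := F.exists_critical
  obtain ⟨A, B, hd, hcr⟩ := Nat.find_spec hex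
  have hnear : ∀ k < Nat.find hex, ∀ A B, Dist P k A B → yOf A ≤ pCoreOf 2 B := fun k hk A B h => by
    by_contra hc
    exact Nat.find_min hex hk ⟨A, B, h, hc⟩
  generalize Nat.find hex = n at hd hnear
  match n, hd, hnear with
  | 0, hd, _ => exact absurd (show yOf A ≤ pCoreOf 2 B from (show A = B from hd) ▸ omegaCenter_le _) hcr
  | 1, hd, _ =>
    obtain ⟨X, hX, rfl⟩ := hd
    obtain ⟨U, C, D, hC, hD, eA, eB, hne⟩ := F.adj_ends hX
    subst eA eB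
    obtain ⟨g, rfl⟩ := F.base hC
    refine ⟨LocalEven.cj g⁻¹ C, LocalEven.cj g⁻¹ D, ?_, ?_, fun e => hne ?_, fun h => hcr ?_⟩
    · have := F.conj g⁻¹ hC
      rwa [cj_cj, inv_mul_cancel, cj_one] at this
    · have := F.conj g⁻¹ hD
      rwa [cj_cj, inv_mul_cancel, cj_one] at this
    · have := congrArg (LocalEven.cj g) e
      rwa [cj_cj, cj_cj, mul_inv_cancel, cj_one, cj_one] at this
    · have := cj_mono (g := g) h
      rwa [yOf, cj_omegaCenter, cj_core, cj_core, cj_lK, cj_lK, cj_cj g g⁻¹, cj_cj g g⁻¹, mul_inv_cancel,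
        cj_one, cj_one] at this
  | m + 2, hd, hnear =>
    exfalso
    obtain ⟨A1, h1, hd'⟩ := hd
    obtain ⟨B1, h2, h3⟩ := hd'.split_last
    obtain ⟨U₀, CA, CA1, U₁, CB, CB1, a, v, -, -, -, -, c⟩ := F.crit_of hnear h1 h2 h3 hcr
    rcases Nat.eq_zero_or_pos m with rfl | hm
    · exact F.no_two hnear c
    obtain ⟨Um, CN, x, hx, eUmdef, hUmne, hUm, eUm, hN, neN, hcr'⟩ := c.shift F hnear
    have h1' : Ad P (lK Um CN) (lK U₀ CA) := eUm ▸ F.adj hN hUm neN.symm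
    obtain ⟨B2', hB2', hlast'⟩ : ∃ B2, Dist P m (lK U₀ CA) B2 ∧ Ad P B2 (lK U₁ CB1) :=
      Dist.split_last (by rw [show m + 1 = 1 + m by omega]; exact (Dist.one (c.adA F)).trans c.path)
    obtain ⟨V₀, DA, DA1, V₁, DB, DB1, a', v', eA, eA1, eB, -, c'⟩ := F.crit_of hnear h1' hB2' hlast' hcr'
    have mA := F.mem c.pA
    have mm := F.mem hUm
    have mDA1 := F.mem c'.pA1
    -- at `V₀` the vertices `DA` and `DA1 = CA` give the same point
    obtain rfl : DA1 = CA := (F.comp_eq c.pA c'.pA1 eA1).symm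
    obtain ⟨l, hl, hle⟩ := IsSylowTwoIn.exists_conj_le mA.overL.sylT mDA1.hT (eA1 ▸ mDA1.T_le)
    have hV₀ : V₀ = LocalEven.cj l U₀ :=
      Subgroup.eq_of_le_of_card_ge hle (by rw [card_cj, F.card_eq c.pA c'.pA1])
    set r := ⁅a, v⁆ with hr
    set s := l * r * l⁻¹ with hs
    have hsz : s ∈ zJ V₀ ∧ s ∈ wOf DA1 := hV₀ ▸ mA.z_conj hl (c.rA F).1 (c.rA F).2
    have hs1 : s ≠ 1 := fun e => c.comm (conj_eq_one_iff.mp e)
    have hsH : ∀ X, P V₀ X → s ∉ hK V₀ X := fun X hX hsX => by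
      have h4 := F.conj l⁻¹ hX
      rw [hV₀, cj_cj, inv_mul_cancel, cj_one] at h4
      refine c.notH F hnear hm h4 ?_
      have h6 : l⁻¹ * s * l ∈ LocalEven.cj l⁻¹ (hK V₀ X) := mem_cj.mpr (by
        rw [show l⁻¹⁻¹ * (l⁻¹ * s * l) * l⁻¹ = s by group]; exact hsX)
      rw [cj_hK, hV₀, cj_cj l⁻¹ l, inv_mul_cancel, cj_one,
        show l⁻¹ * s * l = r by rw [hs]; group] at h6
      exact h6
    set r' := ⁅a', v'⁆ with hr'
    have hr's : s = r' := (F.at_of c'.pA).third c'.pA1 c'.pA hsz.1 hsz.2 hs1 (c'.rA F).1 c'.comm hsH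
      (fun X hX => c'.notH F hnear hm hX) c'.neA.symm
    -- likewise at `B₁`
    obtain rfl : DB = CB1 := (F.comp_eq c.pB1 c'.pB eB).symm
    have mB1 := F.mem c.pB1
    have mDB := F.mem c'.pB
    obtain ⟨n, hn, hle'⟩ := IsSylowTwoIn.exists_conj_le mDB.overL.sylT mB1.hT (eB ▸ mB1.T_le)
    have hU₁ : U₁ = LocalEven.cj n V₁ :=
      Subgroup.eq_of_le_of_card_ge hle' (by rw [card_cj, F.card_eq c.pB1 c'.pB])
    set s' := n * r' * n⁻¹ with hs'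
    have hs'z : s' ∈ zJ U₁ ∧ s' ∈ wOf DB := hU₁ ▸ mDB.z_conj hn (c'.rB F).1 (c'.rB F).2
    have hs'1 : s' ≠ 1 := fun e => c'.comm (conj_eq_one_iff.mp e)
    have hs'H : ∀ X, P U₁ X → s' ∉ hK U₁ X := fun X hX hsX => by
      have h4 := F.conj n⁻¹ hX
      rw [hU₁, cj_cj, inv_mul_cancel, cj_one] at h4
      refine (c'.symm F).notH F hnear hm h4 ?_
      have h6 : n⁻¹ * s' * n ∈ LocalEven.cj n⁻¹ (hK U₁ X) := mem_cj.mpr (by
        rw [show n⁻¹⁻¹ * (n⁻¹ * s' * n) * n⁻¹ = s' by group]; exact hsX)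
      rw [cj_hK, hU₁, cj_cj n⁻¹ n, inv_mul_cancel, cj_one,
        show n⁻¹ * s' * n = r' by rw [hs']; group] at h6
      rw [c'.comm_inv F]
      exact h6
    have hs'r : s' = r := (F.at_of c.pB).third c.pB1 c.pB hs'z.1 hs'z.2 hs'1 (c.rB F).1 c.comm hs'H
      (fun X hX => by rw [hr, ← c.comm_inv F]; exact (c.symm F).notH F hnear hm hX) c.neB.symm
    -- the two planes agree
    have hrB : r ∈ wOf DB := hs'r ▸ hs'z.2
    have hr'A : r' ∈ wOf DA1 := hr's ▸ hsz.2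
    have hrr : r ≠ r' := by
      intro e
      have hne : V₀ ≠ U₀ := by
        rintro rfl
        refine c'.haQ (eB ▸ ?_)
        by_cases eN : DA = CA1
        · exact hnear m (by omega) _ _ c.path (eN ▸ c'.ha)
        · refine hnear (1 + m) (by omega) _ _ ((Dist.one (F.adj c'.pA c.pA1 eN)).trans c.path) c'.ha
      exact c.comm (mA.two_ends mDA1 eA1 hne.symm (c.rA F).2
        (Subgroup.le_centralizer_iff.mp mA.T_cent_zJ (c.rA F).1)
        (Subgroup.le_centralizer_iff.mp mDA1.T_cent_zJ (show r ∈ zJ V₀ by rw [e]; exact (c'.rA F).1)))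
    have hWA : wOf DA1 ≤ wOf DB := fun w hw => by
      rcases four_elems mA.jc.card4 JC.W_EA (c.rA F).2 hr'A c.comm c'.comm hrr hw with e | e | e | e
      all_goals rw [e]
      exacts [one_mem _, hrB, (c'.rB F).2, (wOf DB).mul_mem hrB (c'.rB F).2]
    refine c.hvQ (mA.mem_Q c.hvU (Subgroup.mem_centralizer_iff.mpr fun w hw => ?_))
    exact (Subgroup.mem_centralizer_iff.mp
      (mB1.Q_cent_W (hnear 1 (by omega) _ _ (Dist.one (c.adB F).symm) c.hv)) w (hWA hw))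

end Fam

end Cfsg.Agent.LocalEven.JComp
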