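import Cfsg.Agent.LocalEven.JCompExist

/-! Maximal straddling 2-subgroups. -/

set_option autoImplicit false
set_option linter.style.haveILetI false
set_option linter.unusedSectionVars false

open scoped commutatorElement

namespace Cfsg.Agent.LocalEven.JComp

open Cfsg

universe u

variable {G : Type u} [Group G] [Finite G]

theorem maxElemAbelianOrder_eq {T A : Subgroup G} (hA : IsMaxEA T A) :
    maxElemAbelianOrder T = Nat.card A := by
  have hA' : A.subgroupOf T ∈ maxElementaryAbelianSubgroups 2 ↥T := by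
    refine ⟨PLocal.isEA_comap hA.2.1 _ T.subtype_injective, fun B hB => ?_⟩
    rw [Nat.card_congr (Subgroup.subgroupOfEquivOfLe hA.1).toEquiv,
      ← Subgroup.card_map_of_injective T.subtype_injective (K := B)]
    exact hA.2.2 _ (Subgroup.map_subtype_le _) (PLocal.isEA_map hB _)
  rw [maxElemAbelianOrder]
  refine le_antisymm (csSup_le ⟨_, _, hA', rfl⟩ ?_) (le_csSup ⟨Nat.card T, ?_⟩ ?_)
  · rintro n ⟨B, hB, rfl⟩
    show Nat.card ↥B ≤ Nat.card A
    rw [← Subgroup.card_map_of_injective T.subtype_injective (K := B)]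
    exact hA.2.2 _ (Subgroup.map_subtype_le _) (PLocal.isEA_map hB.1 _)
  · rintro n ⟨B, hB, rfl⟩
    exact Subgroup.card_le_card_group B
  · exact ⟨_, hA', Nat.card_congr (Subgroup.subgroupOfEquivOfLe hA.1).toEquiv⟩

/-- A straddling group containing `J(T)`, for `T` maximal, has the same Thompson subgroup. -/
theorem straddle_ge {M T T' : Subgroup G} (hT : T ∈ maxStraddlingTwoSubgroups M)
    (hT' : T' ∈ straddlingTwoSubgroups M) (hle : JT T ≤ T') :
    JT T' = JT T ∧ Nat.card T' ≤ Nat.card T := by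
  obtain ⟨A, hA⟩ := exists_isMaxEA T
  obtain ⟨B, hB⟩ := exists_isMaxEA T'
  obtain ⟨h1, h2⟩ := hT.2 T' hT'
  rw [maxElemAbelianOrder_eq hA, maxElemAbelianOrder_eq hB] at h1 h2
  have hAT' : A ≤ T' := hA.le_JT.trans hle
  have heq : Nat.card B = Nat.card A := le_antisymm h1 (hB.2.2 A hAT' hA.2.1)
  obtain ⟨h3, h4⟩ := h2 heq
  have hJle : JT T ≤ JT T' := JT_le_of fun C hC =>
    IsMaxEA.le_JT (hB.of_card (hC.le_JT.trans hle) hC.2.1 (by rw [heq, hC.card_eq hA]))
  have hJ : JT T = JT T' := Subgroup.eq_of_le_of_card_ge hJle h3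
  exact ⟨hJ.symm, h4 (congrArg (fun H : Subgroup G => Nat.card H) hJ.symm)⟩

theorem straddle_normalizer_le (S : Sylow 2 G) {M T : Subgroup G}
    (hMJ : Subgroup.normalizer (JT (S : Subgroup G) : Set G) ≤ M)
    (hT : T ∈ maxStraddlingTwoSubgroups M) : Subgroup.normalizer (JT T : Set G) ≤ M := by
  haveI : Fact (Nat.Prime 2) := ⟨Nat.prime_two⟩
  by_contra hcon
  obtain ⟨hT2, hT1, hTM, -⟩ := hT.1
  have hTN : T ≤ Subgroup.normalizer (JT T : Set G) :=
    Subgroup.le_normalizer.trans (normalizer_le_normalizer_JT T)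
  obtain ⟨T1, hS1, hle⟩ := exists_sylowTwoIn_ge hT2
    (le_inf hTM hTN : T ≤ M ⊓ Subgroup.normalizer (JT T : Set G))
  have hstr : T1 ∈ straddlingTwoSubgroups M :=
    ⟨hS1.2.1, fun e => hT1 (eq_bot_iff.mpr (hle.trans e.le)), hS1.1.trans inf_le_left,
      ⟨_, ⟨JT T, isPGroup_JT hT2, JT_ne_bot hT2 hT1, rfl⟩, hS1.1.trans inf_le_right, hcon⟩⟩
  have heq : T = T1 := Subgroup.eq_of_le_of_card_ge hle
    (straddle_ge hT hstr ((JT_le T).trans hle)).2
  rw [← heq] at hS1
  obtain ⟨T2, hS2, hle2⟩ := exists_sylowTwoIn_ge hT2 hTM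
  have hT2eq : T = T2 := by
    refine eq_of_normalizer_le hS2.2.1 hle2 ?_
    have h2 : T2 ⊓ Subgroup.normalizer (T : Set G) ≤ M ⊓ Subgroup.normalizer (JT T : Set G) :=
      inf_le_inf hS2.1 (normalizer_le_normalizer_JT T)
    obtain ⟨U, hU, hle3⟩ := exists_sylowTwoIn_ge (hS2.2.1.to_le inf_le_left) h2
    have hTU : T ≤ U := le_trans (le_inf hle2 Subgroup.le_normalizer) hle3
    have : T = U := Subgroup.eq_of_le_of_card_ge hTU
      ((IsSylowTwoIn.exists_conj_le hS1 hU.2.1 hU.1).elim fun g hg =>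
        (Subgroup.card_le_of_le hg.2).trans (card_cj g T).le)
    exact hle3.trans this.ge
  rw [← hT2eq] at hS2
  have hSM : (S : Subgroup G) ≤ M :=
    (Subgroup.le_normalizer.trans (normalizer_le_normalizer_JT _)).trans hMJ
  obtain ⟨m, hm, hle3⟩ := IsSylowTwoIn.exists_conj_le hS2 S.isPGroup' hSM
  have hSm : (S : Subgroup G) = LocalEven.cj m T := (S.3 (isPGroup_cj hT2) hle3).symm
  refine hcon fun x hx => ?_
  have h1 : m * x * m⁻¹ ∈ M := hMJ (by
    rw [hSm, JT_cj, ← cj_eq_self_iff, cj_cj, inv_mul_cancel_right, ← cj_cj,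
      cj_eq_self_iff.mpr hx])
  have := M.mul_mem (M.mul_mem (M.inv_mem hm) h1) hm
  rwa [show m⁻¹ * (m * x * m⁻¹) * m = x by group] at this

/-- The structure of a 2-local subgroup `L ⊄ M` whose Sylow 2-subgroup contains `J(T)`. -/
theorem straddle_local (hL : IsCharacteristicTwoType G) (S : Sylow 2 G) {M T L T₀ : Subgroup G}
    (hMJ : Subgroup.normalizer (JT (S : Subgroup G) : Set G) ≤ M)
    (hT : T ∈ maxStraddlingTwoSubgroups M) (hL2 : IsTwoLocal L) (hLM : ¬ L ≤ M)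
    (hT₀ : IsSylowTwoIn T₀ L) (hJ : JT T ≤ T₀) :
    JT T₀ = JT T ∧ T₀ ∈ straddlingTwoSubgroups M ∧ L ∈ jOvergroups T₀ := by
  haveI : Fact (Nat.Prime 2) := ⟨Nat.prime_two⟩
  have hN := straddle_normalizer_le S hMJ hT
  obtain ⟨hT2, hT1, -, -⟩ := hT.1
  have hJ1 := JT_ne_bot hT2 hT1
  set R := T₀ ⊓ Subgroup.normalizer (JT T : Set G) with hR
  have hJR : JT T ≤ R := le_inf hJ Subgroup.le_normalizer
  have hstr : R ∈ straddlingTwoSubgroups M :=
    ⟨hT₀.2.1.to_le inf_le_left, fun e => hJ1 (eq_bot_iff.mpr (hJR.trans e.le)),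
      inf_le_right.trans hN, ⟨L, hL2, inf_le_left.trans hT₀.1, hLM⟩⟩
  have hJR' : JT R = JT T := (straddle_ge hT hstr hJR).1
  have hReq : R = T₀ := eq_of_normalizer_le hT₀.2.1 inf_le_left fun x hx => by
    refine ⟨hx.1, ?_⟩
    have := normalizer_le_normalizer_JT R hx.2
    rwa [hJR'] at this
  rw [hReq] at hJR' hstr
  refine ⟨hJR', hstr, hT₀, fun hle => hLM ?_, ?_⟩
  · change JT T₀ ≤ _ at hle
    rw [hJR'] at hle
    have hQT : pCoreOf 2 L ≤ T₀ := (isSylowTwoIn_isMaxP hT₀).pCore_le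
    have hJQ : JT (pCoreOf 2 L) = JT T := by
      rw [JT_eq_of_between hQT (hJR'.le.trans hle), hJR']
    exact (map_pCore_normalized L).trans
      ((normalizer_le_normalizer_JT _).trans (hJQ ▸ hN))
  · obtain ⟨W, hW, hW1, rfl⟩ := hL2
    exact charTwo_normalizer hL hW hW1

end Cfsg.Agent.LocalEven.JComp
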