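import Cfsg.Agent.LocalEven.JCompMove

/-! `J(T)` normalizes the four-group of a subnormal component. -/

set_option autoImplicit false
set_option linter.style.haveILetI false
set_option linter.unusedSectionVars false

open scoped commutatorElement

namespace Cfsg.Agent.LocalEven.JComp

open Cfsg

universe u

variable {G : Type u} [Group G] [Finite G]

theorem JC.card_le_two_mul_of_normalizes {J K B : Subgroup G} (h : JC J K) (hB : IsElementaryAbelian 2 B)
    (hBW : B ≤ Subgroup.normalizer (wOf K : Set G)) :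
    Nat.card B ≤ 2 * Nat.card ↥(B ⊓ Subgroup.centralizer (wOf K : Set G)) := by
  set C := Subgroup.centralizer (wOf K : Set G)
  by_cases hBC : B ≤ C
  · rw [inf_of_le_left hBC]; omega
  obtain ⟨a, ha, haC⟩ := SetLike.not_le_iff_exists.mp hBC
  obtain ⟨z, hz, hz1, hfix⟩ := exists_fixed JC.W_pGroup (PLocal.isPGroup_of_EA hB) h.W_ne_bot hBW
  obtain ⟨d, hd, hdR⟩ := h.exists_d
  have hmul : ∀ b ∈ B, b ∉ C → b * a ∈ C := by
    intro b hb hbC
    refine h.centralizes_of_fix_two hd hdR hz hz1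
      ((show Commute b z from hfix b hb).mul_left (show Commute a z from hfix a ha)).eq ?_
    have h1 := (h.fix_or_swap hd hdR hz hz1 (hBW hb) (hfix b hb)).resolve_left hbC
    have h2 := (h.fix_or_swap hd hdR hz hz1 (hBW ha) (hfix a ha)).resolve_left haC
    refine mul_inv_eq_iff_eq_mul.mp ?_
    have hb2 := sq_self hB hb
    calc b * a * (d * z * d⁻¹) * (b * a)⁻¹ = b * (a * (d * z * d⁻¹) * a⁻¹) * b⁻¹ := by group
      _ = b * (b * (d * z * d⁻¹) * b⁻¹) * b⁻¹ := by rw [h2, h1]
      _ = (b * b) * (d * z * d⁻¹) * (b * b)⁻¹ := by group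
      _ = _ := by rw [hb2]; group
  have hidx : (C.subgroupOf B).index ≤ 2 := by
    refine le_of_eq (Subgroup.index_eq_two_iff.mpr ⟨⟨a, ha⟩, fun b => ?_⟩)
    show Xor (((b : G) * a) ∈ C) ((b : G) ∈ C)
    by_cases hbC : (b : G) ∈ C
    · exact Or.inr ⟨hbC, fun hm => haC (by simpa using C.mul_mem (C.inv_mem hbC) hm)⟩
    · exact Or.inl ⟨hmul b b.2 hbC, hbC⟩
  have hcm := (C.subgroupOf B).index_mul_card
  have e : Nat.card ↥(C.subgroupOf B) = Nat.card ↥(B ⊓ C) := by
    rw [← Nat.card_congr (Subgroup.subgroupOfEquivOfLe (inf_le_left : B ⊓ C ≤ B)).toEquiv,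
      inf_comm, Subgroup.inf_subgroupOf_right]
  rw [← hcm, e]
  exact Nat.mul_le_mul_right _ hidx

/-- Orbit–stabilizer for the conjugates of `W` under `A`. -/
theorem card_orbit_mul (A W : Subgroup G) :
    Nat.card (Set.range fun a : ↥A => LocalEven.cj (a : G) W) *
      Nat.card ↥(A ⊓ Subgroup.normalizer (W : Set G)) = Nat.card A := by
  set B := (Subgroup.normalizer (W : Set G)).subgroupOf A with hB
  have hcard : Nat.card B = Nat.card ↥(A ⊓ Subgroup.normalizer (W : Set G)) := by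
    rw [← Nat.card_congr (Subgroup.subgroupOfEquivOfLe
      (inf_le_left : A ⊓ Subgroup.normalizer (W : Set G) ≤ A)).toEquiv, inf_comm, Subgroup.inf_subgroupOf_right]
  rw [← hcard, ← B.index_mul_card]
  congr 1
  refine (Nat.card_congr (Equiv.ofBijective (fun q : ↥A ⧸ B => Quotient.liftOn' q
    (fun a => (⟨LocalEven.cj (a : G) W, a, rfl⟩ : Set.range fun a : ↥A => LocalEven.cj (a : G) W))
    fun a b hab => Subtype.ext ((cj_eq_iff.mpr ?_).symm)) ⟨?_, ?_⟩)).symm
  · rw [QuotientGroup.leftRel_apply] at hab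
    exact hab
  · intro q r
    induction q using QuotientGroup.induction_on with
    | _ a =>
    induction r using QuotientGroup.induction_on with
    | _ b =>
    intro hqr
    refine QuotientGroup.eq.mpr ?_
    show (a : G)⁻¹ * b ∈ Subgroup.normalizer (W : Set G)
    exact cj_eq_iff.mp (Subtype.ext_iff.mp hqr).symm
  · rintro ⟨_, a, rfl⟩
    exact ⟨QuotientGroup.mk a, rfl⟩

section family

variable {X Y W : Subgroup G} {e : G}

theorem family_facts (hY : IsElementaryAbelian 2 Y) (hW : Typ Y W e)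
    (hXY : X ≤ Subgroup.normalizer (Y : Set G))
    (hcomm : ∀ b ∈ X, ∀ c ∈ X, ⁅b * e * b⁻¹, c * e * c⁻¹⁆ ∈ Subgroup.centralizer (Y : Set G))
    (s : Finset (Subgroup G)) (hs : ∀ V ∈ s, ∃ b ∈ X, V = LocalEven.cj b W) :
    s.sup id ≤ Y ∧ Nat.card ↥(s.sup id) = 4 ^ s.card ∧
      ∀ x ∈ s.sup id, (∀ b ∈ X, LocalEven.cj b W ∈ s → b * e * b⁻¹ * x = x * (b * e * b⁻¹)) → x = 1 := by
  classical
  induction s using Finset.induction_on with
  | empty =>
    refine ⟨by simp, by simp, fun x hx _ => ?_⟩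
    simpa using hx
  | @insert V s hV ih =>
    obtain ⟨hle, hcard, hfix⟩ := ih fun U hU => hs U (Finset.mem_insert_of_mem hU)
    obtain ⟨b, hb, rfl⟩ := hs V (Finset.mem_insert_self _ _)
    have tb := hW.conj (hXY hb)
    have hcent : s.sup id ≤ Subgroup.centralizer ({b * e * b⁻¹} : Set G) := by
      refine Finset.sup_le fun U hU x hx => ?_
      obtain ⟨c, hc, rfl⟩ := hs U (Finset.mem_insert_of_mem hU)
      have tc := hW.conj (hXY hc)
      have hn := tc.norm_of_comm hY tb.norm (hcomm b hb c hc)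
      rcases tb.eq_or_disjoint hY tc.le tc.card hn with heq | hd
      · exact absurd (heq ▸ hU) hV
      · rw [Subgroup.mem_centralizer_singleton_iff]
        exact (tb.centralizes_of_disjoint tc.le hn hd hx).symm
    have hdisj : LocalEven.cj b W ⊓ s.sup id = ⊥ := (Subgroup.eq_bot_iff_forall _).mpr fun x hx =>
      tb.fpf x hx.1 (Subgroup.mem_centralizer_singleton_iff.mp (hcent hx.2)).symm
    rw [Finset.sup_insert, id_eq]
    have hn : LocalEven.cj b W ≤ Subgroup.normalizer ((s.sup id : Subgroup G) : Set G) :=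
      (tb.le.trans ((Subgroup.le_centralizer_iff_isMulCommutative.mpr hY.1).trans
        (Subgroup.centralizer_le hle))).trans (Subgroup.centralizer_le_normalizer _)
    refine ⟨sup_le tb.le hle, ?_, fun x hx hxfix => ?_⟩
    · have h1 := PLocal.card_sup_mul_card_inf hn
      rw [hdisj, Subgroup.card_bot, mul_one, hcard, tb.card] at h1
      rw [h1, Finset.card_insert_of_notMem hV, pow_succ']
    · rw [sup_comm] at hx
      obtain ⟨r, hr, v, hv, rfl⟩ := Coprime.exists_mul_of_mem_sup hn hx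
      have hrb : b * e * b⁻¹ * r = r * (b * e * b⁻¹) := (Subgroup.mem_centralizer_singleton_iff.mp (hcent hr)).symm
      have hx' := hxfix b hb (Finset.mem_insert_self _ _)
      have hv1 : v = 1 := tb.fpf v hv (mul_left_cancel (a := r) (by
        calc r * (b * e * b⁻¹ * v) = b * e * b⁻¹ * (r * v) := by
              rw [← mul_assoc r, ← hrb, mul_assoc (b * e * b⁻¹)]
          _ = r * v * (b * e * b⁻¹) := hx'
          _ = _ := mul_assoc _ _ _))
      subst hv1
      rw [mul_one] at hxfix ⊢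
      exact hfix r hr fun c hc hcs => hxfix c hc (Finset.mem_insert_of_mem hcs)

end family

theorem J_normalizes_W {T T2 L K : Subgroup G} (hTL : IsSylowTwoIn T L) (h : JC (JT T2) K)
    (hKL : K ≤ L) (hsn : (K.subgroupOf (K ⊔ JT T)).IsSubnormal) :
    JT T ≤ Subgroup.normalizer (wOf K : Set G) := by
  haveI : Fact (Nat.Prime 2) := ⟨Nat.prime_two⟩
  haveI : Fact (Nat.Prime 3) := ⟨Nat.prime_three⟩
  set X := K ⊔ JT T with hX
  have hXL : X ≤ L := sup_le hKL ((JT_le T).trans hTL.1)
  set Q := pCoreOf 2 X with hQ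
  have hQn : X ≤ Subgroup.normalizer (Q : Set G) := map_pCore_normalized X
  have hQK : Q ≤ Subgroup.normalizer (K : Set G) :=
    normalizes_subnormal le_sup_left hsn h.gen (op_le X) (isPGroup_op X) hQn
  have hRQ : pCoreOf 2 K ≤ Q := by
    have hRK : ((pCoreOf 2 K).subgroupOf X).IsSubnormal := by
      refine Subgroup.IsSubnormal.step _ _ (Subgroup.comap_mono JC.R_le) hsn
        (Subgroup.normal_subgroupOf_of_le_normalizer fun k hk => ?_)
      rw [← cj_eq_self_iff]
      refine Subgroup.eq_of_le_of_card_ge ?_ (card_cj k _).ge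
      rintro _ ⟨r, hr, rfl⟩
      exact (Subgroup.mem_normalizer_iff.mp (JC.K_normalizes_R (K := K) (show ((k : ↥X) : G) ∈ K from hk)) (r : G)).mp hr
    intro r hr
    exact ⟨⟨r, Subgroup.mem_sup_left (JC.R_le hr)⟩, Core.le_pCore_of_isSubnormal hRK
      (JC.R_pGroup.comap_of_injective X.subtype X.subtype_injective) hr, rfl⟩
  have hQW : Q ≤ Subgroup.centralizer (wOf K : Set G) :=
    h.centralizes_of_pGroup (isPGroup_op X) hQK fun x hx k hk => h.le_R_of_pGroup (isPGroup_op X) ⟨by
      rw [show ⁅k, x⁆ = k * (x * k⁻¹ * x⁻¹) by rw [commutatorElement_def]; group]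
      exact K.mul_mem hk ((Subgroup.mem_normalizer_iff.mp (hQK hx) _).mp (K.inv_mem hk)), by
      rw [commutatorElement_def]
      exact Q.mul_mem ((Subgroup.mem_normalizer_iff.mp (hQn (Subgroup.mem_sup_left hk)) x).mp hx) (Q.inv_mem hx)⟩
  set Y := omegaCenterOf Q with hYd
  have hY : IsElementaryAbelian 2 Y := omegaCenter_isEA _
  have hXY : X ≤ Subgroup.normalizer (Y : Set G) := hQn.trans (normalizer_le_normalizer_omegaCenter _)
  have hQY : Q ≤ Subgroup.centralizer (Y : Set G) := Subgroup.le_centralizer_iff.mp (omegaCenter_le_centralizer _)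
  have hWY : wOf K ≤ Y := fun w hw => mem_omegaCenter.mpr ⟨hRQ (JC.W_le_R hw),
    Subgroup.le_centralizer_iff.mp hQW hw, JC.W_EA.2 w hw⟩
  obtain ⟨d, hd, hdR⟩ := h.exists_d
  have tW : Typ Y (wOf K) d := ⟨hWY, h.card4, hXY (Subgroup.mem_sup_left hd),
    fun y hy => h.commutator_mem_W hY ((le_sup_left : K ≤ X).trans hXY) ((omegaCenter_le _).trans hQK)
      (hRQ.trans hQY) hy hd,
    fun w hw hc => h.fpf hd hdR hw hc, hQY (hRQ (h.cube_mem hd))⟩
  -- the conjugates of `d` generate a 3-group modulo `Q`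
  have hcomm : ∀ b ∈ X, ∀ c ∈ X, ⁅b * d * b⁻¹, c * d * c⁻¹⁆ ∈ Subgroup.centralizer (Y : Set G) := by
    haveI : (Q.subgroupOf X).Normal := Subgroup.normal_subgroupOf_of_le_normalizer hQn
    set π := QuotientGroup.mk' (Q.subgroupOf X) with hπ
    set P := pCore 3 (↥X ⧸ Q.subgroupOf X) with hP
    set M := (P.comap π).map X.subtype with hM
    have hK3 : (K.subgroupOf X).map π ≤ P := by
      refine Core.le_pCore_of_isSubnormal (hsn.map (QuotientGroup.mk'_surjective _)) ?_
      rintro ⟨_, ⟨k, hk, rfl⟩⟩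
      refine ⟨1, Subtype.ext ?_⟩
      show π k ^ 3 ^ 1 = 1
      rw [pow_one, ← map_pow]
      exact (QuotientGroup.eq_one_iff (k ^ 3)).mpr (hRQ (h.cube_mem (k := (k : G)) hk))
    intro b hb c hc
    have hmem : ∀ x ∈ X, x * d * x⁻¹ ∈ M := fun x hx =>
      ⟨⟨x, hx⟩ * ⟨d, Subgroup.mem_sup_left hd⟩ * ⟨x, hx⟩⁻¹, by
        show π _ ∈ P
        rw [map_mul, map_mul, map_inv]
        exact (pCore_normal 3 _).conj_mem _ (hK3 ⟨⟨d, Subgroup.mem_sup_left hd⟩, hd, rfl⟩) _, rfl⟩
    refine typ_conj_comm hY tW hXY Q hQY M (Subgroup.map_subtype_le _) ?_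
      ((Subgroup.map_subtype_le _).trans hQn) ?_ b hb c hc (hmem b hb) (hmem c hc)
    · intro q hq
      refine ⟨⟨q, op_le X hq⟩, ?_, rfl⟩
      show π ⟨q, op_le X hq⟩ ∈ P
      rw [show π ⟨q, op_le X hq⟩ = 1 from (QuotientGroup.eq_one_iff (⟨q, op_le X hq⟩ : ↥X)).mpr hq]
      exact one_mem P
    · rintro _ ⟨m, hm, rfl⟩
      obtain ⟨n, hn⟩ := Core.isPGroup_pCore 3 (↥X ⧸ Q.subgroupOf X) ⟨π m, hm⟩
      refine ⟨n, ?_⟩
      have hn' : π (m ^ 3 ^ n) = 1 := by rw [map_pow]; exact congrArg Subtype.val hn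
      exact (QuotientGroup.eq_one_iff (m ^ 3 ^ n)).mp hn'
  refine JT_le_of fun A hA => ?_
  classical
  have hAX : A ≤ X := hA.le_JT.trans le_sup_right
  set W := wOf K with hWdef
  set f := fun a : ↥A => LocalEven.cj (a : G) W with hf
  set s := (Set.range f).toFinite.toFinset with hsdef
  have hmem : ∀ V, V ∈ s ↔ ∃ a ∈ A, LocalEven.cj a W = V := fun V => by
    rw [hsdef, Set.Finite.mem_toFinset, Set.mem_range]
    exact ⟨fun ⟨a, ha⟩ => ⟨a, a.2, ha⟩, fun ⟨a, ha, e⟩ => ⟨⟨a, ha⟩, e⟩⟩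
  obtain ⟨hUY, hUcard, hUfix⟩ := family_facts hY tW hXY hcomm s fun V hV => by
    obtain ⟨a, ha, rfl⟩ := (hmem V).mp hV
    exact ⟨a, hAX ha, rfl⟩
  set U := s.sup id with hU
  set B := A ⊓ Subgroup.normalizer (W : Set G) with hB
  set A' := A ⊓ Subgroup.centralizer (W : Set G) with hA'
  have hA'B : A' ≤ B := inf_le_inf_left _ (Subgroup.centralizer_le_normalizer _)
  have hA'U : A' ≤ Subgroup.centralizer (U : Set G) := by
    refine Subgroup.le_centralizer_iff.mp (Finset.sup_le fun V hV => ?_)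
    obtain ⟨a, ha, rfl⟩ := (hmem V).mp hV
    rintro _ ⟨w, hw, rfl⟩
    rw [Subgroup.mem_centralizer_iff]
    intro x hx
    have c1 : Commute x a := PLocal.comm_of_EA hA.2.1 hx.1 ha
    have c2 : Commute x w := (Subgroup.mem_centralizer_iff.mp hx.2 w hw).symm
    exact ((c1.mul_right c2).mul_right c1.inv_right).eq
  -- `A' U` is no larger than `A`
  have hAU : Nat.card ↥(A' ⊔ U) ≤ Nat.card A := by
    have hEA : IsElementaryAbelian 2 (A' ⊔ U) :=
      PLocal.isEA_sup (PLocal.isEA_mono hA.2.1 inf_le_left) (PLocal.isEA_mono hY hUY) hA'U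
    have hsub : A' ⊔ U ≤ L := sup_le ((inf_le_left.trans hAX).trans hXL)
      (hUY.trans (((omegaCenter_le _).trans (op_le X)).trans hXL))
    obtain ⟨g, -, hle⟩ := IsSylowTwoIn.exists_conj_le hTL (PLocal.isPGroup_of_EA hEA) hsub
    have h1 := (hA.cj g).2.2 _ hle hEA
    rwa [card_cj] at h1
  have hc := PLocal.card_sup_mul_card_inf (hA'U.trans (Subgroup.centralizer_le_normalizer _))
  have hsc : s.card * Nat.card B = Nat.card A := by
    rw [← card_orbit_mul A W, hsdef, ← Nat.card_eq_card_finite_toFinset]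
  -- the fixed points in `U`
  have hinf : Nat.card ↥(A' ⊓ U) ≤ Nat.card ↥(W ⊓ Subgroup.centralizer (B : Set G)) := by
    have huY : ∀ u : ↥(A' ⊓ U), (u : G) ∈ Y := fun u => hUY u.2.2
    have hdN := tW.normW
    let φ : ↥(A' ⊓ U) → ↥(W ⊓ Subgroup.centralizer (B : Set G)) := fun u =>
      ⟨⁅(u : G), d⁆ * ⁅(u : G), d * d⁆, by
        set y := (u : G)
        have hy := huY u
        have hd2 : ⁅y, d * d⁆ ∈ W := h.commutator_mem_W hY ((le_sup_left : K ≤ X).trans hXY)
          ((omegaCenter_le _).trans hQK) (hRQ.trans hQY) hy (K.mul_mem hd hd)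
        set w := ⁅y, d⁆ * ⁅y, d * d⁆ with hw
        have hwW : w ∈ W := W.mul_mem (tW.move y hy) hd2
        refine ⟨hwW, Subgroup.mem_centralizer_iff.mpr fun b hb => ?_⟩
        have hd1 := (Subgroup.mem_normalizer_iff.mp tW.norm y).mp hy
        have hd2' := (Subgroup.mem_normalizer_iff.mp tW.norm _).mp hd1
        set f0 := norm3 d y
        have hfY : f0 ∈ Y := Y.mul_mem (Y.mul_mem hy hd1) hd2'
        have hfd : d * f0 * d⁻¹ = f0 := norm3_fixed hY tW.norm hy
          (h.d_cube_fix hd fun r hr => (Subgroup.mem_centralizer_iff.mp (hQY (hRQ hr)) y hy).symm)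
        have hdec : y = w * f0 := by
          set x := d * y * d⁻¹ with hx
          set x2 := d * x * d⁻¹ with hx2
          have e1 : ⁅y, d⁆ = y * x⁻¹ := by rw [commutatorElement_def, hx]; group
          have e2 : ⁅y, d * d⁆ = y * x2⁻¹ := by
            rw [commutatorElement_def, hx2, hx]; simp only [mul_inv_rev, inv_inv, mul_assoc]
          show y = w * (y * x * x2)
          rw [hw, e1, e2, inv_self hY hd1, inv_self hY hd2',
            show y * x * (y * x2) = y * (x * y) * x2 by group, sq_self_comm hY hd1 hy,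
            show y * (y * x) * x2 = (y * y) * (x * x2) by group, sq_self hY hy, one_mul,
            show y * x * x2 = y * (x * x2) by group,
            sq_self_comm hY hy (Y.mul_mem hd1 hd2'), ← mul_assoc,
            sq_self hY (Y.mul_mem hd1 hd2'), one_mul]
        have hbX : b ∈ X := hAX hb.1
        have hby : b * y * b⁻¹ = y := by
          rw [PLocal.comm_of_EA hA.2.1 hb.1 u.2.1.1, mul_inv_cancel_right]
        have hbw : b * w * b⁻¹ ∈ W := (Subgroup.mem_normalizer_iff.mp hb.2 w).mp hwW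
        have hbf : b * f0 * b⁻¹ ∈ Y := (Subgroup.mem_normalizer_iff.mp (hXY hbX) f0).mp hfY
        have tb := tW.conj (hXY hbX)
        rw [cj_eq_self_iff.mpr hb.2] at tb
        -- `d` fixes `b f₀ b⁻¹`
        have hg : d * (b * f0 * b⁻¹) = b * f0 * b⁻¹ * d := by
          set g := b * f0 * b⁻¹
          set e' := b * d * b⁻¹
          have he' : e' * g * e'⁻¹ = g := by
            calc e' * g * e'⁻¹ = b * (d * f0 * d⁻¹) * b⁻¹ := by simp only [e', g]; group
              _ = g := by rw [hfd]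
          have hcc := hcomm b hbX 1 X.one_mem
          rw [one_mul, inv_one, mul_one] at hcc
          refine (commutatorElement_eq_one_iff_mul_comm.mp (tb.fpf _ (tW.move g hbf) ?_)).symm
          have hgd : d * g * d⁻¹ ∈ Y := (Subgroup.mem_normalizer_iff.mp tW.norm g).mp hbf
          refine mul_inv_eq_iff_eq_mul.mp ?_
          calc e' * ⁅g, d⁆ * e'⁻¹
              = (e' * g * e'⁻¹) * (⁅e', d⁆ * (d * (e' * g * e'⁻¹)⁻¹ * d⁻¹) * ⁅e', d⁆⁻¹) := by
                simp only [commutatorElement_def]; group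
            _ = g * (⁅e', d⁆ * (d * g⁻¹ * d⁻¹) * ⁅e', d⁆⁻¹) := by rw [he']
            _ = g * (d * g⁻¹ * d⁻¹) := by
                rw [← Subgroup.mem_centralizer_iff.mp hcc _
                  (show d * g⁻¹ * d⁻¹ ∈ Y from (Subgroup.mem_normalizer_iff.mp tW.norm _).mp (Y.inv_mem hbf)),
                  mul_inv_cancel_right]
            _ = _ := by rw [commutatorElement_def]; group
        -- uniqueness of the component in `W`
        have hsum : (b * w * b⁻¹) * (b * f0 * b⁻¹) = w * f0 := by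
          calc (b * w * b⁻¹) * (b * f0 * b⁻¹) = b * (w * f0) * b⁻¹ := by group
            _ = _ := by rw [← hdec, hby]
        have hq : w⁻¹ * (b * w * b⁻¹) = 1 := by
          refine tW.fpf _ (W.mul_mem (W.inv_mem hwW) hbw) ?_
          have e3 : w⁻¹ * (b * w * b⁻¹) = f0 * (b * f0 * b⁻¹)⁻¹ := by
            calc w⁻¹ * (b * w * b⁻¹) = w⁻¹ * (b * w * b⁻¹ * (b * f0 * b⁻¹)) * (b * f0 * b⁻¹)⁻¹ := by group
              _ = w⁻¹ * (w * f0) * (b * f0 * b⁻¹)⁻¹ := by rw [hsum]
              _ = _ := by group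
          rw [e3]
          exact (Commute.mul_right (show Commute d f0 from mul_inv_eq_iff_eq_mul.mp hfd)
            (show Commute d (b * f0 * b⁻¹) from hg).inv_right).eq
        exact mul_inv_eq_iff_eq_mul.mp (inv_mul_eq_one.mp hq).symm⟩
    refine Nat.card_le_card_of_injective φ fun u v huv => ?_
    have huv' : ⁅(u : G), d⁆ * ⁅(u : G), d * d⁆ = ⁅(v : G), d⁆ * ⁅(v : G), d * d⁆ := congrArg Subtype.val huv
    set x := (u : G)⁻¹ * v with hx
    have hxY : x ∈ Y := Y.mul_mem (Y.inv_mem (huY u)) (huY v)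
    have hxd : d * x = x * d := by
      -- additivity of the component
      have key : ∀ p q : G, p ∈ Y → q ∈ Y →
          ⁅p * q, d⁆ * ⁅p * q, d * d⁆ = (⁅p, d⁆ * ⁅p, d * d⁆) * (⁅q, d⁆ * ⁅q, d * d⁆) := by
        intro p q hp hq
        have hk : ∀ k ∈ K, ⁅p * q, k⁆ = ⁅p, k⁆ * ⁅q, k⁆ := fun k hk => by
          have hkY := (hXY (Subgroup.mem_sup_left hk))
          have h1 : ⁅q, k⁆ ∈ Y := hWY (h.commutator_mem_W hY ((le_sup_left : K ≤ X).trans hXY)
            ((omegaCenter_le _).trans hQK) (hRQ.trans hQY) hq hk)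
          have h2 : ⁅p, k⁆ ∈ Y := hWY (h.commutator_mem_W hY ((le_sup_left : K ≤ X).trans hXY)
            ((omegaCenter_le _).trans hQK) (hRQ.trans hQY) hp hk)
          rw [show ⁅p * q, k⁆ = p * ⁅q, k⁆ * p⁻¹ * ⁅p, k⁆ by simp only [commutatorElement_def]; group,
            sq_self_comm hY hp h1, mul_inv_cancel_right, sq_self_comm hY h1 h2]
        have m1 : ∀ r : G, r ∈ Y → ∀ k ∈ K, ⁅r, k⁆ ∈ Y := fun r hr k hk =>
          hWY (h.commutator_mem_W hY ((le_sup_left : K ≤ X).trans hXY)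
            ((omegaCenter_le _).trans hQK) (hRQ.trans hQY) hr hk)
        rw [hk d hd, hk (d * d) (K.mul_mem hd hd), mul_assoc, ← mul_assoc ⁅q, d⁆,
          sq_self_comm hY (m1 q hq d hd) (m1 p hp (d * d) (K.mul_mem hd hd)), mul_assoc, ← mul_assoc]
      have h1 := key u x (huY u) hxY
      rw [hx, mul_inv_cancel_left, ← huv'] at h1
      have h2 : ⁅x, d⁆ * ⁅x, d * d⁆ = 1 := mul_eq_left.mp h1.symm
      have hx1 := (Subgroup.mem_normalizer_iff.mp tW.norm x).mp hxY
      have hx2 := (Subgroup.mem_normalizer_iff.mp tW.norm _).mp hx1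
      -- the component of `x` is trivial, so `x` is its own norm
      have e1 : ⁅x, d⁆ = x * (d * x * d⁻¹)⁻¹ := by rw [commutatorElement_def]; group
      have e2 : ⁅x, d * d⁆ = x * (d * (d * x * d⁻¹) * d⁻¹)⁻¹ := by
        rw [commutatorElement_def]; simp only [mul_inv_rev, inv_inv, mul_assoc]
      set x1 := d * x * d⁻¹
      set x2 := d * x1 * d⁻¹
      rw [e1, e2, inv_self hY hx1, inv_self hY hx2,
        show x * x1 * (x * x2) = x * (x1 * x) * x2 by group, sq_self_comm hY hx1 hxY,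
        show x * (x * x1) * x2 = (x * x) * (x1 * x2) by group, sq_self hY hxY, one_mul] at h2
      have hnx : norm3 d x = x := by
        show x * x1 * x2 = x
        rw [mul_assoc, h2, mul_one]
      refine mul_inv_eq_iff_eq_mul.mp ?_
      conv_lhs => rw [← hnx]
      rw [norm3_fixed hY tW.norm hxY
        (h.d_cube_fix hd fun r hr => (Subgroup.mem_centralizer_iff.mp (hQY (hRQ hr)) x hxY).symm), hnx]
    have hx1 : x = 1 := by
      refine hUfix x (U.mul_mem (U.inv_mem u.2.2) v.2.2) fun b _ hbs => ?_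
      obtain ⟨a, ha, hab⟩ := (hmem _).mp hbs
      have hxA : x ∈ A := A.mul_mem (A.inv_mem u.2.1.1) v.2.1.1
      have hca : Commute a x := PLocal.comm_of_EA hA.2.1 ha hxA
      have hax : a * d * a⁻¹ * x = x * (a * d * a⁻¹) :=
        ((hca.mul_left (show Commute d x from hxd)).mul_left hca.inv_left).eq
      -- `b d b⁻¹` and `a d a⁻¹` have the same four-group
      by_cases hbX : b ∈ X
      swap
      · exact absurd (by assumption : b ∈ X) hbX
      have tb := tW.conj (hXY hbX)
      have ta := tW.conj (hXY (hAX ha))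
      rw [hab] at ta
      have hcc := hcomm a (hAX ha) b hbX
      set ea := a * d * a⁻¹
      set eb := b * d * b⁻¹
      refine (commutatorElement_eq_one_iff_mul_comm.mp (ta.fpf _ (tb.move x hxY) ?_)).symm
      refine mul_inv_eq_iff_eq_mul.mp ?_
      calc ea * ⁅x, eb⁆ * ea⁻¹
          = (ea * x * ea⁻¹) * (⁅ea, eb⁆ * (eb * (ea * x * ea⁻¹)⁻¹ * eb⁻¹) * ⁅ea, eb⁆⁻¹) := by
            simp only [commutatorElement_def]; group
        _ = x * (⁅ea, eb⁆ * (eb * x⁻¹ * eb⁻¹) * ⁅ea, eb⁆⁻¹) := by rw [hax, mul_inv_cancel_right]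
        _ = x * (eb * x⁻¹ * eb⁻¹) := by
            rw [← Subgroup.mem_centralizer_iff.mp hcc _
              (show eb * x⁻¹ * eb⁻¹ ∈ Y from (Subgroup.mem_normalizer_iff.mp tb.norm _).mp (Y.inv_mem hxY)),
              mul_inv_cancel_right]
        _ = _ := by rw [commutatorElement_def]; group
    exact Subtype.ext (inv_mul_eq_one.mp hx1)
  -- counting
  have hkey : 4 ^ s.card ≤ s.card * 4 := by
    have hA'pos := Nat.card_pos (α := A')
    have h1 : Nat.card A' * 4 ^ s.card ≤ Nat.card A * Nat.card ↥(W ⊓ Subgroup.centralizer (B : Set G)) := by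
      rw [← hUcard, ← hc]
      exact Nat.mul_le_mul hAU hinf
    have hW4 : Nat.card W = 4 := h.card4
    by_cases hBW : B ≤ Subgroup.centralizer (W : Set G)
    · have hBA' : B = A' := le_antisymm (le_inf inf_le_left hBW) hA'B
      rw [← hsc, hBA'] at h1
      have h2 : Nat.card ↥(W ⊓ Subgroup.centralizer (A' : Set G)) ≤ 4 :=
        hW4 ▸ Subgroup.card_le_of_le inf_le_left
      refine Nat.le_of_mul_le_mul_left ?_ hA'pos
      calc Nat.card A' * 4 ^ s.card ≤ s.card * Nat.card A' * Nat.card ↥(W ⊓ Subgroup.centralizer (A' : Set G)) := h1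
        _ ≤ s.card * Nat.card A' * 4 := Nat.mul_le_mul_left _ h2
        _ = _ := by ring
    · have h2 : Nat.card ↥(W ⊓ Subgroup.centralizer (B : Set G)) ≤ 2 := by
        have hd4 : Nat.card ↥(W ⊓ Subgroup.centralizer (B : Set G)) ∣ 4 :=
          hW4 ▸ Subgroup.card_dvd_of_le inf_le_left
        have hne : Nat.card ↥(W ⊓ Subgroup.centralizer (B : Set G)) ≠ 4 := fun e4 => hBW (by
          have := Subgroup.eq_of_le_of_card_ge (inf_le_left : W ⊓ Subgroup.centralizer (B : Set G) ≤ W)
            (by rw [e4, hW4])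
          exact Subgroup.le_centralizer_iff.mp (this.ge.trans inf_le_right))
        have := Nat.le_of_dvd (by norm_num) hd4
        by_contra hlt
        have h3 : Nat.card ↥(W ⊓ Subgroup.centralizer (B : Set G)) = 3 := by omega
        rw [h3] at hd4
        exact absurd hd4 (by decide)
      have h3 : Nat.card B ≤ 2 * Nat.card A' := by
        have := h.card_le_two_mul_of_normalizes (PLocal.isEA_mono hA.2.1 inf_le_left) (inf_le_right : B ≤ _)
        refine this.trans (Nat.mul_le_mul_left _ (Subgroup.card_le_of_le ?_))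
        exact inf_le_inf_right _ inf_le_left
      refine Nat.le_of_mul_le_mul_left ?_ hA'pos
      calc Nat.card A' * 4 ^ s.card ≤ Nat.card A * Nat.card ↥(W ⊓ Subgroup.centralizer (B : Set G)) := h1
        _ ≤ s.card * (2 * Nat.card A') * 2 := by rw [← hsc]; exact Nat.mul_le_mul (Nat.mul_le_mul_left _ h3) h2
        _ = _ := by ring
  have hs1 : s.card ≤ 1 := by
    by_contra hlt
    have h2 : ∀ n, 2 ≤ n → n * 4 < 4 ^ n := by
      intro n hn
      induction n, hn using Nat.le_induction with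
      | base => norm_num
      | succ m hm ihm => rw [pow_succ]; omega
    exact absurd hkey (not_le.mpr (h2 _ (by omega)))
  intro a ha
  rw [← cj_eq_self_iff]
  have hWs : W ∈ s := (hmem W).mpr ⟨1, A.one_mem, cj_one W⟩
  exact Finset.card_le_one.mp hs1 _ ((hmem _).mpr ⟨a, ha, rfl⟩) _ hWs

end Cfsg.Agent.LocalEven.JComp
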