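import Cfsg.Agent.LocalEven.SymFourCard

/-! The structure of the maximal 2-local subgroups at a maximal straddling group. -/

set_option autoImplicit false
set_option linter.style.haveILetI false
set_option linter.unusedSectionVars false

open scoped commutatorElement

namespace Cfsg.Agent.LocalEven.JComp

open Cfsg

universe u

variable {G : Type u} [Group G] [Finite G]

theorem Member.normW_iso {T K : Subgroup G} (m : Member T K) (hJ : JT T = T)
    (hQY : pCoreOf 2 (lK T K) = yOf (lK T K)) (hT : Nat.card T = 4 * Nat.card (zJ T))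
    {t : G} (ht : t ∈ T) (htQ : t ∉ pCoreOf 2 (lK T K)) (htt : t * t = 1) :
    (Nat.card (hK T K) = 1 ∧
      Nonempty (↥(Subgroup.normalizer (wOf K : Set G)) ≃* Equiv.Perm (Fin 4))) ∨
    (Nat.card (hK T K) = 2 ∧
      Nonempty (↥(Subgroup.normalizer (wOf K : Set G)) ≃* Equiv.Perm (Fin 4) × Multiplicative (ZMod 2))) := by
  classical
  haveI : Fact (Nat.Prime 2) := ⟨Nat.prime_two⟩
  haveI : Fact (Nat.Prime 3) := ⟨Nat.prime_three⟩
  set Q := pCoreOf 2 (lK T K) with hQ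
  set L := Subgroup.normalizer (wOf K : Set G) with hL
  set H := hK T K with hH
  have hQc : Nat.card Q = 2 * Nat.card (zJ T) := hQY ▸ m.card_Y_eq
  have hQE : IsElementaryAbelian 2 Q := hQY ▸ omegaCenter_isEA _
  have hYQ : Q = wOf K ⊔ H := hQY.trans m.Y_eq
  have hWQ : wOf K ≤ Q := hYQ ▸ le_sup_left
  have hHQ : H ≤ Q := hYQ ▸ le_sup_right
  -- `O₂(L) = Q`
  have hQL : pCoreOf 2 L = Q := by
    have h1 : pCoreOf 2 L ≤ Q := fun x hx => m.mem_Q (m.ovW.Q_le_T hx)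
      (Subgroup.le_centralizer_iff.mp
        ((m.ovW.W_le_Y m.jc JC.K_normalizes_W).trans (omegaCenter_le_centralizer _)) hx)
    exact le_antisymm h1 fun x hx => m.ovW.char2 (Subgroup.mem_centralizer_iff.mpr fun y hy =>
      PLocal.comm_of_EA hQE (h1 hy) hx)
  have hLQ : L ≤ Subgroup.normalizer (Q : Set G) := hQL ▸ map_pCore_normalized L
  have hQK : Q ⊓ Subgroup.centralizer (K : Set G) = H := by
    refine le_antisymm ?_ (le_inf hHQ inf_le_right)
    rintro x ⟨hx, hxc⟩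
    rw [SetLike.mem_coe, hYQ] at hx
    obtain ⟨w, hw, h, hh, rfl⟩ := Coprime.exists_mul_of_mem_sup
      (fun a ha => Subgroup.centralizer_le_normalizer _ (Subgroup.mem_centralizer_iff.mpr fun y hy =>
        PLocal.comm_of_EA hQE (hWQ hy) (hHQ ha))) hx
    have hw1 : w = 1 := m.jc.eq_one_of_fixed hw
      ((Subgroup.mul_mem_cancel_right _ (show h ∈ Subgroup.centralizer (K : Set G) from hh.2)).mp hxc)
    rw [hw1, one_mul]; exact hh
  have hLH : L ≤ Subgroup.centralizer (H : Set G) := by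
    refine centralizes_of_card_le_two (m.jc.card_hK_le m.hT m.small) ?_
    rw [← hQK]
    exact (le_inf hLQ (m.norm_eq.trans (normalizer_le_normalizer_cent _))).trans
      Subgroup.inf_normalizer_le_normalizer_inf
  have hLW : ∀ {l : G}, l ∈ L → l ∈ Subgroup.centralizer (wOf K : Set G) → l ∈ Q := fun {l} hl hlW =>
    hQL ▸ m.ovW.char2 (by rw [hQL, hQY]; exact m.cent_Y hlW (hLH hl))
  obtain ⟨d₀, hd₀, hd₀R⟩ := m.jc.exists_d
  have hR : pCoreOf 2 K ≤ Q := m.R_le_Q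
  -- `L = K T`
  obtain ⟨z, hz, hzW, hz1, -⟩ := m.jc.exists_z m.hT
  obtain ⟨v, hv, hv1, hne⟩ := exists_ne_of_four m.jc.card4 z
  have hLP : L = K ⊔ T := by
    refine le_antisymm (fun l hl => ?_) (sup_le JC.K_normalizes_W m.ovW.sylT.1)
    have hlz : l * z * l⁻¹ ∈ wOf K := (Subgroup.mem_normalizer_iff.mp hl z).mp hzW
    obtain ⟨k, hk, hkz⟩ : ∃ k ∈ K, l * z * l⁻¹ = k * z * k⁻¹ := by
      rcases m.jc.four hd₀ hd₀R hzW hz1 hlz with e | e | e | e
      · exact absurd (conj_eq_one_iff.mp e) hz1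
      · exact ⟨1, K.one_mem, by rw [e]; group⟩
      · exact ⟨d₀, hd₀, e⟩
      · exact ⟨d₀ * d₀, K.mul_mem hd₀ hd₀, e.trans (by group)⟩
    have hkl : k⁻¹ * l ∈ L := L.mul_mem (L.inv_mem (JC.K_normalizes_W hk)) hl
    have hfix : k⁻¹ * l * z = z * (k⁻¹ * l) := mul_inv_eq_iff_eq_mul.mp (by
      rw [show k⁻¹ * l * z * (k⁻¹ * l)⁻¹ = k⁻¹ * (l * z * l⁻¹) * k by group, hkz]; group)
    have hT' : k⁻¹ * l ∈ T := by
      by_cases hc : k⁻¹ * l ∈ Subgroup.centralizer (wOf K : Set G)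
      · exact m.Q_le (hLW hkl hc)
      have h1 := image_of_fixed m.jc.card4 JC.W_EA hzW hv hz1 hv1 hne hkl hfix hc
      have h2 := m.swap ht htQ hz hzW hz1 hv hv1 hne
      have htz : t * z = z * t := (Subgroup.mem_centralizer_iff.mp (m.T_cent_zJ ht) z hz).symm
      have h3 : t⁻¹ * (k⁻¹ * l) ∈ Subgroup.centralizer (wOf K : Set G) := by
        refine centralizes_of_two_fixed m.jc.card4 JC.W_EA hzW hv hz1 hv1 hne
          ((Commute.inv_left (show Commute t z from htz)).mul_left (show Commute (k⁻¹ * l) z from hfix)).eq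
          (mul_inv_eq_iff_eq_mul.mp ?_)
        rw [show t⁻¹ * (k⁻¹ * l) * v * (t⁻¹ * (k⁻¹ * l))⁻¹ = t⁻¹ * (k⁻¹ * l * v * (k⁻¹ * l)⁻¹) * t by group,
          h1, ← h2]
        group
      have h4 := T.mul_mem ht (m.Q_le (hLW (L.mul_mem (L.inv_mem (m.ovW.sylT.1 ht)) hkl) h3))
      rwa [mul_inv_cancel_left] at h4
    have := Subgroup.mul_mem_sup hk hT'
    rwa [mul_inv_cancel_left] at this
  obtain ⟨-, -, -, hcardP, -, -⟩ := m.rank_one hJ hQc hT
  have hcL : Nat.card L = 24 * Nat.card H := by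
    rw [hLP, hcardP, hT, m.jc.card_zJ m.hT]; ring
  -- an element of order three
  have h3K : 3 ∣ Nat.card K := ⟨Nat.card (pCoreOf 2 K), by
    rw [← card_mul_relIndex (JC.R_le : pCoreOf 2 K ≤ K), m.jc.idx, mul_comm]⟩
  obtain ⟨⟨d, hd⟩, hdo'⟩ := exists_prime_orderOf_dvd_card' (G := ↥K) 3 h3K
  have hdo : orderOf d = 3 := (Subgroup.orderOf_coe (⟨d, hd⟩ : ↥K)).trans hdo'
  have hdR : d ∉ pCoreOf 2 K := fun hdR => by
    obtain ⟨n, hn⟩ := IsPGroup.iff_orderOf.mp (isPGroup_op (p := 2) K) ⟨d, hdR⟩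
    rw [← Subgroup.orderOf_coe] at hn
    have h : orderOf d = 2 ^ n := hn
    rcases n with _ | n
    · omega
    · rw [pow_succ, hdo] at h; omega
  have hdW : ∀ w ∈ wOf K, d * w = w * d → w = 1 := fun w hw => m.jc.fpf hd hdR hw
  have hd1 : d ≠ 1 := fun e => by rw [e, orderOf_one] at hdo; norm_num at hdo
  have hd3 : d ^ 3 = 1 := hdo ▸ pow_orderOf_eq_one d
  set D := Subgroup.zpowers d with hD
  have hDN : D ≤ Subgroup.normalizer (wOf K : Set G) := Subgroup.zpowers_le.mpr (JC.K_normalizes_W hd)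
  have hdis : D ⊓ wOf K = ⊥ := by
    rw [Subgroup.eq_bot_iff_forall]
    rintro w ⟨⟨n, rfl⟩, hwW⟩
    exact hdW _ hwW ((Commute.refl d).zpow_right n).eq
  have hK₁ : K = wOf K ⊔ D := by
    refine le_antisymm ?_ (sup_le (JC.W_le_R.trans JC.R_le) (Subgroup.zpowers_le.mpr hd))
    refine le_of_odd_gen (Q := H) ?_ (isPGroup_op _ |>.to_le hHQ) ?_ m.jc.gen
    · refine le_trans ?_ (Subgroup.centralizer_le_normalizer _)
      exact (inf_le_right : H ≤ Subgroup.centralizer (K : Set G)).trans (Subgroup.centralizer_le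
        (SetLike.coe_subset_coe.mpr (sup_le (JC.W_le_R.trans JC.R_le) (Subgroup.zpowers_le.mpr hd))))
    · conv_lhs => rw [m.jc.K_eq_sup hd hdR]
      refine sup_le ((hR.trans hYQ.le).trans (sup_le_sup_right le_sup_left _)) ?_
      exact le_sup_of_le_left le_sup_right
  have hcK : Nat.card K = 12 := by
    have h := PLocal.card_sup_mul_card_inf (A := D) (B := wOf K) hDN
    rw [hdis, Subgroup.card_bot, mul_one, sup_comm, ← hK₁, Nat.card_zpowers, hdo, m.jc.card4] at h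
    exact h
  -- the symmetric group
  set L₀ := K ⊔ Subgroup.zpowers t with hL₀
  have htN : Subgroup.zpowers t ≤ Subgroup.normalizer (K : Set G) :=
    Subgroup.zpowers_le.mpr (m.T_norm ht)
  have hts : ∀ s ∈ Subgroup.zpowers t, s = 1 ∨ s = t := by
    rintro _ ⟨n, rfl⟩
    rcases Int.even_or_odd n with ⟨j, rfl⟩ | ⟨j, rfl⟩
    · left; show t ^ (j + j) = 1; rw [← two_mul, zpow_mul, zpow_two, htt, one_zpow]
    · right; show t ^ (2 * j + 1) = t; rw [zpow_add, zpow_mul, zpow_two, htt, one_zpow, one_mul, zpow_one]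
  have hKTR : ∀ {x : G}, x ∈ K → x ∈ T → x ∈ Q := fun hxK hxT =>
    hR (m.jc.le_R_of_pGroup m.hT ⟨hxK, hxT⟩)
  have hcL₀ : Nat.card L₀ = 24 := by
    have hb : Subgroup.zpowers t ⊓ K = ⊥ := by
      rw [Subgroup.eq_bot_iff_forall]
      rintro s ⟨hs, hsK⟩
      rcases hts s hs with rfl | rfl
      · rfl
      · exact absurd (hKTR hsK ht) htQ
    have h := PLocal.card_sup_mul_card_inf (A := Subgroup.zpowers t) (B := K) htN
    have ht2 : orderOf t = 2 := orderOf_eq_prime (by rw [pow_two, htt]) (fun e => htQ (e ▸ one_mem _))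
    rw [hb, Subgroup.card_bot, mul_one, sup_comm, Nat.card_zpowers, ht2, hcK] at h
    exact h
  have hLH0 : L₀ ⊓ H = ⊥ := by
    rw [Subgroup.eq_bot_iff_forall]
    rintro x ⟨hx, hxH⟩
    obtain ⟨k, hk, s, hs, rfl⟩ := Coprime.exists_mul_of_mem_sup htN hx
    have hxT : k * s ∈ T := m.Q_le (hHQ hxH)
    rcases hts s hs with e | e
    · subst e
      rw [mul_one] at hxH hxT ⊢
      have hkR : k ∈ pCoreOf 2 K := m.jc.le_R_of_pGroup m.hT ⟨hk, hxT⟩
      -- `O₂(K) = W`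
      have hkW : k ∈ wOf K := by
        have hRW : pCoreOf 2 K = wOf K := (Subgroup.eq_of_le_of_card_ge JC.W_le_R (by
          have h := card_mul_relIndex (JC.R_le : pCoreOf 2 K ≤ K)
          rw [m.jc.idx, hcK] at h
          rw [m.jc.card4]; omega)).symm
        exact hRW.le hkR
      exact m.jc.eq_one_of_fixed hkW hxH.2
    · subst e
      exfalso
      have hkT : k ∈ T := by
        have := T.mul_mem hxT (T.inv_mem ht)
        rwa [mul_inv_cancel_right] at this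
      refine htQ ?_
      have := Q.mul_mem (Q.inv_mem (hKTR hk hkT)) (hHQ hxH)
      rwa [inv_mul_cancel_left] at this
  have hL₀L : L₀ ≤ L := sup_le JC.K_normalizes_W (Subgroup.zpowers_le.mpr (m.ovW.sylT.1 ht))
  obtain ⟨e₀⟩ : Nonempty (↥L₀ ≃* Equiv.Perm (Fin 4)) := by
    have hWL : wOf K ≤ L₀ := (JC.W_le_R.trans JC.R_le).trans le_sup_left
    haveI : ((wOf K).subgroupOf L₀).Normal := Subgroup.normal_subgroupOf_of_le_normalizer hL₀L
    refine iso_perm4 hcL₀ ((wOf K).subgroupOf L₀)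
      ((Nat.card_congr (Subgroup.subgroupOfEquivOfLe hWL).toEquiv).trans m.jc.card4) ?_
      (d := ⟨d, Subgroup.mem_sup_left hd⟩) (Subtype.ext hd3) (fun e => hd1 (congrArg Subtype.val e))
      (fun w hw e => Subtype.ext (hdW w hw (congrArg Subtype.val e)))
    intro g hg
    have hgW : (g : G) ∈ Subgroup.centralizer (wOf K : Set G) := Subgroup.mem_centralizer_iff.mpr fun w hw =>
      congrArg Subtype.val (Subgroup.mem_centralizer_iff.mp hg ⟨w, hWL hw⟩ hw)
    have hgQ := hLW (hL₀L g.2) hgW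
    rw [hYQ] at hgQ
    obtain ⟨w, hw, h, hh, e⟩ := Coprime.exists_mul_of_mem_sup
      (fun a ha => Subgroup.centralizer_le_normalizer _ (Subgroup.mem_centralizer_iff.mpr fun y hy =>
        PLocal.comm_of_EA hQE (hWQ hy) (hHQ ha))) hgQ
    have hh1 : h = 1 := Subgroup.mem_bot.mp (hLH0.le ⟨by
      have h9 := L₀.mul_mem (L₀.inv_mem (hWL hw)) g.2
      rw [← e, inv_mul_cancel_left] at h9
      exact h9, hh⟩)
    show (g : G) ∈ wOf K
    rw [← e, hh1, mul_one]; exact hw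
  have hHpos : 0 < Nat.card H := Nat.card_pos
  have hHle : Nat.card H ≤ 2 := m.jc.card_hK_le m.hT m.small
  have hHL : H ≤ L := hHQ.trans (hQL ▸ op_le L)
  let f : ↥L₀ × ↥H →* ↥L :=
    { toFun := fun p => ⟨(p.1 : G) * p.2, L.mul_mem (hL₀L p.1.2) (hHL p.2.2)⟩
      map_one' := Subtype.ext (mul_one _)
      map_mul' := fun p q => Subtype.ext (by
        show (p.1 : G) * q.1 * ((p.2 : G) * q.2) = (p.1 : G) * p.2 * ((q.1 : G) * q.2)
        have hc : (p.2 : G) * q.1 = q.1 * p.2 := Subgroup.mem_centralizer_iff.mp (hLH (hL₀L q.1.2)) p.2 p.2.2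
        rw [mul_assoc, ← mul_assoc (q.1 : G), ← hc]; group) }
  have hinj : Function.Injective f := by
    rw [← MonoidHom.ker_eq_bot_iff, Subgroup.eq_bot_iff_forall]
    rintro ⟨a, b⟩ hab
    have e : (a : G) * b = 1 := congrArg Subtype.val hab
    have hb : (b : G) = 1 := Subgroup.mem_bot.mp (hLH0.le ⟨by
      rw [eq_inv_of_mul_eq_one_right e]; exact L₀.inv_mem a.2, b.2⟩)
    have ha : (a : G) = 1 := by rwa [hb, mul_one] at e
    exact Prod.ext (Subtype.ext ha) (Subtype.ext hb)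
  have hbij : Function.Bijective f := hinj.bijective_of_nat_card_le (by
    rw [Nat.card_prod, hcL₀, hcL])
  have ef : ↥L ≃* ↥L₀ × ↥H := (MulEquiv.ofBijective f hbij).symm
  rcases (show Nat.card H = 1 ∨ Nat.card H = 2 by omega) with e | e
  · haveI : Subsingleton ↥H := (Nat.card_eq_one_iff_unique.mp e).1
    letI : Unique ↥H := uniqueOfSubsingleton 1
    exact Or.inl ⟨e, ⟨ef.trans (MulEquiv.prodUnique.trans e₀)⟩⟩
  · refine Or.inr ⟨e, ⟨ef.trans (e₀.prodCongr (mulEquivOfPrimeCardEq (p := 2) e ?_))⟩⟩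
    exact (Nat.card_congr Multiplicative.toAdd).trans (Nat.card_zmod 2)

theorem Ctx.max_two_locals {M T : Subgroup G} (c : Ctx M T) (hB : ¬ Glob M T) :
    ∃ P₁ P₂ : Subgroup G, P₁ ≠ P₂ ∧ IsMaximalTwoLocal P₁ ∧ IsMaximalTwoLocal P₂ ∧
      IsSylowTwoIn T P₁ ∧ IsSylowTwoIn T P₂ ∧
      ((Nonempty (↥P₁ ≃* Equiv.Perm (Fin 4)) ∧ Nonempty (↥P₂ ≃* Equiv.Perm (Fin 4))) ∨
        (Nonempty (↥P₁ ≃* Equiv.Perm (Fin 4) × Multiplicative (ZMod 2)) ∧
          Nonempty (↥P₂ ≃* Equiv.Perm (Fin 4) × Multiplicative (ZMod 2)))) := by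
  obtain ⟨C, D, cd⟩ := (c.fam hB).core
  have hC := c.mem0_self cd.pC
  have hD := c.mem0_self cd.pD
  have mC := c.mem0_member (c.small hB) hC
  have mD := c.mem0_member (c.small hB) hD
  have hpos : 0 < Nat.card (zJ T) := Nat.card_pos
  obtain ⟨tC, htC, htC'⟩ : ∃ t ∈ pCoreOf 2 (lK T D), t ∉ pCoreOf 2 (lK T C) := by
    by_contra hcon
    push Not at hcon
    have := Subgroup.card_le_of_le (show pCoreOf 2 (lK T D) ≤ zJ T from
      fun x hx => cd.inf_eq.le ⟨hcon x hx, hx⟩)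
    have := cd.card_D
    omega
  obtain ⟨tD, htD, htD'⟩ : ∃ t ∈ pCoreOf 2 (lK T C), t ∉ pCoreOf 2 (lK T D) := by
    by_contra hcon
    push Not at hcon
    have := Subgroup.card_le_of_le (show pCoreOf 2 (lK T C) ≤ zJ T from
      fun x hx => cd.inf_eq.le ⟨hx, hcon x hx⟩)
    have := cd.card_C
    omega
  have iC := mC.normW_iso cd.J_eq cd.Q_eq cd.card_T (mD.Q_le htC) htC' (sq_self cd.abelD htC)
  have iD := mD.normW_iso cd.J_eq cd.Q_eq' cd.card_T (mC.Q_le htD) htD' (sq_self cd.abelC htD)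
  have hc := mC.jc.card_zJ mC.hT
  have hd := mD.jc.card_zJ mD.hT
  refine ⟨_, _, fun e => cd.ne ?_, c.maximal hB hC, c.maximal hB hD, mC.ovW.sylT, mD.ovW.sylT, ?_⟩
  · exact (c.only_comp hB hC hD.1 rfl mC.ovW JC.K_normalizes_W
      ((JC.K_normalizes_W : D ≤ Subgroup.normalizer (wOf D : Set G)).trans e.ge)).symm
  rcases iC with ⟨h1, i1⟩ | ⟨h1, i1⟩ <;> rcases iD with ⟨h2, i2⟩ | ⟨h2, i2⟩
  · exact Or.inl ⟨i1, i2⟩
  · omega
  · omega
  · exact Or.inr ⟨i1, i2⟩

end Cfsg.Agent.LocalEven.JComp
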