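import Cfsg.Prelude.Def_JComponents
import Cfsg.Agent.LocalEven.CharP
import Cfsg.Agent.LocalEven.PReducedTheory
import Cfsg.Agent.PLocal.ElemAb
import Cfsg.Agent.PLocal.Factorizable
import Cfsg.Agent.OddLocal.ThreeStep
import Cfsg.Agent.Core.ThompsonComplement

/-! Tools for `J(T)`-components: Thompson subgroups, Sylow subgroups inside subgroups. -/

set_option autoImplicit false
set_option linter.style.haveILetI false

open scoped commutatorElement

namespace Cfsg.Agent.LocalEven.JComp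

open Cfsg

variable {G : Type*} [Group G]

/-- `J(P)` for the prime 2. -/
abbrev JT (P : Subgroup G) : Subgroup G := thompsonSubgroupOf 2 P

/-- `A` is an elementary abelian 2-subgroup of `P` of largest order. -/
def IsMaxEA (P A : Subgroup G) : Prop :=
  A ≤ P ∧ IsElementaryAbelian 2 A ∧
    ∀ B : Subgroup G, B ≤ P → IsElementaryAbelian 2 B → Nat.card B ≤ Nat.card A

theorem IsMaxEA.le_JT {P A : Subgroup G} (h : IsMaxEA P A) : A ≤ JT P := by
  intro a ha
  refine ⟨⟨a, h.1 ha⟩, PLocal.le_thompsonSubgroup (A := A.subgroupOf P) ⟨?_, fun B hB => ?_⟩ ha, rfl⟩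
  · exact PLocal.isEA_comap h.2.1 _ P.subtype_injective
  · rw [Nat.card_congr (Subgroup.subgroupOfEquivOfLe h.1).toEquiv,
      ← Subgroup.card_map_of_injective P.subtype_injective (K := B)]
    exact h.2.2 _ (Subgroup.map_subtype_le _) (PLocal.isEA_map hB _)

theorem JT_le (P : Subgroup G) : JT P ≤ P := Subgroup.map_subtype_le _

theorem isPGroup_JT {T : Subgroup G} (hT : IsPGroup 2 T) : IsPGroup 2 (JT T) := hT.to_le (JT_le T)

theorem normalizer_le_normalizer_JT (P : Subgroup G) :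
    Subgroup.normalizer (P : Set G) ≤ Subgroup.normalizer (JT P : Set G) :=
  OddLocal.normalizer_le_normalizer_thompson 2 P

theorem JT_cj (g : G) (P : Subgroup G) : JT (cj g P) = cj g (JT P) :=
  (Core.ThompsonComplement.thompsonSubgroupOf_map _ (MulAut.conj g).injective.injOn).symm

theorem IsMaxEA.cj {P A : Subgroup G} (h : IsMaxEA P A) (g : G) :
    IsMaxEA (LocalEven.cj g P) (LocalEven.cj g A) := by
  refine ⟨cj_mono h.1, PLocal.isEA_map h.2.1 _, fun B hB hBe => ?_⟩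
  have h1 : LocalEven.cj g⁻¹ B ≤ P := by
    have := cj_mono (g := g⁻¹) hB
    rwa [cj_cj, inv_mul_cancel, cj_one] at this
  have h2 := h.2.2 _ h1 (PLocal.isEA_map hBe _)
  rw [card_cj] at h2 ⊢
  exact h2

section Finite

variable [Finite G]

theorem exists_isMaxEA (P : Subgroup G) : ∃ A, IsMaxEA P A := by
  obtain ⟨A, hA⟩ := PLocal.exists_maxEA (G := P) (p := 2)
  exact ⟨A.map P.subtype, Subgroup.map_subtype_le _, PLocal.isEA_map hA.1 _,
    fun B hB hBe => PLocal.maxEA_subgroup_map hA B hBe hB⟩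

/-- `J(P)` is generated by the elementary abelian subgroups of largest order. -/
theorem JT_le_of {P U : Subgroup G} (h : ∀ A, IsMaxEA P A → A ≤ U) : JT P ≤ U := by
  rw [JT, thompsonSubgroupOf, Subgroup.map_le_iff_le_comap]
  refine sSup_le fun A hA => Subgroup.map_le_iff_le_comap.mp (h _ ⟨Subgroup.map_subtype_le _,
    PLocal.isEA_map hA.1 _, fun B hB hBe => PLocal.maxEA_subgroup_map hA B hBe hB⟩)

theorem IsMaxEA.card_eq {P A B : Subgroup G} (hA : IsMaxEA P A) (hB : IsMaxEA P B) :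
    Nat.card A = Nat.card B :=
  le_antisymm (hB.2.2 A hA.1 hA.2.1) (hA.2.2 B hB.1 hB.2.1)

theorem IsMaxEA.of_card {P A B : Subgroup G} (hA : IsMaxEA P A) (hB : B ≤ P)
    (hBe : IsElementaryAbelian 2 B) (hc : Nat.card A ≤ Nat.card B) : IsMaxEA P B :=
  ⟨hB, hBe, fun C hC hCe => (hA.2.2 C hC hCe).trans hc⟩

/-- Two subgroups with the same Thompson subgroup have the same elementary abelian subgroups of
largest order. -/
theorem IsMaxEA.transfer {P Q A : Subgroup G} (hA : IsMaxEA P A) (hJ : JT P = JT Q) : IsMaxEA Q A := by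
  obtain ⟨B, hB⟩ := exists_isMaxEA Q
  have hBP : B ≤ P := hB.le_JT.trans (hJ.ge.trans (JT_le P))
  exact hB.of_card (hA.le_JT.trans (hJ.le.trans (JT_le Q))) hA.2.1 (hA.2.2 B hBP hB.2.1)

theorem JT_eq_of_between {U T : Subgroup G} (hUT : U ≤ T) (hJU : JT T ≤ U) : JT U = JT T :=
  (OddLocal.thompsonSubgroupOf_eq_of hUT fun A hA hAT hmax =>
    (IsMaxEA.le_JT ⟨hAT, hA, fun B hB hBe => hmax B hBe hB⟩).trans hJU).symm

theorem JT_JT (T : Subgroup G) : JT (JT T) = JT T := JT_eq_of_between (JT_le T) le_rfl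

/-- If `U ≤ T` contains one of the largest elementary abelian subgroups of `T`, then `J(U) ≤ J(T)`. -/
theorem JT_mono {U T A : Subgroup G} (hUT : U ≤ T) (hA : IsMaxEA T A) (hAU : A ≤ U) :
    JT U ≤ JT T :=
  JT_le_of fun B hB => IsMaxEA.le_JT
    (hA.of_card (hB.1.trans hUT) hB.2.1 (hB.2.2 A hAU hA.2.1))

theorem JT_ne_bot {T : Subgroup G} (hT : IsPGroup 2 T) (hne : T ≠ ⊥) : JT T ≠ ⊥ :=
  haveI : Fact (Nat.Prime 2) := ⟨Nat.prime_two⟩
  OddLocal.thompsonSubgroupOf_ne_bot hT hne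

/-- A 2-group normalizing a nontrivial 2-group fixes one of its nontrivial elements. -/
theorem exists_fixed {N P : Subgroup G} (hN : IsPGroup 2 N) (hP : IsPGroup 2 P) (hne : N ≠ ⊥)
    (hPN : P ≤ Subgroup.normalizer (N : Set G)) : ∃ w ∈ N, w ≠ 1 ∧ ∀ x ∈ P, x * w = w * x := by
  haveI : Fact (Nat.Prime 2) := ⟨Nat.prime_two⟩
  haveI := (IsPGroup.to_sup_of_normal_left' hN hP hPN).isNilpotent
  haveI : (N.subgroupOf (N ⊔ P)).Normal := Subgroup.normal_subgroupOf_of_le_normalizer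
    (sup_le Subgroup.le_normalizer hPN)
  obtain ⟨x, hx, hx1, hxc⟩ := OddLocal.exists_ne_one_mem_center_of_normal (N.subgroupOf (N ⊔ P))
    fun e => hne (by
      rw [Subgroup.subgroupOf_eq_bot] at e
      exact (disjoint_self.mp (e.mono_right (le_sup_left : N ≤ N ⊔ P))))
  exact ⟨x, hx, fun e => hx1 (Subtype.ext e), fun y hy =>
    congrArg Subtype.val (Subgroup.mem_center_iff.mp hxc ⟨y, Subgroup.mem_sup_right hy⟩)⟩

/-! ### Sylow 2-subgroups inside a subgroup -/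

theorem not_dvd_relIndex_of_odd {S L : Subgroup G} (h : Odd (S.relIndex L)) : ¬ 2 ∣ S.relIndex L :=
  fun hd => (Nat.not_even_iff_odd.mpr h) (even_iff_two_dvd.mpr hd)

theorem isSylowTwoIn_isMaxP {S L : Subgroup G} (h : IsSylowTwoIn S L) : IsMaxP 2 S L := by
  haveI : Fact (Nat.Prime 2) := ⟨Nat.prime_two⟩
  refine ⟨h.1, h.2.1, fun R hR hRL hSR => le_antisymm ?_ hSR⟩
  obtain ⟨k, hk⟩ := IsPGroup.iff_card.mp hR
  have hmul := Subgroup.relIndex_mul_relIndex S R L hSR hRL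
  have hd : S.relIndex R ∣ 2 ^ k := hk ▸ Subgroup.index_dvd_card _
  obtain ⟨i, -, hi⟩ := (Nat.dvd_prime_pow Nat.prime_two).mp hd
  rw [← Subgroup.relIndex_eq_one, hi]
  rcases Nat.eq_zero_or_pos i with rfl | hi0
  · rfl
  · exact absurd ((hi ▸ dvd_pow_self 2 hi0.ne' : 2 ∣ S.relIndex R).trans (hmul ▸ dvd_mul_right _ _))
      (not_dvd_relIndex_of_odd h.2.2)

theorem isMaxP_isSylowTwoIn {S L : Subgroup G} (h : IsMaxP 2 S L) : IsSylowTwoIn S L := by
  haveI : Fact (Nat.Prime 2) := ⟨Nat.prime_two⟩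
  obtain ⟨P, rfl⟩ := h.exists_sylow
  refine ⟨h.1, h.2.1, Nat.not_even_iff_odd.mp fun he => P.not_dvd_index ?_⟩
  rw [← Subgroup.comap_map_eq_self_of_injective L.subtype_injective (P : Subgroup L)]
  exact even_iff_two_dvd.mp he

theorem exists_sylowTwoIn_ge {P L : Subgroup G} (hP : IsPGroup 2 P) (hPL : P ≤ L) :
    ∃ S, IsSylowTwoIn S L ∧ P ≤ S := by
  obtain ⟨S, hS, hle⟩ := exists_isMaxP_le hP hPL
  exact ⟨S, isMaxP_isSylowTwoIn hS, hle⟩

theorem IsSylowTwoIn.exists_conj_le {S L P : Subgroup G} (h : IsSylowTwoIn S L) (hP : IsPGroup 2 P)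
    (hPL : P ≤ L) : ∃ g ∈ L, P ≤ LocalEven.cj g S := by
  haveI : Fact (Nat.Prime 2) := ⟨Nat.prime_two⟩
  obtain ⟨g, hg, hle⟩ := (isSylowTwoIn_isMaxP h).conj_le hP hPL
  refine ⟨g⁻¹, L.inv_mem hg, ?_⟩
  have := cj_mono (g := g⁻¹) hle
  rwa [cj_cj, inv_mul_cancel, cj_one] at this

end Finite

end Cfsg.Agent.LocalEven.JComp
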