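import Cfsg.Agent.LocalEven.JCompBasic

/-! Elements of order 3 on a normal elementary abelian 2-subgroup moving a single four-group. -/

set_option autoImplicit false
set_option linter.style.haveILetI false
set_option linter.unusedSectionVars false

open scoped commutatorElement

namespace Cfsg.Agent.LocalEven.JComp

open Cfsg

variable {G : Type*} [Group G] [Finite G]

/-- `e` moves only the four-group `W` of `Y`, without fixed points there. -/
structure Typ (Y W : Subgroup G) (e : G) : Prop where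
  le : W ≤ Y
  card : Nat.card W = 4
  norm : e ∈ Subgroup.normalizer (Y : Set G)
  move : ∀ y ∈ Y, ⁅y, e⁆ ∈ W
  fpf : ∀ w ∈ W, e * w = w * e → w = 1
  cube : e ^ 3 ∈ Subgroup.centralizer (Y : Set G)

variable {Y W W' : Subgroup G} {e e' : G}

namespace Typ

theorem conj (h : Typ Y W e) {g : G} (hg : g ∈ Subgroup.normalizer (Y : Set G)) :
    Typ Y (LocalEven.cj g W) (g * e * g⁻¹) where
  le := (cj_mono h.le).trans (cj_eq_self_iff.mpr hg).le
  card := by rw [card_cj]; exact h.card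
  norm := Subgroup.mul_mem _ (Subgroup.mul_mem _ hg h.norm) (Subgroup.inv_mem _ hg)
  move := fun y hy => by
    have hy' : g⁻¹ * y * g ∈ Y := by
      have := (Subgroup.mem_normalizer_iff.mp (Subgroup.inv_mem _ hg) y).mp hy
      rwa [inv_inv] at this
    rw [show ⁅y, g * e * g⁻¹⁆ = g * ⁅g⁻¹ * y * g, e⁆ * g⁻¹ by simp only [commutatorElement_def]; group]
    exact conj_mem_cj (h.move _ hy')
  fpf := fun w hw hc => by
    have h1 := h.fpf _ (mem_cj.mp hw) (by
      calc e * (g⁻¹ * w * g) = g⁻¹ * (g * e * g⁻¹ * w) * g := by group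
        _ = g⁻¹ * (w * (g * e * g⁻¹)) * g := by rw [hc]
        _ = _ := by group)
    calc w = g * (g⁻¹ * w * g) * g⁻¹ := by group
      _ = 1 := by rw [h1]; group
  cube := by
    rw [conj_pow]
    exact (Subgroup.mem_normalizer_iff.mp (normalizer_le_normalizer_cent _ hg) _).mp h.cube

theorem normW (h : Typ Y W e) : e ∈ Subgroup.normalizer (W : Set G) := by
  rw [← cj_eq_self_iff]
  refine Subgroup.eq_of_le_of_card_ge ?_ (card_cj e W).ge
  rintro _ ⟨w, hw, rfl⟩
  show e * w * e⁻¹ ∈ W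
  rw [show e * w * e⁻¹ = (w⁻¹ * ⁅w, e⁆)⁻¹ by rw [commutatorElement_def]; group]
  exact W.inv_mem (W.mul_mem (W.inv_mem hw) (h.move w (h.le hw)))

/-- Every element of `W` is a commutator with `e`. -/
theorem eq_comm (h : Typ Y W e) (hY : IsElementaryAbelian 2 Y) {w : G} (hw : w ∈ W) :
    w = ⁅e * w * e⁻¹, e⁆ := by
  have hx := (Subgroup.mem_normalizer_iff.mp h.normW w).mp hw
  have hz := (Subgroup.mem_normalizer_iff.mp h.normW _).mp hx
  set x := e * w * e⁻¹ with hxd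
  set z := e * x * e⁻¹ with hzd
  have hfix : e * z * e⁻¹ = w := by
    rw [hzd, hxd]
    calc e * (e * (e * w * e⁻¹) * e⁻¹) * e⁻¹ = (e ^ 3 * w) * (e ^ 3)⁻¹ := by
          simp only [pow_succ, pow_zero, one_mul, mul_inv_rev, mul_assoc]
      _ = w := by rw [← Subgroup.mem_centralizer_iff.mp h.cube w (h.le hw)]; group
  have h1 : w * x * z = 1 := by
    refine h.fpf _ (W.mul_mem (W.mul_mem hw hx) hz) (mul_inv_eq_iff_eq_mul.mp ?_)
    calc e * (w * x * z) * e⁻¹ = (e * w * e⁻¹) * (e * x * e⁻¹) * (e * z * e⁻¹) := by group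
      _ = x * z * w := by rw [hfix, ← hxd, ← hzd]
      _ = w * (x * z) := sq_self_comm hY (h.le (W.mul_mem hx hz)) (h.le hw)
      _ = _ := by group
  rw [commutatorElement_def, show x * e * x⁻¹ * e⁻¹ = x * (e * x * e⁻¹)⁻¹ by group, ← hzd,
    inv_self hY (h.le hz)]
  rw [mul_assoc] at h1
  rw [← inv_self hY (h.le (W.mul_mem hx hz))]
  exact eq_inv_of_mul_eq_one_left h1

theorem norm_of_comm (h : Typ Y W' e') (hY : IsElementaryAbelian 2 Y)
    (he : e ∈ Subgroup.normalizer (Y : Set G)) (hc : ⁅e, e'⁆ ∈ Subgroup.centralizer (Y : Set G)) :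
    e ∈ Subgroup.normalizer (W' : Set G) := by
  rw [← cj_eq_self_iff]
  refine Subgroup.eq_of_le_of_card_ge ?_ (card_cj e W').ge
  rintro _ ⟨w, hw, rfl⟩
  show e * w * e⁻¹ ∈ W'
  set v := e' * w * e'⁻¹
  have hv : v ∈ Y := h.le ((Subgroup.mem_normalizer_iff.mp h.normW w).mp hw)
  have hev : e * v * e⁻¹ ∈ Y := (Subgroup.mem_normalizer_iff.mp he v).mp hv
  have hinv : (e * v * e⁻¹)⁻¹ ∈ Y := Y.inv_mem hev
  rw [h.eq_comm hY hw]
  show e * ⁅v, e'⁆ * e⁻¹ ∈ W'
  have hee : ⁅e * v * e⁻¹, e * e' * e⁻¹⁆ = ⁅e * v * e⁻¹, e'⁆ := by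
    have hc' := Subgroup.mem_centralizer_iff.mp hc
    have h2 : e' * (e * v * e⁻¹)⁻¹ * e'⁻¹ ∈ Y := (Subgroup.mem_normalizer_iff.mp h.norm _).mp hinv
    calc ⁅e * v * e⁻¹, e * e' * e⁻¹⁆
        = (e * v * e⁻¹) * (⁅e, e'⁆ * (e' * (e * v * e⁻¹)⁻¹ * e'⁻¹) * ⁅e, e'⁆⁻¹) := by
          simp only [commutatorElement_def]; group
      _ = (e * v * e⁻¹) * (e' * (e * v * e⁻¹)⁻¹ * e'⁻¹) := by rw [← hc' _ h2, mul_inv_cancel_right]
      _ = _ := by rw [commutatorElement_def]; group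
  rw [commutator_mem_conj, hee]
  exact h.move _ hev
where
  commutator_mem_conj {x a b : G} : x * ⁅a, b⁆ * x⁻¹ = ⁅x * a * x⁻¹, x * b * x⁻¹⁆ := by
    simp only [commutatorElement_def]; group

theorem eq_or_disjoint (h : Typ Y W e) (hY : IsElementaryAbelian 2 Y) (hW' : W' ≤ Y)
    (hc : Nat.card W' = 4) (he : e ∈ Subgroup.normalizer (W' : Set G)) : W = W' ∨ W ⊓ W' = ⊥ := by
  by_cases hb : W ⊓ W' = ⊥
  · exact Or.inr hb
  left
  obtain ⟨⟨w, hwW, hwW'⟩, hw1⟩ := Subgroup.ne_bot_iff_exists_ne_one.mp hb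
  have hw1' : w ≠ 1 := fun e => hw1 (Subtype.ext e)
  refine Subgroup.eq_of_le_of_card_ge ?_ (hc.trans h.card.symm).le
  have hs : W ≤ W ⊓ W' := by
    refine (Subgroup.eq_of_le_of_card_ge inf_le_left ?_).ge
    rw [h.card]
    classical
    have hx := (Subgroup.mem_normalizer_iff.mp h.normW w).mp hwW
    have hx' := (Subgroup.mem_normalizer_iff.mp he w).mp hwW'
    have hne : e * w * e⁻¹ ≠ w := fun e1 => hw1' (h.fpf w hwW (mul_inv_eq_iff_eq_mul.mp e1))
    have hsub : ({1, w, e * w * e⁻¹, w * (e * w * e⁻¹)} : Finset G) ⊆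
        ((W ⊓ W' : Subgroup G) : Set G).toFinite.toFinset := by
      intro t ht
      rw [Set.Finite.mem_toFinset, SetLike.mem_coe]
      simp only [Finset.mem_insert, Finset.mem_singleton] at ht
      rcases ht with rfl | rfl | rfl | rfl
      exacts [one_mem _, ⟨hwW, hwW'⟩, ⟨hx, hx'⟩, ⟨W.mul_mem hwW hx, W'.mul_mem hwW' hx'⟩]
    have hcard := Finset.card_le_card hsub
    rw [← Nat.card_eq_card_finite_toFinset] at hcard
    refine le_trans (le_of_eq ?_) hcard
    have h1 : e * w * e⁻¹ ≠ 1 := fun e1 => hw1' (conj_eq_one_iff.mp e1)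
    have h2 : w * (e * w * e⁻¹) ≠ 1 := fun e1 => hne (by
      rw [eq_inv_of_mul_eq_one_right e1, inv_self hY (h.le hwW)])
    rw [Finset.card_insert_of_notMem, Finset.card_insert_of_notMem, Finset.card_insert_of_notMem,
      Finset.card_singleton]
    · simp only [Finset.mem_singleton]
      exact fun e1 => hw1' (mul_eq_right.mp e1.symm)
    · simp only [Finset.mem_insert, Finset.mem_singleton, not_or]
      exact ⟨fun e1 => hne e1.symm, fun e1 => h1 (mul_eq_left.mp e1.symm)⟩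
    · simp only [Finset.mem_insert, Finset.mem_singleton, not_or]
      exact ⟨Ne.symm hw1', Ne.symm h1, Ne.symm h2⟩
  exact hs.trans inf_le_right

theorem centralizes_of_disjoint (h : Typ Y W e) (hW' : W' ≤ Y) (he : e ∈ Subgroup.normalizer (W' : Set G))
    (hd : W ⊓ W' = ⊥) {w : G} (hw : w ∈ W') : e * w = w * e := by
  have h2 : ⁅w, e⁆ ∈ W' := by
    rw [show ⁅w, e⁆ = w * (e * w⁻¹ * e⁻¹) by rw [commutatorElement_def]; group]
    exact W'.mul_mem hw ((Subgroup.mem_normalizer_iff.mp he _).mp (W'.inv_mem hw))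
  exact (commutatorElement_eq_one_iff_mul_comm.mp
    (Subgroup.mem_bot.mp (hd ▸ (⟨h.move w (hW' hw), h2⟩ : ⁅w, e⁆ ∈ W ⊓ W')))).symm

theorem disjoint_comm (h : Typ Y W e) (h' : Typ Y W' e') (hY : IsElementaryAbelian 2 Y)
    (he : e ∈ Subgroup.normalizer (W' : Set G)) (he' : e' ∈ Subgroup.normalizer (W : Set G))
    (hd : W ⊓ W' = ⊥) : ⁅e, e'⁆ ∈ Subgroup.centralizer (Y : Set G) := by
  rw [Subgroup.mem_centralizer_iff]
  have hkey : ∀ y ∈ Y, (e * e') * y * (e * e')⁻¹ = (e' * e) * y * (e' * e)⁻¹ := by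
    intro y hy
    have c1 := h.centralizes_of_disjoint h'.le he hd (W'.inv_mem (h'.move y hy))
    have c2 := h'.centralizes_of_disjoint h.le he' (by rw [inf_comm]; exact hd) (W.inv_mem (h.move y hy))
    have hcm : ⁅y, e'⁆⁻¹ * ⁅y, e⁆⁻¹ = ⁅y, e⁆⁻¹ * ⁅y, e'⁆⁻¹ :=
      sq_self_comm hY (h'.le (W'.inv_mem (h'.move y hy))) (h.le (W.inv_mem (h.move y hy)))
    calc e * e' * y * (e * e')⁻¹ = (e * ⁅y, e'⁆⁻¹) * y * e⁻¹ := by simp only [commutatorElement_def]; group
      _ = (⁅y, e'⁆⁻¹ * e) * y * e⁻¹ := by rw [c1]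
      _ = ⁅y, e'⁆⁻¹ * ⁅y, e⁆⁻¹ * y := by simp only [commutatorElement_def]; group
      _ = ⁅y, e⁆⁻¹ * ⁅y, e'⁆⁻¹ * y := by rw [hcm]
      _ = (⁅y, e⁆⁻¹ * e') * y * e'⁻¹ := by simp only [commutatorElement_def]; group
      _ = (e' * ⁅y, e⁆⁻¹) * y * e'⁻¹ := by rw [← c2]
      _ = _ := by simp only [commutatorElement_def]; group
  intro y hy
  refine (mul_inv_eq_iff_eq_mul.mp ?_).symm
  have hinv := (Subgroup.mem_normalizer_iff.mp
    (Subgroup.inv_mem _ (Subgroup.mul_mem _ h'.norm h.norm)) y).mp hy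
  rw [inv_inv] at hinv
  calc ⁅e, e'⁆ * y * ⁅e, e'⁆⁻¹ = e * e' * ((e' * e)⁻¹ * y * (e' * e)) * (e * e')⁻¹ := by
        rw [commutatorElement_def]; group
    _ = _ := hkey _ hinv
    _ = y := by group

/-- An element fixing `W` pointwise and moving `Y` only into `W` which is 3-torsion on `Y` is trivial there. -/
theorem unipotent_trivial {u : G} (hY : IsElementaryAbelian 2 Y) (hWY : W ≤ Y)
    (hfix : ∀ w ∈ W, u * w = w * u) (hmove : ∀ y ∈ Y, ⁅y, u⁆ ∈ W) {n : ℕ}
    (hn : u ^ 3 ^ n ∈ Subgroup.centralizer (Y : Set G)) : u ∈ Subgroup.centralizer (Y : Set G) := by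
  rw [Subgroup.mem_centralizer_iff]
  intro y hy
  set w := ⁅y, u⁆⁻¹ with hw
  have hwW : w ∈ W := W.inv_mem (hmove y hy)
  have huy : u * y * u⁻¹ = w * y := by rw [hw, commutatorElement_def]; group
  have h1 := PLocal.conj_pow_eq huy (hfix w hwW) (3 ^ n)
  rw [← Subgroup.mem_centralizer_iff.mp hn y hy, mul_inv_cancel_right] at h1
  have h2 : w ^ 3 ^ n = 1 := mul_eq_right.mp h1.symm
  have h3 : w = 1 := by
    have h4 := hY.2 w (hWY hwW)
    exact orderOf_eq_one_iff.mp (Nat.eq_one_of_dvd_coprimes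
      ((by decide : Nat.Coprime 2 3).pow_right n) (orderOf_dvd_of_pow_eq_one h4) (orderOf_dvd_of_pow_eq_one h2))
  exact (commutatorElement_eq_one_iff_mul_comm.mp (inv_eq_one.mp (hw ▸ h3)))

/-- If `e` commutes on `Y` with its conjugate under `e'`, then `e'` normalizes `W`. -/
theorem norm_of_conj_comm (h : Typ Y W e) (h' : Typ Y W' e') (hY : IsElementaryAbelian 2 Y)
    (hc : ∀ g ∈ ({e', e' * e'} : Set G), ⁅e, g * e * g⁻¹⁆ ∈ Subgroup.centralizer (Y : Set G)) :
    e' ∈ Subgroup.normalizer (W : Set G) := by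
  have hnY := h'.norm
  have hnY2 : e' * e' ∈ Subgroup.normalizer (Y : Set G) := Subgroup.mul_mem _ hnY hnY
  set W2 := LocalEven.cj e' W with hW2
  set W3 := LocalEven.cj (e' * e') W with hW3
  have t2 := h.conj hnY
  have t3 := h.conj hnY2
  have n2 := t2.norm_of_comm hY h.norm (hc _ (Set.mem_insert _ _))
  have n3 := t3.norm_of_comm hY h.norm (hc _ (Set.mem_insert_of_mem _ rfl))
  by_contra hne
  have hW2ne : W2 ≠ W := fun e1 => hne (cj_eq_self_iff.mp e1)
  have d2 := (h.eq_or_disjoint hY t2.le t2.card n2).resolve_left (Ne.symm hW2ne)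
  have hcube : LocalEven.cj (e' * (e' * e')) W = W := by
    rw [cj_eq_self_iff, show e' * (e' * e') = e' ^ 3 by rw [pow_succ', pow_two]]
    exact Subgroup.centralizer_le_normalizer _ (Subgroup.centralizer_le h.le h'.cube)
  have hW3ne : W3 ≠ W := fun e1 => hW2ne (by
    have e2 := congrArg (LocalEven.cj e') e1
    rw [hW3, cj_cj, hcube] at e2
    exact e2.symm)
  have d3 := (h.eq_or_disjoint hY t3.le t3.card n3).resolve_left (Ne.symm hW3ne)
  set U := W ⊔ W' with hU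
  have hWn : ∀ {A B : Subgroup G}, A ≤ Y → B ≤ Y → A ≤ Subgroup.normalizer (B : Set G) := fun ha hb =>
    (ha.trans ((Subgroup.le_centralizer_iff_isMulCommutative.mpr hY.1).trans
      (Subgroup.centralizer_le hb))).trans (Subgroup.centralizer_le_normalizer _)
  have hUY : U ≤ Y := sup_le h.le h'.le
  have hmv : ∀ x ∈ U, e' * x * e'⁻¹ ∈ U := by
    intro x hx
    rw [show e' * x * e'⁻¹ = ⁅x, e'⁆⁻¹ * x by rw [commutatorElement_def]; group]
    exact U.mul_mem (Subgroup.mem_sup_right (W'.inv_mem (h'.move x (hUY hx)))) hx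
  have h2U : W2 ≤ U := by
    rintro _ ⟨w, hw, rfl⟩
    exact hmv w (Subgroup.mem_sup_left hw)
  have h3U : W3 ≤ U := by
    rintro _ ⟨w, hw, rfl⟩
    show e' * e' * w * (e' * e')⁻¹ ∈ U
    rw [show e' * e' * w * (e' * e')⁻¹ = e' * (e' * w * e'⁻¹) * e'⁻¹ by group]
    exact hmv _ (hmv w (Subgroup.mem_sup_left hw))
  have hUeq : W ⊔ W2 = U := by
    refine Subgroup.eq_of_le_of_card_ge (sup_le le_sup_left h2U) ?_
    have h1 := PLocal.card_sup_mul_card_inf (hWn h.le t2.le)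
    rw [d2, Subgroup.card_bot, mul_one, h.card, t2.card] at h1
    have h2 := PLocal.card_sup_mul_card_inf (hWn h.le h'.le)
    rw [← hU, h.card, h'.card] at h2
    rw [h1]
    calc Nat.card U ≤ Nat.card U * Nat.card ↥(W ⊓ W') := Nat.le_mul_of_pos_right _ Nat.card_pos
      _ = 4 * 4 := h2
  have h32 : W3 ≤ W2 := by
    intro x hx
    obtain ⟨w2, hw2, w, hw, rfl⟩ := Coprime.exists_mul_of_mem_sup (hWn h.le t2.le)
      (show x ∈ W2 ⊔ W by rw [sup_comm, hUeq]; exact h3U hx)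
    have hx' := h.centralizes_of_disjoint t3.le n3 d3 hx
    have hw2' := h.centralizes_of_disjoint t2.le n2 d2 hw2
    have hc' : e * w = w * e := mul_left_cancel (a := w2) (by
      calc w2 * (e * w) = e * (w2 * w) := by rw [← mul_assoc, ← hw2', mul_assoc]
        _ = w2 * w * e := hx'
        _ = _ := mul_assoc _ _ _)
    rw [h.fpf w hw hc', mul_one]
    exact hw2
  have h32' : LocalEven.cj (e' * e') W = LocalEven.cj e' W :=
    Subgroup.eq_of_le_of_card_ge h32 (by rw [card_cj, card_cj])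
  rw [← cj_cj] at h32'
  exact hW2ne (Subgroup.map_injective (MulAut.conj e').injective h32')

end Typ

end Cfsg.Agent.LocalEven.JComp
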