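import Cfsg.Agent.LocalEven.JCompGlobal

/-! Uniqueness of the overgroups of the components in the non-global case. -/

set_option autoImplicit false
set_option linter.style.haveILetI false
set_option linter.unusedSectionVars false

open scoped commutatorElement

namespace Cfsg.Agent.LocalEven.JComp

open Cfsg

universe u

variable {G : Type u} [Group G] [Finite G]

theorem Ctx.of_stmt (hL : IsCharacteristicTwoType G)
    (hN : ∀ N : Subgroup G, IsTwoLocal N → Group.IsSolvable ↥N)
    (hZ : ∀ S : Sylow 2 G, Subgroup.centralizer (omegaCenterOf (S : Subgroup G) : Set G) ≤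
      Subgroup.normalizer ((S : Subgroup G) : Set G))
    (S : Sylow 2 G) {M T : Subgroup G}
    (hMJ : Subgroup.normalizer (JT (S : Subgroup G) : Set G) ≤ M)
    (hT : T ∈ maxStraddlingTwoSubgroups M) : Ctx M T :=
  ⟨hL, hN, hZ, ⟨S, hMJ⟩, hT⟩

namespace Ctx

variable {M T : Subgroup G}

/-- `T` is its own Thompson subgroup. -/
theorem J_eq (c : Ctx M T) (hB : ¬ Glob M T) : JT T = T := by
  obtain ⟨C, D, cd⟩ := (c.fam hB).core
  exact cd.J_eq

theorem outside_member (c : Ctx M T) (hB : ¬ Glob M T) {K : Subgroup G}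
    (hK : K ∈ jComponentsOutside M T) : Member T K :=
  c.mem0_member (c.small hB) (c.outside_mem hB hK)

/-- A member is the only component in an overgroup containing it. -/
theorem only_comp (c : Ctx M T) (hB : ¬ Glob M T) {K K' T₀ X : Subgroup G} (h : Mem0 M T K)
    (h' : JC (JT T) K') (hJ : JT T₀ = JT T) (o : Over T₀ X) (hKX : K ≤ X) (hKX' : K' ≤ X) :
    K' = K := by
  obtain ⟨-, h2⟩ := c.two hJ o h.1 hKX h' hKX'
  rcases h2 with e | m
  · exact e.symm
  have F := c.fam hB
  obtain ⟨z, hz, hzW, hz1, -⟩ := h.1.exists_z c.T_pGroup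
  have hzc : z ∈ Subgroup.centralizer (K' : Set G) := m.2.1 ⟨hz, hzW⟩
  obtain ⟨-, hall⟩ := F.uOver z hz hz1 K' (JT T) h'.gen h'.ne_bot le_rfl h'.comm
    (mem_singleton_centralizer hzc)
  have hP' := hall K' h' (mem_singleton_centralizer hzc)
  obtain ⟨C, D, cd⟩ := F.core
  by_contra hne
  have key : zJ T ⊓ wOf K = zJ T ⊓ wOf K' := by
    rcases cd.only _ (c.famP_self h) with e | e <;> rcases cd.only _ hP' with e' | e'
    · exact absurd (e'.trans e.symm) hne
    · rw [e, e']; exact cd.z_eq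
    · rw [e, e']; exact cd.z_eq.symm
    · exact absurd (e'.trans e.symm) hne
  exact hz1 (h'.eq_one_of_fixed (key.le ⟨hz, hzW⟩).2 hzc)

/-- An overgroup containing a member normalizes its plane. -/
theorem le_normW (c : Ctx M T) (hB : ¬ Glob M T) {K T₀ X : Subgroup G} (h : Mem0 M T K)
    (hJ : JT T₀ = JT T) (o : Over T₀ X) (hKX : K ≤ X) :
    X ≤ Subgroup.normalizer (wOf K : Set G) := by
  intro g hg
  obtain ⟨a, ha, n, hn, hnJ, rfl⟩ := o.exists_mul_normalizer_J hg
  refine Subgroup.mul_mem _ ((o.W_plane (hJ.symm ▸ h.1) hKX).norm ha) ?_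
  rw [hJ] at hnJ
  have h2 : JC (JT T) (LocalEven.cj n K) := by
    have := h.1.cj n
    rwa [cj_eq_self_iff.mpr hnJ] at this
  have h2X : LocalEven.cj n K ≤ X :=
    (cj_mono hKX).trans (cj_eq_self_iff.mpr (Subgroup.le_normalizer hn)).le
  exact normalizer_le_normalizer_wOf K (cj_eq_self_iff.mp (c.only_comp hB h h2 hJ o hKX h2X))

/-- 2-local overgroups of a member and `J`. -/
theorem local_le (c : Ctx M T) (hB : ¬ Glob M T) {K X : Subgroup G} (h : Mem0 M T K)
    (hX : IsTwoLocal X) (hKX : K ≤ X) (hJX : JT T ≤ X) : X ≤ Subgroup.normalizer (wOf K : Set G) := by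
  obtain ⟨T₀, hJ, o⟩ := c.overJ hX (h.2.2.imp (fun hK hle => hK (hKX.trans hle)) id) hJX
  exact c.le_normW hB h hJ o hKX

theorem maximal (c : Ctx M T) (hB : ¬ Glob M T) {K : Subgroup G} (h : Mem0 M T K) :
    IsMaximalTwoLocal (Subgroup.normalizer (wOf K : Set G)) :=
  ⟨normalizer_isTwoLocal h.1, fun _ hN hle => le_antisymm
    (c.local_le hB h hN (JC.K_normalizes_W.trans hle)
      (((JT_le T).trans (c.mem0_member (c.small hB) h).ovW.sylT.1).trans hle)) hle⟩

theorem eq_max (c : Ctx M T) (hB : ¬ Glob M T) {K L : Subgroup G} (h : Mem0 M T K)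
    (hL : IsMaximalTwoLocal L) (hKL : K ≤ L) (hJL : JT T ≤ L) :
    L = Subgroup.normalizer (wOf K : Set G) :=
  (hL.2 _ (normalizer_isTwoLocal h.1) (c.local_le hB h hL.1 hKL hJL)).symm

end Ctx

end Cfsg.Agent.LocalEven.JComp
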