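import Cfsg.Agent.LocalEven.JCompFam

/-! The graph of distinguished overgroups. -/

set_option autoImplicit false
set_option linter.style.haveILetI false
set_option linter.unusedSectionVars false

open scoped commutatorElement

namespace Cfsg.Agent.LocalEven.JComp

open Cfsg

universe u

variable {G : Type u} [Group G] [Finite G]

theorem Member.z_conj {U C : Subgroup G} (m : Member U C) {l z : G} (hl : l ∈ lK U C) (hz : z ∈ zJ U)
    (hzW : z ∈ wOf C) : l * z * l⁻¹ ∈ zJ (LocalEven.cj l U) ∧ l * z * l⁻¹ ∈ wOf C :=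
  ⟨by rw [← cj_zJ]; exact ⟨z, hz, rfl⟩, (Subgroup.mem_normalizer_iff.mp hl.1 z).mp hzW⟩

theorem Member.eq_z {U C : Subgroup G} (m : Member U C) {y : G} (hyW : y ∈ wOf C)
    (hyU : y ∈ Subgroup.centralizer (U : Set G)) : y ∈ zJ U := by
  obtain ⟨a, ha, haQ⟩ := m.exists_moving
  exact m.fixed_mem (JT_le U ha) haQ (m.W_le_Y hyW) (Subgroup.mem_centralizer_iff.mp hyU a (JT_le U ha))

/-- A conjugate under the overgroup. -/
theorem Member.cj_lK_eq {U C : Subgroup G} (m : Member U C) {x : G} (hx : x ∈ lK U C) :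
    LocalEven.cj x C = C ∧ lK (LocalEven.cj x U) C = lK U C := by
  have h1 : LocalEven.cj x C = C := cj_eq_self_iff.mpr (m.lK_norm hx)
  refine ⟨h1, ?_⟩
  conv_lhs => rw [← h1, ← cj_lK]
  exact cj_eq_self_iff.mpr (Subgroup.le_normalizer hx)

/-- Two ends of one vertex have only the trivial common fixed point in `W`. -/
theorem Member.two_ends {U U' C : Subgroup G} (m : Member U C) (m' : Member U' C)
    (e : lK U C = lK U' C) (hne : U ≠ U') {y : G} (hyW : y ∈ wOf C)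
    (hy : y ∈ Subgroup.centralizer (U : Set G)) (hy' : y ∈ Subgroup.centralizer (U' : Set G)) : y = 1 := by
  by_contra hy1
  obtain ⟨l, hl, hle⟩ := IsSylowTwoIn.exists_conj_le m.overL.sylT m'.hT (e ▸ m'.T_le)
  obtain ⟨l', hl', hle'⟩ := IsSylowTwoIn.exists_conj_le m'.overL.sylT m.hT (e ▸ m.T_le)
  have hU' : U' = LocalEven.cj l U := Subgroup.eq_of_le_of_card_ge hle (by
    rw [card_cj]; exact (Subgroup.card_le_of_le hle').trans (card_cj _ _).le)
  obtain ⟨z, hz, hzW, hz1, huniq⟩ := m.jc.exists_z m.hT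
  obtain ⟨z', -, -, -, huniq'⟩ := m'.jc.exists_z m'.hT
  have h1 := (huniq y (m.eq_z hyW hy) hyW).resolve_left hy1
  have h2 := (huniq' y (m'.eq_z hyW hy') hyW).resolve_left hy1
  obtain ⟨h3, h4⟩ := m.z_conj hl hz hzW
  rw [← hU'] at h3
  have h5 := (huniq' _ h3 h4).resolve_left (fun e => hz1 (conj_eq_one_iff.mp e))
  rw [← h2, h1] at h5
  exact hne (hU' ▸ (cj_eq_self_iff.mpr (m.normalizes_of_fix hl hz hzW hz1
    (mul_inv_eq_iff_eq_mul.mp h5))).symm)

/-- Two ends of one vertex meet in `O₂`. -/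
theorem Member.ends_inter {U U' C : Subgroup G} (m : Member U C) (m' : Member U' C)
    (e : lK U C = lK U' C) (hne : U ≠ U') {x : G} (hx : x ∈ U) (hx' : x ∈ U') :
    x ∈ pCoreOf 2 (lK U C) := by
  obtain ⟨z, hz, hzW, hz1, -⟩ := m.jc.exists_z m.hT
  obtain ⟨z', hz', hzW', hz1', -⟩ := m'.jc.exists_z m'.hT
  have hzU : z ∈ Subgroup.centralizer (U : Set G) := Subgroup.le_centralizer_iff.mp m.T_cent_zJ hz
  have hzU' : z' ∈ Subgroup.centralizer (U' : Set G) := Subgroup.le_centralizer_iff.mp m'.T_cent_zJ hz'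
  have hzz : z ≠ z' := fun h => hz1 (m.two_ends m' e hne hzW hzU (h ▸ hzU'))
  exact m.mem_Q hx (centralizes_of_two_fixed m.jc.card4 JC.W_EA hzW hzW' hz1 hz1' hzz
    (Subgroup.mem_centralizer_iff.mp hzU x hx) (Subgroup.mem_centralizer_iff.mp hzU' x hx'))

/-- An element of the component moves the end. -/
theorem Member.moves_end {U C : Subgroup G} (m : Member U C) {d : G} (hd : d ∈ C)
    (hdR : d ∉ pCoreOf 2 C) : LocalEven.cj d U ≠ U := by
  intro e
  obtain ⟨z, hz, hzW, hz1, huniq⟩ := m.jc.exists_z m.hT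
  obtain ⟨h3, h4⟩ := m.z_conj (m.K_le hd) hz hzW
  rw [e] at h3
  exact hz1 (m.jc.fpf hd hdR hzW (mul_inv_eq_iff_eq_mul.mp
    ((huniq _ h3 h4).resolve_left fun e => hz1 (conj_eq_one_iff.mp e))))

namespace Fam

variable {T : Subgroup G} {P : Subgroup G → Subgroup G → Prop}

theorem card_eq (F : Fam T P) {U U' C C' : Subgroup G} (h : P U C) (h' : P U' C') :
    Nat.card U = Nat.card U' := by
  obtain ⟨g, rfl⟩ := F.base h
  obtain ⟨g', rfl⟩ := F.base h'
  rw [card_cj, card_cj]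

theorem comp_eq (F : Fam T P) {U U' C C' : Subgroup G} (h : P U C) (h' : P U' C')
    (e : lK U C = lK U' C') : C = C' := by
  have m := F.mem h
  have m' := F.mem h'
  obtain ⟨l, hl, hle⟩ := IsSylowTwoIn.exists_conj_le m.overL.sylT m'.hT (e ▸ m'.T_le)
  have hU' : U' = LocalEven.cj l U :=
    Subgroup.eq_of_le_of_card_ge hle (by rw [card_cj, F.card_eq h h'])
  have h1 := F.conj l⁻¹ h'
  rw [hU', cj_cj, inv_mul_cancel, cj_one] at h1
  have hle' : LocalEven.cj l⁻¹ C' ≤ lK U C :=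
    (cj_mono (e ▸ m'.K_le)).trans (cj_eq_self_iff.mpr (Subgroup.le_normalizer ((lK U C).inv_mem hl))).le
  have h2 := m.uniq (F.mem h1).jc hle'
  have h3 := congrArg (LocalEven.cj l) h2
  rw [cj_cj, mul_inv_cancel, cj_one, (m.cj_lK_eq hl).1] at h3
  exact h3.symm

theorem end_conj (F : Fam T P) {U C : Subgroup G} (h : P U C) {x : G} (hx : x ∈ lK U C) :
    P (LocalEven.cj x U) C ∧ lK (LocalEven.cj x U) C = lK U C := by
  obtain ⟨e1, e2⟩ := (F.mem h).cj_lK_eq hx
  have := F.conj x h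
  rw [e1] at this
  exact ⟨this, e2⟩

/-- A member centralizing `r` is attached at every end where `r` is central. -/
theorem fix_vertex (F : Fam T P) {U U' C C' : Subgroup G} (h : P U C) (h' : P U' C') {r : G}
    (hr1 : r ≠ 1) (hr : r ∈ hK U C) (hr' : r ∈ zJ U') :
    P U' C ∧ lK U' C = lK U C := by
  have Fu := F.at_of h
  have m := F.mem h
  have m' := F.mem h'
  have hCr : C ≤ Subgroup.centralizer ({r} : Set G) := fun d hd =>
    Subgroup.mem_centralizer_singleton_iff.mpr (Subgroup.mem_centralizer_iff.mp hr.2 d hd)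
  obtain ⟨o, hall⟩ := Fu.uOver r hr.1 hr1 C (JT U) m.jc.gen
    (fun e => m.jc.K_not_pGroup (e ▸ IsPGroup.of_bot)) le_rfl m.jc.comm hCr
  have hU'X : U' ≤ Subgroup.centralizer ({r} : Set G) := fun x hx =>
    Subgroup.mem_centralizer_singleton_iff.mpr
      (Subgroup.mem_centralizer_iff.mp (m'.T_cent_zJ hx) r hr').symm
  obtain ⟨x, hx, hle⟩ := IsSylowTwoIn.exists_conj_le o.sylT m'.hT hU'X
  have hU' : U' = LocalEven.cj x U :=
    Subgroup.eq_of_le_of_card_ge hle (by rw [card_cj, F.card_eq h h'])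
  obtain ⟨a, ha, n, hn, hnJ, he⟩ := o.exists_mul_normalizer_J hx
  have haW : a ∈ Subgroup.normalizer (wOf C : Set G) := (o.W_plane m.jc hCr).norm ha
  have hnC : LocalEven.cj n C = C := by
    have h1 := m.jc.cj n
    rw [cj_eq_self_iff.mpr hnJ] at h1
    have h2 : LocalEven.cj n C ≤ Subgroup.centralizer ({r} : Set G) :=
      (cj_mono hCr).trans (cj_eq_self_iff.mpr (Subgroup.le_normalizer hn)).le
    exact Fu.uniq (hall _ h1 h2) h hr1 ⟨hr.1, Subgroup.mem_centralizer_iff.mpr fun d hd =>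
      Subgroup.mem_centralizer_singleton_iff.mp (h2 hd)⟩ hr
  have hxC : LocalEven.cj x C = C := by
    rw [he, ← cj_cj, hnC, cj_eq_self_iff.mpr (m.norm_eq haW)]
  have hP : P U' C := by
    have := F.conj x h
    rwa [hxC, ← hU'] at this
  refine ⟨hP, ?_⟩
  have hxH : LocalEven.cj x (hK U C) = hK U' C := by rw [cj_hK, hxC, ← hU']
  have hsame : hK U' C = hK U C := by
    have hr2 : r ∈ hK U' C := ⟨hr', hr.2⟩
    have m2 := F.mem hP
    ext y
    constructor
    · intro hy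
      by_cases hy1 : y = 1
      · rw [hy1]; exact one_mem _
      rw [eq_of_card_le_two (m2.jc.card_hK_le m2.hT m2.small) hy hr2 hy1 hr1]; exact hr
    · intro hy
      by_cases hy1 : y = 1
      · rw [hy1]; exact one_mem _
      rw [eq_of_card_le_two (m.jc.card_hK_le m.hT m.small) hy hr hy1 hr1]; exact hr2
  show Subgroup.normalizer (wOf C : Set G) ⊓ Subgroup.centralizer (hK U' C : Set G) = _
  rw [hsame]

end Fam

/-- Two distinct distinguished overgroups sharing a Sylow subgroup. -/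
def Ad (P : Subgroup G → Subgroup G → Prop) (A B : Subgroup G) : Prop :=
  A ≠ B ∧ ∃ U C D, P U C ∧ P U D ∧ A = lK U C ∧ B = lK U D

/-- Walks of a given length. -/
def Dist (P : Subgroup G → Subgroup G → Prop) : ℕ → Subgroup G → Subgroup G → Prop
  | 0, A, B => A = B
  | n + 1, A, B => ∃ C, Ad P A C ∧ Dist P n C B

variable {P : Subgroup G → Subgroup G → Prop}

theorem Ad.symm {A B : Subgroup G} (h : Ad P A B) : Ad P B A := by
  obtain ⟨hne, U, C, D, hC, hD, eA, eB⟩ := h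
  exact ⟨hne.symm, U, D, C, hD, hC, eB, eA⟩

theorem Dist.trans : ∀ {n m : ℕ} {A B C : Subgroup G}, Dist P n A B → Dist P m B C → Dist P (n + m) A C
  | 0, m, A, B, C, h, h' => by rw [Nat.zero_add]; exact (show A = B from h) ▸ h'
  | n + 1, m, A, B, C, h, h' => by
    obtain ⟨X, hX, h⟩ := h
    rw [show n + 1 + m = (n + m) + 1 by omega]
    exact ⟨X, hX, Dist.trans h h'⟩

theorem Dist.one {A B : Subgroup G} (h : Ad P A B) : Dist P 1 A B := ⟨B, h, rfl⟩

theorem Dist.symm : ∀ {n : ℕ} {A B : Subgroup G}, Dist P n A B → Dist P n B A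
  | 0, A, B, h => Eq.symm h
  | n + 1, A, B, h => by
    obtain ⟨X, hX, h⟩ := h
    exact Dist.trans (Dist.symm h) (Dist.one hX.symm)

theorem Dist.split_last {n : ℕ} {A B : Subgroup G} (h : Dist P (n + 1) A B) :
    ∃ C, Dist P n A C ∧ Ad P C B := by
  obtain ⟨X, hX, h'⟩ := h.symm
  exact ⟨X, h'.symm, hX.symm⟩

namespace Fam

variable {T : Subgroup G}

theorem dist_cj (F : Fam T P) (g : G) : ∀ {n : ℕ} {A B : Subgroup G}, Dist P n A B →
    Dist P n (LocalEven.cj g A) (LocalEven.cj g B)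
  | 0, A, B, h => congrArg (LocalEven.cj g) h
  | n + 1, A, B, h => by
    obtain ⟨X, ⟨hne, U, C, D, hC, hD, eA, eB⟩, h⟩ := h
    refine ⟨LocalEven.cj g X, ⟨fun e => hne ?_, _, _, _, F.conj g hC, F.conj g hD, ?_, ?_⟩, dist_cj F g h⟩
    · have := congrArg (LocalEven.cj g⁻¹) e
      rwa [cj_cj, cj_cj, inv_mul_cancel, cj_one, cj_one] at this
    · rw [eA, cj_lK]
    · rw [eB, cj_lK]

theorem adj (F : Fam T P) {U C D : Subgroup G} (hC : P U C) (hD : P U D) (hne : C ≠ D) :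
    Ad P (lK U C) (lK U D) :=
  ⟨fun e => hne (F.comp_eq hC hD e), U, C, D, hC, hD, rfl, rfl⟩

/-- Some `Y` is not in some `O₂`. -/
theorem exists_critical (F : Fam T P) :
    ∃ n A B, Dist P n A B ∧ ¬ yOf A ≤ pCoreOf 2 B := by
  by_contra hcon
  push Not at hcon
  obtain ⟨K₁, K₂, h1, h2, hn⟩ := F.pair
  have m1 := F.mem h1
  have m2 := F.mem h2
  set R := {A | ∃ n, Dist P n (lK T K₁) A}
  set V := sSup (yOf '' R) with hV
  have h0 : lK T K₁ ∈ R := ⟨0, rfl⟩
  have hVQ : V ≤ pCoreOf 2 (lK T K₁) := sSup_le (by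
    rintro _ ⟨A, ⟨n, hA⟩, rfl⟩
    exact hcon n A _ hA.symm)
  have hnorm : ∀ g, (∀ A ∈ R, LocalEven.cj g A ∈ R) → g ∈ Subgroup.normalizer (V : Set G) := by
    intro g hg
    rw [← cj_eq_self_iff]
    refine Subgroup.eq_of_le_of_card_ge ?_ (card_cj g V).ge
    rw [LocalEven.cj, Subgroup.map_le_iff_le_comap]
    refine sSup_le ?_
    rintro _ ⟨A, hA, rfl⟩
    rw [← Subgroup.map_le_iff_le_comap]
    show LocalEven.cj g (yOf A) ≤ V
    rw [cj_omegaCenter, cj_core]
    exact le_sSup ⟨_, hg A hA, rfl⟩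
  have hL1 : lK T K₁ ≤ Subgroup.normalizer (V : Set G) := fun g hg => hnorm g fun A ⟨n, hA⟩ => by
    refine ⟨n, ?_⟩
    have := F.dist_cj g hA
    rwa [cj_eq_self_iff.mpr (Subgroup.le_normalizer hg)] at this
  have hL2 : lK T K₂ ≤ Subgroup.normalizer (V : Set G) := fun g hg => hnorm g fun A ⟨n, hA⟩ => by
    have a1 := F.adj h1 h2 (hn.ne m1)
    have e : LocalEven.cj g (lK T K₂) = lK T K₂ := cj_eq_self_iff.mpr (Subgroup.le_normalizer hg)
    have h' := F.dist_cj g (Dist.one a1.symm)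
    rw [e] at h'
    exact ⟨_, (Dist.one a1).trans (h'.trans (F.dist_cj g hA))⟩
  refine hn V ((isPGroup_op _).to_le hVQ) (fun e => m1.jc.W_ne_bot (le_bot_iff.mp ?_))
    (m1.T_le.trans hL1) (m1.K_le.trans hL1) (m2.K_le.trans hL2)
  rw [← e]
  exact m1.W_le_Y.trans (le_sSup ⟨_, h0, rfl⟩)

end Fam

end Cfsg.Agent.LocalEven.JComp
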