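import Cfsg.Agent.LocalEven.Conj
import Cfsg.Prelude.Def_LocalStructure

set_option autoImplicit false

namespace Cfsg.Agent.LocalEven

variable {G : Type*} [Group G] [Finite G]

theorem exists_coatom_ge {X : Subgroup G} (hX : X ≠ ⊤) : ∃ M : Subgroup G, IsCoatom M ∧ X ≤ M := by
  obtain ⟨M, ⟨hXM, hM⟩, hmax⟩ := (Set.toFinite {M : Subgroup G | X ≤ M ∧ M ≠ ⊤}).exists_maximalFor id _
    ⟨X, le_rfl, hX⟩
  refine ⟨M, ⟨hM, fun N hN => by_contra fun h => hN.not_ge (hmax (j := N) ⟨hXM.trans hN.le, h⟩ hN.le)⟩, hXM⟩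

theorem isMinimalOver_le {Y X M : Subgroup G} (h : Cfsg.IsMinimalOver Y) (hM : IsCoatom M)
    (hYM : Y ≤ M) (hYX : Y ≤ X) (hX : X ≠ ⊤) : X ≤ M := by
  obtain ⟨N, hN, hXN⟩ := exists_coatom_ge hX
  obtain ⟨M', -, hu⟩ := h.2
  rw [hu M ⟨hM, hYM⟩, ← hu N ⟨hN, hYX.trans hXN⟩]
  exact hXN

omit [Finite G] in
theorem isMinimalOver_not_normal {Y M : Subgroup G} (h : Cfsg.IsMinimalOver Y) (hM : IsCoatom M)
    (hYM : Y ≤ M) : ¬ M.Normal := fun hn => by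
  haveI := hn
  exact hM.1 (top_le_iff.mp (h.1 ▸ Subgroup.normalClosure_le_normal hYM))

theorem normalizer_coatom {Y M : Subgroup G} (h : Cfsg.IsMinimalOver Y) (hM : IsCoatom M)
    (hYM : Y ≤ M) : Subgroup.normalizer (M : Set G) = M := by
  rcases (Subgroup.le_normalizer (H := M)).lt_or_eq with h1 | h1
  · exact absurd (Subgroup.normalizer_eq_top_iff.mp (hM.2 _ h1)) (isMinimalOver_not_normal h hM hYM)
  · exact h1.symm

end Cfsg.Agent.LocalEven
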