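import Cfsg.Agent.LocalEven.PClosed
import Mathlib.GroupTheory.Sylow

/-! Groups whose `p`-residual lies in the product of an orbit of subgroups, each normalized by the product modulo
the `p`-core: minimality over a Sylow subgroup and `p`-irreducibility. -/

set_option autoImplicit false
set_option linter.style.haveILetI false

namespace Cfsg.Agent.LocalEven.OrbitIrr

open Subgroup

variable {H : Type*} [Group H] [Finite H] {p : ℕ} [hp : Fact p.Prime]

/-- Every element is a product of a `p`-element and an element of order prime to `p` in its cyclic group. -/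
theorem mem_of_pParts {C : Subgroup H} {a : H}
    (h1 : ∀ b ∈ zpowers a, (∃ k, orderOf b = p ^ k) → b ∈ C)
    (h2 : ∀ b ∈ zpowers a, (orderOf b).Coprime p → b ∈ C) : a ∈ C := by
  set n := orderOf a with hn
  have hn0 : n ≠ 0 := (orderOf_pos a).ne'
  set u := p ^ n.factorization p with hu
  set v := n / u with hv
  have huv : u * v = n := Nat.mul_div_cancel' (Nat.ordProj_dvd n p)
  have hvp : Nat.Coprime v p := (Nat.coprime_ordCompl hp.out hn0).symm
  have hupos : 0 < u := pow_pos hp.out.pos _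
  have hvpos : 0 < v := Nat.pos_of_ne_zero fun h => hn0 (by rw [← huv, h, mul_zero])
  have hou : orderOf (a ^ u) = v := by
    rw [orderOf_pow_of_dvd hupos.ne' ⟨v, huv.symm⟩, ← hn, ← huv, Nat.mul_div_cancel_left _ hupos]
  have hov : orderOf (a ^ v) = u := by
    rw [orderOf_pow_of_dvd hvpos.ne' ⟨u, by rw [mul_comm, huv]⟩, ← hn, ← huv, Nat.mul_div_cancel _ hvpos]
  have hco : IsCoprime (u : ℤ) (v : ℤ) := Nat.Coprime.cast (hvp.symm.pow_left _)
  obtain ⟨i, j, hij⟩ := hco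
  have : a = (a ^ u) ^ i * (a ^ v) ^ j := by
    rw [← zpow_natCast, ← zpow_mul, ← zpow_natCast, ← zpow_mul, ← zpow_add,
      show (u : ℤ) * i + (v : ℤ) * j = 1 by linarith, zpow_one]
  rw [this]
  exact C.mul_mem (C.zpow_mem (h2 _ (pow_mem (mem_zpowers a) u) (hou ▸ hvp)) i)
    (C.zpow_mem (h1 _ (pow_mem (mem_zpowers a) v) ⟨_, hov⟩) j)

/-- A subgroup without non-trivial subnormal `p`-subgroup, every subgroup of which normalized by it is central or contains
all elements of order prime to `p`, centralizes what it moves only into central `p'`-elements. -/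
theorem centralize_of_central {E : Subgroup H} (Y : Set H)
    (hirr : ∀ L : Subgroup H, L ≤ E → E ≤ normalizer (L : Set H) →
      (∀ l ∈ L, ∀ e ∈ E, e * l = l * e) ∨ ∀ e ∈ E, (orderOf e).Coprime p → e ∈ L)
    (hp0 : ∀ e ∈ E, (∃ k, orderOf e = p ^ k) → (∀ f ∈ E, f * e = e * f) → e = 1)
    (hcl : ∃ e ∈ E, (∃ k, orderOf e = p ^ k) ∧ e ≠ 1)
    (Z : Subgroup H) (hZE : ∀ z ∈ Z, ∀ e ∈ E, e * z = z * e)
    (hZp : ∀ z ∈ Z, (∃ k, orderOf z = p ^ k) → z = 1)
    (hc : ∀ y ∈ Y, ∀ e ∈ E, y * e * y⁻¹ * e⁻¹ ∈ Z) :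
    ∀ y ∈ Y, ∀ e ∈ E, y * e = e * y := by
  set C := E ⊓ centralizer Y with hC
  have hz : ∀ y ∈ Y, ∀ e ∈ E, ∃ z ∈ Z, y * e * y⁻¹ = z * e := fun y hy e he =>
    ⟨_, hc y hy e he, (inv_mul_cancel_right _ _).symm⟩
  have hnorm : E ≤ normalizer (C : Set H) := by
    intro f hf
    refine mem_normalizer_fintype fun c hcC => ?_
    obtain ⟨hcE, hcY⟩ := mem_inf.mp hcC
    refine mem_inf.mpr ⟨E.mul_mem (E.mul_mem hf hcE) (E.inv_mem hf), mem_centralizer_iff.mpr fun y hy => ?_⟩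
    obtain ⟨z, hzZ, hze⟩ := hz y hy f hf
    have hyc : y * c * y⁻¹ = c := by rw [mem_centralizer_iff.mp hcY y hy, mul_inv_cancel_right]
    have hfc : f * c * f⁻¹ ∈ E := E.mul_mem (E.mul_mem hf hcE) (E.inv_mem hf)
    have h1 : y * (f * c * f⁻¹) * y⁻¹ = f * c * f⁻¹ := by
      calc y * (f * c * f⁻¹) * y⁻¹ = (y * f * y⁻¹) * (y * c * y⁻¹) * (y * f * y⁻¹)⁻¹ := by group
        _ = z * (f * c * f⁻¹) * z⁻¹ := by rw [hze, hyc]; group
        _ = _ := by rw [← hZE z hzZ _ hfc, mul_inv_cancel_right]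
    exact mul_inv_eq_iff_eq_mul.mp h1
  have hpel : ∀ e ∈ E, (∃ k, orderOf e = p ^ k) → e ∈ C := by
    rintro e he ⟨k, hk⟩
    refine mem_inf.mpr ⟨he, mem_centralizer_iff.mpr fun y hy => ?_⟩
    obtain ⟨z, hzZ, hze⟩ := hz y hy e he
    have hcom : Commute z e := (hZE z hzZ e he).symm
    have hpk : e ^ p ^ k = 1 := by rw [← hk, pow_orderOf_eq_one]
    have h2 : z ^ p ^ k = 1 := by
      have h3 : (z * e) ^ p ^ k = 1 := by rw [← hze, conj_pow, hpk, mul_one, mul_inv_cancel]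
      rwa [hcom.mul_pow, hpk, mul_one] at h3
    obtain ⟨j, -, hj⟩ := (Nat.dvd_prime_pow hp.out).mp (orderOf_dvd_of_pow_eq_one h2)
    rw [hZp z hzZ ⟨j, hj⟩, one_mul] at hze
    exact mul_inv_eq_iff_eq_mul.mp hze
  rcases hirr C inf_le_left hnorm with h | h
  · obtain ⟨e, he, hek, he1⟩ := hcl
    exact absurd (hp0 e he hek fun f hf => h e (hpel e he hek) f hf) he1
  · intro y hy e he
    refine mem_centralizer_iff.mp (mem_inf.mp (mem_of_pParts (p := p) (C := C) (a := e) ?_ ?_)).2 y hy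
    · exact fun b hb hbk => hpel b (zpowers_le.mpr he hb) hbk
    · exact fun b hb hbp => h b (zpowers_le.mpr he hb) hbp

/-- Sylow intersections with subgroups normalized by an ambient one. -/
theorem sylow_inf_spec (M U : Subgroup H)
    (hU : ∀ R : Subgroup H, R ≤ M → IsPGroup p R → ∃ m ∈ M, ∀ r ∈ R, m * r * m⁻¹ ∈ U)
    (hUp : IsPGroup p U) {X : Subgroup H} (hXM : X ≤ M) (hMX : M ≤ normalizer (X : Set H)) :
    ∀ R : Subgroup H, R ≤ X → IsPGroup p R → ∃ m ∈ X, ∀ r ∈ R, m * r * m⁻¹ ∈ U ⊓ X := by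
  obtain ⟨P, hP⟩ := ((hUp.to_le (inf_le_left : U ⊓ X ≤ U)).comap_subtype (K := X)).exists_le_sylow
  have hPim : (P : Subgroup X).map X.subtype = U ⊓ X := by
    refine (Subgroup.eq_of_le_of_card_ge ?_ ?_).symm
    · intro a ha
      exact ⟨⟨a, (mem_inf.mp ha).2⟩, hP (show (⟨a, (mem_inf.mp ha).2⟩ : X) ∈ (U ⊓ X).subgroupOf X from ha), rfl⟩
    · obtain ⟨m, hm, hmU⟩ := hU _ ((map_subtype_le _).trans hXM) (P.2.map _)
      have hinj : Function.Injective (MulAut.conj m).toMonoidHom := (MulAut.conj m).injective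
      rw [← Subgroup.card_map_of_injective (K := (P : Subgroup X).map X.subtype) hinj]
      refine Subgroup.card_le_of_le ?_
      rintro _ ⟨a, ha, rfl⟩
      exact ⟨hmU a ha, (mem_normalizer_iff.mp (hMX hm) a).mp (map_subtype_le _ ha)⟩
  intro R hRX hR
  obtain ⟨Q, hQ⟩ := (hR.comap_subtype (K := X)).exists_le_sylow
  obtain ⟨m, hm⟩ := MulAction.exists_smul_eq X Q P
  refine ⟨m, m.2, fun r hr => hPim ▸ ⟨m * ⟨r, hRX hr⟩ * m⁻¹, ?_, rfl⟩⟩
  show _ ∈ (P : Subgroup X)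
  rw [← hm, Sylow.coe_subgroup_smul]
  exact ⟨⟨r, hRX hr⟩, hQ (show (⟨r, hRX hr⟩ : X) ∈ R.subgroupOf X from hr), rfl⟩

end Cfsg.Agent.LocalEven.OrbitIrr
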