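import Cfsg.Agent.LocalEven.PMinimalBasic
import Cfsg.Agent.LocalEven.SubnormalSylow
import Cfsg.Agent.Components.FStar
import Cfsg.Agent.Coprime.Action

/-! `p`-minimal groups with trivial `O_p` and a component. -/

set_option autoImplicit false
set_option linter.style.haveILetI false

namespace Cfsg.Agent.LocalEven

variable {G : Type*} [Group G] [Finite G] {p : ℕ} [hp : Fact p.Prime]

omit hp in
theorem isPMinimal_of_one [Fact p.Prime] {X : Type*} [Group X] [Finite X] (S₀ : Sylow p X)
    (hn : ¬ (S₀ : Subgroup X).Normal)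
    (hu : ∃! M : Subgroup X, IsCoatom M ∧ (S₀ : Subgroup X) ≤ M) : Cfsg.IsPMinimal p X := by
  intro S
  obtain ⟨g, rfl⟩ := MulAction.exists_smul_eq X S₀ S
  have hcoe : ((g • S₀ : Sylow p X) : Subgroup X) = cj g (S₀ : Subgroup X) := rfl
  rw [hcoe]
  refine ⟨fun h => hn ?_, ?_⟩
  · haveI := h
    have h1 := Subgroup.Normal.map h (MulAut.conj g⁻¹).toMonoidHom (MulAut.conj g⁻¹).surjective
    have h2 : cj g⁻¹ (cj g (S₀ : Subgroup X)) = S₀ := by rw [cj_cj, inv_mul_cancel, cj_one]
    exact h2 ▸ h1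
  · obtain ⟨M, ⟨hM, hle⟩, huniq⟩ := hu
    refine ⟨cj g M, ⟨?_, cj_mono hle⟩, ?_⟩
    · exact (MulAut.conj g).mapSubgroup.isCoatom_iff M |>.mpr hM
    · rintro N ⟨hN, hNle⟩
      have h3 : IsCoatom (cj g⁻¹ N) := (MulAut.conj g⁻¹).mapSubgroup.isCoatom_iff N |>.mpr hN
      have h4 := cj_mono (g := g⁻¹) hNle
      rw [cj_cj, inv_mul_cancel, cj_one] at h4
      rw [← huniq _ ⟨h3, h4⟩, cj_cj, mul_inv_cancel, cj_one]

/-- A perfect subgroup lies in `O^p`. -/
theorem perfect_le_pResidual {K : Subgroup G} (hK : ⁅K, K⁆ = K) : K ≤ Cfsg.pResidual p G := by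
  haveI : (Cfsg.pResidual p G).Normal := Core.pResidual_normal p G
  haveI : Group.IsNilpotent (G ⧸ Cfsg.pResidual p G) :=
    IsPGroup.isNilpotent (Core.isPGroup_quotient_pResidual p G)
  set π := QuotientGroup.mk' (Cfsg.pResidual p G)
  have h := Components.perfect_eq_bot_of_le_solvable (K := K.map π) (S := ⊤)
    (by rw [← Subgroup.map_commutator, hK]) le_top inferInstance
  intro x hx
  exact (QuotientGroup.eq_one_iff x).mp (Subgroup.mem_bot.mp (h ▸ ⟨x, hx, rfl⟩ : π x ∈ (⊥ : Subgroup _)))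

/-- A normal nilpotent subgroup lies in `M`. -/
theorem pmin_nilpotent_le (hP : Cfsg.IsPMinimal p G) (S : Sylow p G) {M : Subgroup G}
    (hM : IsCoatom M) (hSM : (S : Subgroup G) ≤ M) {K : Subgroup G} (hK : Cfsg.IsComponent K)
    {N : Subgroup G} (hN : N.Normal) (hNs : Group.IsSolvable ↥N) : N ≤ M := by
  rcases pmin_normal_cases hP S hM hSM N hN with h | h
  · exfalso
    refine Components.component_not_le_solvable hK hNs (le_trans ?_ h)
    exact perfect_le_pResidual (p := p) (Components.component_commutator_self hK)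
  · exact h.trans M.normalCore_le

/-- A normal `p'`-subgroup lies in `M`, and it is nilpotent. -/
theorem pmin_pprime_le (hP : Cfsg.IsPMinimal p G) (S : Sylow p G) {M : Subgroup G}
    (hM : IsCoatom M) (hSM : (S : Subgroup G) ≤ M) {K : Subgroup G} (hK : Cfsg.IsComponent K)
    {N : Subgroup G} (hN : N.Normal) (hcop : (Nat.card N).Coprime p) :
    N ≤ M ∧ N ≤ Cfsg.fittingSubgroup G := by
  haveI := hN
  haveI : Group.IsNilpotent ↥(S : Subgroup G) := IsPGroup.isNilpotent S.isPGroup'
  have hcop' : (Nat.card (S : Subgroup G)).Coprime (Nat.card N) := by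
    obtain ⟨k, hk⟩ := IsPGroup.iff_card.mp S.isPGroup'
    rw [hk]; exact hcop.symm.pow_left k
  have key : ∀ r : ℕ, r.Prime → ∃ R : Subgroup G, R ≤ N ∧ IsPGroup r R ∧ ¬ r ∣ R.relIndex N ∧
      R ≤ M ∧ (N ≤ M → R.Normal) := by
    intro r hr
    haveI := Fact.mk hr
    obtain ⟨R, hRN, hR, hRi, hRS⟩ := Coprime.exists_invariant_sylow (A := (S : Subgroup G)) (N := N)
      (le_top.trans (Subgroup.normalizer_eq_top_iff.mpr hN).ge) hcop' r
    have hmax : (R.subgroupOf N).index = R.relIndex N := rfl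
    set R' : Sylow r N := (hR.of_equiv (Subgroup.subgroupOfEquivOfLe hRN).symm).toSylow
      (by rw [hmax]; exact hRi)
    have hFr := Sylow.normalizer_sup_eq_top (N := N) R'
    have hmapR : (R' : Subgroup N).map N.subtype = R := by
      show (R.subgroupOf N).map N.subtype = R
      rw [Subgroup.subgroupOf_map_subtype, inf_of_le_left hRN]
    rw [hmapR] at hFr
    by_cases htop : Subgroup.normalizer (R : Set G) = ⊤
    · haveI hRn : R.Normal := Subgroup.normalizer_eq_top_iff.mp htop
      haveI : Group.IsNilpotent ↥R := IsPGroup.isNilpotent hR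
      exact ⟨R, hRN, hR, hRi, pmin_nilpotent_le hP S hM hSM hK hRn IsNilpotent.to_isSolvable,
        fun _ => hRn⟩
    · have hle := pmin_le hP S hM hSM hRS htop
      exact ⟨R, hRN, hR, hRi, Subgroup.le_normalizer.trans hle,
        fun hNM => absurd (top_le_iff.mp (hFr.ge.trans (sup_le hle hNM))) hM.1⟩
  have hle : ∀ X : Subgroup G, (∀ r : ℕ, r.Prime → ∃ R : Subgroup G, R ≤ N ∧ R ≤ X ∧
      ¬ r ∣ R.relIndex N) → N ≤ X := by
    intro X hX
    by_contra h
    have h1 : X.relIndex N ≠ 1 := fun e => h (Subgroup.relIndex_eq_one.mp e)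
    obtain ⟨r, hr, hrd⟩ := Nat.exists_prime_and_dvd h1
    obtain ⟨R, -, hRX, hRi⟩ := hX r hr
    exact hRi (hrd.trans (Subgroup.relIndex_dvd_of_le_left N hRX))
  have hNM : N ≤ M := hle M fun r hr => by
    obtain ⟨R, h1, -, h3, h4, -⟩ := key r hr
    exact ⟨R, h1, h4, h3⟩
  refine ⟨hNM, hle _ fun r hr => ?_⟩
  obtain ⟨R, h1, h2, h3, -, h5⟩ := key r hr
  haveI := Fact.mk hr
  exact ⟨R, h1, Components.le_fitting (h5 hNM) (IsPGroup.isNilpotent h2), h3⟩

theorem pmin_component_not_le (hP : Cfsg.IsPMinimal p G) (hOp : Cfsg.pCore p G = ⊥) (S : Sylow p G)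
    {M : Subgroup G} (hM : IsCoatom M) (hSM : (S : Subgroup G) ≤ M) {K : Subgroup G}
    (hK : Cfsg.IsComponent K) {N : Subgroup G} (hN : N.Normal) (hKN : K ≤ N) : ¬ N ≤ M := by
  intro hNM
  haveI := hN
  have h0 : N ⊓ (S : Subgroup G) = ⊥ :=
    le_bot_iff.mp (hOp ▸ pmin_subnormal_inf_le hP S hM hSM hN.isSubnormal hNM)
  have hcop : (Nat.card N).Coprime p := by
    have h := sylow_inf_subnormal S hN.isSubnormal
    rw [inf_comm, h0] at h
    refine (hp.out.coprime_iff_not_dvd.mpr fun hd => ?_).symm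
    obtain ⟨x, hx⟩ := exists_prime_orderOf_dvd_card' p hd
    have := h.2.2 (Subgroup.zpowers (x : G))
      (isPGroup_zpowers_of_orderOf ⟨1, by rw [Subgroup.orderOf_coe, hx, pow_one]⟩)
      (Subgroup.zpowers_le.mpr x.2) bot_le
    rw [Subgroup.zpowers_eq_bot] at this
    have hx1 : x = 1 := Subtype.ext this
    rw [hx1, orderOf_one] at hx
    exact hp.out.ne_one hx.symm
  have h2 := (pmin_pprime_le hP S hM hSM hK hN hcop).2
  haveI : Group.IsNilpotent ↥(Cfsg.fittingSubgroup G) := Core.isNilpotent_fittingSubgroup G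
  exact Components.component_not_le_solvable hK IsNilpotent.to_isSolvable (hKN.trans h2)

theorem pmin_component_structure (hP : Cfsg.IsPMinimal p G) (hOp : Cfsg.pCore p G = ⊥)
    (S : Sylow p G) {K : Subgroup G} (hK : Cfsg.IsComponent K) :
    Cfsg.pResidual p G = Cfsg.generalizedFittingSubgroup G ∧
      Cfsg.generalizedFittingSubgroup G = Cfsg.layer G ∧
      Cfsg.layer G = ⨆ s : ↥(S : Subgroup G), cj (s : G) K ∧
      Cfsg.IsPMinimal p ↥(K ⊔ ((S : Subgroup G) ⊓ Subgroup.normalizer (K : Set G))) := by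
  obtain ⟨M, ⟨hM, hSM⟩, -⟩ := (hP S).2
  set E := Cfsg.layer G
  have hEn : E.Normal := inferInstance
  have hKE : K ≤ E := Components.component_le_layer hK
  have hEres : Cfsg.pResidual p G = E := by
    refine le_antisymm ?_ (perfect_le_pResidual (p := p) Components.layer_commutator_self)
    rcases pmin_normal_cases hP S hM hSM E hEn with h | h
    · exact h
    · exact absurd (h.trans M.normalCore_le) (pmin_component_not_le hP hOp S hM hSM hK hEn hKE)
  have hSE : (S : Subgroup G) ⊔ E = ⊤ := hEres ▸ pmin_sup_residual S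
  -- the conjugates under `S`
  set E₁ := ⨆ s : ↥(S : Subgroup G), cj (s : G) K
  have hcomp : ∀ g : G, Cfsg.IsComponent (cj g K) := Components.isComponent_conj hK
  have hEN : ∀ L : Subgroup G, Cfsg.IsComponent L → E ≤ Subgroup.normalizer (L : Set G) :=
    fun L hL => Components.layer_le_iff.mpr fun L' hL' => by
      rcases eq_or_ne L' L with rfl | hne
      · exact Subgroup.le_normalizer
      · exact (Components.components_commute_le hL' hL hne).trans (Subgroup.centralizer_le_normalizer _)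
  have hE₁E : E₁ ≤ E := iSup_le fun s => Components.component_le_layer (hcomp s)
  have hKE₁ : K ≤ E₁ := le_iSup_of_le (⟨1, one_mem _⟩ : ↥(S : Subgroup G)) (cj_one K).ge
  have hE₁n : E₁.Normal := by
    refine Subgroup.normalizer_eq_top_iff.mp (top_le_iff.mp (hSE ▸ sup_le ?_ ?_))
    · intro s hs
      rw [← cj_eq_self_iff]
      refine Subgroup.eq_of_le_of_card_ge ?_ (card_cj s _).ge
      rw [cj, Subgroup.map_iSup]
      refine iSup_le fun t => le_iSup_of_le (⟨s * t, mul_mem hs t.2⟩ : ↥(S : Subgroup G)) ?_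
      exact (cj_cj s t K).le
    · intro e he
      rw [← cj_eq_self_iff]
      refine Subgroup.eq_of_le_of_card_ge ?_ (card_cj e _).ge
      rw [cj, Subgroup.map_iSup]
      refine iSup_le fun t => le_iSup_of_le t ?_
      exact (cj_eq_self_iff.mpr (hEN _ (hcomp t) he)).le
  have hE₁ : E = E₁ := by
    refine le_antisymm ?_ hE₁E
    rcases pmin_normal_cases hP S hM hSM E₁ hE₁n with h | h
    · exact hEres ▸ h
    · exact absurd (h.trans M.normalCore_le) (pmin_component_not_le hP hOp S hM hSM hK hE₁n hKE₁)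
  have hFit : Cfsg.fittingSubgroup G ≤ E := by
    haveI : Group.IsNilpotent ↥(Cfsg.fittingSubgroup G) := Core.isNilpotent_fittingSubgroup G
    have hFM := pmin_nilpotent_le hP S hM hSM hK (N := Cfsg.fittingSubgroup G) inferInstance
      IsNilpotent.to_isSolvable
    have h0 : Cfsg.fittingSubgroup G ⊓ (S : Subgroup G) = ⊥ := le_bot_iff.mp
      (hOp ▸ pmin_subnormal_inf_le hP S hM hSM (inferInstance : (Cfsg.fittingSubgroup G).Normal).isSubnormal hFM)
    intro x hx
    have hx' : x ∈ (((S : Subgroup G) ⊔ E : Subgroup G) : Set G) := by rw [hSE]; exact Subgroup.mem_top x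
    rw [Subgroup.mul_normal] at hx'
    obtain ⟨s, hs, e, he, hse⟩ := hx'
    -- the order of `x` is prime to `p`
    have hcop : (orderOf x).Coprime p := by
      refine (hp.out.coprime_iff_not_dvd.mpr fun hd => ?_).symm
      have hd' : p ∣ Nat.card ↥(Cfsg.fittingSubgroup G) :=
        hd.trans (Subgroup.orderOf_mk x hx ▸ orderOf_dvd_natCard (⟨x, hx⟩ : ↥(Cfsg.fittingSubgroup G)))
      obtain ⟨y, hy⟩ := exists_prime_orderOf_dvd_card' p hd'
      have h := sylow_inf_subnormal S (inferInstance : (Cfsg.fittingSubgroup G).Normal).isSubnormal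
      rw [inf_comm, h0] at h
      have := h.2.2 (Subgroup.zpowers (y : G))
        (isPGroup_zpowers_of_orderOf ⟨1, by rw [Subgroup.orderOf_coe, hy, pow_one]⟩)
        (Subgroup.zpowers_le.mpr y.2) bot_le
      rw [Subgroup.zpowers_eq_bot] at this
      have hy1 : y = 1 := Subtype.ext this
      rw [hy1, orderOf_one] at hy
      exact hp.out.ne_one hy.symm
    haveI := hEn
    set π := QuotientGroup.mk' E
    have hpi : π x = π s := by
      rw [← hse]; exact QuotientGroup.mk_mul_of_mem s he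
    obtain ⟨k, hk⟩ := IsPGroup.iff_orderOf.mp S.isPGroup' ⟨s, hs⟩
    rw [Subgroup.orderOf_mk] at hk
    have h1 : orderOf (π x) = 1 := Nat.eq_one_of_dvd_coprimes (hcop.pow_right k)
      (orderOf_map_dvd π x) (hpi ▸ hk ▸ orderOf_map_dvd π s)
    exact (QuotientGroup.eq_one_iff x).mp (orderOf_eq_one_iff.mp h1)
  have hFstar : Cfsg.generalizedFittingSubgroup G = E := sup_eq_left.mpr hFit
  refine ⟨hFstar ▸ hEres, hFstar, hE₁, ?_⟩
  -- the subgroup `K N_S(K)`
  set T := (S : Subgroup G) ⊓ Subgroup.normalizer (K : Set G)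
  set H := K ⊔ T
  have hKS : (S : Subgroup G) ⊓ K ≤ T := inf_le_inf_left _ Subgroup.le_normalizer
  have hKmax : IsMaxP p ((S : Subgroup G) ⊓ K) K := sylow_inf_subnormal S hK.1
  have hprod : ∀ x ∈ H, ∃ k ∈ K, ∃ t ∈ T, x = k * t := fun x hx => by
    have hx' : x ∈ ((K ⊔ T : Subgroup G) : Set G) := hx
    rw [Subgroup.coe_mul_of_right_le_normalizer_left K T inf_le_right] at hx'
    obtain ⟨k, hk, t, ht, e⟩ := hx'
    exact ⟨k, hk, t, ht, e.symm⟩
  have hTmax : IsMaxP p T H := by
    refine ⟨le_sup_right, S.isPGroup'.to_le inf_le_left, fun R hR hRH hTR => ?_⟩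
    refine le_antisymm (fun x hx => ?_) hTR
    obtain ⟨k, hk, t, ht, rfl⟩ := hprod x (hRH hx)
    have hkR : k ∈ R ⊓ K := ⟨(Subgroup.mul_mem_cancel_right _ (hTR ht)).mp hx, hk⟩
    rw [hKmax.2.2 (R ⊓ K) (hR.to_le inf_le_left) inf_le_right
      (le_inf (hKS.trans hTR) inf_le_right)] at hkR
    exact mul_mem (hKS hkR) ht
  have hproper : ∀ L : Subgroup G, T ≤ L → L ≤ H → L ≠ H → L ≤ M := by
    intro L hTL hLH hne
    set L₀ := L ⊓ K
    suffices hL₀ : L₀ ≤ M by
      intro x hx
      obtain ⟨k, hk, t, ht, rfl⟩ := hprod x (hLH hx)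
      exact mul_mem (hL₀ ⟨(Subgroup.mul_mem_cancel_right _ (hTL ht)).mp hx, hk⟩) (hSM ht.1)
    by_contra hL₀
    have htop : (S : Subgroup G) ⊔ L₀ = ⊤ := by
      by_contra h
      exact hL₀ (le_sup_right.trans (pmin_le hP S hM hSM le_sup_left h))
    set C := E ⊓ Subgroup.centralizer (K : Set G)
    set A := L₀ ⊔ C
    set L₁ := ⨆ s : ↥(S : Subgroup G), cj (s : G) L₀
    have hL₁n : L₁.Normal := by
      refine Subgroup.normalizer_eq_top_iff.mp (top_le_iff.mp (htop ▸ sup_le ?_ ?_))
      · intro s hs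
        rw [← cj_eq_self_iff]
        refine Subgroup.eq_of_le_of_card_ge ?_ (card_cj s _).ge
        rw [cj, Subgroup.map_iSup]
        refine iSup_le fun t => le_iSup_of_le (⟨s * t, mul_mem hs t.2⟩ : ↥(S : Subgroup G)) ?_
        exact (cj_cj s t L₀).le
      · exact (le_iSup_of_le (⟨1, one_mem _⟩ : ↥(S : Subgroup G)) (cj_one L₀).ge).trans
          Subgroup.le_normalizer
    have hL₁A : L₁ ≤ A := by
      refine iSup_le fun s => ?_
      by_cases hs : cj (s : G) K = K
      · refine le_trans (le_of_eq ?_) le_sup_left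
        refine cj_eq_self_iff.mpr ?_
        have hsT : (s : G) ∈ T := ⟨s.2, cj_eq_self_iff.mp hs⟩
        have hsn : (s : G) ∈ Subgroup.normalizer (L : Set G) := Subgroup.le_normalizer (hTL hsT)
        exact Subgroup.inf_normalizer_le_normalizer_inf ⟨hsn, hsT.2⟩
      · refine le_trans (le_inf ?_ ?_) le_sup_right
        · exact (cj_mono inf_le_right).trans (Components.component_le_layer (hcomp s))
        · exact (cj_mono inf_le_right).trans (Components.components_commute_le (hcomp s) hK hs)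
    have hCsn : C.IsSubnormal := by
      refine Subgroup.IsSubnormal.step C E inf_le_left hEn.isSubnormal
        ((Subgroup.normal_subgroupOf_iff_le_normalizer inf_le_left).mpr ?_)
      refine (le_inf Subgroup.le_normalizer ((hEN K hK).trans ?_)).trans
        Subgroup.inf_normalizer_le_normalizer_inf
      intro g hg
      rw [← cj_eq_self_iff, cj_centralizer]
      rw [← cj_eq_self_iff] at hg
      have hg' : (fun x => g * x * g⁻¹) '' (K : Set G) = K := by
        exact congrArg (fun X : Subgroup G => (X : Set G)) hg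
      rw [hg']
    have hEKC : E = K ⊔ C := by
      refine le_antisymm (Components.layer_le_iff.mpr fun L' hL' => ?_) (sup_le hKE inf_le_left)
      rcases eq_or_ne L' K with rfl | hne
      · exact le_sup_left
      · exact le_trans (le_inf (Components.component_le_layer hL')
          (Components.components_commute_le hL' hK hne)) le_sup_right
    have hSA : E ⊓ (S : Subgroup G) ≤ A := by
      rw [hEKC, sylow_sup_subnormal S hK.1 hCsn]
      refine sup_le (le_trans ?_ le_sup_left) (inf_le_left.trans le_sup_right)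
      exact le_inf ((le_inf inf_le_right inf_le_left).trans (hKS.trans hTL)) inf_le_left
    have hAE : A ≤ E := sup_le (inf_le_right.trans hKE) inf_le_left
    have hEA : E ≤ A := by
      intro e he
      have hST : (S : Subgroup G) ⊔ L₁ = ⊤ := top_le_iff.mp (htop ▸ sup_le_sup_left
        (le_iSup_of_le (⟨1, one_mem _⟩ : ↥(S : Subgroup G)) (cj_one L₀).ge) _)
      have he' : e ∈ (((S : Subgroup G) ⊔ L₁ : Subgroup G) : Set G) := by
        rw [hST]; exact Subgroup.mem_top e
      rw [Subgroup.mul_normal] at he'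
      obtain ⟨s, hs, l, hl, rfl⟩ := he'
      exact mul_mem (hSA ⟨(Subgroup.mul_mem_cancel_right _ (hAE (hL₁A hl))).mp he, hs⟩) (hL₁A hl)
    have hKC : K ≤ L₀ ⊔ (K ⊓ Subgroup.centralizer (K : Set G)) := by
      intro x hx
      have hx' : x ∈ ((L₀ ⊔ C : Subgroup G) : Set G) := hEA (hKE hx)
      rw [Subgroup.coe_mul_of_left_le_normalizer_right L₀ C ?_] at hx'
      · obtain ⟨l, hl, c, hc, rfl⟩ := hx'
        exact mul_mem (Subgroup.mem_sup_left hl) (Subgroup.mem_sup_right
          ⟨(Subgroup.mul_mem_cancel_left _ hl.2).mp hx, hc.2⟩)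
      · refine (inf_le_right : L₀ ≤ K).trans ?_
        intro k hk
        rw [Subgroup.mem_normalizer_iff_map_conj_eq]
        ext y
        constructor
        · rintro ⟨c, hc, rfl⟩
          show k * c * k⁻¹ ∈ C
          rwa [Subgroup.mem_centralizer_iff.mp hc.2 k hk, mul_inv_cancel_right]
        · intro hy
          refine ⟨y, hy, ?_⟩
          show k * y * k⁻¹ = y
          rw [Subgroup.mem_centralizer_iff.mp hy.2 k hk, mul_inv_cancel_right]
    have hcomm : ⁅K, K⁆ ≤ L₀ := by
      set Z := K ⊓ Subgroup.centralizer (K : Set G)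
      have hZn : L₀ ≤ Subgroup.normalizer (Z : Set G) := by
        intro l hl
        rw [Subgroup.mem_normalizer_iff_map_conj_eq]
        ext y
        constructor
        · rintro ⟨c, hc, rfl⟩
          show l * c * l⁻¹ ∈ Z
          rwa [Subgroup.mem_centralizer_iff.mp hc.2 l hl.2, mul_inv_cancel_right]
        · intro hy
          refine ⟨y, hy, ?_⟩
          show l * y * l⁻¹ = y
          rw [Subgroup.mem_centralizer_iff.mp hy.2 l hl.2, mul_inv_cancel_right]
      rw [Subgroup.commutator_le]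
      intro a ha b hb
      have ha' : a ∈ ((L₀ ⊔ Z : Subgroup G) : Set G) := hKC ha
      have hb' : b ∈ ((L₀ ⊔ Z : Subgroup G) : Set G) := hKC hb
      rw [Subgroup.coe_mul_of_left_le_normalizer_right L₀ Z hZn] at ha' hb'
      obtain ⟨l, hl, c, hc, rfl⟩ := ha'
      obtain ⟨l', hl', c', hc', rfl⟩ := hb'
      have e1 : Commute c l' := (Subgroup.mem_centralizer_iff.mp hc.2 l' hl'.2).symm
      have e2 : Commute c c' := (Subgroup.mem_centralizer_iff.mp hc.2 c' hc'.1).symm
      have e3 : Commute c' l := (Subgroup.mem_centralizer_iff.mp hc'.2 l hl.2).symm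
      have e : l * c * (l' * c') * (l * c)⁻¹ * (l' * c')⁻¹ = l * l' * l⁻¹ * l'⁻¹ := by
        have e4 : c * (l' * c') * c⁻¹ = l' * c' := by
          rw [(e1.mul_right e2).eq, mul_inv_cancel_right]
        calc l * c * (l' * c') * (l * c)⁻¹ * (l' * c')⁻¹
            = l * (c * (l' * c') * c⁻¹) * l⁻¹ * (c'⁻¹ * l'⁻¹) := by group
          _ = l * l' * (c' * l⁻¹) * (c'⁻¹ * l'⁻¹) := by rw [e4]; group
          _ = _ := by rw [e3.inv_right.eq]; group
      rw [commutatorElement_def, e]
      exact mul_mem (mul_mem (mul_mem hl hl') (inv_mem hl)) (inv_mem hl')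
    rw [Components.component_commutator_self hK] at hcomm
    exact hne (le_antisymm hLH (sup_le (hcomm.trans inf_le_left) hTL))
  obtain ⟨S₀, hS₀⟩ := hTmax.exists_sylow
  have hKM : ¬ K ≤ M := fun h =>
    pmin_component_not_le hP hOp S hM hSM hK hEn hKE (hE₁ ▸ iSup_le fun s => by
      rintro _ ⟨x, hx, rfl⟩
      exact mul_mem (mul_mem (hSM s.2) (h hx)) (inv_mem (hSM s.2)))
  refine isPMinimal_of_one S₀ ?_ ?_
  · intro hn
    have hKT : H ≤ Subgroup.normalizer (T : Set G) := by
      rw [← hS₀]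
      intro h hh
      rw [Subgroup.mem_normalizer_iff_map_conj_eq]
      ext y
      constructor
      · rintro ⟨_, ⟨x, hx, rfl⟩, rfl⟩
        exact ⟨⟨h, hh⟩ * x * ⟨h, hh⟩⁻¹, hn.conj_mem x hx _, rfl⟩
      · rintro ⟨x, hx, rfl⟩
        exact ⟨_, ⟨⟨h, hh⟩⁻¹ * x * ⟨h, hh⟩, SetLike.mem_coe.mpr (by simpa using hn.conj_mem x hx ⟨h, hh⟩⁻¹), rfl⟩,
          by simp [mul_assoc]⟩
    have h1 : T ⊓ K = (S : Subgroup G) ⊓ K := le_antisymm (inf_le_inf_right _ inf_le_left)
      (le_inf hKS inf_le_right)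
    have hnn : K ≤ Subgroup.normalizer (((S : Subgroup G) ⊓ K : Subgroup G) : Set G) := by
      rw [← h1]
      exact (le_inf ((le_sup_left : K ≤ H).trans hKT) Subgroup.le_normalizer).trans
        Subgroup.inf_normalizer_le_normalizer_inf
    have hsn : ((S : Subgroup G) ⊓ K).IsSubnormal :=
      Subgroup.IsSubnormal.step _ K inf_le_right hK.1
        ((Subgroup.normal_subgroupOf_iff_le_normalizer inf_le_right).mpr hnn)
    have hbot : (S : Subgroup G) ⊓ K = ⊥ := le_bot_iff.mp
      (hOp ▸ Core.le_pCore_of_isSubnormal hsn (S.isPGroup'.to_le inf_le_left))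
    rw [hbot] at hKmax
    have hcop : (Nat.card K).Coprime p := by
      refine (hp.out.coprime_iff_not_dvd.mpr fun hd => ?_).symm
      obtain ⟨x, hx⟩ := exists_prime_orderOf_dvd_card' p hd
      have := hKmax.2.2 (Subgroup.zpowers (x : G))
        (isPGroup_zpowers_of_orderOf ⟨1, by rw [Subgroup.orderOf_coe, hx, pow_one]⟩)
        (Subgroup.zpowers_le.mpr x.2) bot_le
      rw [Subgroup.zpowers_eq_bot] at this
      have hx1 : x = 1 := Subtype.ext this
      rw [hx1, orderOf_one] at hx
      exact hp.out.ne_one hx.symm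
    have hKO := Core.le_pPrimeCore_of_isSubnormal hK.1 hcop
    have hOn : (Cfsg.pPrimeCore p G).Normal := inferInstance
    exact pmin_component_not_le hP hOp S hM hSM hK hOn hKO
      (pmin_pprime_le hP S hM hSM hK hOn (Core.card_pPrimeCore_coprime p G)).1
  · have hne : M.subgroupOf H ≠ ⊤ := fun h =>
      hKM (le_sup_left.trans (Subgroup.subgroupOf_eq_top.mp h))
    obtain ⟨M₀, hM₀, hle₀⟩ := (eq_top_or_exists_le_coatom _).resolve_left hne
    refine ⟨M₀, ⟨hM₀, fun x hx => hle₀ ?_⟩, ?_⟩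
    · have : (x : G) ∈ T := hS₀ ▸ ⟨x, hx, rfl⟩
      exact hSM this.1
    · rintro N ⟨hN, hSN⟩
      have hNM : N.map H.subtype ≤ M := hproper _ (hS₀ ▸ Subgroup.map_mono hSN)
        (Subgroup.map_subtype_le N) fun e => hN.1 (by
          refine top_le_iff.mp fun x _ => ?_
          obtain ⟨y, hy, he⟩ := e.ge x.2
          rwa [show x = y from Subtype.ext he.symm])
      exact ((hN.le_iff.mp (show N ≤ M₀ from fun x hx => hle₀ (hNM ⟨x, hx, rfl⟩))).resolve_left
        hM₀.1).symm

end Cfsg.Agent.LocalEven
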