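import Cfsg.Prelude.Def_LocalStructure
import Cfsg.Agent.LocalEven.CharP
import Cfsg.Agent.LocalEven.PReducedTheory
import Cfsg.Agent.LocalEven.Average
import Cfsg.Agent.OddChar.AxB
import Cfsg.Agent.S0065
import Cfsg.Agent.LocalEven.Dagger
import Cfsg.Agent.S0542
import Mathlib.GroupTheory.IsSubnormal

/-! Parabolic characteristic `p` read off from centralizers of central elements. -/

set_option autoImplicit false
set_option linter.style.haveILetI false

open scoped commutatorElement

namespace Cfsg.Agent.LocalEven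

variable {G : Type*} [Group G] {p : ℕ}

/-- Characteristic `p`, on the subgroup lattice. -/
abbrev CP (p : ℕ) (L : Subgroup G) : Prop :=
  L ⊓ Subgroup.centralizer (op p L : Set G) ≤ op p L

theorem op_cj (g : G) (L : Subgroup G) : op p (cj g L) = cj g (op p L) := map_pCore_cj g L

theorem cp_cj (g : G) {L : Subgroup G} (h : CP p L) : CP p (cj g L) := by
  show cj g L ⊓ Subgroup.centralizer (op p (cj g L) : Set G) ≤ op p (cj g L)
  rw [op_cj]
  intro x hx
  obtain ⟨hxL, hxC⟩ := Subgroup.mem_inf.mp hx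
  rw [mem_cj] at hxL ⊢
  refine h (Subgroup.mem_inf.mpr ⟨hxL, Subgroup.mem_centralizer_iff.mpr fun y hy => ?_⟩)
  have := Subgroup.mem_centralizer_iff.mp hxC _ (conj_mem_cj (g := g) hy)
  calc y * (g⁻¹ * x * g) = g⁻¹ * (g * y * g⁻¹ * x) * g := by group
    _ = g⁻¹ * (x * (g * y * g⁻¹)) * g := by rw [this]
    _ = g⁻¹ * x * g * y := by group

theorem cj_centralizer_singleton (g z : G) :
    cj g (Subgroup.centralizer ({z} : Set G)) = Subgroup.centralizer ({g * z * g⁻¹} : Set G) := by
  rw [cj_centralizer, Set.image_singleton]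

variable [Finite G] [hp : Fact p.Prime]

theorem eq_one_of_coprime_mem {V : Subgroup G} (hV : IsPGroup p V) {c : G} (hc : c ∈ V)
    (hcop : (orderOf c).Coprime p) : c = 1 := by
  obtain ⟨j, hj⟩ := IsPGroup.iff_orderOf.mp hV ⟨c, hc⟩
  rw [Subgroup.orderOf_mk] at hj
  rw [hj] at hcop
  cases j with
  | zero => exact orderOf_eq_one_iff.mp (by rwa [pow_zero] at hj)
  | succ j => exact absurd (Nat.coprime_self p |>.mp
      (hcop.coprime_dvd_left (dvd_pow_self p j.succ_ne_zero))) hp.out.ne_one

theorem cp_of_coprime {N : Subgroup G}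
    (h : ∀ c ∈ N, c ∈ Subgroup.centralizer (op p N : Set G) → (orderOf c).Coprime p → c = 1) :
    CP p N := by
  refine le_op inf_le_left ?_ (isPGroup_of_coprime fun c hc hcop => h c hc.1 hc.2 hcop)
  refine le_trans (le_inf Subgroup.le_normalizer ?_) Subgroup.inf_normalizer_le_normalizer_inf
  exact (map_pCore_normalized N).trans (normalizer_le_normalizer_cent _)

theorem not_dvd_zpowers {c : G} (hcop : (orderOf c).Coprime p) :
    ¬ p ∣ Nat.card (Subgroup.zpowers c) := by
  rw [Nat.card_zpowers]
  exact fun h => hp.out.ne_one (Nat.eq_one_of_dvd_coprimes hcop h dvd_rfl)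

/-- The normalizer of a `p`-subgroup in a group of characteristic `p`. -/
theorem cp_inf_normalizer {L X : Subgroup G} (hL : CP p L) (hX : IsPGroup p X) (hXL : X ≤ L) :
    CP p (L ⊓ Subgroup.normalizer (X : Set G)) := by
  set N := L ⊓ Subgroup.normalizer (X : Set G) with hN
  refine cp_of_coprime fun c hc hcC hcop => ?_
  set V := op p L
  have hLV : L ≤ Subgroup.normalizer (V : Set G) := map_pCore_normalized L
  have hXN : X ≤ N := le_inf hXL Subgroup.le_normalizer
  have hXO : X ≤ op p N := le_op hXN inf_le_right hX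
  have hVN : V ⊓ Subgroup.centralizer (X : Set G) ≤ op p N := by
    refine le_trans (le_inf inf_le_left (le_inf (inf_le_left.trans (op_le L))
      (inf_le_right.trans (Subgroup.centralizer_le_normalizer _)))) (le_op inf_le_right ?_
        ((isPGroup_op L).to_le inf_le_left))
    exact le_trans (le_inf (inf_le_left.trans hLV) Subgroup.le_normalizer)
      Subgroup.inf_normalizer_le_normalizer_inf
  have hcz : Subgroup.zpowers c ≤ Subgroup.centralizer (op p N : Set G) :=
    Subgroup.zpowers_le.mpr hcC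
  have h1 : ⁅X, Subgroup.zpowers c⁆ = ⊥ := by
    rw [Subgroup.commutator_comm, Subgroup.commutator_eq_bot_iff_le_centralizer]
    exact hcz.trans (Subgroup.centralizer_le hXO)
  have h2 := OddChar.axb_lemma hX (not_dvd_zpowers hcop) h1 V (isPGroup_op L)
    (hXL.trans hLV) (Subgroup.zpowers_le.mpr (hLV hc.1)) (by
      rw [Subgroup.commutator_comm, Subgroup.commutator_eq_bot_iff_le_centralizer]
      exact hcz.trans (Subgroup.centralizer_le hVN))
  rw [Subgroup.commutator_comm, Subgroup.commutator_eq_bot_iff_le_centralizer] at h2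
  exact eq_one_of_coprime_mem (isPGroup_op L)
    (hL ⟨hc.1, h2 (Subgroup.mem_zpowers c)⟩) hcop

/-- If some subgroup of characteristic `p` contains `C(X)`, then `N(X)` has characteristic `p`. -/
theorem cp_normalizer {L X : Subgroup G} (hL : CP p L) (hX : IsPGroup p X) (hXL : X ≤ L)
    (hCL : Subgroup.centralizer (X : Set G) ≤ L) :
    CP p (Subgroup.normalizer (X : Set G)) := by
  set N' := Subgroup.normalizer (X : Set G)
  set N := L ⊓ N'
  set K := Subgroup.centralizer (X : Set G)
  have hN := cp_inf_normalizer hL hX hXL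
  refine cp_of_coprime fun c hc hcC hcop => ?_
  have hKN' : K ≤ N' := Subgroup.centralizer_le_normalizer _
  have hKN : K ≤ N := le_inf hCL hKN'
  have hcK : c ∈ K := Subgroup.centralizer_le
    (show X ≤ op p N' from le_op Subgroup.le_normalizer le_rfl hX) hcC
  have hKn : N' ≤ Subgroup.normalizer (K : Set G) := normalizer_le_normalizer_cent X
  set O := op p N
  have hON : N ≤ Subgroup.normalizer (O : Set G) := map_pCore_normalized N
  -- `O ∩ K` lies in `O_p(N')`
  have hOK : O ⊓ K ≤ op p N' := by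
    have h1 : O ⊓ K ≤ op p K := le_op inf_le_right
      (le_trans (le_inf (hKN.trans hON) Subgroup.le_normalizer)
        Subgroup.inf_normalizer_le_normalizer_inf) ((isPGroup_op N).to_le inf_le_left)
    refine h1.trans (le_op ((op_le K).trans hKN') ?_ (isPGroup_op K))
    intro g hg
    rw [← cj_eq_self_iff, ← op_cj, cj_eq_self_iff.mpr (hKn hg)]
  have h2 : ⁅O, Subgroup.zpowers c⁆ ≤ O ⊓ K := by
    refine le_trans (Subgroup.commutator_mono (le_refl O) (Subgroup.zpowers_le.mpr hcK))
      (le_inf ?_ ?_)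
    · rw [Subgroup.commutator_comm]
      exact Subgroup.le_normalizer_iff_commutator_le_right.mp (hKN.trans hON)
    · exact Subgroup.le_normalizer_iff_commutator_le_right.mp
        ((op_le N).trans (inf_le_right.trans hKn))
  have h3 : c ∈ Subgroup.centralizer (O : Set G) := by
    refine coprime_stab (isPGroup_op N) (hON (hKN hcK)) hcop (iter_eq_bot_of_chain h2 ?_)
    rw [Subgroup.commutator_comm, Subgroup.commutator_eq_bot_iff_le_centralizer,
      Subgroup.zpowers_le]
    exact Subgroup.centralizer_le hOK hcC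
  exact eq_one_of_coprime_mem (isPGroup_op N) (hN ⟨hKN hcK, h3⟩) hcop

/-- (i): a central element `z` of `X` with `C(z)` of characteristic `p` gives it to `N(X)`. -/
theorem cp_normalizer_of_central {X : Subgroup G} (hX : IsPGroup p X) {z : G} (hz : z ∈ X)
    (hc : ∀ x ∈ X, x * z = z * x) (h : CP p (Subgroup.centralizer ({z} : Set G))) :
    CP p (Subgroup.normalizer (X : Set G)) := by
  refine cp_normalizer h hX (fun x hx => ?_)
    (Subgroup.centralizer_le (Set.singleton_subset_iff.mpr hz))
  rw [Subgroup.mem_centralizer_singleton_iff]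
  exact hc x hx

theorem exists_central_orderOf {R X : Subgroup G} (hX : IsPGroup p X) (hR : R ≠ ⊥) (hRX : R ≤ X)
    (hn : X ≤ Subgroup.normalizer (R : Set G)) :
    ∃ z ∈ R ⊓ Subgroup.centralizer (X : Set G), orderOf z = p := by
  haveI : Nontrivial (R.subgroupOf X) := by
    rw [Subgroup.nontrivial_iff_ne_bot, ne_eq, Subgroup.subgroupOf_eq_bot]
    exact fun h => hR (disjoint_self.mp (h.mono_right hRX))
  haveI : (R.subgroupOf X).Normal := Subgroup.normal_subgroupOf_of_le_normalizer hn
  haveI := hX.isNilpotent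
  have hne : R.subgroupOf X ⊓ Subgroup.center X ≠ ⊥ :=
    Cfsg.Agent.S0065.result (R.subgroupOf X) (Subgroup.nontrivial_iff_ne_bot _ |>.mp inferInstance)
  obtain ⟨x, hx, hxp⟩ := exists_orderOf_eq (hX.to_subgroup _) hne
  refine ⟨x, ⟨hx.1, Subgroup.mem_centralizer_iff.mpr fun y hy =>
    congrArg Subtype.val (Subgroup.mem_center_iff.mp hx.2 ⟨y, hy⟩)⟩, ?_⟩
  rw [Subgroup.orderOf_coe, hxp]

/-- (ii): parabolic characteristic is decided by the central elements of a Sylow subgroup. -/
theorem parabolic_of_centers (S : Sylow p G)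
    (h : ∀ z : G, z ∈ (S : Subgroup G) ⊓ Subgroup.centralizer ((S : Subgroup G) : Set G) →
      orderOf z = p → CP p (Subgroup.centralizer ({z} : Set G))) :
    Cfsg.IsOfParabolicCharacteristic p G := by
  intro R hR hR1 hpar
  rw [charP_iff]
  obtain ⟨T, hT⟩ := hpar
  obtain ⟨g, hg⟩ := MulAction.exists_smul_eq G S T
  have hTS : (T : Subgroup G) = cj g (S : Subgroup G) := by
    rw [← hg]; rfl
  have hRT : R ≤ (T : Subgroup G) :=
    (isMaxP_of_sylow T hT).normal_le hR Subgroup.le_normalizer le_rfl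
  obtain ⟨z, hz, hzp⟩ := exists_central_orderOf T.isPGroup' hR1 hRT hT
  refine cp_normalizer_of_central hR hz.1
    (fun x hx => Subgroup.mem_centralizer_iff.mp hz.2 x (hRT hx)) ?_
  have hz1 : g⁻¹ * z * g ∈ (S : Subgroup G) := by
    rw [← mem_cj, ← hTS]; exact hRT hz.1
  have hz2 : g⁻¹ * z * g ∈ Subgroup.centralizer ((S : Subgroup G) : Set G) := by
    have h2 := hz.2
    rw [hTS] at h2
    rw [← mem_cj, cj_centralizer]
    exact h2
  have hord : orderOf (g⁻¹ * z * g) = p := by
    rw [show g⁻¹ * z * g = MulAut.conj g⁻¹ z by simp, MulEquiv.orderOf_eq, hzp]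
  have := cp_cj g (h _ ⟨hz1, hz2⟩ hord)
  rwa [cj_centralizer_singleton, show g * (g⁻¹ * z * g) * g⁻¹ = z by group] at this

omit [Finite G] hp in
theorem normalizer_zpowers_inf (z : G) :
    Subgroup.centralizer ({z} : Set G) ≤ Subgroup.normalizer (Subgroup.zpowers z : Set G) ∧
      Subgroup.normalizer (Subgroup.zpowers z : Set G) ≤
        Subgroup.normalizer (Subgroup.centralizer ({z} : Set G) : Set G) := by
  have e : Subgroup.centralizer ({z} : Set G) =
      Subgroup.centralizer (Subgroup.zpowers z : Set G) := by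
    rw [Subgroup.zpowers_eq_closure, Subgroup.centralizer_closure]
  rw [e]
  exact ⟨Subgroup.centralizer_le_normalizer _, normalizer_le_normalizer_cent _⟩

/-- Parabolic characteristic gives characteristic `p` to the centralizers of central elements. -/
theorem cp_of_parabolic (hG : Cfsg.IsOfParabolicCharacteristic p G) (S : Sylow p G) {z : G}
    (hz : z ∈ (S : Subgroup G) ⊓ Subgroup.centralizer ((S : Subgroup G) : Set G)) (hz1 : z ≠ 1) :
    CP p (Subgroup.centralizer ({z} : Set G)) := by
  set Z := Subgroup.zpowers z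
  obtain ⟨hCN, hNC⟩ := normalizer_zpowers_inf z
  have hSC : (S : Subgroup G) ≤ Subgroup.centralizer ({z} : Set G) := fun x hx => by
    rw [Subgroup.mem_centralizer_singleton_iff]
    exact Subgroup.mem_centralizer_iff.mp hz.2 x hx
  have hN := hG Z (S.isPGroup'.to_le (Subgroup.zpowers_le.mpr hz.1))
    (Subgroup.zpowers_ne_bot.mpr hz1) ⟨S, hSC.trans hCN⟩
  haveI : ((Subgroup.centralizer ({z} : Set G)).subgroupOf
      (Subgroup.normalizer (Z : Set G))).Normal := Subgroup.normal_subgroupOf_of_le_normalizer hNC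
  exact (charP_iff _).mp (normal_map_equiv_pCore (Subgroup.subgroupOfEquivOfLe hCN)
    (charP_of_isSubnormal hN ((inferInstance : Subgroup.Normal _).isSubnormal)))

theorem parabolic_of_subnormal (hG : Cfsg.IsOfParabolicCharacteristic p G) (S : Sylow p G)
    {G₁ : Subgroup G} (hsn : G₁.IsSubnormal)
    (h : ∀ z : G, z ∈ ((S : Subgroup G) ⊓ G₁) ⊓
      Subgroup.centralizer (((S : Subgroup G) ⊓ G₁ : Subgroup G) : Set G) → orderOf z = p →
        z ∈ (S : Subgroup G) ⊓ Subgroup.centralizer ((S : Subgroup G) : Set G)) :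
    Cfsg.IsOfParabolicCharacteristic p G₁ := by
  obtain ⟨Q, hQ⟩ := Cfsg.Agent.S0542.result p G₁ hsn S
  refine parabolic_of_centers Q fun z hz hzp => ?_
  rw [hQ] at hz
  have hzS : (z : G) ∈ (S : Subgroup G) ⊓ G₁ := ⟨hz.1, z.2⟩
  have hzc : (z : G) ∈ Subgroup.centralizer (((S : Subgroup G) ⊓ G₁ : Subgroup G) : Set G) :=
    Subgroup.mem_centralizer_iff.mpr fun y hy =>
      congrArg Subtype.val (Subgroup.mem_centralizer_iff.mp hz.2 ⟨y, hy.2⟩ hy.1)
  have hzp' : orderOf (z : G) = p := by rw [Subgroup.orderOf_coe, hzp]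
  have hz1 : (z : G) ≠ 1 := fun e => hp.out.ne_one (by rw [← hzp', e, orderOf_one])
  set C := Subgroup.centralizer ({(z : G)} : Set G)
  have hC := (charP_iff C).mpr (cp_of_parabolic hG S (h _ ⟨hzS, hzc⟩ hzp') hz1)
  have h1 := charP_of_isSubnormal hC (hsn.subgroupOf (K := C))
  let e : (G₁.subgroupOf C) ≃* ↥(Subgroup.centralizer ({z} : Set G₁)) :=
    { toFun := fun x => ⟨⟨x.1.1, x.2⟩, Subgroup.mem_centralizer_singleton_iff.mpr
        (Subtype.ext (Subgroup.mem_centralizer_singleton_iff.mp x.1.2))⟩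
      invFun := fun x => ⟨⟨x.1.1, Subgroup.mem_centralizer_singleton_iff.mpr
        (congrArg Subtype.val (Subgroup.mem_centralizer_singleton_iff.mp x.2))⟩, x.1.2⟩
      left_inv := fun x => rfl
      right_inv := fun x => rfl
      map_mul' := fun x y => rfl }
  exact (charP_iff _).mp (normal_map_equiv_pCore e h1)

end Cfsg.Agent.LocalEven
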