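import Cfsg.Agent.Components.Basic
import Cfsg.Agent.Core.Residual
import Cfsg.Agent.Core.Cores

/-!
# `p`-subgroups acting on a normal quasisimple subgroup when `O_p = 1`
-/

set_option autoImplicit false
set_option linter.style.haveILetI false

open scoped commutatorElement

namespace Cfsg.Agent.LocalEven

variable {G : Type*} [Group G] {p : ℕ} [hp : Fact p.Prime] [Finite G]

/-- `O_p(G) = 1` and `G / X` a `p`-group: nontrivial `p`-subgroups act nontrivially on the quasisimple `X`. -/
theorem quasi_commutator_eq (hO : Cfsg.pCore p G = ⊥) {X : Subgroup G} [X.Normal]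
    (hX : Cfsg.IsQuasisimple X) (hres : Cfsg.pResidual p G ≤ X) {P : Subgroup G} (hP : IsPGroup p P)
    (hP1 : P ≠ ⊥) : ⁅X, P⁆ = X := by
  have hDX : ⁅X, P⁆ ≤ X := Subgroup.commutator_le_left X P
  haveI : ((⁅X, P⁆ : Subgroup G).subgroupOf X).Normal :=
    Subgroup.normal_subgroupOf_of_le_normalizer (Subgroup.normalizer_commutator_ge_left X P)
  rcases Components.quasisimple_normal_eq_top_or_le_center hX ((⁅X, P⁆ : Subgroup G).subgroupOf X) with h | h
  · exact le_antisymm hDX (Subgroup.subgroupOf_eq_top.mp h)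
  exfalso
  refine hP1 ?_
  have h1 : ⁅⁅X, P⁆, X⁆ = ⊥ := by
    rw [Subgroup.commutator_eq_bot_iff_le_centralizer]
    intro d hd
    rw [Subgroup.mem_centralizer_iff]
    intro x hx
    exact congrArg Subtype.val (Subgroup.mem_center_iff.mp (h (show (⟨d, hDX hd⟩ : X) ∈ _ from hd)) ⟨x, hx⟩)
  have hperf : ⁅X, X⁆ = X := by
    have := congrArg (Subgroup.map X.subtype) (Components.quasisimple_commutator_top hX)
    rwa [commutator_def, Subgroup.map_commutator, ← MonoidHom.range_eq_map, Subgroup.range_subtype] at this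
  have h2 : ⁅X, P⁆ = ⊥ := by
    rw [← hperf]
    exact Subgroup.commutator_commutator_eq_bot_of_rotate h1 (by rwa [Subgroup.commutator_comm P X])
  set C := Subgroup.centralizer (X : Set G)
  have hPC : P ≤ C := Subgroup.le_centralizer_iff.mp (Subgroup.commutator_eq_bot_iff_le_centralizer.mp h2)
  haveI : C.Normal := inferInstance
  obtain ⟨T, hT⟩ := (hP.of_equiv (Subgroup.subgroupOfEquivOfLe hPC).symm).exists_le_sylow
  have hTn : (T : Subgroup C).Normal := by
    rw [← Subgroup.normalizer_eq_top_iff, ← top_le_iff, ← Core.sylow_sup_pResidual T]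
    refine sup_le Subgroup.le_normalizer ?_
    rw [Cfsg.pResidual, Subgroup.closure_le]
    intro c hc
    have hcX : (c : G) ∈ X := hres (Core.mem_pResidual (show (orderOf (c : G)).Coprime p by
      rw [Subgroup.orderOf_coe]; exact hc))
    refine Subgroup.mem_normalizer_iff.mpr fun y => ?_
    have e : c * y * c⁻¹ = y := by
      have h3 : (c : G) * y = y * c := (Subgroup.mem_centralizer_iff.mp y.2 c hcX)
      exact Subtype.ext (show (c : G) * y * (c : G)⁻¹ = y by rw [h3, mul_inv_cancel_right])
    rw [e]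
  have hle : (T : Subgroup C) ≤ Cfsg.pCore p C := Core.le_pCore hTn T.isPGroup'
  rw [Core.pCore_eq_bot_of_normal C hO] at hle
  refine le_bot_iff.mp fun x hx => ?_
  have := hle (hT (show (⟨x, hPC hx⟩ : C) ∈ P.subgroupOf C from hx))
  exact Subgroup.mem_bot.mpr (congrArg Subtype.val (Subgroup.mem_bot.mp this))

omit hp [Finite G] in
/-- A perfect group which is quasisimple modulo `Z`, with `Z` central modulo `P`. -/
theorem quasisimple_quotient_of_central (hperf : commutator G = ⊤) {Z P : Subgroup G} [Z.Normal] [P.Normal]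
    (hP : P ≠ ⊤) (hZP : ⁅Z, (⊤ : Subgroup G)⁆ ≤ P) (hq : Cfsg.IsQuasisimple (G ⧸ Z)) :
    Cfsg.IsQuasisimple (G ⧸ P) := by
  haveI : Nontrivial (G ⧸ P) := QuotientGroup.nontrivial_iff.mpr hP
  haveI : Group.IsPerfect G := ⟨hperf⟩
  refine Components.isQuasisimple_of_normal_le_center Group.IsPerfect.commutator_eq_top fun M hM hMt => ?_
  haveI := hM
  set N := M.comap (QuotientGroup.mk' P)
  have hPN : P ≤ N := fun x hx => by
    show QuotientGroup.mk' P x ∈ M
    rw [show QuotientGroup.mk' P x = 1 from (QuotientGroup.eq_one_iff x).mpr hx]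
    exact one_mem M
  haveI : N.Normal := inferInstance
  haveI : (N.map (QuotientGroup.mk' Z)).Normal := Subgroup.Normal.map inferInstance _ (QuotientGroup.mk'_surjective _)
  rcases Components.quasisimple_normal_eq_top_or_le_center hq (N.map (QuotientGroup.mk' Z)) with ht | hc
  · exfalso
    have hsup : Z ⊔ N = ⊤ := by rw [← QuotientGroup.comap_map_mk', ht, Subgroup.comap_top]
    refine hMt (Subgroup.comap_injective (QuotientGroup.mk'_surjective P) ?_)
    rw [Subgroup.comap_top]
    refine top_le_iff.mp ?_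
    calc (⊤ : Subgroup G) = ⁅Z ⊔ N, (⊤ : Subgroup G)⁆ := by rw [hsup]; exact hperf.symm
      _ ≤ N := by
        rw [Subgroup.commutator_le]
        intro a ha b _
        rw [Subgroup.mem_sup_of_normal_right] at ha
        obtain ⟨z, hz, n, hn, rfl⟩ := ha
        rw [show ⁅z * n, b⁆ = z * (n * (b * n⁻¹ * b⁻¹)) * z⁻¹ * ⁅z, b⁆ by simp only [commutatorElement_def]; group]
        refine N.mul_mem ((inferInstance : N.Normal).conj_mem _ (N.mul_mem hn ((inferInstance : N.Normal).conj_mem _ (N.inv_mem hn) b)) z) ?_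
        exact hPN (hZP (Subgroup.commutator_mem_commutator hz (Subgroup.mem_top b)))
  · intro y hy
    obtain ⟨n, rfl⟩ := QuotientGroup.mk'_surjective P y
    have h1 : ⁅⁅N, (⊤ : Subgroup G)⁆, (⊤ : Subgroup G)⁆ ≤ P := by
      refine (Subgroup.commutator_mono ?_ le_rfl).trans hZP
      rw [Subgroup.commutator_le]
      intro a ha b _
      rw [← QuotientGroup.eq_one_iff]
      have hab := Subgroup.mem_center_iff.mp (hc ⟨a, ha, rfl⟩) (QuotientGroup.mk' Z b)
      show QuotientGroup.mk' Z ⁅a, b⁆ = 1
      rw [map_commutatorElement, commutatorElement_eq_one_iff_mul_comm]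
      exact hab.symm
    have h2 : ⁅(⊤ : Subgroup G), N⁆ ≤ P := by
      have h3 : ⁅⁅(⊤ : Subgroup G), (⊤ : Subgroup G)⁆, N⁆ ≤ P := by
        have hk : ∀ K : Subgroup G, K ≤ P ↔ K.map (QuotientGroup.mk' P) = ⊥ := fun K => by
          rw [Subgroup.map_eq_bot_iff, QuotientGroup.ker_mk']
        rw [hk, Subgroup.map_commutator, Subgroup.map_commutator]
        refine Subgroup.commutator_commutator_eq_bot_of_rotate ?_ ?_
        · rw [← Subgroup.map_commutator, ← Subgroup.map_commutator, ← hk, Subgroup.commutator_comm ⊤ N]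
          exact h1
        · rw [← Subgroup.map_commutator, ← Subgroup.map_commutator, ← hk]
          exact h1
      rwa [← commutator_def, hperf] at h3
    rw [Subgroup.mem_center_iff]
    intro g
    obtain ⟨x, rfl⟩ := QuotientGroup.mk'_surjective P g
    rw [← commutatorElement_eq_one_iff_mul_comm, ← map_commutatorElement]
    exact (QuotientGroup.eq_one_iff _).mpr (h2 (Subgroup.commutator_mem_commutator (Subgroup.mem_top x) hy))

end Cfsg.Agent.LocalEven
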