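import Cfsg.Prelude.Def_TwoFusion
import Cfsg.Agent.LocalEven.MaxP
import Cfsg.Agent.LocalEven.Dagger
import Cfsg.Agent.LocalEven.Average
import Cfsg.Agent.LocalEven.Commutator
import Cfsg.Agent.Core.Residual
import Cfsg.Agent.Transfer.Basic

/-! Goldschmidt: an abelian strongly closed subgroup controls strong fusion. -/

set_option autoImplicit false
set_option linter.style.haveILetI false

open scoped commutatorElement

namespace Cfsg.Agent.LocalEven

variable {G : Type*} [Group G] [Finite G] {p : ℕ} [hp : Fact p.Prime]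

omit [Finite G] hp in
theorem cj_congr {D : Subgroup G} {a b : G} (h : ∀ d ∈ D, a * d * a⁻¹ = b * d * b⁻¹) :
    cj a D = cj b D := by
  ext x
  constructor
  · rintro ⟨d, hd, rfl⟩
    exact ⟨d, hd, (h d hd).symm⟩
  · rintro ⟨d, hd, rfl⟩
    exact ⟨d, hd, h d hd⟩

theorem exists_fully_normalized (S : Sylow p G) {D : Subgroup G} (hD : D ≤ (S : Subgroup G)) :
    ∃ h : G, cj h D ≤ (S : Subgroup G) ∧
      IsMaxP p ((S : Subgroup G) ⊓ Subgroup.normalizer (cj h D : Set G))
        (Subgroup.normalizer (cj h D : Set G)) := by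
  obtain ⟨h, hh, hmax⟩ := Set.exists_max_image {h : G | cj h D ≤ (S : Subgroup G)}
    (fun h => Nat.card ↥((S : Subgroup G) ⊓ Subgroup.normalizer (cj h D : Set G))) (Set.toFinite _)
    ⟨1, by show cj 1 D ≤ _; rwa [cj_one]⟩
  refine ⟨h, hh, ?_⟩
  set D0 := cj h D
  obtain ⟨R, hR, hle⟩ := exists_isMaxP_le (p := p)
    ((S.isPGroup').to_le (inf_le_left : (S : Subgroup G) ⊓ Subgroup.normalizer (D0 : Set G) ≤ _))
    inf_le_right
  obtain ⟨T, hT⟩ := hR.2.1.exists_le_sylow
  obtain ⟨y, hy⟩ := MulAction.exists_smul_eq G T S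
  have hyR : cj y R ≤ (S : Subgroup G) := by
    rw [← hy]; exact cj_mono hT
  have hD0R : D0 ≤ R := hR.normal_le (S.isPGroup'.to_le hh) Subgroup.le_normalizer le_rfl
  have hyD : cj (y * h) D ≤ (S : Subgroup G) := by
    rw [← cj_cj]; exact (cj_mono hD0R).trans hyR
  have h1 : Nat.card R ≤ Nat.card ↥((S : Subgroup G) ⊓ Subgroup.normalizer (D0 : Set G)) := by
    refine le_trans ?_ (hmax _ hyD)
    rw [← card_cj y R]
    refine Subgroup.card_le_of_le (le_inf hyR ?_)
    rw [← cj_cj, ← cj_normalizer]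
    exact cj_mono hR.1
  rwa [Subgroup.eq_of_le_of_card_ge hle h1]

theorem strong_fusion_step (S : Sylow p G) {A : Subgroup G} (hA : A ≤ Subgroup.centralizer (A : Set G))
    (hAS : A ≤ (S : Subgroup G))
    (hsc : ∀ x ∈ A, ∀ g : G, g * x * g⁻¹ ∈ (S : Subgroup G) → g * x * g⁻¹ ∈ A)
    {D : Subgroup G} (hD : D ≤ (S : Subgroup G))
    (hmax : IsMaxP p ((S : Subgroup G) ⊓ Subgroup.normalizer (D : Set G))
        (Subgroup.normalizer (D : Set G)))
    {u : G} (hu : u ∈ Subgroup.normalizer (D : Set G)) :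
    (u ∈ Subgroup.normalizer (A : Set G)) ∨ ∃ (D' : Subgroup G) (u' : G), D < D' ∧
      D' ≤ (S : Subgroup G) ∧ cj u' D' ≤ (S : Subgroup G) ∧
      ∀ d ∈ D, u' * d * u'⁻¹ = u * d * u⁻¹ := by
  have hSA : (S : Subgroup G) ≤ Subgroup.normalizer (A : Set G) := by
    intro s hs
    rw [← cj_eq_self_iff]
    refine Subgroup.eq_of_le_of_card_ge ?_ (card_cj s A).ge
    rintro _ ⟨a, ha, rfl⟩
    exact hsc a ha s (mul_mem (mul_mem hs (hAS ha)) (inv_mem hs))
  by_cases hAD : A ≤ D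
  · left
    rw [← cj_eq_self_iff]
    refine Subgroup.eq_of_le_of_card_ge ?_ (card_cj u A).ge
    rintro _ ⟨a, ha, rfl⟩
    exact hsc a ha u (hD ((Subgroup.mem_normalizer_iff.mp hu a).mp (hAD ha)))
  right
  set N := Subgroup.normalizer (D : Set G)
  set B := A ⊓ D
  have hNB : N ≤ Subgroup.normalizer (B : Set G) := by
    intro g hg
    rw [← cj_eq_self_iff]
    refine Subgroup.eq_of_le_of_card_ge ?_ (card_cj g B).ge
    rintro _ ⟨a, ha, rfl⟩
    have := (Subgroup.mem_normalizer_iff.mp hg a).mp ha.2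
    exact ⟨hsc a ha.1 g (hD this), this⟩
  let L : Subgroup G :=
    { carrier := {x | x ∈ N ∧ (∀ d ∈ D, x * d * x⁻¹ * d⁻¹ ∈ B) ∧ ∀ a ∈ B, x * a * x⁻¹ = a}
      one_mem' := ⟨one_mem _, fun d _ => by simp, fun a _ => by simp⟩
      mul_mem' := fun {x y} hx hy => ⟨mul_mem hx.1 hy.1, fun d hd => by
          have e : x * y * d * (x * y)⁻¹ * d⁻¹ =
              (x * (y * d * y⁻¹) * x⁻¹ * (y * d * y⁻¹)⁻¹) * (y * d * y⁻¹ * d⁻¹) := by group
          rw [e]
          exact mul_mem (hx.2.1 _ ((Subgroup.mem_normalizer_iff.mp hy.1 d).mp hd)) (hy.2.1 d hd),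
        fun a ha => by
          rw [show x * y * a * (x * y)⁻¹ = x * (y * a * y⁻¹) * x⁻¹ by group, hy.2.2 a ha,
            hx.2.2 a ha]⟩
      inv_mem' := fun {x} hx => ⟨inv_mem hx.1, fun d hd => by
          have hd' : x⁻¹ * d * x ∈ D := (Subgroup.mem_normalizer_iff''.mp hx.1 d).mp hd
          have := inv_mem (hx.2.1 _ hd')
          rw [inv_inv]
          simpa [mul_assoc] using this,
        fun a ha => by
          calc x⁻¹ * a * x⁻¹⁻¹ = x⁻¹ * (x * a * x⁻¹) * x := by rw [hx.2.2 a ha, inv_inv]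
            _ = a := by group⟩ }
  have hLN : L ≤ N := fun x hx => hx.1
  have hNL : N ≤ Subgroup.normalizer (L : Set G) := by
    intro g hg
    rw [← cj_eq_self_iff]
    refine Subgroup.eq_of_le_of_card_ge ?_ (card_cj g L).ge
    rintro _ ⟨x, hx, rfl⟩
    refine ⟨mul_mem (mul_mem hg hx.1) (inv_mem hg), fun d hd => ?_, fun a ha => ?_⟩
    · have hd' : g⁻¹ * d * g ∈ D := (Subgroup.mem_normalizer_iff''.mp hg d).mp hd
      have := (Subgroup.mem_normalizer_iff.mp (hNB hg) _).mp (hx.2.1 _ hd')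
      show g * x * g⁻¹ * d * (g * x * g⁻¹)⁻¹ * d⁻¹ ∈ B
      simpa [mul_assoc] using this
    · have ha' : g⁻¹ * a * g ∈ B := (Subgroup.mem_normalizer_iff''.mp (hNB hg) a).mp ha
      show g * x * g⁻¹ * a * (g * x * g⁻¹)⁻¹ = a
      calc g * x * g⁻¹ * a * (g * x * g⁻¹)⁻¹ = g * (x * (g⁻¹ * a * g) * x⁻¹) * g⁻¹ := by group
        _ = g * (g⁻¹ * a * g) * g⁻¹ := by rw [hx.2.2 _ ha']
        _ = a := by group
  set C := Subgroup.centralizer (D : Set G)
  have hCN : N ≤ Subgroup.normalizer (C : Set G) := normalizer_le_normalizer_cent D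
  set R := (S : Subgroup G) ⊓ N ⊓ L
  have hR : IsMaxP p R L := hmax.inf_normal hLN hNL
  obtain ⟨P, hP⟩ := hR.exists_sylow
  have hres : Cfsg.pResidual p L ≤ C.subgroupOf L := by
    refine (Subgroup.closure_le _).mpr fun x hx => ?_
    rw [SetLike.mem_coe, Subgroup.mem_subgroupOf]
    refine coprime_stab (S.isPGroup'.to_le hD) x.2.1
      (by rw [Subgroup.orderOf_coe]; exact hx) (iter_eq_bot_of_chain (M := B) ?_ ?_)
    · rw [Subgroup.commutator_le]
      intro d hd y hy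
      have hyL : y ∈ L := Subgroup.zpowers_le.mpr x.2 hy
      have := inv_mem (hyL.2.1 d hd)
      simpa [commutatorElement_def, mul_assoc] using this
    · rw [Subgroup.commutator_eq_bot_iff_le_centralizer]
      intro b hb
      rw [Subgroup.mem_centralizer_iff]
      intro y hy
      exact mul_inv_eq_iff_eq_mul.mp ((Subgroup.zpowers_le.mpr x.2 hy).2.2 b hb)
  have hsup : L ≤ R ⊔ C := by
    have h1 := Transfer.sup_eq_top_of_isPGroup_quotient P
      (Core.isPGroup_quotient_pResidual p (↥L))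
    intro x hx
    have h2 : (⟨x, hx⟩ : L) ∈ (P : Subgroup L) ⊔ C.subgroupOf L :=
      (h1.ge.trans (sup_le_sup_left hres _)) (Subgroup.mem_top _)
    obtain h3 := Subgroup.mem_map_of_mem L.subtype h2
    rw [Subgroup.map_sup, hP, Subgroup.subgroupOf_map_subtype] at h3
    exact (sup_le_sup_left inf_le_left R) h3
  obtain ⟨l, hl, hlu⟩ := hR.conj_le (isPGroup_cj (g := u) hR.2.1)
    (by rw [← cj_eq_self_iff.mpr (hNL hu)]; exact cj_mono hR.1)
  rw [cj_cj] at hlu
  have hlu' : l * u ∈ Subgroup.normalizer (R : Set G) :=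
    cj_eq_self_iff.mp (Subgroup.eq_of_le_of_card_ge hlu (card_cj _ R).ge)
  have hl' : l ∈ ((R ⊔ C : Subgroup G) : Set G) := hsup hl
  rw [Subgroup.coe_mul_of_left_le_normalizer_right R C ((inf_le_left.trans inf_le_right).trans hCN)]
    at hl'
  obtain ⟨r, hr, c, hc, rfl⟩ := hl'
  have hu' : c * u ∈ Subgroup.normalizer (R : Set G) := by
    have := mul_mem (inv_mem (Subgroup.le_normalizer hr)) hlu'
    simpa [mul_assoc] using this
  have hagree : ∀ d ∈ D, c * u * d * (c * u)⁻¹ = u * d * u⁻¹ := by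
    intro d hd
    have := Subgroup.mem_centralizer_iff.mp hc _ ((Subgroup.mem_normalizer_iff.mp hu d).mp hd)
    calc c * u * d * (c * u)⁻¹ = c * (u * d * u⁻¹) * c⁻¹ := by group
      _ = u * d * u⁻¹ := by rw [← this, mul_inv_cancel_right]
  set N_A := A ⊓ N
  have hNAR : N_A ≤ R := by
    intro a ha
    refine ⟨⟨hAS ha.1, ha.2⟩, ha.2, fun d hd => ⟨?_, ?_⟩, fun b hb => ?_⟩
    · have := (Subgroup.mem_normalizer_iff.mp (hSA (hD hd)) _).mp (inv_mem ha.1)
      simpa [mul_assoc] using mul_mem ha.1 this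
    · exact D.mul_mem ((Subgroup.mem_normalizer_iff.mp ha.2 d).mp hd) (D.inv_mem hd)
    · rw [Subgroup.mem_centralizer_iff.mp (hA hb.1) a ha.1, mul_inv_cancel_right]
  refine ⟨D ⊔ N_A, c * u, lt_of_le_of_ne le_sup_left fun e => hAD ?_, sup_le hD
    (inf_le_left.trans hAS), ?_, hagree⟩
  · have h1 : N_A ≤ D := e ▸ le_sup_right
    have hT : IsPGroup p ↥(D ⊔ A) := S.isPGroup'.to_le (sup_le hD hAS)
    have := eq_of_normalizer_le hT le_sup_left (fun x hx => by
      obtain ⟨hxT, hxN⟩ := Subgroup.mem_inf.mp hx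
      have hx' : x ∈ ((D ⊔ A : Subgroup G) : Set G) := hxT
      rw [Subgroup.coe_mul_of_left_le_normalizer_right D A (hD.trans hSA)] at hx'
      obtain ⟨d, hd, a, ha, rfl⟩ := hx'
      have haN : a ∈ N := (Subgroup.mul_mem_cancel_left _ (Subgroup.le_normalizer hd)).mp hxN
      exact mul_mem hd (h1 ⟨ha, haN⟩))
    rw [this]
    exact le_sup_right
  · rw [cj, Subgroup.map_sup]
    refine sup_le ?_ ((Subgroup.map_mono hNAR).trans ?_)
    · rintro _ ⟨d, hd, rfl⟩
      show c * u * d * (c * u)⁻¹ ∈ (S : Subgroup G)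
      rw [hagree d hd]
      exact hD ((Subgroup.mem_normalizer_iff.mp hu d).mp hd)
    · rintro _ ⟨x, hx, rfl⟩
      exact ((Subgroup.mem_normalizer_iff.mp hu' x).mp hx).1.1

theorem strong_fusion (S : Sylow p G) {A : Subgroup G} (hA : A ≤ Subgroup.centralizer (A : Set G))
    (hAS : A ≤ (S : Subgroup G))
    (hsc : ∀ x ∈ A, ∀ g : G, g * x * g⁻¹ ∈ (S : Subgroup G) → g * x * g⁻¹ ∈ A)
    (D : Subgroup G) : D ≤ (S : Subgroup G) → ∀ g : G, cj g D ≤ (S : Subgroup G) →
      ∃ n ∈ Subgroup.normalizer (A : Set G), ∀ d ∈ D, n * d * n⁻¹ = g * d * g⁻¹ := by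
  suffices key : ∀ (k : ℕ) (D : Subgroup G), Nat.card (S : Subgroup G) ≤ Nat.card D + k →
      D ≤ (S : Subgroup G) → ∀ g : G, cj g D ≤ (S : Subgroup G) →
      ∃ n ∈ Subgroup.normalizer (A : Set G), ∀ d ∈ D, n * d * n⁻¹ = g * d * g⁻¹ from
    key (Nat.card (S : Subgroup G)) D (Nat.le_add_left _ _)
  intro k
  induction k with
  | zero =>
    intro D hk hD g hg
    have hDS : D = (S : Subgroup G) := Subgroup.eq_of_le_of_card_ge hD hk
    refine ⟨g, ?_, fun d _ => rfl⟩
    rw [← cj_eq_self_iff]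
    refine Subgroup.eq_of_le_of_card_ge ?_ (card_cj g A).ge
    rintro _ ⟨a, ha, rfl⟩
    exact hsc a ha g (hg ⟨a, by rw [hDS]; exact hAS ha, rfl⟩)
  | succ k ih =>
    intro D hk hD g hg
    by_cases hDS : Nat.card (S : Subgroup G) ≤ Nat.card D + k
    · exact ih D hDS hD g hg
    have hbig : ∀ (D' : Subgroup G), Nat.card D < Nat.card D' → D' ≤ (S : Subgroup G) →
        ∀ g : G, cj g D' ≤ (S : Subgroup G) →
        ∃ n ∈ Subgroup.normalizer (A : Set G), ∀ d ∈ D', n * d * n⁻¹ = g * d * g⁻¹ :=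
      fun D' h => ih D' (by omega)
    obtain ⟨h, hh, hmax⟩ := exists_fully_normalized S hD
    set D0 := cj h D
    -- a conjugate `D₁ = aD` can be sent to `D₀` by an element of `N(A)`
    have hto : ∀ a : G, cj a D ≤ (S : Subgroup G) →
        ∃ n ∈ Subgroup.normalizer (A : Set G), cj n (cj a D) = D0 := by
      intro a ha
      set D1 := cj a D
      set T := (S : Subgroup G) ⊓ Subgroup.normalizer (D1 : Set G)
      have hlt : Nat.card D < Nat.card T := by
        have hle : D1 ≤ T := le_inf ha Subgroup.le_normalizer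
        rw [← card_cj a D]
        refine lt_of_le_of_ne (Subgroup.card_le_of_le hle) fun e => ?_
        have hT : T ≤ D1 := (Subgroup.eq_of_le_of_card_ge hle e.ge).ge
        have h2 := eq_of_normalizer_le S.isPGroup' ha hT
        exact absurd hk (not_le.mpr (by
          have h3 : Nat.card D1 = Nat.card (S : Subgroup G) := by rw [h2]
          rw [card_cj] at h3; omega))
      set g0 := h * a⁻¹
      have hg0 : cj g0 D1 = D0 := by rw [cj_cj, inv_mul_cancel_right]
      obtain ⟨k', hk'N, hkT⟩ := hmax.conj_le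
        (P := cj g0 T) (isPGroup_cj (S.isPGroup'.to_le inf_le_left)) (by
          rw [← hg0, ← cj_normalizer]; exact cj_mono inf_le_right)
      rw [cj_cj] at hkT
      obtain ⟨n, hn, hnd⟩ := hbig T hlt inf_le_left (k' * g0) (hkT.trans inf_le_left)
      refine ⟨n, hn, ?_⟩
      rw [cj_congr (fun d hd => hnd d (le_inf ha Subgroup.le_normalizer hd)), ← cj_cj, hg0]
      exact cj_eq_self_iff.mpr hk'N
    obtain ⟨n1, hn1, e1⟩ := hto 1 (by rwa [cj_one])
    rw [cj_one] at e1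
    obtain ⟨n2, hn2, e2⟩ := hto g hg
    -- `u = n₂ g n₁⁻¹` normalises `D₀`
    set u := n2 * g * n1⁻¹
    have hu : u ∈ Subgroup.normalizer (D0 : Set G) := by
      rw [← cj_eq_self_iff]
      nth_rewrite 1 [← e1]
      rw [cj_cj, show u * n1 = n2 * g by simp only [u]; group, ← cj_cj]
      exact e2
    have hfin : ∀ n ∈ Subgroup.normalizer (A : Set G),
        (∀ d ∈ D0, n * d * n⁻¹ = u * d * u⁻¹) →
        ∃ n ∈ Subgroup.normalizer (A : Set G), ∀ d ∈ D, n * d * n⁻¹ = g * d * g⁻¹ := by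
      intro n hn hnd
      refine ⟨n2⁻¹ * n * n1, mul_mem (mul_mem (inv_mem hn2) hn) hn1, fun d hd => ?_⟩
      have := hnd _ (e1 ▸ conj_mem_cj (g := n1) hd)
      calc n2⁻¹ * n * n1 * d * (n2⁻¹ * n * n1)⁻¹ = n2⁻¹ * (n * (n1 * d * n1⁻¹) * n⁻¹) * n2 := by group
        _ = n2⁻¹ * (u * (n1 * d * n1⁻¹) * u⁻¹) * n2 := by rw [this]
        _ = g * d * g⁻¹ := by simp only [u]; group
    rcases strong_fusion_step S hA hAS hsc hh hmax hu with h1 | ⟨D', u', hlt, hD'S, hu'S, hagree⟩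
    · exact hfin u h1 fun d _ => rfl
    · obtain ⟨n, hn, hnd⟩ := hbig D' (by
        rw [← card_cj h D]
        exact lt_of_le_of_ne (Subgroup.card_le_of_le hlt.le) fun e =>
          hlt.ne (Subgroup.eq_of_le_of_card_ge hlt.le e.ge)) hD'S u' hu'S
      exact hfin n hn fun d hd => (hnd d (hlt.le hd)).trans (hagree d hd)

end Cfsg.Agent.LocalEven
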