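import Cfsg.Agent.LocalEven.JCompPairs
import Mathlib.GroupTheory.Sylow
import Mathlib.GroupTheory.GroupAction.Quotient
import Mathlib.GroupTheory.SpecificGroups.Cyclic

/-! Recognition of the symmetric group on four letters. -/

set_option autoImplicit false
set_option linter.style.haveILetI false
set_option linter.unusedSectionVars false

namespace Cfsg.Agent.LocalEven.JComp

universe u

variable {U : Type u} [Group U] [Finite U]

theorem iso_perm4 (hU : Nat.card U = 24) (W : Subgroup U) [W.Normal] (hW : Nat.card W = 4)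
    (hC : Subgroup.centralizer (W : Set U) ≤ W) {d : U} (hd : d ^ 3 = 1) (hd1 : d ≠ 1)
    (hfix : ∀ w ∈ W, d * w = w * d → w = 1) : Nonempty (U ≃* Equiv.Perm (Fin 4)) := by
  classical
  haveI : Fact (Nat.Prime 3) := ⟨Nat.prime_three⟩
  have hord : orderOf d = 3 := orderOf_eq_prime hd hd1
  have hp : IsPGroup 3 (Subgroup.zpowers d) := IsPGroup.of_card (n := 1) (by rw [Nat.card_zpowers, hord, pow_one])
  obtain ⟨P, hP⟩ := hp.exists_le_sylow
  have hPc : Nat.card (P : Subgroup U) = 3 := by
    rw [P.card_eq_multiplicity, hU, show (24 : ℕ) = 3 ^ 1 * 8 from rfl,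
      Nat.factorization_mul (by norm_num) (by norm_num), Finsupp.add_apply,
      Nat.Prime.factorization_pow Nat.prime_three, Finsupp.single_eq_same,
      Nat.factorization_eq_zero_of_not_dvd (by norm_num : ¬ 3 ∣ 8), add_zero, pow_one]
  set H := Subgroup.normalizer ((P : Subgroup U) : Set U) with hH
  have hidx : H.index = 4 := by
    have h1 : Nat.card (Sylow 3 U) = H.index := P.card_eq_index_normalizer
    have h2 : Nat.card (Sylow 3 U) ∣ 8 := by
      have h := P.card_dvd_index
      have h3 := (P : Subgroup U).card_mul_index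
      rw [hPc, hU] at h3
      rwa [show (P : Subgroup U).index = 8 by omega] at h
    have h3 : Nat.card (Sylow 3 U) % 3 = 1 := card_sylow_modEq_one 3 U
    have hne : Nat.card (Sylow 3 U) ≠ 1 := by
      intro e
      have htop : H = ⊤ := Subgroup.index_eq_one.mp (h1 ▸ e)
      haveI : (P : Subgroup U).Normal := Subgroup.normalizer_eq_top_iff.mp htop
      have hdisj : Disjoint W (P : Subgroup U) := by
        rw [disjoint_iff]
        exact Subgroup.inf_eq_bot_of_coprime (by rw [hW, hPc]; norm_num)
      have hbot : W = ⊥ := (Subgroup.eq_bot_iff_forall _).mpr fun w hw => hfix w hw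
        (Subgroup.commute_of_normal_of_disjoint W (P : Subgroup U) inferInstance inferInstance hdisj w d
          hw (hP (Subgroup.mem_zpowers d))).symm
      rw [hbot, Subgroup.card_bot] at hW
      norm_num at hW
    have h4 : Nat.card (Sylow 3 U) ≤ 8 := Nat.le_of_dvd (by norm_num) h2
    have key : ∀ n < 9, n ∣ 8 → n % 3 = 1 → n ≠ 1 → n = 4 := by decide
    rw [← h1]
    exact key _ (by omega) h2 h3 hne
  let φ := MulAction.toPermHom U (U ⧸ H)
  have hNW : H.normalCore ⊓ W = ⊥ := by
    rw [Subgroup.eq_bot_iff_forall]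
    rintro w ⟨hwN, hwW⟩
    have hwH : w ∈ H := H.normalCore_le hwN
    refine hfix w hwW ?_
    have h1 : w * d * w⁻¹ * d⁻¹ ∈ W ⊓ (P : Subgroup U) := by
      refine ⟨?_, (P : Subgroup U).mul_mem ?_ ((P : Subgroup U).inv_mem (hP (Subgroup.mem_zpowers d)))⟩
      · rw [show w * d * w⁻¹ * d⁻¹ = w * (d * w⁻¹ * d⁻¹) by group]
        exact W.mul_mem hwW (Subgroup.Normal.conj_mem inferInstance _ (W.inv_mem hwW) d)
      · exact (Subgroup.mem_normalizer_iff.mp hwH d).mp (hP (Subgroup.mem_zpowers d))
    rw [Subgroup.inf_eq_bot_of_coprime (by rw [hW, hPc]; norm_num), Subgroup.mem_bot] at h1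
    exact (mul_inv_eq_one.mp h1 |> mul_inv_eq_iff_eq_mul.mp).symm
  have hN : H.normalCore = ⊥ := by
    have hle : H.normalCore ≤ W := by
      refine le_trans (fun n hn => Subgroup.mem_centralizer_iff.mpr fun w hw => ?_) hC
      exact (Subgroup.commute_of_normal_of_disjoint H.normalCore W inferInstance inferInstance
        (disjoint_iff.mpr hNW) n w hn hw).symm
    rw [← hNW, inf_eq_left.mpr hle]
  have hinj : Function.Injective φ := by
    rw [← MonoidHom.ker_eq_bot_iff]
    show φ.ker = ⊥
    rw [← Subgroup.normalCore_eq_ker]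
    exact hN
  have hq : Nat.card (U ⧸ H) = 4 := hidx
  have hbij : Function.Bijective φ := by
    refine hinj.bijective_of_nat_card_le ?_
    rw [Nat.card_perm, hq, hU]
    rfl
  exact ⟨(MulEquiv.ofBijective φ hbij).trans ((Finite.equivFinOfCardEq hq).permCongrHom)⟩

end Cfsg.Agent.LocalEven.JComp
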