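import Cfsg.Agent.LocalEven.FrakH

/-!
# The weak closure of a weakly closed subgroup inside `L`, and its `O^p`
-/

set_option autoImplicit false
set_option linter.style.haveILetI false

open scoped commutatorElement

namespace Cfsg.Agent.LocalEven

variable {G : Type*} [Group G] {p : ℕ}

theorem le_weakClosure {Q L : Subgroup G} {g : G} (h : cj g Q ≤ L) : cj g Q ≤ Cfsg.weakClosure Q L :=
  le_iSup (fun g : {g : G // Q.map (MulAut.conj g).toMonoidHom ≤ L} => Q.map (MulAut.conj (g : G)).toMonoidHom) ⟨g, h⟩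

theorem weakClosure_le {Q L : Subgroup G} : Cfsg.weakClosure Q L ≤ L := iSup_le fun g => g.2

theorem self_le_weakClosure {Q L : Subgroup G} (h : Q ≤ L) : Q ≤ Cfsg.weakClosure Q L := by
  have := le_weakClosure (g := (1 : G)) (Q := Q) (L := L) (by rwa [cj_one])
  rwa [cj_one] at this

theorem normalizer_le_normalizer_weakClosure [Finite G] {Q L : Subgroup G} :
    Subgroup.normalizer (L : Set G) ≤ Subgroup.normalizer (Cfsg.weakClosure Q L : Set G) := by
  intro x hx
  rw [← cj_eq_self_iff]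
  refine Subgroup.eq_of_le_of_card_ge ?_ (card_cj _ _).ge
  rw [cj, Subgroup.map_le_iff_le_comap]
  refine iSup_le fun g => ?_
  rw [← Subgroup.map_le_iff_le_comap]
  change cj x (cj (g : G) Q) ≤ _
  rw [cj_cj]
  refine le_weakClosure ?_
  rw [← cj_cj]
  exact (cj_mono g.2).trans (cj_eq_self_iff.mpr hx).le

theorem weakClosure_mono {Q L L' : Subgroup G} (h : L ≤ L') :
    Cfsg.weakClosure Q L ≤ Cfsg.weakClosure Q L' := iSup_le fun g => le_weakClosure (g.2.trans h)

variable [Finite G] [Fact p.Prime]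

theorem weakClosure_le_of_normalized {Q L D : Subgroup G} (hQp : IsPGroup p Q)
    (hwc : Cfsg.IsWeaklyClosedSubgroup p Q) (hQL : Q ≤ L) (hQD : Q ≤ D)
    (hn : Cfsg.weakClosure Q L ≤ Subgroup.normalizer (D : Set G)) : Cfsg.weakClosure Q L ≤ D :=
  iSup_le fun g => by
    obtain ⟨k, hk, he⟩ := wc_conj_mem hQp hwc (self_le_weakClosure hQL) (le_weakClosure g.2)
    exact he.le.trans ((cj_mono hQD).trans (cj_eq_self_iff.mpr (hn hk)).le)

theorem residual_idem (L : Subgroup G) :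
    (Cfsg.pResidual p ↥((Cfsg.pResidual p ↥L).map L.subtype)).map ((Cfsg.pResidual p ↥L).map L.subtype).subtype =
      (Cfsg.pResidual p ↥L).map L.subtype := by
  refine le_antisymm (Subgroup.map_subtype_le _) ?_
  rw [Subgroup.map_le_iff_le_comap, Cfsg.pResidual, Subgroup.closure_le]
  intro x hx
  have hmem : (x : G) ∈ (Cfsg.pResidual p ↥L).map L.subtype := ⟨x, Core.mem_pResidual hx, rfl⟩
  exact ⟨⟨x, hmem⟩, Core.mem_pResidual (by simpa [← Subgroup.orderOf_coe] using hx), rfl⟩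

/-- For `L = L°`: `O^p(L) = [O^p(L), Q]` and `L = Q O^p(L)`. -/
theorem weakClosure_residual {Q L : Subgroup G} (hQp : IsPGroup p Q)
    (hwc : Cfsg.IsWeaklyClosedSubgroup p Q) (hQL : Q ≤ L) :
    ⁅(Cfsg.pResidual p ↥(Cfsg.weakClosure Q L)).map (Cfsg.weakClosure Q L).subtype, Q⁆ =
        (Cfsg.pResidual p ↥(Cfsg.weakClosure Q L)).map (Cfsg.weakClosure Q L).subtype ∧
      (Cfsg.pResidual p ↥(Cfsg.weakClosure Q L)).map (Cfsg.weakClosure Q L).subtype ⊔ Q =
        Cfsg.weakClosure Q L := by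
  set L1 := Cfsg.weakClosure Q L with hL1
  set K := (Cfsg.pResidual p ↥L1).map L1.subtype with hK
  have hQL1 : Q ≤ L1 := self_le_weakClosure hQL
  have hKL : K ≤ L1 := Subgroup.map_subtype_le _
  have hLK : L1 ≤ Subgroup.normalizer (K : Set G) := normal_map_normalized _
  obtain ⟨T, hT, hQT⟩ := exists_isMaxP_le hQp hQL1
  have hTQ : T ≤ Subgroup.normalizer (Q : Set G) := wc_le_normalizer hwc hT.2.1 hQT
  have key : ∀ D : Subgroup G, D ≤ K → K ≤ Subgroup.normalizer ((D ⊔ Q : Subgroup G) : Set G) →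
      T ≤ Subgroup.normalizer (D : Set G) → L1 ≤ D ⊔ Q := by
    intro D _ hKn hTn
    refine weakClosure_le_of_normalized hQp hwc hQL le_sup_right fun x hx => ?_
    obtain ⟨r, hr, t, ht, rfl⟩ := exists_residual_mul hT hx
    refine mul_mem (hKn hr) ?_
    rw [← cj_eq_self_iff, cj, Subgroup.map_sup]
    change cj t D ⊔ cj t Q = _
    rw [cj_eq_self_iff.mpr (hTn ht), cj_eq_self_iff.mpr (hTQ ht)]
  set D := ⁅K, Q⁆ with hD
  have hDK : D ≤ K := Subgroup.le_normalizer_iff_commutator_le_left.mp (hQL1.trans hLK)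
  have hKn : K ≤ Subgroup.normalizer ((D ⊔ Q : Subgroup G) : Set G) := by
    intro k hk
    rw [← cj_eq_self_iff]
    refine Subgroup.eq_of_le_of_card_ge ?_ (card_cj _ _).ge
    rw [cj, Subgroup.map_sup]
    refine sup_le ((cj_eq_self_iff.mpr (Subgroup.normalizer_commutator_ge_left K Q hk)).le.trans le_sup_left) ?_
    rintro _ ⟨q, hq, rfl⟩
    show k * q * k⁻¹ ∈ _
    rw [show k * q * k⁻¹ = ⁅k, q⁆ * q by simp only [commutatorElement_def]; group]
    exact mul_mem (Subgroup.mem_sup_left (Subgroup.commutator_mem_commutator hk hq)) (Subgroup.mem_sup_right hq)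
  have hTD : T ≤ Subgroup.normalizer (D : Set G) := le_normalizer_comm (hT.1.trans hLK) hTQ
  have hsup : D ⊔ Q = L1 := le_antisymm (sup_le (hDK.trans hKL) hQL1) (key D hDK hKn hTD)
  have hDn : L1 ≤ Subgroup.normalizer (D : Set G) := fun x hx => by
    obtain ⟨r, hr, t, ht, rfl⟩ := exists_residual_mul hT hx
    exact mul_mem (Subgroup.normalizer_commutator_ge_left K Q hr) (hTD ht)
  exact ⟨le_antisymm hDK (residual_le_of_sup hDn hQp hsup),
    le_antisymm (sup_le hKL hQL1) (hsup.ge.trans (sup_le_sup_right hDK Q))⟩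

omit [Finite G] [Fact p.Prime] in
/-- A supremum centralizes modulo `P` when each part does. -/
theorem comm_iSup_le {ι : Sort*} {A : ι → Subgroup G} {Z P : Subgroup G}
    (hA : ∀ i, A i ≤ Subgroup.normalizer (P : Set G)) (h : ∀ i, ⁅A i, Z⁆ ≤ P) : ⁅⨆ i, A i, Z⁆ ≤ P := by
  let C : Subgroup G :=
    { carrier := {a | a ∈ Subgroup.normalizer (P : Set G) ∧ ∀ z ∈ Z, ⁅a, z⁆ ∈ P}
      one_mem' := ⟨one_mem _, fun z _ => by simp⟩
      mul_mem' := fun {a b} ha hb => ⟨mul_mem ha.1 hb.1, fun z hz => by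
        rw [show ⁅a * b, z⁆ = a * ⁅b, z⁆ * a⁻¹ * ⁅a, z⁆ by simp only [commutatorElement_def]; group]
        exact mul_mem ((Subgroup.mem_normalizer_iff.mp ha.1 _).mp (hb.2 z hz)) (ha.2 z hz)⟩
      inv_mem' := fun {a} ha => ⟨inv_mem ha.1, fun z hz => by
        rw [show ⁅a⁻¹, z⁆ = a⁻¹ * ⁅a, z⁆⁻¹ * a⁻¹⁻¹ by simp only [commutatorElement_def]; group]
        exact (Subgroup.mem_normalizer_iff.mp (inv_mem ha.1) _).mp (inv_mem (ha.2 z hz))⟩ }
  have hle : (⨆ i, A i) ≤ C := iSup_le fun i a ha => ⟨hA i ha, fun z hz => h i (Subgroup.commutator_mem_commutator ha hz)⟩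
  exact Subgroup.commutator_le.mpr fun a ha z hz => (hle ha).2 z hz

end Cfsg.Agent.LocalEven
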